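import Groth.Agent.GenericFree.Presentation
import Mathlib

/-!
Injective maps of finite modules stay injective on the fibres over an open set of the base.
-/

set_option autoImplicit false
universe u

namespace Groth.RaynaudGruson

open TensorProduct

theorem baseChange_injective_of_free_coker {A M N Q : Type u} [CommRing A] [AddCommGroup M] [Module A M]
    [AddCommGroup N] [Module A N] [AddCommGroup Q] [Module A Q] (uA : M →ₗ[A] N) (q : N →ₗ[A] Q)
    (hu : Function.Injective uA) (hex : Function.Exact uA q) (hq : Function.Surjective q) (f : A)
    [Module.Free (Localization.Away f) (LocalizedModule (Submonoid.powers f) Q)]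
    (K : Type u) [Field K] [Algebra A K] (hK : algebraMap A K f ≠ 0) : Function.Injective (uA.baseChange K) := by
  let R := Localization.Away f
  haveI : Module.Free R (R ⊗[A] Q) :=
    Module.Free.of_equiv (LocalizedModule.equivTensorProduct (Submonoid.powers f) Q)
  have hex' : Function.Exact (uA.baseChange R) (q.baseChange R) := lTensor_exact R hex hq
  have hinj' : Function.Injective (uA.baseChange R) := Module.Flat.lTensor_preserves_injective_linearMap uA hu
  have hsurj' : Function.Surjective (q.baseChange R) := LinearMap.lTensor_surjective R hq
  obtain ⟨r, hr⟩ := ((hex'.split_tfae hinj' hsurj').out 0 1 rfl rfl).mp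
    (Module.projective_lifting_property (q.baseChange R) LinearMap.id hsurj')
  let ρ : R →+* K := IsLocalization.Away.lift f (g := algebraMap A K) (isUnit_iff_ne_zero.mpr hK)
  letI : Algebra R K := ρ.toAlgebra
  haveI : IsScalarTower A R K := .of_algebraMap_eq fun x => (IsLocalization.Away.lift_eq f _ x).symm
  let eM := AlgebraTensorModule.cancelBaseChange A R K K M
  let eN := AlgebraTensorModule.cancelBaseChange A R K K N
  have nat : ∀ z, eN ((uA.baseChange R).baseChange K z) = uA.baseChange K (eM z) := fun z => by
    induction z with
    | zero => simp
    | add x y hx hy => simp [map_add, hx, hy]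
    | tmul k w =>
      induction w with
      | zero => simp
      | add x y hx hy => simp only [tmul_add, map_add, hx, hy]
      | tmul a m => simp [eM, eN, LinearMap.baseChange_tmul]
  have hr' : Function.Injective ((uA.baseChange R).baseChange K) :=
    Function.LeftInverse.injective (g := r.baseChange K) fun z => by
      rw [← LinearMap.comp_apply, ← LinearMap.baseChange_comp, hr, LinearMap.baseChange_id, LinearMap.id_apply]
  intro x y hxy
  obtain ⟨x, rfl⟩ := eM.surjective x
  obtain ⟨y, rfl⟩ := eM.surjective y
  rw [← nat, ← nat] at hxy
  exact congrArg eM (hr' (eN.injective hxy))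

theorem baseChange_injective_of_free_coker' {A B M N Q : Type u} [CommRing A] [CommRing B] [Algebra A B]
    [AddCommGroup M] [Module A M] [Module B M] [IsScalarTower A B M]
    [AddCommGroup N] [Module A N] [Module B N] [IsScalarTower A B N]
    [AddCommGroup Q] [Module A Q] [Module B Q] [IsScalarTower A B Q] (u : M →ₗ[B] N) (q : N →ₗ[B] Q)
    (hu : Function.Injective u) (hex : Function.Exact u q) (hq : Function.Surjective q) (f : A)
    [Module.Free (Localization.Away f) (LocalizedModule (Submonoid.powers f) Q)]
    (K : Type u) [Field K] [Algebra A K] (hK : algebraMap A K f ≠ 0) :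
    Function.Injective ((u.restrictScalars A).baseChange K) :=
  baseChange_injective_of_free_coker (u.restrictScalars A) (q.restrictScalars A) hu hex hq f K hK

theorem exists_forall_baseChange_injective {A B M N : Type u} [CommRing A] [IsDomain A] [CommRing B] [Algebra A B]
    [Algebra.FiniteType A B] [AddCommGroup M] [Module A M] [Module B M] [IsScalarTower A B M]
    [AddCommGroup N] [Module A N] [Module B N] [IsScalarTower A B N] [Module.Finite B N]
    (u : M →ₗ[B] N) (hu : Function.Injective u) :
    ∃ h : A, h ≠ 0 ∧ ∀ (K : Type u) [Field K] [Algebra A K], algebraMap A K h ≠ 0 →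
      Function.Injective ((u.restrictScalars A).baseChange K) := by
  obtain ⟨f, hf, hfree, -⟩ := (Groth.GenericFree.gf_of_finiteType (R := A) B (N ⧸ LinearMap.range u)).exists_free
  refine ⟨f, hf, fun K _ _ hK => ?_⟩
  haveI := hfree f hf dvd_rfl
  exact baseChange_injective_of_free_coker' u (LinearMap.range u).mkQ hu
    (LinearMap.exact_map_mkQ_range u) (Submodule.mkQ_surjective _) f K hK

end Groth.RaynaudGruson
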