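import Groth.Agent.RaynaudGruson.GenericGeneralization
import Groth.Agent.RaynaudGruson.GenericInjective
import Mathlib

/-!
A closed set nowhere dense in the generic fibre is nowhere dense in the fibres over an open set.
-/

set_option autoImplicit false
universe u

open AlgebraicGeometry CategoryTheory Limits TopologicalSpace

namespace Groth.RaynaudGruson

attribute [local instance] Algebra.TensorProduct.rightAlgebra

open TensorProduct in
theorem exists_generic_avoiding_domain {A B : Type u} [CommRing A] [IsDomain A] [CommRing B] [Algebra A B]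
    [Algebra.FiniteType A B] (I : Ideal B)
    (hI : ∀ Q ∈ minimalPrimes B, Q.comap (algebraMap A B) = ⊥ → ¬ I ≤ Q) :
    ∃ h : A, h ≠ 0 ∧ ∀ P : Ideal B, P.IsPrime → algebraMap A B h ∉ P →
      ∃ Q : Ideal B, Q.IsPrime ∧ Q ≤ P ∧ Q.comap (algebraMap A B) = P.comap (algebraMap A B) ∧ ¬ I ≤ Q := by
  classical
  haveI : (nilradical A).IsPrime := by rw [nilradical_eq_zero]; exact Ideal.isPrime_bot
  obtain ⟨g0, hg0, hgen⟩ := exists_forall_exists_le_over_nilradical (A := A) (B := B)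
  haveI : IsNoetherianRing ((⊥ : Ideal A).Fiber B) :=
    Algebra.FiniteType.isNoetherianRing (⊥ : Ideal A).ResidueField _
  let o := PrimeSpectrum.preimageOrderIsoFiber A B ⟨⊥, Ideal.isPrime_bot⟩
  let T : Set (Ideal B) := {Q | Q ∈ minimalPrimes B ∧ Q.comap (algebraMap A B) = ⊥}
  have hT : T.Finite := by
    refine ((minimalPrimes.finite_of_isNoetherianRing ((⊥ : Ideal A).Fiber B)).image
      (fun m => m.comap (algebraMap B ((⊥ : Ideal A).Fiber B)))).subset fun Q ⟨hQ, hQc⟩ => ?_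
    haveI := hQ.1.1
    let Qs : PrimeSpectrum.comap (algebraMap A B) ⁻¹' {⟨⊥, Ideal.isPrime_bot⟩} :=
      ⟨⟨Q, inferInstance⟩, PrimeSpectrum.ext hQc⟩
    obtain ⟨m, hm, hle⟩ := Ideal.exists_minimalPrimes_le (I := ⊥) (J := (o Qs).asIdeal) bot_le
    haveI := hm.1.1
    refine ⟨m, hm, le_antisymm ?_ (hQ.2 ⟨inferInstance, bot_le⟩ ?_)⟩
    · have h1 : o.symm ⟨m, inferInstance⟩ ≤ Qs := (o.symm_apply_le).mpr hle
      exact h1
    · have h1 : o.symm ⟨m, inferInstance⟩ ≤ Qs := (o.symm_apply_le).mpr hle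
      exact h1
  obtain ⟨G, hGI, hG⟩ : ∃ G ∈ I, ∀ Q ∈ T, G ∉ Q := by
    by_contra! hcon
    have hsub : (I : Set B) ⊆ ⋃ Q ∈ (↑hT.toFinset : Set (Ideal B)), (Q : Set B) := fun x hx => by
      obtain ⟨Q, hQ, hxQ⟩ := hcon x hx
      exact Set.mem_biUnion (by simpa using hQ) hxQ
    obtain ⟨Q, hQ, hle⟩ := (Ideal.subset_union_prime_finite hT.toFinset.finite_toSet ⊥ ⊥
      (fun Q hQ _ _ => by
        simp only [Finset.mem_coe, Set.Finite.mem_toFinset] at hQ
        exact hQ.1.1.1)).mp hsub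
    simp only [Finset.mem_coe, Set.Finite.mem_toFinset] at hQ
    exact hI Q hQ.1 hQ.2 hle
  let J : Ideal B := sInf {Q : Ideal B | Q.IsPrime ∧ Q.comap (algebraMap A B) = ⊥}
  let B₂ := B ⧸ J
  let u : B₂ →ₗ[B] B₂ := LinearMap.lsmul B B₂ G
  have hu : Function.Injective u := (injective_iff_map_eq_zero u).mpr fun c hc => by
    obtain ⟨c, rfl⟩ := Ideal.Quotient.mk_surjective c
    have hGc : G * c ∈ J := Ideal.Quotient.eq_zero_iff_mem.mp hc
    refine Ideal.Quotient.eq_zero_iff_mem.mpr (Ideal.mem_sInf.mpr fun {Q} ⟨hQ, hQc⟩ => ?_)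
    haveI := hQ
    obtain ⟨Q', hQ', hle⟩ := Ideal.exists_minimalPrimes_le (I := ⊥) (J := Q) bot_le
    haveI := hQ'.1.1
    have hQ'c : Q'.comap (algebraMap A B) = ⊥ := le_bot_iff.mp (hQc ▸ Ideal.comap_mono hle)
    exact hle (((Ideal.IsPrime.mem_or_mem inferInstance
      (Ideal.mem_sInf.mp hGc ⟨inferInstance, hQ'c⟩))).resolve_left (hG Q' ⟨hQ', hQ'c⟩))
  obtain ⟨h1, hh1, hinj⟩ := exists_forall_baseChange_injective (A := A) u hu
  rw [nilradical_eq_zero] at hg0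
  refine ⟨g0 * h1, mul_ne_zero hg0 hh1, fun P hP hgP => ?_⟩
  rw [map_mul] at hgP
  let y := P.comap (algebraMap A B)
  haveI : IsNoetherianRing (y.Fiber B) := Algebra.FiniteType.isNoetherianRing y.ResidueField _
  let oy := PrimeSpectrum.preimageOrderIsoFiber A B ⟨y, inferInstance⟩
  let Ps : PrimeSpectrum.comap (algebraMap A B) ⁻¹' {⟨y, inferInstance⟩} := ⟨⟨P, hP⟩, rfl⟩
  obtain ⟨m, hm, hmle⟩ := Ideal.exists_minimalPrimes_le (I := ⊥) (J := (oy Ps).asIdeal) bot_le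
  haveI := hm.1.1
  let Qs := oy.symm ⟨m, inferInstance⟩
  have hQP : Qs.1.asIdeal ≤ P := (oy.symm_apply_le (x := Ps) (y := ⟨m, inferInstance⟩)).mpr hmle
  have hQy : Qs.1.asIdeal.comap (algebraMap A B) = y := congrArg PrimeSpectrum.asIdeal Qs.2
  refine ⟨Qs.1.asIdeal, inferInstance, hQP, hQy, fun hIQ => ?_⟩
  have hg0Q : algebraMap A B g0 ∉ Qs.1.asIdeal := fun h => hgP (P.mul_mem_right _ (hQP h))
  have hJQ : J ≤ Qs.1.asIdeal := by
    obtain ⟨Q0, hQ0, hle, hc⟩ := hgen _ Qs.1.isPrime hg0Q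
    exact (sInf_le (show Q0 ∈ {Q : Ideal B | Q.IsPrime ∧ Q.comap (algebraMap A B) = ⊥} from
      ⟨hQ0, hc.trans (nilradical_eq_zero A)⟩)).trans hle
  have hkey : algebraMap A y.ResidueField h1 ≠ 0 := fun h => hgP (P.mul_mem_left _ (by
    exact (Ideal.algebraMap_residueField_eq_zero (I := y)).mp h))
  let P2 : Ideal B₂ := Qs.1.asIdeal.map (Ideal.Quotient.mk J)
  have hP2 : ∀ x : B, Ideal.Quotient.mk J x ∈ P2 ↔ x ∈ Qs.1.asIdeal := fun x => by
    rw [← Ideal.mem_comap, Ideal.comap_map_of_surjective _ Ideal.Quotient.mk_surjective,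
      ← RingHom.ker_eq_comap_bot, Ideal.mk_ker, sup_eq_left.mpr hJQ]
  haveI : P2.IsPrime := Ideal.map_isPrime_of_surjective Ideal.Quotient.mk_surjective (by rwa [Ideal.mk_ker])
  haveI : IsNoetherianRing (y.Fiber B₂) := Algebra.FiniteType.isNoetherianRing y.ResidueField _
  let o2 := PrimeSpectrum.preimageOrderIsoFiber A B₂ ⟨y, inferInstance⟩
  let P2s : PrimeSpectrum.comap (algebraMap A B₂) ⁻¹' {⟨y, inferInstance⟩} := ⟨⟨P2, inferInstance⟩, PrimeSpectrum.ext (by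
    show P2.comap (algebraMap A B₂) = y
    rw [← hQy]
    ext x
    exact hP2 _)⟩
  have hmin : (o2 P2s).asIdeal ∈ minimalPrimes (y.Fiber B₂) := by
    refine ⟨⟨inferInstance, bot_le⟩, fun w ⟨hw, _⟩ hwle => ?_⟩
    haveI := hw
    have h1 : o2.symm ⟨w, hw⟩ ≤ P2s := o2.symm_apply_le.mpr hwle
    let W := (o2.symm ⟨w, hw⟩).1.asIdeal.comap (Ideal.Quotient.mk J)
    let Ws : PrimeSpectrum.comap (algebraMap A B) ⁻¹' {⟨y, inferInstance⟩} := ⟨⟨W, inferInstance⟩,
      PrimeSpectrum.ext (congrArg PrimeSpectrum.asIdeal (o2.symm ⟨w, hw⟩).2)⟩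
    have h2 : Ws ≤ Qs := fun x hx => (hP2 x).mp (h1 hx)
    have h3 : oy Ws ≤ ⟨m, inferInstance⟩ := oy.le_symm_apply.mp h2
    have h4 : oy Ws = ⟨m, inferInstance⟩ := le_antisymm h3 (hm.2 ⟨inferInstance, bot_le⟩ h3)
    have h5 : Qs ≤ Ws := by rw [show Qs = oy.symm ⟨m, inferInstance⟩ from rfl, ← h4, OrderIso.symm_apply_apply]
    have h6 : P2s ≤ o2.symm ⟨w, hw⟩ := by
      intro x hx
      obtain ⟨x, rfl⟩ := Ideal.Quotient.mk_surjective x
      exact h5 ((hP2 x).mp hx)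
    exact o2.le_symm_apply.mp h6
  have hGm : (1 : y.ResidueField) ⊗ₜ[A] Ideal.Quotient.mk J G ∈ (o2 P2s).asIdeal := by
    have := congrArg (fun s => Ideal.Quotient.mk J G ∈ s.1.asIdeal) (o2.symm_apply_apply P2s)
    exact this ▸ (hP2 G).mpr (hIQ hGI)
  refine Set.disjoint_left.mp (Ideal.disjoint_nonZeroDivisors_of_mem_minimalPrimes hmin) hGm
    (mem_nonZeroDivisors_iff_right.mpr fun z hz => ?_)
  have hmul : ∀ w : y.Fiber B₂, (u.restrictScalars A).baseChange y.ResidueField w =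
      w * ((1 : y.ResidueField) ⊗ₜ[A] Ideal.Quotient.mk J G) := fun w => by
    induction w using TensorProduct.induction_on with
    | zero => simp
    | add a b ha hb =>
      rw [add_mul, ← ha, ← hb]
      exact map_add _ _ _
    | tmul c x =>
      rw [LinearMap.baseChange_tmul, Algebra.TensorProduct.tmul_mul_tmul, mul_one, mul_comm x]
      rfl
  exact hinj y.ResidueField hkey (((hmul z).trans hz).trans (map_zero _).symm)

/-- The same over a base with prime nilradical. -/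
theorem exists_generic_avoiding {A B : Type u} [CommRing A] [CommRing B] [Algebra A B]
    [Algebra.FiniteType A B] [(nilradical A).IsPrime] (I : Ideal B)
    (hI : ∀ Q ∈ minimalPrimes B, Q.comap (algebraMap A B) = nilradical A → ¬ I ≤ Q) :
    ∃ h : A, h ∉ nilradical A ∧ ∀ P : Ideal B, P.IsPrime → algebraMap A B h ∉ P →
      ∃ Q : Ideal B, Q.IsPrime ∧ Q ≤ P ∧ Q.comap (algebraMap A B) = P.comap (algebraMap A B) ∧ ¬ I ≤ Q := by
  let J := (nilradical A).map (algebraMap A B)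
  let A₁ := A ⧸ nilradical A
  let B₁ := B ⧸ J
  haveI : Algebra.FiniteType A B₁ := Algebra.FiniteType.of_surjective (Ideal.Quotient.mkₐ A _) (Ideal.Quotient.mkₐ_surjective A _)
  haveI : Algebra.FiniteType A₁ B₁ := Algebra.FiniteType.of_restrictScalars_finiteType A A₁ B₁
  have hJ : ∀ Q : Ideal B, Q.IsPrime → J ≤ Q := fun Q hQ =>
    Ideal.map_le_iff_le_comap.mpr (haveI := hQ; nilradical_le_prime _)
  have hcl : ∀ Q : Ideal B, Q.IsPrime → (Q.map (Ideal.Quotient.mk J)).comap (Ideal.Quotient.mk J) = Q := fun Q hQ => by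
    rw [Ideal.comap_map_of_surjective _ Ideal.Quotient.mk_surjective, ← RingHom.ker_eq_comap_bot, Ideal.mk_ker,
      sup_eq_left.mpr (hJ Q hQ)]
  have hmem : ∀ (Q₁ : Ideal B₁) (x : A),
      Ideal.Quotient.mk (nilradical A) x ∈ Q₁.comap (algebraMap A₁ B₁) ↔
        x ∈ (Q₁.comap (Ideal.Quotient.mk J)).comap (algebraMap A B) := fun Q₁ x => Iff.rfl
  obtain ⟨h1, hh1, hkey⟩ := exists_generic_avoiding_domain (A := A₁) (B := B₁) (I.map (Ideal.Quotient.mk J))
    (fun Q₁ hQ₁ hQc hle => by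
      haveI := hQ₁.1.1
      refine hI (Q₁.comap (Ideal.Quotient.mk J)) ⟨⟨inferInstance, bot_le⟩, fun W ⟨hW, _⟩ hWle => ?_⟩ ?_
        (Ideal.map_le_iff_le_comap.mp hle)
      · haveI := hW
        haveI : (W.map (Ideal.Quotient.mk J)).IsPrime :=
          Ideal.map_isPrime_of_surjective Ideal.Quotient.mk_surjective (by rw [Ideal.mk_ker]; exact hJ W hW)
        have h2 := hQ₁.2 ⟨inferInstance, bot_le⟩ (Ideal.map_le_iff_le_comap.mpr hWle)
        exact (Ideal.comap_mono h2).trans (hcl W hW).le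
      · ext x
        rw [← hmem, hQc, Submodule.mem_bot, Ideal.Quotient.eq_zero_iff_mem])
  obtain ⟨h, rfl⟩ := Ideal.Quotient.mk_surjective h1
  refine ⟨h, fun hh => hh1 (Ideal.Quotient.eq_zero_iff_mem.mpr hh), fun P hP hgP => ?_⟩
  haveI : (P.map (Ideal.Quotient.mk J)).IsPrime :=
    Ideal.map_isPrime_of_surjective Ideal.Quotient.mk_surjective (by rw [Ideal.mk_ker]; exact hJ P hP)
  obtain ⟨Q₁, hQ₁, hle, hQc, hIQ⟩ := hkey (P.map (Ideal.Quotient.mk J)) inferInstance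
    (fun h' => hgP (by
      have : algebraMap A B h ∈ (P.map (Ideal.Quotient.mk J)).comap (Ideal.Quotient.mk J) := h'
      rwa [hcl P hP] at this))
  refine ⟨Q₁.comap (Ideal.Quotient.mk J), inferInstance, (Ideal.comap_mono hle).trans (hcl P hP).le, ?_,
    fun h' => hIQ (Ideal.map_le_iff_le_comap.mpr h')⟩
  ext x
  rw [← hmem, hQc, hmem, hcl P hP]

theorem exists_open_nowhereDense {X Y : Scheme.{u}} (f : X ⟶ Y) [IrreducibleSpace ↑Y] [LocallyOfFiniteType f]
    [QuasiCompact f] (Z : Set ↑X) (hZ : IsClosed Z)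
    (hnd : IsNowhereDense ((f.fiberι (genericPoint ↑Y)) ⁻¹' Z)) :
    ∃ V : Y.Opens, (V : Set ↑Y).Nonempty ∧ ∀ x : X, f.base x ∈ V → ∃ z : X, z ⤳ x ∧ f.base z = f.base x ∧ z ∉ Z := by
  classical
  obtain ⟨U, hU, hη, -⟩ := TopologicalSpace.Opens.isBasis_iff_nbhd.1 Y.isBasis_affineOpens
    (TopologicalSpace.Opens.mem_top (genericPoint ↑Y))
  obtain ⟨S, hS, hcover⟩ := isCompact_iff_finite_and_eq_biUnion_affineOpens.mp (f.isCompact_preimage hU.isCompact)
  replace hU : IsAffineOpen U := hU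
  let p₀ := hU.primeIdealOf ⟨genericPoint ↑Y, hη⟩
  have hp₀η : hU.fromSpec p₀ = genericPoint ↑Y := hU.fromSpec_primeIdealOf ⟨genericPoint ↑Y, hη⟩
  have hp₀ : p₀.asIdeal = nilradical Γ(Y, U) := le_antisymm (by
    rw [nilradical_eq_sInf]
    refine le_sInf fun q hq => ?_
    have hs : genericPoint ↑Y ⤳ hU.fromSpec ⟨q, hq⟩ := (genericPoint_spec ↑Y).specializes trivial
    rw [← hp₀η] at hs
    exact (PrimeSpectrum.le_iff_specializes p₀ ⟨q, hq⟩).mpr (hU.fromSpec.isOpenEmbedding.isInducing.specializes_iff.mp hs))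
    (nilradical_le_prime _)
  haveI : (nilradical Γ(Y, U)).IsPrime := hp₀ ▸ p₀.isPrime
  have key : ∀ W : X.affineOpens, W.1 ≤ f ⁻¹ᵁ U → ∃ g : Γ(Y, U), g ∉ nilradical Γ(Y, U) ∧
      ∀ x ∈ W.1, f.base x ∈ Y.basicOpen g → ∃ z : X, z ⤳ x ∧ f.base z = f.base x ∧ z ∉ Z := fun W hW => by
    letI := (f.appLE U W.1 hW).hom.toAlgebra
    haveI : Algebra.FiniteType Γ(Y, U) Γ(X, W.1) := f.finiteType_appLE hU W.2 hW
    have hW2 : IsAffineOpen W.1 := W.2
    obtain ⟨I, hI⟩ := (PrimeSpectrum.isClosed_iff_zeroLocus_ideal (hW2.fromSpec.base ⁻¹' Z)).mp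
      (hZ.preimage hW2.fromSpec.continuous)
    have hcomm : ∀ Q : PrimeSpectrum Γ(X, W.1),
        f.base (hW2.fromSpec Q) = hU.fromSpec ⟨Q.asIdeal.comap (algebraMap Γ(Y, U) Γ(X, W.1)), inferInstance⟩ := fun Q =>
      (congrArg (fun k : Spec Γ(X, W.1) ⟶ Y => k.base Q) (hU.SpecMap_appLE_fromSpec f hW2 hW)).symm
    have hmin : ∀ Q ∈ minimalPrimes Γ(X, W.1), Q.comap (algebraMap Γ(Y, U) Γ(X, W.1)) = nilradical Γ(Y, U) → ¬ I ≤ Q := by
      intro Q hQ hQc hIQ
      haveI := hQ.1.1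
      let Qp : PrimeSpectrum Γ(X, W.1) := ⟨Q, inferInstance⟩
      let z := hW2.fromSpec Qp
      have hzη : f.base z = genericPoint ↑Y := by
        rw [hcomm, ← hp₀η]
        exact congrArg hU.fromSpec (PrimeSpectrum.ext (hQc.trans hp₀.symm))
      let p₀' : Ideal Γ(Y, U) := nilradical Γ(Y, U)
      haveI : p₀'.IsPrime := inferInstanceAs (nilradical Γ(Y, U)).IsPrime
      haveI : IsNoetherianRing (p₀'.Fiber Γ(X, W.1)) := Algebra.FiniteType.isNoetherianRing p₀'.ResidueField _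
      let o := PrimeSpectrum.preimageOrderIsoFiber Γ(Y, U) Γ(X, W.1) ⟨p₀', inferInstance⟩
      let Qs : PrimeSpectrum.comap (algebraMap Γ(Y, U) Γ(X, W.1)) ⁻¹' {⟨p₀', inferInstance⟩} := ⟨Qp, PrimeSpectrum.ext hQc⟩
      let M : Finset (PrimeSpectrum (p₀'.Fiber Γ(X, W.1))) :=
        ((minimalPrimes.finite_of_isNoetherianRing (p₀'.Fiber Γ(X, W.1))).preimage
          (f := PrimeSpectrum.asIdeal) (fun a _ b _ h => PrimeSpectrum.ext h)).toFinset
      let T : Finset (Ideal Γ(X, W.1)) := (M.image fun m => (o.symm m).1.asIdeal).filter (fun w => ¬ w ≤ Q)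
      choose! b hb hbQ using fun w (hw : w ∈ T) => SetLike.not_le_iff_exists.mp (Finset.mem_filter.mp hw).2
      let β := ∏ w ∈ T, b w
      have hβQ : β ∉ Q := fun h => by
        obtain ⟨w, hw, h'⟩ := ((inferInstance : Q.IsPrime).prod_mem_iff).mp h
        exact hbQ w hw h'
      have hsub : ∀ x : X, x ∈ X.basicOpen β → f.base x = genericPoint ↑Y → x ∈ Z := fun x hxβ hxη => by
        obtain ⟨R, rfl⟩ : x ∈ Set.range hW2.fromSpec := by rw [hW2.range_fromSpec]; exact X.basicOpen_le _ hxβ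
        have hβR : β ∉ R.asIdeal := by
          have h' : R ∈ hW2.fromSpec ⁻¹ᵁ X.basicOpen β := hxβ
          rw [hW2.fromSpec_preimage_basicOpen] at h'
          exact h'
        have hRc : R.asIdeal.comap (algebraMap Γ(Y, U) Γ(X, W.1)) = nilradical Γ(Y, U) := by
          rw [hcomm, ← hp₀η] at hxη
          exact (congrArg PrimeSpectrum.asIdeal (hU.fromSpec.isOpenEmbedding.injective hxη)).trans hp₀
        let Rs : PrimeSpectrum.comap (algebraMap Γ(Y, U) Γ(X, W.1)) ⁻¹' {⟨p₀', inferInstance⟩} := ⟨R, PrimeSpectrum.ext hRc⟩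
        obtain ⟨m, hm, hmle⟩ := Ideal.exists_minimalPrimes_le (I := ⊥) (J := (o Rs).asIdeal) bot_le
        have hwR : (o.symm ⟨m, hm.1.1⟩).1.asIdeal ≤ R.asIdeal :=
          (o.symm_apply_le (x := Rs) (y := ⟨m, hm.1.1⟩)).mpr hmle
        have hwQ : (o.symm ⟨m, hm.1.1⟩).1.asIdeal ≤ Q := by
          by_contra hn
          have hw : (o.symm ⟨m, hm.1.1⟩).1.asIdeal ∈ T :=
            Finset.mem_filter.mpr ⟨Finset.mem_image_of_mem _ (by simp only [M, Set.Finite.mem_toFinset, Set.mem_preimage]; exact hm), hn⟩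
          exact hβR (hwR ((o.symm ⟨m, hm.1.1⟩).1.asIdeal.mem_of_dvd (Finset.dvd_prod_of_mem b hw) (hb _ hw)))
        have hQR : Q ≤ R.asIdeal := (hQ.2 ⟨inferInstance, bot_le⟩ hwQ).trans hwR
        have : R ∈ hW2.fromSpec.base ⁻¹' Z :=
          (Set.ext_iff.mp hI R).mpr ((PrimeSpectrum.mem_zeroLocus _ _).mpr (hIQ.trans hQR))
        exact this
      have hz' : z ∈ f.base ⁻¹' {genericPoint ↑Y} := hzη
      rw [← f.range_fiberι (genericPoint ↑Y)] at hz'
      obtain ⟨ζ, hζ⟩ := hz'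
      have hopen : IsOpen ((f.fiberι (genericPoint ↑Y)).base ⁻¹' (X.basicOpen β : Set X)) :=
        (X.basicOpen β).2.preimage (f.fiberι (genericPoint ↑Y)).continuous
      have hint : ζ ∈ interior (closure ((f.fiberι (genericPoint ↑Y)) ⁻¹' Z)) := by
        refine interior_maximal (t := (f.fiberι (genericPoint ↑Y)).base ⁻¹' (X.basicOpen β : Set X))
          (fun w hw => subset_closure (hsub _ hw ?_)) hopen ?_
        · have : f.fiberι (genericPoint ↑Y) w ∈ f.base ⁻¹' {genericPoint ↑Y} := f.range_fiberι _ ▸ ⟨w, rfl⟩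
          exact this
        · show f.fiberι (genericPoint ↑Y) ζ ∈ X.basicOpen β
          rw [hζ]
          have : Qp ∈ hW2.fromSpec ⁻¹ᵁ X.basicOpen β := by
            rw [hW2.fromSpec_preimage_basicOpen]
            exact hβQ
          exact this
      rw [show interior (closure ((f.fiberι (genericPoint ↑Y)) ⁻¹' Z)) = ∅ from hnd] at hint
      exact hint
    obtain ⟨g, hg, hgen⟩ := exists_generic_avoiding I hmin
    refine ⟨g, hg, fun x hx hxg => ?_⟩
    let P := hW2.primeIdealOf ⟨x, hx⟩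
    have hPx : hW2.fromSpec P = x := hW2.fromSpec_primeIdealOf ⟨x, hx⟩
    have hgP : algebraMap Γ(Y, U) Γ(X, W.1) g ∉ P.asIdeal := fun h => by
      rw [← hPx, hcomm, ← SetLike.mem_coe] at hxg
      have : (⟨P.asIdeal.comap (algebraMap Γ(Y, U) Γ(X, W.1)), inferInstance⟩ : PrimeSpectrum Γ(Y, U)) ∈
          hU.fromSpec ⁻¹ᵁ Y.basicOpen g := hxg
      rw [hU.fromSpec_preimage_basicOpen] at this
      exact this h
    obtain ⟨Q, hQ, hQP, hQc, hIQ⟩ := hgen P.asIdeal P.isPrime hgP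
    refine ⟨hW2.fromSpec ⟨Q, hQ⟩, ?_, ?_, fun hzZ => hIQ ?_⟩
    · rw [← hPx]
      exact ((PrimeSpectrum.le_iff_specializes ⟨Q, hQ⟩ P).mp hQP).map hW2.fromSpec.continuous
    · rw [← hPx, hcomm, hcomm]
      exact congrArg hU.fromSpec (PrimeSpectrum.ext hQc)
    · have h' : (⟨Q, hQ⟩ : PrimeSpectrum Γ(X, W.1)) ∈ hW2.fromSpec.base ⁻¹' Z := hzZ
      exact (PrimeSpectrum.mem_zeroLocus _ _).mp ((Set.ext_iff.mp hI _).mp h')
  have hle : ∀ W ∈ S, W.1 ≤ f ⁻¹ᵁ U := fun W hW => by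
    intro x hx
    rw [hcover]
    exact TopologicalSpace.Opens.mem_iSup.mpr ⟨W, TopologicalSpace.Opens.mem_iSup.mpr ⟨hW, hx⟩⟩
  choose g hg hgood using fun W : hS.toFinset => key W.1 (hle _ (hS.mem_toFinset.mp W.2))
  refine ⟨Y.basicOpen (∏ W, g W), ⟨genericPoint ↑Y, ?_⟩, fun x hx => ?_⟩
  · have : p₀ ∈ hU.fromSpec ⁻¹ᵁ Y.basicOpen (∏ W, g W) := by
      rw [hU.fromSpec_preimage_basicOpen]
      show ∏ W, g W ∉ p₀.asIdeal
      rw [hp₀, (inferInstance : (nilradical Γ(Y, U)).IsPrime).prod_mem_iff]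
      rintro ⟨W, -, hW⟩
      exact hg W hW
    show genericPoint ↑Y ∈ Y.basicOpen (∏ W, g W)
    rw [← hp₀η]
    exact this
  · have hxU : x ∈ f ⁻¹ᵁ U := Y.basicOpen_le _ hx
    rw [hcover] at hxU
    obtain ⟨W, hxU⟩ := TopologicalSpace.Opens.mem_iSup.mp hxU
    obtain ⟨hW, hxW⟩ := TopologicalSpace.Opens.mem_iSup.mp hxU
    refine hgood ⟨W, hS.mem_toFinset.mpr hW⟩ x hxW ?_
    rw [← Finset.mul_prod_erase _ _ (Finset.mem_univ (⟨W, hS.mem_toFinset.mpr hW⟩ : hS.toFinset)), Y.basicOpen_mul] at hx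
    exact hx.1

end Groth.RaynaudGruson
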