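import Groth.Agent.RaynaudGruson.IrreducibleFibres
import Groth.Agent.RaynaudGruson.GenericNowhereDense
import Groth.Agent.DescentBase.UnivOpenField
import Mathlib

/-!
Geometric irreducibility of the fibres of a finite type morphism near the generic point.
-/

set_option autoImplicit false
universe u

open AlgebraicGeometry CategoryTheory Limits TopologicalSpace TensorProduct

namespace Groth.RaynaudGruson

theorem irreducibleSpace_pullback_spec {R K S : Type u} [CommRing R] [CommRing K] [CommRing S] [Algebra R K]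
    [Algebra R S] {Y : Scheme.{u}} (i : Spec (.of R) ⟶ Y) [Mono i] :
    IrreducibleSpace ↑(pullback (Spec.map (CommRingCat.ofHom (algebraMap R S)) ≫ i)
        (Spec.map (CommRingCat.ofHom (algebraMap R K)) ≫ i)) ↔ (nilradical (K ⊗[R] S)).IsPrime := by
  have h := IsPullback.of_isLimit (pullbackIsPullbackOfCompMono (Spec.map (CommRingCat.ofHom (algebraMap R S)))
    (Spec.map (CommRingCat.ofHom (algebraMap R K))) i)
  refine h.isoPullback.hom.homeomorph.irreducibleSpace_iff.symm.trans ?_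
  refine ((pullbackSpecIso R S K).hom.homeomorph.irreducibleSpace_iff).trans ?_
  rw [← PrimeSpectrum.irreducibleSpace_iff_isPrime_nilradical]
  exact (PrimeSpectrum.homeomorphOfRingEquiv (Algebra.TensorProduct.comm R S K).toRingEquiv).irreducibleSpace_iff

/-- A dense-in-fibres open with irreducible base change gives irreducibility of the base change. -/
theorem irreducibleSpace_pullback_of_dense {X Y : Scheme.{u}} (f : X ⟶ Y) (W : X.Opens) {K : Type u} [Field K]
    (y : Spec (.of K) ⟶ Y)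
    (hdense : ∀ x : X, f.base x = y.base (IsLocalRing.closedPoint K) →
      ∃ z : X, z ⤳ x ∧ f.base z = f.base x ∧ z ∈ W)
    (hW : IrreducibleSpace ↑(pullback (W.ι ≫ f) y)) : IrreducibleSpace ↑(pullback f y) := by
  let j : pullback (W.ι ≫ f) y ⟶ pullback f y :=
    pullback.map (W.ι ≫ f) y f y W.ι (𝟙 _) (𝟙 _) (by simp) (by simp)
  have hirr : IsIrreducible (Set.range j.base) := by
    rw [← Set.image_univ]
    exact (IrreducibleSpace.isIrreducible_univ _).image _ j.continuous.continuousOn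
  have hrange : (pullback.fst f y).base ⁻¹' (W : Set X) ⊆ Set.range j.base := by
    intro x hx
    rw [Scheme.Pullback.range_map]
    exact ⟨by simpa using hx, by simp⟩
  suffices h : Dense (Set.range j.base) by
    rw [irreducibleSpace_def, Set.top_eq_univ, ← h.closure_eq]
    exact hirr.closure
  refine dense_iff_inter_open.mpr fun O hO ⟨x, hx⟩ => ?_
  let y0 := (Scheme.SpecToEquivOfField K Y y).1
  let q : pullback f y ⟶ f.fiber y0 :=
    pullback.lift (pullback.fst f y) (pullback.snd f y ≫ Spec.map (Scheme.SpecToEquivOfField K Y y).2) (by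
      rw [Category.assoc]
      exact pullback.condition.trans (congrArg (pullback.snd f y ≫ ·) ((Scheme.SpecToEquivOfField K Y).symm_apply_apply y).symm))
  have hqfst : q ≫ f.fiberι y0 = pullback.fst f y := pullback.lift_fst _ _ _
  have hopen : IsOpenMap q.base := by
    haveI : UniversallyOpen (Spec.map (Scheme.SpecToEquivOfField K Y y).2) :=
      Groth.DescentBase.universallyOpen_of_field _ _
    have hsq : IsPullback q (pullback.snd f y) (f.fiberToSpecResidueField y0)
        (Spec.map (Scheme.SpecToEquivOfField K Y y).2) := by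
      refine IsPullback.of_right ?_ (pullback.lift_snd _ _ _) (IsPullback.of_hasPullback f (Y.fromSpecResidueField y0))
      rw [show q ≫ pullback.fst f (Y.fromSpecResidueField y0) = pullback.fst f y from hqfst,
        show Spec.map (Scheme.SpecToEquivOfField K Y y).2 ≫ Y.fromSpecResidueField y0 = y from
          (Scheme.SpecToEquivOfField K Y).symm_apply_apply y]
      exact IsPullback.of_hasPullback f y
    haveI : UniversallyOpen q := MorphismProperty.of_isPullback (P := @UniversallyOpen) hsq.flip inferInstance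
    exact q.isOpenMap
  have hfx : f.base ((pullback.fst f y).base x) = y0 := by
    rw [← Scheme.Hom.comp_apply, pullback.condition, Scheme.Hom.comp_apply]
    exact congrArg y.base (Subsingleton.elim _ _)
  obtain ⟨z, hzx, hfz, hzW⟩ := hdense _ hfx
  obtain ⟨z0, hz0⟩ : z ∈ Set.range (f.fiberι y0).base := by
    rw [Scheme.Hom.range_fiberι]
    exact hfz.trans hfx
  have hspec : z0 ⤳ q.base x := by
    rw [← (f.fiberι y0).isEmbedding.isInducing.specializes_iff, hz0, ← Scheme.Hom.comp_apply, hqfst]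
    exact hzx
  obtain ⟨x', hx', hqx'⟩ := hspec.mem_open (hopen O hO) ⟨x, hx, rfl⟩
  refine ⟨x', hx', hrange ?_⟩
  show (pullback.fst f y).base x' ∈ W
  rw [← hqfst, Scheme.Hom.comp_apply, hqx', hz0]
  exact hzW

theorem exists_open_geometricallyIrreducible {X Y : Scheme.{u}} (f : X ⟶ Y) [IrreducibleSpace ↑Y]
    [LocallyOfFiniteType f] [QuasiCompact f]
    (h : GeometricallyIrreducible (f.fiberToSpecResidueField (genericPoint ↑Y))) :
    ∃ V : Y.Opens, (V : Set ↑Y).Nonempty ∧ GeometricallyIrreducible (f ∣_ V) := by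
  obtain ⟨U, hU, hη⟩ : ∃ U : Y.Opens, IsAffineOpen U ∧ genericPoint ↑Y ∈ U := by
    obtain ⟨U, hU', hη, -⟩ := TopologicalSpace.Opens.isBasis_iff_nbhd.1 Y.isBasis_affineOpens
      (TopologicalSpace.Opens.mem_top (genericPoint ↑Y))
    exact ⟨U, hU', hη⟩
  let η := genericPoint ↑Y
  haveI := h
  haveI : IrreducibleSpace ↑(f.fiber η) :=
    GeometricallyIrreducible.irreducibleSpace_of_subsingleton (f := f.fiberToSpecResidueField η)
  obtain ⟨x₀⟩ : Nonempty ↑(f.fiber η) := inferInstance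
  have hfx₀ : f.base ((f.fiberι η).base x₀) = η := by
    have : (f.fiberι η).base x₀ ∈ Set.range (f.fiberι η).base := ⟨x₀, rfl⟩
    rw [Scheme.Hom.range_fiberι] at this
    exact this
  obtain ⟨W, hW', hxW, hWU⟩ : ∃ W : X.Opens, IsAffineOpen W ∧ (f.fiberι η).base x₀ ∈ W ∧ W ≤ f ⁻¹ᵁ U := by
    obtain ⟨W, hW', h1, h2⟩ := TopologicalSpace.Opens.isBasis_iff_nbhd.1 X.isBasis_affineOpens
      (show (f.fiberι η).base x₀ ∈ f ⁻¹ᵁ U by show f.base _ ∈ U; rw [hfx₀]; exact hη)
    exact ⟨W, hW', h1, h2⟩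
  obtain ⟨V₁, ⟨v₁, hv₁⟩, hV₁⟩ := exists_open_nowhereDense f (W : Set X)ᶜ W.isOpen.isClosed_compl (by
    rw [IsNowhereDense, (W.isOpen.isClosed_compl.preimage (f.fiberι η).continuous).closure_eq]
    by_contra hne
    obtain ⟨z, hz1, hz2⟩ := nonempty_preirreducible_inter isOpen_interior
      (W.isOpen.preimage (f.fiberι η).continuous) (Set.nonempty_iff_ne_empty.mpr hne) ⟨x₀, hxW⟩
    exact interior_subset hz1 hz2)
  let p₀ := hU.primeIdealOf ⟨η, hη⟩
  have hp₀η : hU.fromSpec p₀ = η := hU.fromSpec_primeIdealOf ⟨η, hη⟩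
  have hp₀ : p₀.asIdeal = nilradical Γ(Y, U) := le_antisymm (by
    rw [nilradical_eq_sInf]
    refine le_sInf fun q hq => ?_
    have hs : η ⤳ hU.fromSpec ⟨q, hq⟩ := (genericPoint_spec ↑Y).specializes trivial
    rw [← hp₀η] at hs
    exact (PrimeSpectrum.le_iff_specializes p₀ ⟨q, hq⟩).mpr (hU.fromSpec.isOpenEmbedding.isInducing.specializes_iff.mp hs))
    (nilradical_le_prime _)
  haveI : (nilradical Γ(Y, U)).IsPrime := hp₀ ▸ p₀.isPrime
  letI : Algebra Γ(Y, U) Γ(X, W) := (f.appLE U W hWU).hom.toAlgebra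
  haveI : Algebra.FiniteType Γ(Y, U) Γ(X, W) := f.finiteType_appLE hU hW' hWU
  have hfact : ∀ (K : Type u) [Field K] (y : Spec (.of K) ⟶ Y), y.base (IsLocalRing.closedPoint K) ∈ U →
      ∃ φ : Γ(Y, U) ⟶ .of K, Spec.map φ ≫ hU.fromSpec = y := fun K _ y hy => by
    have hr : Set.range y.base ⊆ Set.range hU.fromSpec.base := by
      rintro _ ⟨p, rfl⟩
      rw [hU.range_fromSpec, Subsingleton.elim p (IsLocalRing.closedPoint K)]
      exact hy
    obtain ⟨φ, hφ⟩ := Spec.map_surjective (IsOpenImmersion.lift hU.fromSpec y hr)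
    exact ⟨φ, by rw [hφ, IsOpenImmersion.lift_fac]⟩
  have hiff : ∀ (K : Type u) [Field K] [Algebra Γ(Y, U) K],
      IrreducibleSpace ↑(pullback (W.ι ≫ f) (Spec.map (CommRingCat.ofHom (algebraMap Γ(Y, U) K)) ≫ hU.fromSpec)) ↔
        (nilradical (K ⊗[Γ(Y, U)] Γ(X, W))).IsPrime := fun K _ _ => by
    let e : pullback (Spec.map (f.appLE U W hWU) ≫ hU.fromSpec)
        (Spec.map (CommRingCat.ofHom (algebraMap Γ(Y, U) K)) ≫ hU.fromSpec) ⟶
        pullback (W.ι ≫ f) (Spec.map (CommRingCat.ofHom (algebraMap Γ(Y, U) K)) ≫ hU.fromSpec) :=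
      pullback.map _ _ _ _ hW'.isoSpec.inv (𝟙 _) (𝟙 _)
        (by rw [Category.comp_id, ← Category.assoc, hW'.isoSpec_inv_ι, hU.SpecMap_appLE_fromSpec f hW' hWU])
        (by simp)
    exact e.homeomorph.symm.irreducibleSpace_iff.trans (irreducibleSpace_pullback_spec hU.fromSpec)
  let Ω := AlgebraicClosure (Y.residueField η)
  let yΩ : Spec (.of Ω) ⟶ Y :=
    Spec.map (CommRingCat.ofHom (algebraMap (Y.residueField η) Ω)) ≫ Y.fromSpecResidueField η
  have hyΩ : yΩ.base (IsLocalRing.closedPoint Ω) = η := (Scheme.Hom.comp_apply _ _ _).trans (Y.fromSpecResidueField_apply η _)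
  obtain ⟨φΩ, hφΩ⟩ := hfact Ω yΩ (by rw [hyΩ]; exact hη)
  letI : Algebra Γ(Y, U) Ω := φΩ.hom.toAlgebra
  have hφη : (Spec.map φΩ).base (IsLocalRing.closedPoint Ω) = p₀ := hU.fromSpec.isOpenEmbedding.injective (by
    rw [← Scheme.Hom.comp_apply, hφΩ, hyΩ, hp₀η])
  have hker : RingHom.ker (algebraMap Γ(Y, U) Ω) = nilradical Γ(Y, U) := by
    have h2 : (IsLocalRing.maximalIdeal Ω).comap φΩ.hom = p₀.asIdeal := congrArg PrimeSpectrum.asIdeal hφη
    rw [IsLocalRing.maximalIdeal_eq_bot] at h2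
    rw [← hp₀, ← h2]
    rfl
  haveI : (nilradical (Ω ⊗[Γ(Y, U)] Γ(X, W))).IsPrime := by
    rw [← hiff]
    have h1 : IrreducibleSpace ↑(pullback f yΩ) := by
      have := pullback_of_geometrically h.geometrically_irreducibleSpace Ω
        (Spec.map (CommRingCat.ofHom (algebraMap (Y.residueField η) Ω)))
      exact (pullbackLeftPullbackSndIso f (Y.fromSpecResidueField η) _).hom.homeomorph.irreducibleSpace_iff.mp this
    haveI := h1
    change IrreducibleSpace ↑(pullback (W.ι ≫ f) (Spec.map φΩ ≫ hU.fromSpec))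
    rw [hφΩ]
    let j : pullback (W.ι ≫ f) yΩ ⟶ pullback f yΩ :=
      pullback.map (W.ι ≫ f) yΩ f yΩ W.ι (𝟙 _) (𝟙 _) (by simp) (by simp)
    obtain ⟨w, hw⟩ : (f.fiberι η).base x₀ ∈ Set.range W.ι.base := by rw [Scheme.Opens.range_ι]; exact hxW
    obtain ⟨z, -⟩ := Scheme.Pullback.exists_preimage_pullback (f := W.ι ≫ f) (g := yΩ) w (IsLocalRing.closedPoint Ω)
      (by rw [Scheme.Hom.comp_apply, hw, hyΩ]; exact hfx₀)
    haveI : Nonempty ↑(pullback (W.ι ≫ f) yΩ) := ⟨z⟩
    exact j.isOpenEmbedding.irreducibleSpace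
  obtain ⟨g, hg, hgood⟩ := exists_forall_isPrime_nilradical' (A := Γ(Y, U)) (B := Γ(X, W)) hker
  have hηV₁ : η ∈ V₁ := ((genericPoint_spec ↑Y).specializes trivial).mem_open V₁.isOpen hv₁
  have hηg : η ∈ Y.basicOpen g := by
    have : p₀ ∈ hU.fromSpec ⁻¹ᵁ Y.basicOpen g := by
      rw [hU.fromSpec_preimage_basicOpen]
      show g ∉ p₀.asIdeal
      rwa [hp₀]
    show η ∈ Y.basicOpen g
    rw [← hp₀η]
    exact this
  refine ⟨V₁ ⊓ Y.basicOpen g, ⟨η, hηV₁, hηg⟩, ⟨geometrically_iff_of_isClosedUnderIsomorphisms.mpr fun K _ y => ?_⟩⟩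
  let V := V₁ ⊓ Y.basicOpen g
  let y' := y ≫ V.ι
  have hy' : y'.base (IsLocalRing.closedPoint K) ∈ V := by
    have : y'.base (IsLocalRing.closedPoint K) ∈ Set.range V.ι.base := ⟨y.base _, (Scheme.Hom.comp_apply y V.ι _).symm⟩
    rwa [Scheme.Opens.range_ι] at this
  obtain ⟨hyV₁, hyg⟩ := hy'
  obtain ⟨φ, hφ⟩ := hfact K y' (Y.basicOpen_le g hyg)
  letI : Algebra Γ(Y, U) K := φ.hom.toAlgebra
  have hφg : algebraMap Γ(Y, U) K g ≠ 0 := fun h0 => by
    rw [← hφ] at hyg
    have : (Spec.map φ).base (IsLocalRing.closedPoint K) ∈ hU.fromSpec ⁻¹ᵁ Y.basicOpen g := by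
      show hU.fromSpec.base _ ∈ Y.basicOpen g
      rwa [← Scheme.Hom.comp_apply]
    rw [hU.fromSpec_preimage_basicOpen] at this
    exact this (show φ.hom g ∈ IsLocalRing.maximalIdeal K by rw [show φ.hom g = 0 from h0]; exact zero_mem _)
  have hW_irr : IrreducibleSpace ↑(pullback (W.ι ≫ f) y') := by
    rw [← hφ]
    exact (hiff K).mpr (hgood K hφg)
  have hX : IrreducibleSpace ↑(pullback f y') := irreducibleSpace_pullback_of_dense f W y' (fun x hx => by
    obtain ⟨z, hz1, hz2, hz3⟩ := hV₁ x (by rw [hx]; exact hyV₁)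
    exact ⟨z, hz1, hz2, not_not.mp hz3⟩) hW_irr
  exact ((IsPullback.of_hasPullback (f ∣_ V) y).paste_horiz
    (isPullback_morphismRestrict f V).flip).isoPullback.hom.homeomorph.irreducibleSpace_iff.mpr hX

end Groth.RaynaudGruson
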