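import Groth.Prelude.Def_FlatCA
import Mathlib

/-!
An elementwise form of flatness of a localised module over the base.
-/

set_option autoImplicit false
universe u

namespace Groth.RaynaudGruson.FlatPred

variable (R : Type u) [CommRing R] {A : Type u} [CommRing A]

/-- Every relation in `U⁻¹M` with coefficients in `R` is trivial, elementwise. -/
def Pred (U : Submonoid A) (M : Type u) [AddCommGroup M] [Module A M] [Module R M] : Prop :=
  ∀ (l : ℕ) (f : Fin l → R) (a : Fin l → M), (∃ u ∈ U, u • ∑ i, f i • a i = 0) →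
    ∃ v ∈ U, ∃ (k : ℕ) (d : Fin l → Fin k → R) (y : Fin k → M),
      (∀ i, v • a i = ∑ j, d i j • y j) ∧ ∀ j, ∑ i, f i * d i j = 0

variable {R} {M : Type u} [AddCommGroup M] [Module A M] [Module R M]

/-- `Pred` is inherited by submonoids into which `U` divides. -/
theorem Pred.of_dvd {A' : Type u} [CommRing A'] [Module A' M] [SMulCommClass A R M] [SMulCommClass A' R M]
    [SMulCommClass A A' M] {U : Submonoid A} {V : Submonoid A'}
    (hUV : ∀ u ∈ U, ∃ (w : A') (a : A), w ∈ V ∧ ∀ m : M, a • u • m = w • m) (h : Pred R U M) : Pred R V M := by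
  intro l f a ⟨v, hv, hva⟩
  obtain ⟨u, hu, k, d, y, hy, hd⟩ := h l f (fun i => v • a i) ⟨1, one_mem U, by
    rw [one_smul, ← hva, Finset.smul_sum]
    exact Finset.sum_congr rfl fun i _ => (smul_comm v (f i) (a i)).symm⟩
  obtain ⟨w, c, hw, hc⟩ := hUV u hu
  refine ⟨w * v, mul_mem hw hv, k, d, fun j => c • y j, fun i => ?_, hd⟩
  rw [mul_smul, ← hc, hy i, Finset.smul_sum]
  exact Finset.sum_congr rfl fun j _ => smul_comm c (d i j) (y j)

theorem Pred.mono {U V : Submonoid A} [SMulCommClass A R M] (hUV : U ≤ V) (h : Pred R U M) : Pred R V M :=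
  h.of_dvd fun u hu => ⟨u, 1, hUV hu, fun _ => one_smul A _⟩

variable [Algebra R A] [IsScalarTower R A M]


theorem smul_mk (U : Submonoid A) (r : R) (m : M) (s : U) :
    r • LocalizedModule.mk m s = LocalizedModule.mk (r • m) s :=
  LocalizedModule.smul'_mk r m s

theorem exists_common (U : Submonoid A) {n : ℕ} (x : Fin n → LocalizedModule U M) :
    ∃ (s : U) (m : Fin n → M), ∀ i, x i = LocalizedModule.mk (m i) s := by
  have hsurj : ∀ z : LocalizedModule U M, ∃ (m : M) (s : U), z = LocalizedModule.mk m s :=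
    LocalizedModule.induction_on fun m s => ⟨m, s, rfl⟩
  choose m t hm using fun i => hsurj (x i)
  refine ⟨∏ i, t i, fun i => (∏ j ∈ Finset.univ.erase i, t j) • m i, fun i => ?_⟩
  rw [hm i, ← Finset.mul_prod_erase _ _ (Finset.mem_univ i), LocalizedModule.mk_cancel_common_right]

theorem sum_smul_mk (U : Submonoid A) {n : ℕ} (f : Fin n → R) (a : Fin n → M) (s : U) :
    ∑ i, f i • LocalizedModule.mk (a i) s = LocalizedModule.mk (∑ i, f i • a i) s := by
  induction n with
  | zero => simp [LocalizedModule.zero_mk]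
  | succ n ih =>
    rw [Fin.sum_univ_castSucc, ih, Fin.sum_univ_castSucc, smul_mk, LocalizedModule.mk_add_mk,
      ← smul_add, LocalizedModule.mk_cancel_common_left]

/-- Flatness of the localisation in elementwise terms. -/
theorem flat_iff (U : Submonoid A) : Module.Flat R (LocalizedModule U M) ↔ Pred R U M := by
  constructor
  · intro _ l f a ⟨u, hu, h⟩
    have h0 : ∑ i, f i • LocalizedModule.mk (a i) (1 : U) = 0 := by
      rw [sum_smul_mk, ← LocalizedModule.zero_mk (1 : U), LocalizedModule.mk_eq]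
      exact ⟨⟨u, hu⟩, by simpa [Submonoid.smul_def] using h⟩
    obtain ⟨k, d, y, hy, hd⟩ := Module.Flat.isTrivialRelation_of_sum_smul_eq_zero h0
    obtain ⟨s, b, hb⟩ := exists_common U y
    have h1 : ∀ i, ∃ w : U, w • s • a i = w • ∑ j, d i j • b j := fun i => by
      have := hy i
      simp only [hb] at this
      rw [sum_smul_mk, LocalizedModule.mk_eq] at this
      obtain ⟨w, hw⟩ := this
      exact ⟨w, by simpa [Submonoid.smul_def] using hw⟩
    choose w hw using h1
    refine ⟨((∏ i, w i) * s : U), SetLike.coe_mem _, k, d, fun j => ((∏ i, w i : U) : A) • b j, fun i => ?_, hd⟩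
    rw [← Finset.prod_erase_mul _ _ (Finset.mem_univ i), Submonoid.coe_mul, mul_smul]
    have h2 := hw i
    rw [Submonoid.smul_def, Submonoid.smul_def, Submonoid.smul_def] at h2
    rw [Submonoid.coe_mul, mul_smul, h2, Finset.smul_sum, Finset.smul_sum]
    exact Finset.sum_congr rfl fun j _ => by simp only [mul_smul, smul_comm _ (d i j)]
  · intro h
    refine Module.Flat.iff_forall_isTrivialRelation.mpr fun {l f x} hx => ?_
    obtain ⟨s, a, ha⟩ := exists_common U x
    simp only [ha] at hx
    rw [sum_smul_mk, ← LocalizedModule.zero_mk s, LocalizedModule.mk_eq] at hx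
    obtain ⟨u, hu⟩ := hx
    obtain ⟨v, hv, k, d, y, hy, hd⟩ := h l f a ⟨(u * s : U), SetLike.coe_mem _, by
      simpa [Submonoid.smul_def, mul_smul] using hu⟩
    refine ⟨k, d, fun j => LocalizedModule.mk (y j) (⟨v, hv⟩ * s), fun i => ?_, hd⟩
    rw [sum_smul_mk, ← hy i, ha i]
    exact (LocalizedModule.mk_cancel_common_left ⟨v, hv⟩ s (a i)).symm

theorem flatAt_iff (q : Ideal A) [q.IsPrime] : FlatCA.FlatAt R q M ↔ Pred R q.primeCompl M :=
  flat_iff _

/-- `Pred` is invariant under equivariant isomorphisms. -/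
theorem Pred.of_equiv {U : Submonoid A} {M' : Type u} [AddCommGroup M'] [Module A M'] [Module R M']
    (e : M ≃+ M') (hR : ∀ (r : R) (m : M), e (r • m) = r • e m) (hA : ∀ (a : A) (m : M), e (a • m) = a • e m)
    (h : Pred R U M) : Pred R U M' := by
  intro l f a ⟨u, hu, hua⟩
  obtain ⟨v, hv, k, d, y, hy, hd⟩ := h l f (fun i => e.symm (a i)) ⟨u, hu, e.injective (by
    rw [hA, map_sum, map_zero, ← hua]
    exact congrArg _ (Finset.sum_congr rfl fun i _ => by rw [hR, e.apply_symm_apply]))⟩
  refine ⟨v, hv, k, d, fun j => e (y j), fun i => ?_, hd⟩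
  rw [← e.apply_symm_apply (a i), ← hA, hy i, map_sum]
  exact Finset.sum_congr rfl fun j _ => hR _ _

theorem pred_of_flat [Module.Flat R M] [SMulCommClass A R M] (U : Submonoid A) : Pred R U M := by
  intro l f a ⟨u, hu, hua⟩
  obtain ⟨k, d, y, hy, hd⟩ := Module.Flat.isTrivialRelation_of_sum_smul_eq_zero
    (f := f) (x := fun i => u • a i) (by
      rw [← hua, Finset.smul_sum]
      exact Finset.sum_congr rfl fun i _ => (smul_comm u (f i) (a i)).symm)
  exact ⟨u, hu, k, d, y, hy, hd⟩

/-- At a prime which is alone over its contraction, every element outside it divides one from below. -/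
theorem exists_mul_eq_algebraMap {B : Type u} [CommRing B] [Algebra B A] [Algebra.IsIntegral B A]
    (y : Ideal B) [y.IsPrime] (q : Ideal A)
    (huniq : ∀ (Q : Ideal A) [Q.IsPrime], Q.LiesOver y → Q = q) {t : A} (ht : t ∉ q) :
    ∃ (a : A) (b : B), b ∉ y ∧ t * a = algebraMap B A b := by
  by_contra hcon
  simp only [not_exists, not_and] at hcon
  have hdisj : Disjoint (Ideal.span {t} : Set A) ((y.primeCompl.map (algebraMap B A).toMonoidHom : Submonoid A) : Set A) := by
    refine Set.disjoint_left.mpr fun z hz hz' => ?_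
    obtain ⟨a, rfl⟩ := Ideal.mem_span_singleton'.mp hz
    obtain ⟨b, hb, hb'⟩ := hz'
    exact hcon a b hb (by rw [mul_comm]; exact hb'.symm)
  obtain ⟨Q₀, hQ₀, htQ₀, hd⟩ := Ideal.exists_le_prime_disjoint _ _ hdisj
  have hle : Q₀.comap (algebraMap B A) ≤ y := fun b hb => by_contra fun hby =>
    Set.disjoint_left.mp hd hb ⟨b, hby, rfl⟩
  obtain ⟨Q, hQ₀Q, hQ, hQy⟩ := Ideal.exists_ideal_over_prime_of_isIntegral y Q₀ hle
  haveI := hQ
  exact ht (huniq Q ⟨hQy.symm⟩ ▸ hQ₀Q (htQ₀ (Ideal.mem_span_singleton_self t)))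

/-- Flatness at a prime which is alone over its contraction can be tested below. -/
theorem pred_iff_of_unique {B : Type u} [CommRing B] [Algebra B A] [Algebra.IsIntegral B A] [Module B M]
    [IsScalarTower B A M] [SMulCommClass A R M] [SMulCommClass B R M]
    (y : Ideal B) [y.IsPrime] (q : Ideal A) [q.IsPrime] [q.LiesOver y]
    (huniq : ∀ (Q : Ideal A) [Q.IsPrime], Q.LiesOver y → Q = q) :
    Pred R q.primeCompl M ↔ Pred R y.primeCompl M := by
  constructor
  · refine fun h => h.of_dvd fun u hu => ?_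
    obtain ⟨a, b, hb, hab⟩ := exists_mul_eq_algebraMap y q huniq hu
    exact ⟨b, a, hb, fun m => by rw [smul_smul, mul_comm a, hab, algebraMap_smul]⟩
  · refine fun h => h.of_dvd fun b hb => ?_
    exact ⟨algebraMap B A b, 1, fun hmem => hb (by rw [Ideal.over_def q y]; exact hmem),
      fun m => by rw [one_smul, algebraMap_smul]⟩

end Groth.RaynaudGruson.FlatPred
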