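import Groth.Agent.RaynaudGruson.StalkFP
import Groth.Agent.RaynaudGruson.FlatPred
import Groth.Agent.FlatMorOne.FlatLocusOpen
import Groth.Agent.FlatMorOne.FlatLocusBaseChange
import Groth.Agent.GenericFree.Presentation
import Mathlib

/-!
Flat finite modules over finite type algebras over a domain (Raynaud–Gruson 3.4.6).
-/

set_option autoImplicit false
universe u

namespace Groth.RaynaudGruson.DomainFP

variable {R S M : Type u} [CommRing R] [CommRing S] [Algebra R S] [Algebra.FinitePresentation R S]
  [AddCommGroup M] [Module S M] [Module R M] [IsScalarTower R S M] [Module.Finite S M]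

omit [CommRing S] in
/-- An element of a flat module killed by a jointly injective family of scalars vanishes. -/
theorem eq_zero_of_forall_smul {F : Type u} [AddCommGroup F] [Module R F] [Module.Flat R F] {s : Finset R}
    (hs : ∀ r : R, (∀ a ∈ s, a * r = 0) → r = 0) {x : F} (hx : ∀ a ∈ s, a • x = 0) : x = 0 := by
  classical
  let g : R →ₗ[R] (s → R) := LinearMap.pi fun a => LinearMap.mulLeft R (a : R)
  have hg : Function.Injective g := (injective_iff_map_eq_zero g).mpr fun r hr => hs r fun a ha => congrFun hr ⟨a, ha⟩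
  have h1 : g.lTensor F (x ⊗ₜ[R] (1 : R)) = 0 := by
    refine (TensorProduct.piScalarRight R R F s).injective ?_
    rw [map_zero, LinearMap.lTensor_tmul, TensorProduct.piScalarRight_apply, TensorProduct.piScalarRightHom_tmul]
    funext a
    simpa [g] using hx a a.2
  have h2 : x ⊗ₜ[R] (1 : R) = 0 :=
    Module.Flat.lTensor_preserves_injective_linearMap g hg (h1.trans (map_zero _).symm)
  simpa using congrArg (TensorProduct.rid R F) h2

omit [IsScalarTower R S M] [Module.Finite S M] [Algebra.FinitePresentation R S] in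
/-- Relations saturating the kernel at a prime identify the stalks. -/
theorem bijective_localized {m : ℕ} (π : (Fin m → S) →ₗ[S] M) (hπ : Function.Surjective π)
    (U : Submodule S (Fin m → S)) (hUle : U ≤ LinearMap.ker π) (q' : PrimeSpectrum S)
    (h : ∀ u ∈ LinearMap.ker π, ∃ t ∉ q'.asIdeal, t • u ∈ U) :
    Function.Bijective (LocalizedModule.map q'.asIdeal.primeCompl (U.liftQ π hUle)) := by
  have hθ : Function.Surjective (U.liftQ π hUle) := fun x => ⟨Submodule.Quotient.mk (hπ x).choose, (hπ x).choose_spec⟩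
  refine ⟨(injective_iff_map_eq_zero _).mpr fun z => ?_, LocalizedModule.map_surjective _ _ hθ⟩
  induction z using LocalizedModule.induction_on with
  | h x s =>
    obtain ⟨x, rfl⟩ := Submodule.Quotient.mk_surjective U x
    intro hx
    rw [LocalizedModule.map_mk, show U.liftQ π hUle (Submodule.Quotient.mk x) = π x from rfl, ← LocalizedModule.zero_mk s, LocalizedModule.mk_eq] at hx
    obtain ⟨w, hw⟩ := hx
    obtain ⟨t, ht, htU⟩ := h (((w : S) * s) • x) (by
      rw [LinearMap.mem_ker, map_smul, mul_smul]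
      simpa [Submonoid.smul_def] using hw)
    rw [← LocalizedModule.zero_mk s, LocalizedModule.mk_eq]
    refine ⟨⟨t, ht⟩ * w, ?_⟩
    simp only [smul_zero, Submonoid.smul_def, Submonoid.coe_mul, smul_smul]
    rw [← Submodule.Quotient.mk_smul, Submodule.Quotient.mk_eq_zero]
    simpa [smul_smul, mul_assoc] using htU

/-- At a flat point finitely many relations generate the kernel of a presentation. -/
theorem exists_relations_at {m : ℕ} (π : (Fin m → S) →ₗ[S] M) (hπ : Function.Surjective π)
    (q : PrimeSpectrum S) (hq : Module.Flat R (LocalizedModule q.asIdeal.primeCompl M)) :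
    ∃ U : Submodule S (Fin m → S), U.FG ∧ U ≤ LinearMap.ker π ∧
      ∀ u ∈ LinearMap.ker π, ∃ t ∉ q.asIdeal, t • u ∈ U := by
  classical
  let Q := q.asIdeal.primeCompl
  let Sq := Localization Q
  haveI : Module.FinitePresentation Sq (LocalizedModule Q M) :=
    StalkFP.finitePresentation_stalk M q.asIdeal hq
  let πq := LocalizedModule.map Q π
  have hπq : Function.Surjective πq := LocalizedModule.map_surjective Q π hπ
  obtain ⟨G, hG⟩ := Module.FinitePresentation.fg_ker πq hπq
  have hz : ∀ z ∈ G, ∃ u ∈ LinearMap.ker π, ∃ s : Q, z = LocalizedModule.mk u s := by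
    intro z hz
    have hzk : πq z = 0 := LinearMap.mem_ker.mp (hG ▸ Submodule.subset_span hz)
    induction z using LocalizedModule.induction_on with
    | h x s =>
      rw [LocalizedModule.map_mk, ← LocalizedModule.zero_mk s, LocalizedModule.mk_eq] at hzk
      obtain ⟨w, hw⟩ := hzk
      refine ⟨((w : S) * s) • x, ?_, w * s * s, ?_⟩
      · rw [LinearMap.mem_ker, map_smul, mul_smul]
        simpa [Submonoid.smul_def] using hw
      · rw [LocalizedModule.mk_eq]
        exact ⟨1, by simp [Submonoid.smul_def, smul_smul, mul_comm, mul_left_comm]⟩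
  choose! uz huz sz hsz using hz
  let U : Submodule S (Fin m → S) := Submodule.span S ↑(G.image uz)
  have hUle : U ≤ LinearMap.ker π := Submodule.span_le.mpr fun x hx => by
    obtain ⟨z, hz, rfl⟩ := Finset.mem_image.mp hx
    exact huz z hz
  have hUfg : U.FG := Submodule.fg_span (Finset.finite_toSet _)
  have hkq : ∀ u ∈ LinearMap.ker π, ∃ t ∉ q.asIdeal, t • u ∈ U := by
    intro u hu
    have h1 : LocalizedModule.mk u (1 : Q) ∈ Submodule.localized' Sq Q (LocalizedModule.mkLinearMap Q _) U := by
      have h2 : LocalizedModule.mk u (1 : Q) ∈ LinearMap.ker πq := by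
        rw [LinearMap.mem_ker, LocalizedModule.map_mk, show π u = 0 from hu, LocalizedModule.zero_mk]
      refine Submodule.span_le.mpr ?_ (hG.symm ▸ h2)
      intro z hz
      exact ⟨uz z, Submodule.subset_span (Finset.mem_image_of_mem _ hz), sz z,
        (IsLocalizedModule.mk_eq_mk' _ _).symm.trans (hsz z hz).symm⟩
    obtain ⟨v, hv, s, hvs⟩ := h1
    rw [← IsLocalizedModule.mk_eq_mk', LocalizedModule.mk_eq] at hvs
    obtain ⟨c, hc⟩ := hvs
    refine ⟨((c * s : Q) : S), (c * s).2, ?_⟩
    simp only [one_smul, Submonoid.smul_def, smul_smul] at hc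
    rw [Submonoid.coe_mul, ← hc]
    exact U.smul_mem _ hv
  exact ⟨U, hUfg, hUle, hkq⟩

/-- Near a flat point the kernel of a presentation is generated by finitely many relations. -/
theorem exists_nbhd {m : ℕ} (π : (Fin m → S) →ₗ[S] M) (hπ : Function.Surjective π)
    (U₀ : Submodule S (Fin m → S)) (hfg : U₀.FG) (hle : U₀ ≤ LinearMap.ker π)
    (hsat : ∀ u ∈ LinearMap.ker π, ∃ s : Finset R, (∀ r : R, (∀ a ∈ s, a * r = 0) → r = 0) ∧ ∀ a ∈ s, a • u ∈ U₀)
    (q : PrimeSpectrum S) (hq : Module.Flat R (LocalizedModule q.asIdeal.primeCompl M)) :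
    ∃ U : Submodule S (Fin m → S), U.FG ∧ U ≤ LinearMap.ker π ∧ ∃ W : Set (PrimeSpectrum S), IsOpen W ∧ q ∈ W ∧
      ∀ q' ∈ W, Module.Flat R (LocalizedModule q'.asIdeal.primeCompl M) ∧
        ∀ u ∈ LinearMap.ker π, ∃ t ∉ q'.asIdeal, t • u ∈ U := by
  classical
  obtain ⟨V, hVfg, hVle, hkV⟩ := exists_relations_at π hπ q hq
  let U : Submodule S (Fin m → S) := U₀ ⊔ V
  have hUle : U ≤ LinearMap.ker π := sup_le hle hVle
  have hUfg : U.FG := hfg.sup hVfg
  have hkq : ∀ u ∈ LinearMap.ker π, ∃ t ∉ q.asIdeal, t • u ∈ U := fun u hu => by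
    obtain ⟨t, ht, htV⟩ := hkV u hu
    exact ⟨t, ht, Submodule.mem_sup_right htV⟩
  let M' := (Fin m → S) ⧸ U
  haveI : Module.FinitePresentation S M' :=
    Module.finitePresentation_of_surjective _ U.mkQ_surjective (by rwa [Submodule.ker_mkQ])
  let θ : M' →ₗ[S] M := U.liftQ π hUle
  have hθ : Function.Surjective θ := fun x => ⟨Submodule.Quotient.mk (hπ x).choose, (hπ x).choose_spec⟩
  have hbij := bijective_localized π hπ U hUle
  let eR : ∀ q' : PrimeSpectrum S, (∀ u ∈ LinearMap.ker π, ∃ t ∉ q'.asIdeal, t • u ∈ U) →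
      LocalizedModule q'.asIdeal.primeCompl M' ≃ₗ[R] LocalizedModule q'.asIdeal.primeCompl M := fun q' h =>
    (LinearEquiv.ofBijective (LocalizedModule.map q'.asIdeal.primeCompl θ) (hbij q' h)).restrictScalars R
  refine ⟨U, hUfg, hUle, {q' | Module.Flat R (LocalizedModule q'.asIdeal.primeCompl M')},
    FlatMorOne.isOpen_flatLocus R S M', Module.Flat.of_linearEquiv (eR q hkq), fun q' hq' => ?_⟩
  have hk : ∀ u ∈ LinearMap.ker π, ∃ t ∉ q'.asIdeal, t • u ∈ U := by
    intro u hu
    obtain ⟨c, hc, hcU⟩ := hsat u hu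
    haveI : Module.Flat R (LocalizedModule q'.asIdeal.primeCompl M') := hq'
    have h0 : LocalizedModule.mk (Submodule.Quotient.mk u : M') (1 : q'.asIdeal.primeCompl) = 0 :=
      eq_zero_of_forall_smul hc fun a ha => by
        rw [LocalizedModule.smul'_mk, ← Submodule.Quotient.mk_smul,
          (Submodule.Quotient.mk_eq_zero U).mpr (Submodule.mem_sup_left (hcU a ha)), LocalizedModule.zero_mk]
    rw [← LocalizedModule.zero_mk (1 : q'.asIdeal.primeCompl), LocalizedModule.mk_eq] at h0
    obtain ⟨t, ht⟩ := h0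
    refine ⟨t, t.2, ?_⟩
    simpa [Submonoid.smul_def, ← Submodule.Quotient.mk_smul, Submodule.Quotient.mk_eq_zero] using ht
  haveI : Module.Flat R (LocalizedModule q'.asIdeal.primeCompl M') := hq'
  exact ⟨Module.Flat.of_linearEquiv (eR q' hk).symm, hk⟩

/-- A flat finite module over a finitely presented algebra with enough finitely generated relations is finitely
presented. -/
theorem finitePresentation_of_relations [Module.Flat R M] {m : ℕ} (π : (Fin m → S) →ₗ[S] M) (hπ : Function.Surjective π)
    (U₀ : Submodule S (Fin m → S)) (hfg : U₀.FG) (hle : U₀ ≤ LinearMap.ker π)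
    (hsat : ∀ u ∈ LinearMap.ker π, ∃ s : Finset R, (∀ r : R, (∀ a ∈ s, a * r = 0) → r = 0) ∧ ∀ a ∈ s, a • u ∈ U₀) :
    Module.FinitePresentation S M := by
  classical
  choose U hUfg hUle W hW hqW hWU using fun q : PrimeSpectrum S =>
    exists_nbhd π hπ U₀ hfg hle hsat q (FlatMorOne.flat_localized_of_flat _)
  obtain ⟨T, hT⟩ := isCompact_univ.elim_finite_subcover W hW fun q _ => Set.mem_iUnion.mpr ⟨q, hqW q⟩
  refine Module.finitePresentation_of_surjective π hπ ?_
  have hker : LinearMap.ker π = T.sup U := by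
    refine le_antisymm (fun u hu => ?_) (Finset.sup_le fun q _ => hUle q)
    let I : Ideal S := (T.sup U).comap (LinearMap.toSpanSingleton S _ u)
    suffices I = ⊤ by simpa [I] using (Ideal.eq_top_iff_one I).mp this
    by_contra hI
    obtain ⟨p, hp, hIp⟩ := Ideal.exists_le_maximal I hI
    obtain ⟨q, hq, hpq⟩ := Set.mem_iUnion₂.mp (hT (Set.mem_univ (⟨p, hp.isPrime⟩ : PrimeSpectrum S)))
    obtain ⟨t, ht, htu⟩ := (hWU q _ hpq).2 u hu
    exact ht (hIp (show t • u ∈ T.sup U from Finset.le_sup (f := U) hq htu))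
  rw [hker]
  exact Submodule.fg_finset_sup T U fun q _ => hUfg q

variable (R S M) [IsDomain R]

/-- Over a domain the powers of one element suffice. -/
theorem exists_relations : ∃ (m : ℕ) (π : (Fin m → S) →ₗ[S] M) (U₀ : Submodule S (Fin m → S)),
    Function.Surjective π ∧ U₀.FG ∧ U₀ ≤ LinearMap.ker π ∧
      ∀ u ∈ LinearMap.ker π, ∃ s : Finset R, (∀ r : R, (∀ a ∈ s, a * r = 0) → r = 0) ∧ ∀ a ∈ s, a • u ∈ U₀ := by
  obtain ⟨f, hf, m, π, U₀, hπ, hfg, hle, hsat⟩ := GenericFree.exists_fg_relations (R := R) S M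
  refine ⟨m, π, U₀, hπ, hfg, hle, fun u hu => ?_⟩
  obtain ⟨k, hk⟩ := hsat f dvd_rfl u hu
  exact ⟨{f ^ k}, fun r hr => (mul_eq_zero.mp (hr _ (Finset.mem_singleton_self _))).resolve_left (pow_ne_zero k hf),
    fun a ha => Finset.mem_singleton.mp ha ▸ hk⟩

/-- The flat locus of a finite module over a finitely presented algebra over a domain is open. -/
theorem isOpen_flatLocus :
    IsOpen {q : PrimeSpectrum S | Module.Flat R (LocalizedModule q.asIdeal.primeCompl M)} := by
  obtain ⟨m, π, U₀, hπ, hfg, hle, hsat⟩ := exists_relations R S M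
  rw [isOpen_iff_forall_mem_open]
  intro q hq
  obtain ⟨U, -, -, W, hW, hqW, hWf⟩ := exists_nbhd π hπ U₀ hfg hle hsat q hq
  exact ⟨W, fun q' hq' => (hWf q' hq').1, hW, hqW⟩

/-- A flat finite module over a finitely presented algebra over a domain is finitely presented. -/
theorem finitePresentation_of_flat [Module.Flat R M] : Module.FinitePresentation S M := by
  obtain ⟨m, π, U₀, hπ, hfg, hle, hsat⟩ := exists_relations R S M
  exact finitePresentation_of_relations π hπ U₀ hfg hle hsat

end Groth.RaynaudGruson.DomainFP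

namespace Groth.RaynaudGruson.DomainFP

/-- Finite presentation over a ring whose image is everything. -/
theorem finitePresentation_of_restrict (B A M : Type u) [CommRing B] [CommRing A] [Algebra B A]
    [Module.Finite B A] [AddCommGroup M] [Module A M] [Module B M] [IsScalarTower B A M] [Module.Finite A M]
    [Module.FinitePresentation B M] : Module.FinitePresentation A M := by
  obtain ⟨n, f, hf⟩ := Module.Finite.exists_fin' A M
  refine Module.finitePresentation_of_surjective f hf ?_
  refine Submodule.FG.of_restrictScalars B ?_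
  rw [← LinearMap.ker_restrictScalars]
  exact Module.FinitePresentation.fg_ker (f.restrictScalars B) hf

end Groth.RaynaudGruson.DomainFP
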