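import Groth.Agent.RaynaudGruson.LocalizedFree
import Groth.Agent.Misc8.ValRingFP
import Mathlib

/-!
A finite flat module over a local algebra essentially of finite type embeds universally injectively
into a localisation of a free module over an étale neighbourhood of the base.
-/

set_option autoImplicit false
set_option linter.style.haveILetI false
universe u

namespace Groth.RaynaudGruson.FreeEmbedding

open TensorProduct IsLocalRing

/-- A flat algebra with a prime over `q` detects elements of modules on which the complement of `q` is torsion-free. -/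
theorem eq_zero_of_one_tmul {S D M : Type u} [CommRing S] [CommRing D] [Algebra S D] [Module.Flat S D]
    (q : Ideal S) (hD : q.map (algebraMap S D) ≠ ⊤) [AddCommGroup M] [Module S M]
    (htors : ∀ t ∉ q, ∀ m : M, t • m = 0 → m = 0) {m : M} (h : (1 : D) ⊗ₜ[S] m = 0) : m = 0 := by
  let φ := (LinearMap.ker (LinearMap.toSpanSingleton S M m)).liftQ (LinearMap.toSpanSingleton S M m) le_rfl
  have hφ : Function.Injective φ := LinearMap.ker_eq_bot.mp (Submodule.ker_liftQ_eq_bot _ _ _ le_rfl)
  have h2 := Module.Flat.lTensor_preserves_injective_linearMap (M := D) φ hφ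
  have h1 : (1 : D) ⊗ₜ[S] (Ideal.Quotient.mk (LinearMap.ker (LinearMap.toSpanSingleton S M m)) 1) = 0 := h2 (by
    rw [LinearMap.lTensor_tmul, map_zero]
    show (1 : D) ⊗ₜ[S] ((1 : S) • m) = 0
    rw [one_smul]
    exact h)
  rw [← (tensorQuotEquivQuotSMul D _).map_eq_zero_iff, tensorQuotEquivQuotSMul_tmul_mk, one_smul,
    Submodule.Quotient.mk_eq_zero, Ideal.smul_top_eq_map, Submodule.restrictScalars_mem] at h1
  by_contra hm
  exact hD (top_le_iff.mp ((((Ideal.eq_top_iff_one _).mpr h1).ge).trans (Ideal.map_mono fun t ht =>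
    by_contra fun htq => hm (htors t htq m ht))))

/-- The localisation of such an algebra receives the module universally injectively. -/
theorem univInj_one_tmul {A S D N : Type u} [CommRing A] [CommRing S] [CommRing D] [Algebra A S] [Algebra S D]
    [Algebra A D] [IsScalarTower A S D] [Module.Flat S D] (q : Ideal S) (hD : q.map (algebraMap S D) ≠ ⊤)
    [AddCommGroup N] [Module S N] [Module A N] [IsScalarTower A S N]
    (hunit : ∀ t ∉ q, Function.Bijective fun n : N => t • n) :
    FlatCA.UnivInj A ((TensorProduct.mk S D N 1).restrictScalars A) := by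
  intro Q _ _
  refine (LinearMap.lTensor_inj_iff_rTensor_inj Q _).mpr ((injective_iff_map_eq_zero _).mpr fun z hz => ?_)
  let e := AlgebraTensorModule.assoc A S D D N Q
  have key : ∀ w : N ⊗[A] Q, e (((TensorProduct.mk S D N 1).restrictScalars A).rTensor Q w) = (1 : D) ⊗ₜ[S] w := by
    intro w
    induction w with
    | zero => simp
    | tmul n x => simp [e]
    | add a b ha hb => simp only [map_add, TensorProduct.tmul_add, ha, hb]
  refine eq_zero_of_one_tmul q hD (fun t ht w hw => ?_) (by rw [← key, hz, map_zero] : (1 : D) ⊗ₜ[S] z = 0)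
  let et : N ≃ₗ[A] N := LinearEquiv.ofBijective ((LinearMap.lsmul S N t).restrictScalars A) (hunit t ht)
  have : et.toLinearMap.rTensor Q w = 0 := by
    rw [← hw]
    exact (LocalizedFree.smul_tensor (C := S) t w).symm
  exact (et.rTensor Q).injective (this.trans (map_zero _).symm)

set_option maxHeartbeats 1600000 in
theorem exists_embedding_of_cover {A S B : Type u} [CommRing A] [IsLocalRing A] [CommRing S] [CommRing B] [IsLocalRing B]
    [Algebra A B] [IsLocalHom (algebraMap A B)] [Algebra A S] [Algebra S B] [IsScalarTower A S B]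
    [Algebra.FinitePresentation A S] (hcover : ∀ b : B, ∃ x t, IsUnit (algebraMap S B t) ∧ b * algebraMap S B t = algebraMap S B x)
    (N : Type u) [AddCommGroup N] [Module B N] [Module A N] [IsScalarTower A B N] [Module.Finite B N] [Module.Flat A N]
    [Module S N] [IsScalarTower S B N] :
    ∃ (R' : Type u) (_ : CommRing R') (_ : Algebra A R') (p' : Ideal R') (_ : p'.IsPrime),
      FlatCA.IsEtaleNhd A R' (maximalIdeal A) p' ∧
      ∃ (C : Type u) (_ : CommRing C) (_ : Algebra (Localization.AtPrime p') C) (_ : Algebra A C)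
        (_ : IsScalarTower A (Localization.AtPrime p') C) (F : Type u) (_ : AddCommGroup F) (_ : Module C F)
        (_ : Module (Localization.AtPrime p') F) (_ : IsScalarTower (Localization.AtPrime p') C F)
        (_ : Module A F) (_ : IsScalarTower A (Localization.AtPrime p') F) (_ : IsScalarTower A C F) (U : Submonoid C),
        Module.Free (Localization.AtPrime p') F ∧
        (∀ v ∈ U, ∀ z : F,
          v • z ∈ ((maximalIdeal (Localization.AtPrime p')).map (algebraMap (Localization.AtPrime p') C)) • (⊤ : Submodule C F) →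
          z ∈ ((maximalIdeal (Localization.AtPrime p')).map (algebraMap (Localization.AtPrime p') C)) • (⊤ : Submodule C F)) ∧
        ∃ j : N →ₗ[A] LocalizedModule U F, FlatCA.UnivInj A j := by
  classical
  haveI : IsScalarTower A S N := IsScalarTower.of_algebraMap_smul fun a n => by
    rw [← algebraMap_smul B (algebraMap A S a) n, ← IsScalarTower.algebraMap_apply, algebraMap_smul]
  let q : Ideal S := (maximalIdeal B).comap (algebraMap S B)
  haveI : q.IsPrime := Ideal.IsPrime.comap _
  haveI : q.LiesOver (maximalIdeal A) := ⟨by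
    show _ = ((maximalIdeal B).comap (algebraMap S B)).comap (algebraMap A S)
    rw [Ideal.comap_comap, ← IsScalarTower.algebraMap_eq, IsLocalRing.maximalIdeal_comap]⟩
  have hunit : ∀ t ∉ q, Function.Bijective fun n : N => t • n := by
    intro t ht
    obtain ⟨v, hv⟩ : IsUnit (algebraMap S B t) := by
      by_contra h; exact ht h
    refine ⟨fun a b hab => ?_, fun b => ⟨(↑v⁻¹ : B) • b, ?_⟩⟩
    · have h1 : (v : B) • a = (v : B) • b := by rw [hv, algebraMap_smul, algebraMap_smul]; exact hab
      exact (v.isUnit.smul_left_cancel).mp h1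
    · show t • ((↑v⁻¹ : B) • b) = b
      rw [← algebraMap_smul B t, smul_smul, ← hv, v.mul_inv, one_smul]
  obtain ⟨G, hG⟩ := (Module.Finite.fg_top : (⊤ : Submodule B N).FG)
  let N₀ : Submodule S N := Submodule.span S (G : Set N)
  haveI : Module.Finite S N₀ := Module.Finite.iff_fg.mpr ⟨G, rfl⟩
  haveI hloc : IsLocalizedModule q.primeCompl N₀.subtype := by
    refine ⟨fun t => (Module.End.isUnit_iff _).mpr (hunit t t.2), fun y => ?_,
      fun {x₁ x₂} h => ⟨1, by rw [Subtype.ext h]⟩⟩
    have hy : y ∈ Submodule.span B (G : Set N) := hG.symm ▸ Submodule.mem_top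
    obtain ⟨t, ht, hty⟩ : ∃ t ∉ q, t • y ∈ N₀ := by
      induction hy using Submodule.span_induction with
      | mem x hx => exact ⟨1, q.primeCompl.one_mem, by rw [one_smul]; exact Submodule.subset_span hx⟩
      | zero => exact ⟨1, q.primeCompl.one_mem, by rw [smul_zero]; exact zero_mem _⟩
      | add x y _ _ hx hy =>
        obtain ⟨s, hs, hsx⟩ := hx
        obtain ⟨t, ht, hty⟩ := hy
        refine ⟨s * t, q.primeCompl.mul_mem hs ht, ?_⟩
        rw [smul_add]
        exact add_mem (by rw [mul_comm, mul_smul]; exact N₀.smul_mem t hsx) (by rw [mul_smul]; exact N₀.smul_mem s hty)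
      | smul b x _ hx =>
        obtain ⟨s, hs, hsx⟩ := hx
        obtain ⟨c, t, ht, hb⟩ := hcover b
        refine ⟨t * s, q.primeCompl.mul_mem (fun h => h ht) hs, ?_⟩
        have : (t * s) • b • x = c • (s • x) := by
          rw [← algebraMap_smul B (t * s), ← algebraMap_smul B c, ← algebraMap_smul B s x, smul_smul, smul_smul, map_mul, ← hb]
          congr 1; ring
        rw [this]; exact N₀.smul_mem c hsx
    exact ⟨⟨⟨t • y, hty⟩, ⟨t, ht⟩⟩, rfl⟩
  have hflat : FlatCA.FlatAt A q N₀ :=
    Module.Flat.of_linearEquiv ((IsLocalizedModule.iso q.primeCompl N₀.subtype).restrictScalars A)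
  obtain ⟨R', _, _, p', _, hnhd, hmain⟩ := LocalStructure.exists_nbhd_free_regular N₀ (maximalIdeal A) q hflat
  refine ⟨R', inferInstance, inferInstance, p', inferInstance, hnhd, ?_⟩
  haveI := hnhd.1
  let A' := Localization.AtPrime p'
  haveI : Module.Flat R' A' := IsLocalization.flat A' p'.primeCompl
  haveI : Module.Flat A A' := Module.Flat.trans A R' A'
  obtain ⟨SA, _, _, _, _, _, _, hpush⟩ := EtalePushout.exists_pushout A S A'
  haveI : Algebra.IsPushout A A' S SA := hpush
  haveI : Algebra.IsPushout A S A' SA := Algebra.IsPushout.symm inferInstance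
  obtain ⟨NA, _, _, _, _, f, hf⟩ := EtalePushout.exists_baseChange S SA N₀
  obtain ⟨C, _, _, _, _, _, _, x, _, hxq, hEt, -, -, -, -, hfree, hreg⟩ := hmain SA NA f hf
  haveI := hEt
  haveI : Module.Flat S SA :=
    Module.Flat.of_linearEquiv (Algebra.IsPushout.equiv A S A' SA).symm.toLinearEquiv
  haveI : Module.Flat SA C := inferInstance
  haveI : Module.Flat S C := Module.Flat.trans S SA C
  letI : Algebra A C := ((algebraMap A' C).comp (algebraMap A A')).toAlgebra
  haveI : IsScalarTower A A' C := .of_algebraMap_eq' rfl
  haveI : IsScalarTower A S C := .of_algebraMap_eq fun a => by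
    rw [IsScalarTower.algebraMap_apply A A' C, IsScalarTower.algebraMap_apply A' SA C,
      ← IsScalarTower.algebraMap_apply A A' SA, IsScalarTower.algebraMap_apply A S SA,
      ← IsScalarTower.algebraMap_apply S SA C]
  haveI : SMulCommClass SA A' C := ⟨fun a b c => by
    rw [Algebra.smul_def, Algebra.smul_def, Algebra.smul_def, Algebra.smul_def, mul_left_comm]⟩
  haveI : SMulCommClass SA A C := ⟨fun a b c => by
    rw [Algebra.smul_def, Algebra.smul_def, Algebra.smul_def, Algebra.smul_def, mul_left_comm]⟩
  haveI : SMulCommClass SA S C := ⟨fun a b c => by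
    rw [Algebra.smul_def, Algebra.smul_def, Algebra.smul_def, Algebra.smul_def, mul_left_comm]⟩
  let F := C ⊗[SA] NA
  haveI : IsScalarTower A' C F := inferInstance
  haveI : IsScalarTower A C F := inferInstance
  haveI : IsScalarTower S C F := inferInstance
  haveI : IsScalarTower A A' F := IsScalarTower.of_algebraMap_smul fun a z => by
    rw [← algebraMap_smul C (algebraMap A A' a) z, ← IsScalarTower.algebraMap_apply, algebraMap_smul]
  haveI : IsScalarTower S SA F := IsScalarTower.of_algebraMap_smul fun s z =>
    (algebraMap_smul C (algebraMap S SA s) z).symm.trans ((congrArg (· • z) (IsScalarTower.algebraMap_apply S SA C s).symm).trans (algebraMap_smul C s z))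
  haveI : IsScalarTower A S F := IsScalarTower.of_algebraMap_smul fun a z => by
    rw [← algebraMap_smul C (algebraMap A S a) z, ← IsScalarTower.algebraMap_apply, algebraMap_smul]
  haveI hfreeF : Module.Free A' F := by
    haveI := hfree
    let e : RestrictScalars A' C F ≃ₗ[A'] F :=
      { RestrictScalars.addEquiv A' C F with
        map_smul' := fun a z => by
          show (RestrictScalars.addEquiv A' C F) (a • z) = a • (RestrictScalars.addEquiv A' C F) z
          rw [RestrictScalars.addEquiv_map_smul, algebraMap_smul] }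
    exact Module.Free.of_equiv e
  refine ⟨C, inferInstance, inferInstance, inferInstance, inferInstance, F, inferInstance, inferInstance,
    inferInstance, inferInstance, inferInstance, inferInstance, inferInstance, x.primeCompl, hfreeF,
    fun v hv z hz => hreg v hv z hz, ?_⟩
  let U := x.primeCompl
  let ι₀ : N₀ →ₗ[S] F := ((TensorProduct.mk SA C NA 1).restrictScalars S).comp f
  have hι₀ : IsBaseChange C ι₀ := IsBaseChange.comp hf (TensorProduct.isBaseChange SA NA C)
  let g : F →ₗ[S] LocalizedModule U F := (LocalizedModule.mkLinearMap U F).restrictScalars S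
  have hU : ∀ t : q.primeCompl, algebraMap S C t ∈ U := fun t h => t.2 ((Ideal.mem_of_liesOver x q (t : S)).mpr h)
  let κ : N →ₗ[S] LocalizedModule U F := IsLocalizedModule.lift q.primeCompl N₀.subtype (g.comp ι₀) fun t => by
    refine (Module.End.isUnit_iff _).mpr ?_
    have h := (Module.End.isUnit_iff _).mp (IsLocalizedModule.map_units (LocalizedModule.mkLinearMap U F) ⟨_, hU t⟩)
    convert h using 1
    funext y
    show (t : S) • y = algebraMap S C (t : S) • y
    rw [algebraMap_smul]
  refine ⟨κ.restrictScalars A, ?_⟩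
  -- compare with `D ⊗ N`
  let D := Localization.AtPrime x
  haveI : Module.Flat C D := IsLocalization.flat D x.primeCompl
  haveI : Module.Flat S D := Module.Flat.trans S C D
  haveI : IsScalarTower C D (D ⊗[S] N) := inferInstance
  haveI : IsScalarTower S C (D ⊗[S] N) := inferInstance
  let ψ₀ : F →ₗ[C] D ⊗[S] N := hι₀.lift ((TensorProduct.mk S D N 1).comp N₀.subtype)
  let ψ : LocalizedModule U F →ₗ[C] D ⊗[S] N :=
    IsLocalizedModule.lift U (LocalizedModule.mkLinearMap U F) ψ₀ fun v => by
      refine (Module.End.isUnit_iff _).mpr ?_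
      obtain ⟨w, hw⟩ := IsLocalization.map_units D v
      refine ⟨fun a b hab => ?_, fun b => ⟨(↑w⁻¹ : D) • b, ?_⟩⟩
      · have h1 : (w : D) • a = (w : D) • b := by rw [hw, algebraMap_smul, algebraMap_smul]; exact hab
        exact (w.isUnit.smul_left_cancel).mp h1
      · show (v : C) • ((↑w⁻¹ : D) • b) = b
        rw [← algebraMap_smul D (v : C), smul_smul, ← hw, w.mul_inv, one_smul]
  have hcomp : (ψ.restrictScalars S).comp κ = TensorProduct.mk S D N 1 := by
    refine IsLocalizedModule.ext q.primeCompl N₀.subtype (fun t => ?_) (LinearMap.ext fun n => ?_)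
    · refine (Module.End.isUnit_iff _).mpr ?_
      obtain ⟨w, hw⟩ := IsLocalization.map_units D ⟨_, hU t⟩
      refine ⟨fun a b hab => ?_, fun b => ⟨(↑w⁻¹ : D) • b, ?_⟩⟩
      · have h1 : (w : D) • a = (w : D) • b := by
          rw [hw, algebraMap_smul, algebraMap_smul, algebraMap_smul, algebraMap_smul]; exact hab
        exact (w.isUnit.smul_left_cancel).mp h1
      · show (t : S) • ((↑w⁻¹ : D) • b) = b
        rw [← algebraMap_smul C (t : S), ← algebraMap_smul D (algebraMap S C t), smul_smul, ← hw, w.mul_inv, one_smul]
    · show ψ (κ (N₀.subtype n)) = _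
      rw [show κ (N₀.subtype n) = LocalizedModule.mkLinearMap U F (ι₀ n) from IsLocalizedModule.lift_apply _ _ _ _ _,
        show ψ (LocalizedModule.mkLinearMap U F (ι₀ n)) = ψ₀ (ι₀ n) from IsLocalizedModule.lift_apply _ _ _ _ _]
      exact hι₀.lift_eq _ n
  have hD : q.map (algebraMap S D) ≠ ⊤ := by
    refine ne_top_of_le_ne_top (maximalIdeal.isMaximal D).ne_top (Ideal.map_le_iff_le_comap.mpr fun s hs => ?_)
    show algebraMap S D s ∈ maximalIdeal D
    rw [IsScalarTower.algebraMap_apply S C D]
    exact (IsLocalization.AtPrime.to_map_mem_maximal_iff D x _).mpr ((Ideal.mem_of_liesOver x q s).mp hs)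
  intro Q _ _
  have h2 := univInj_one_tmul (A := A) q hD hunit Q
  rw [← hcomp, show ((ψ.restrictScalars S).comp κ).restrictScalars A =
    (ψ.restrictScalars A).comp (κ.restrictScalars A) from rfl, LinearMap.lTensor_comp] at h2
  exact Function.Injective.of_comp h2

/-- The embedding for an arbitrary local algebra essentially of finite type. -/
theorem exists_embedding {A B : Type u} [CommRing A] [IsLocalRing A] [CommRing B] [IsLocalRing B]
    [Algebra A B] [IsLocalHom (algebraMap A B)] [Algebra.EssFiniteType A B]
    (N : Type u) [AddCommGroup N] [Module B N] [Module A N] [IsScalarTower A B N] [Module.Finite B N] [Module.Flat A N] :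
    ∃ (R' : Type u) (_ : CommRing R') (_ : Algebra A R') (p' : Ideal R') (_ : p'.IsPrime),
      FlatCA.IsEtaleNhd A R' (maximalIdeal A) p' ∧
      ∃ (C : Type u) (_ : CommRing C) (_ : Algebra (Localization.AtPrime p') C) (_ : Algebra A C)
        (_ : IsScalarTower A (Localization.AtPrime p') C) (F : Type u) (_ : AddCommGroup F) (_ : Module C F)
        (_ : Module (Localization.AtPrime p') F) (_ : IsScalarTower (Localization.AtPrime p') C F)
        (_ : Module A F) (_ : IsScalarTower A (Localization.AtPrime p') F) (_ : IsScalarTower A C F) (U : Submonoid C),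
        Module.Free (Localization.AtPrime p') F ∧
        (∀ v ∈ U, ∀ z : F,
          v • z ∈ ((maximalIdeal (Localization.AtPrime p')).map (algebraMap (Localization.AtPrime p') C)) • (⊤ : Submodule C F) →
          z ∈ ((maximalIdeal (Localization.AtPrime p')).map (algebraMap (Localization.AtPrime p') C)) • (⊤ : Submodule C F)) ∧
        ∃ j : N →ₗ[A] LocalizedModule U F, FlatCA.UnivInj A j := by
  obtain ⟨n, φ, hφ⟩ := Groth.Misc8.ValFP.exists_cover (A := A) B
  letI := φ.toRingHom.toAlgebra
  haveI : IsScalarTower A (MvPolynomial (Fin n) A) B := IsScalarTower.of_algebraMap_eq fun a => (φ.commutes a).symm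
  letI : Module (MvPolynomial (Fin n) A) N := Module.compHom N φ.toRingHom
  haveI : IsScalarTower (MvPolynomial (Fin n) A) B N := IsScalarTower.of_algebraMap_smul fun _ _ => rfl
  exact exists_embedding_of_cover (S := MvPolynomial (Fin n) A) hφ N

end Groth.RaynaudGruson.FreeEmbedding
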