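import Groth.Prelude.Def_FlatCA
import Groth.Agent.Calg5.FiberAss
import Mathlib

/-!
Bridge between associated primes of `N ⊗ Q` and associated points of the fibres of `N`.
-/

set_option autoImplicit false
universe u

namespace Groth.RaynaudGruson

open TensorProduct

attribute [local instance] Algebra.TensorProduct.rightAlgebra

variable {R S N : Type u} [CommRing R] [CommRing S] [Algebra R S] [AddCommGroup N] [Module S N]
  [Module R N] [IsScalarTower R S N]

/-- Ideals of the fibre ring are extended from their contraction. -/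
theorem map_comap_fiber (p : Ideal R) [p.IsPrime] (Q : Ideal (p.Fiber S)) :
    (Q.comap (algebraMap S (p.Fiber S))).map (algebraMap S (p.Fiber S)) = Q := by
  refine le_antisymm Ideal.map_comap_le fun z hz => ?_
  obtain ⟨r, hr, s, hs⟩ := Groth.Calg5.exists_smul_eq_algebraMap p z
  obtain ⟨u, hu⟩ := Groth.Calg5.isUnit_algebraMap_fiber (S := S) p hr
  rw [Algebra.smul_def, ← hu] at hs
  have hsQ : s ∈ Q.comap (algebraMap S (p.Fiber S)) := by
    rw [Ideal.mem_comap, ← hs]
    exact Q.mul_mem_left _ hz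
  have := Ideal.mul_mem_left _ (↑u⁻¹ : p.Fiber S) (Ideal.mem_map_of_mem (algebraMap S (p.Fiber S)) hsQ)
  rwa [← hs, ← mul_assoc, Units.inv_mul, one_mul] at this

theorem fiberIdeal_comap (p : Ideal R) [p.IsPrime] (Q : Ideal (p.Fiber S)) :
    FlatCA.fiberIdeal p (Q.comap (algebraMap S (p.Fiber S))) = Q :=
  map_comap_fiber p Q

theorem mem_associatedPrimes_of_mem_ass {A M : Type u} [CommRing A] [AddCommGroup M] [Module A M]
    {q : Ideal A} (h : q ∈ FlatCA.ass A M) : q ∈ associatedPrimes A M := by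
  obtain ⟨hq, m, hm⟩ := Groth.Calg5.mem_ass_iff.mp h
  refine ⟨hq, m, ?_⟩
  have : (⊥ : Submodule A M).colon {m} = q := by
    ext r
    rw [Submodule.mem_colon_singleton, Submodule.mem_bot, hm]
  rw [this, hq.radical]

theorem mem_ass_of_mem_associatedPrimes {A M : Type u} [CommRing A] [IsNoetherianRing A]
    [AddCommGroup M] [Module A M] {q : Ideal A} (h : q ∈ associatedPrimes A M) :
    q ∈ FlatCA.ass A M := by
  rw [← Groth.Calg5.weakAss_eq_associatedPrimes] at h
  exact Groth.Calg5.mem_ass_of_fg_of_mem_weakAss (Ideal.fg_of_isNoetherianRing q) h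

/-- For `N` flat over a Noetherian base, an associated prime of `N ⊗ Q` is an associated point of
the fibre of `N` over the prime below it. -/
theorem exists_assoc_fiber_of_mem_ass_tensor [IsNoetherianRing R] [IsNoetherianRing S] [Module.Flat R N]
    (Q : Type u) [AddCommGroup Q] [Module R Q] [Module.Finite R Q] {q : Ideal S}
    (hq : q ∈ associatedPrimes S (N ⊗[R] Q)) :
    ∃ (p : Ideal R) (_ : p.IsPrime), q.IsPrime ∧ q.LiesOver p ∧
      FlatCA.fiberIdeal p q ∈ associatedPrimes (p.Fiber S) (FlatCA.fiberMod p S N) := by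
  obtain ⟨P, hP⟩ := Groth.Calg5.ass_tensor_subset (R := R) (S := S) N Q q (mem_ass_of_mem_associatedPrimes hq)
  have hover := Groth.Calg5.comap_eq_of_mem_ass_quotient (S := S) N P.asIdeal hP
  have h2 := Groth.Calg5.mem_ass_fiberMod_of_mem_ass_quotient (N := N) (p := P.asIdeal) hover hP
  obtain ⟨Q', hQ', hQc⟩ := (Groth.Calg5.mem_ass_fiberMod_iff (N := N) (p := P.asIdeal) hover).mp h2
  refine ⟨P.asIdeal, P.2, hP.1, ⟨hover.symm⟩, ?_⟩
  rw [← hQc, fiberIdeal_comap]
  exact mem_associatedPrimes_of_mem_ass hQ'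

end Groth.RaynaudGruson
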