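import Groth.Agent.RaynaudGruson.LocalStructure
import Groth.Agent.Ega4Algebra2.EssEtHenselFinite
import Mathlib

/-!
An elementary étale neighbourhood of a henselian local ring is, locally, the ring itself.
-/

set_option autoImplicit false
set_option linter.style.haveILetI false
universe u

namespace Groth.RaynaudGruson.FreeEmbedding

open IsLocalRing

theorem bijective_of_isEtaleNhd {A R' : Type u} [CommRing A] [HenselianLocalRing A] [CommRing R'] [Algebra A R']
    (p' : Ideal R') [p'.IsPrime] (h : FlatCA.IsEtaleNhd A R' (maximalIdeal A) p') :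
    Function.Bijective (algebraMap A (Localization.AtPrime p')) := by
  let A' := Localization.AtPrime p'
  obtain ⟨het, hover, hres⟩ := h
  haveI := het; haveI := hover
  haveI hmo : (maximalIdeal A').LiesOver p' := ⟨(IsLocalization.AtPrime.under_maximalIdeal A' p').symm⟩
  haveI : (maximalIdeal A').LiesOver (maximalIdeal A) := Ideal.LiesOver.trans _ p' _
  haveI : IsLocalHom (algebraMap A A') := ⟨fun a ha => by
    by_contra hna
    exact (maximalIdeal A').ne_top_iff_one.mp (maximalIdeal.isMaximal A').ne_top
      (Ideal.eq_top_of_isUnit_mem _ ((Ideal.mem_of_liesOver (maximalIdeal A') (maximalIdeal A) a).mp hna) ha ▸ trivial)⟩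
  have hess : EGA4loc.IsEssentiallyEtale A A' :=
    ⟨R', inferInstance, inferInstance, p', inferInstance, het, hover.over.symm, ⟨AlgEquiv.refl⟩⟩
  haveI := Groth.Ega4Algebra2.finite_of_isEssentiallyEtale hess
  have hsurjres : Function.Surjective (algebraMap A (maximalIdeal A').ResidueField) := by
    intro z
    obtain ⟨y, rfl⟩ := (LocalStructure.bijective_residue_atPrime p').2 z
    obtain ⟨w, rfl⟩ := hres.2 y
    obtain ⟨a, rfl⟩ := Ideal.algebraMap_residueField_surjective (maximalIdeal A) w
    exact ⟨a, by rw [AlgHom.commutes, IsScalarTower.algebraMap_apply A R' p'.ResidueField, AlgHom.commutes, ← IsScalarTower.algebraMap_apply]⟩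
  have hsurj : Function.Surjective (algebraMap A A') := by
    have htop : (⊤ : Submodule A A') ≤ LinearMap.range (Algebra.linearMap A A') := by
      refine Submodule.le_of_le_smul_of_le_jacobson_bot Module.Finite.fg_top (maximalIdeal_le_jacobson ⊥) fun y _ => ?_
      obtain ⟨a, ha⟩ := hsurjres (algebraMap A' _ y)
      have hy : y - algebraMap A A' a ∈ maximalIdeal A' := by
        rw [← Ideal.algebraMap_residueField_eq_zero, map_sub, sub_eq_zero, ← ha, ← IsScalarTower.algebraMap_apply]
      rw [← Groth.Hensel1.map_maximalIdeal_of_essentiallyEtale hess] at hy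
      refine Submodule.mem_sup.mpr ⟨algebraMap A A' a, ⟨a, rfl⟩, y - algebraMap A A' a, ?_, add_sub_cancel _ _⟩
      rw [Ideal.smul_top_eq_map]
      exact hy
    exact fun y => htop trivial
  haveI : Module.Flat R' A' := IsLocalization.flat A' p'.primeCompl
  haveI : Module.Flat A A' := Module.Flat.trans A R' A'
  haveI : Module.FaithfullyFlat A A' := Module.FaithfullyFlat.of_flat_of_isLocalHom
  exact ⟨FaithfulSMul.algebraMap_injective A A', hsurj⟩

end Groth.RaynaudGruson.FreeEmbedding
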