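import Groth.Agent.GeomComp.EtaleSpread
import Groth.Agent.FBaseGeom.Geometric
import Groth.Agent.SmoothWeil.Geom
import Groth.Agent.AlgGrp1.SmoothReduced
import Groth.Agent.Flatmor4.EtaleSplit
import Groth.Prelude.Def_FlatCA
import Mathlib

/-!
Geometrically integral fibres after an elementary étale localisation.
-/

set_option autoImplicit false
universe u

open AlgebraicGeometry CategoryTheory Limits TopologicalSpace
open scoped TensorProduct

namespace Groth.RaynaudGruson.GeomIntegralNbhd

/-- `k` has no nontrivial separable extension inside `L` along `φ`. -/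
def SepClosedAlong {k L : Type u} [Field k] [Field L] (φ : k →+* L) : Prop :=
  ∀ a : L, ∀ P : Polynomial k, P.Separable → P.eval₂ φ a = 0 → a ∈ Set.range φ

theorem SepClosedAlong.congr {k L k' L' : Type u} [Field k] [Field L] [Field k'] [Field L'] {φ : k →+* L}
    {ψ : k' →+* L'} (h : SepClosedAlong φ) (e : k' ≃+* k) (e' : L' ≃+* L)
    (hcomm : ∀ x, e' (ψ x) = φ (e x)) : SepClosedAlong ψ := by
  intro a P hP ha
  obtain ⟨x, hx⟩ := h (e' a) (P.map e.toRingHom) hP.map (by
    rw [Polynomial.eval₂_map, show φ.comp e.toRingHom = (e'.toRingHom).comp ψ from RingHom.ext fun x => (hcomm x).symm]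
    exact (Polynomial.hom_eval₂ P ψ e'.toRingHom a).symm.trans (by rw [ha, map_zero]))
  refine ⟨e.symm x, e'.injective ?_⟩
  rw [hcomm, RingEquiv.apply_symm_apply, hx]

theorem residueFieldMap_spec_square {R S : CommRingCat.{u}} (φ : R ⟶ S) (y : Spec S) :
    ∃ (iR : (Spec R).residueField ((Spec.map φ).base y) ≃+* ((Spec.map φ).base y).asIdeal.ResidueField)
      (iD : (Spec S).residueField y ≃+* y.asIdeal.ResidueField),
      ∀ z, iD (((Spec.map φ).residueFieldMap y).hom (iR.symm z)) =
        Ideal.ResidueField.map ((Spec.map φ).base y).asIdeal y.asIdeal φ.hom rfl z := by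
  let f := Spec.map φ
  have hh : CommRingCat.ofHom (algebraMap R (f y).asIdeal.ResidueField) ≫
        (Scheme.Spec.residueFieldIso R (f y)).inv ≫ f.residueFieldMap y =
      φ ≫ CommRingCat.ofHom (algebraMap S y.asIdeal.ResidueField) ≫
        (Scheme.Spec.residueFieldIso S y).inv := by
    apply Spec.map_injective
    simp only [Spec.map_comp, Category.assoc, Scheme.Spec.map_residueFieldIso_inv_eq_fromSpecResidueField, f]
    refine (Scheme.Hom.SpecMap_residueFieldMap_fromSpecResidueField _ _).trans ?_
    rw [← Scheme.Spec.map_residueFieldIso_inv_eq_fromSpecResidueField (R := S) (x := y), Category.assoc]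
  let iR : (Spec R).residueField (f y) ≃+* (f y).asIdeal.ResidueField :=
    (Scheme.Spec.residueFieldIso R (f y)).commRingCatIsoToRingEquiv
  let iD : (Spec S).residueField y ≃+* y.asIdeal.ResidueField :=
    (Scheme.Spec.residueFieldIso S y).commRingCatIsoToRingEquiv
  refine ⟨iR, iD, fun z => ?_⟩
  refine RingHom.congr_fun (f := (iD.toRingHom.comp ((f.residueFieldMap y).hom.comp iR.symm.toRingHom))) ?_ z
  refine Ideal.ResidueField.ringHom_ext (RingHom.ext fun r => ?_)
  show iD ((f.residueFieldMap y).hom (iR.symm (algebraMap R _ r))) = Ideal.ResidueField.map _ y.asIdeal φ.hom rfl (algebraMap R _ r)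
  rw [Ideal.ResidueField.map_algebraMap]
  exact iD.eq_symm_apply.mp (congrArg (fun m => m.hom r) hh)

theorem bijective_map_of_residueFieldMap {R S : CommRingCat.{u}} (φ : R ⟶ S) (y : Spec S)
    (hb : Function.Bijective ((Spec.map φ).residueFieldMap y).hom) :
    Function.Bijective (Ideal.ResidueField.map ((Spec.map φ).base y).asIdeal y.asIdeal φ.hom rfl) := by
  obtain ⟨iR, iD, hsq⟩ := residueFieldMap_spec_square φ y
  rw [show ⇑(Ideal.ResidueField.map ((Spec.map φ).base y).asIdeal y.asIdeal φ.hom rfl) =
    ⇑iD ∘ ((Spec.map φ).residueFieldMap y).hom ∘ ⇑iR.symm from funext fun z => (hsq z).symm]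
  exact iD.bijective.comp (hb.comp iR.symm.bijective)

theorem sepClosedAlong_residueFieldMap_spec {R S : CommRingCat.{u}} (φ : R ⟶ S) (y : Spec S)
    (hsep : SepClosedAlong (Ideal.ResidueField.map ((Spec.map φ).base y).asIdeal y.asIdeal φ.hom rfl)) :
    SepClosedAlong ((Spec.map φ).residueFieldMap y).hom := by
  obtain ⟨iR, iD, hsq⟩ := residueFieldMap_spec_square φ y
  refine hsep.congr iR iD fun x => ?_
  obtain ⟨z, rfl⟩ := iR.symm.surjective x
  rw [RingEquiv.apply_symm_apply]
  exact hsq z

theorem sepClosedAlong_residueFieldMap {R D : Type u} [CommRing R] [CommRing D] [Algebra R D] (p : Ideal R) [p.IsPrime]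
    (y : Ideal D) [hy : y.IsPrime] [hyp : y.LiesOver p]
    (hsep : SepClosedAlong (Ideal.ResidueField.mapₐ p y (Algebra.ofId R D) hyp.over).toRingHom) :
    SepClosedAlong ((Spec.map (CommRingCat.ofHom (algebraMap R D))).residueFieldMap ⟨y, hy⟩).hom := by
  obtain rfl : p = y.comap (algebraMap R D) := hyp.over
  exact sepClosedAlong_residueFieldMap_spec (CommRingCat.ofHom (algebraMap R D)) ⟨y, hy⟩ hsep

/-- A smooth morphism has geometrically reduced fibres. -/
theorem geometricallyReduced_of_smooth {X S : Scheme.{u}} (f : X ⟶ S) [Smooth f] : GeometricallyReduced f := by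
  rw [GeometricallyReduced.eq_geometrically, geometrically_iff_of_isClosedUnderIsomorphisms]
  intro K _ a
  haveI : Smooth (pullback.snd f a) := MorphismProperty.pullback_snd _ _ inferInstance
  exact Groth.AlgGrp1.isReduced_of_smooth (pullback.snd f a)

/-- An open with surjective image of a geometrically irreducible smooth family has geometrically integral fibres. -/
theorem geometricallyIntegral_of_open {V U S : Scheme.{u}} (j : U ⟶ V) [IsOpenImmersion j] (f : V ⟶ S) [Smooth f]
    [GeometricallyIrreducible f] [Surjective (j ≫ f)] : GeometricallyIntegral (j ≫ f) := by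
  haveI := geometricallyReduced_of_smooth f
  refine ⟨fun K _ a Z fst snd hpb => ?_⟩
  haveI : IrreducibleSpace ↥(pullback f a) :=
    GeometricallyIrreducible.geometrically_irreducibleSpace _ _ _ (IsPullback.of_hasPullback f a)
  haveI : IsReduced (pullback f a) :=
    GeometricallyReduced.geometrically_isReduced _ _ _ (IsPullback.of_hasPullback f a)
  haveI : IsIntegral (pullback f a) := isIntegral_of_irreducibleSpace_of_isReduced _
  haveI : Surjective (pullback.snd (j ≫ f) a) := MorphismProperty.pullback_snd _ _ inferInstance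
  haveI : Nonempty ↥(pullback (j ≫ f) a) :=
    ((pullback.snd (j ≫ f) a).surjective (IsLocalRing.closedPoint K)).nonempty
  haveI : Nonempty ↥Z := ⟨hpb.isoPullback.inv.base (Classical.arbitrary _)⟩
  exact isIntegral_of_isOpenImmersion (hpb.isoPullback.hom ≫ (pullbackRightPullbackFstIso f a j).inv ≫ pullback.snd j (pullback.fst f a))

/-- **Geometrically integral fibres after an elementary étale localisation.** -/
theorem exists_geometricallyIntegral_nbhd {X S : Scheme.{u}} (h : X ⟶ S) [Smooth h] [QuasiCompact h] [QuasiSeparated h]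
    (x : X) (hsep : SepClosedAlong (h.residueFieldMap x).hom) :
    ∃ (S' : Scheme.{u}) (g : S' ⟶ S) (s' : S'), IsAffine S' ∧ Hens2.IsEtaleNbhd g s' (h.base x) ∧
      ∃ (U : (pullback h g).Opens) (x' : ↑(pullback h g)), IsAffineOpen U ∧ x' ∈ U ∧
        (pullback.fst h g).base x' = x ∧ (pullback.snd h g).base x' = s' ∧
        GeometricallyIntegral (U.ι ≫ pullback.snd h g) := by
  obtain ⟨s, hs⟩ : ∃ s, h.base x = s := ⟨_, rfl⟩
  haveI := geometricallyReduced_of_smooth h
  let k := IsLocalRing.ResidueField (S.presheaf.stalk s)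
  letI : (h.fiber s).Over (Spec (CommRingCat.of k)) := ⟨h.fiberToSpecResidueField s⟩
  haveI : LocallyOfFiniteType (h.fiberToSpecResidueField s) := MorphismProperty.pullback_snd _ _ inferInstance
  haveI : IsLocallyNoetherian (h.fiber s) := LocallyOfFiniteType.isLocallyNoetherian (h.fiberToSpecResidueField s)
  haveI := Groth.SGA7.IdComponent.locallyConnectedSpace (X := h.fiber s)
  obtain ⟨c, hc⟩ : x ∈ Set.range (h.fiberι s).base := by rw [Scheme.Hom.range_fiberι]; exact hs
  -- `k` is separably closed at `c`
  have hsepc : SepClosedAlong (Curv2.resMap k (h.fiber s) c) := by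
    subst hc
    refine hsep.congr ((S.residueFieldCongr (Groth.FibreDim.apply_fiberι h s c)).commRingCatIsoToRingEquiv).symm
      ((RingEquiv.ofBijective ((h.fiberι s).residueFieldMap c).hom
        (Groth.SpectralTopology.bijective_residueFieldMap (h.fiberι s) c))).symm fun r => ?_
    rw [RingEquiv.symm_apply_eq]
    obtain ⟨r, rfl⟩ := ((S.residueFieldCongr (Groth.FibreDim.apply_fiberι h s c)).commRingCatIsoToRingEquiv).surjective r
    erw [RingEquiv.symm_apply_apply]
    exact (congrArg (fun m => m.hom r) (Groth.GeomComp.residueFieldMap_fibre_eq h s c)).symm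
  let T : (h.fiber s).Opens := ⟨connectedComponent c, isOpen_connectedComponent⟩
  haveI : ConnectedSpace ↥(T : Scheme.{u}) := isConnected_iff_connectedSpace.mp isConnected_connectedComponent
  letI : (T : Scheme.{u}).Over (Spec (CommRingCat.of k)) := ⟨T.ι ≫ h.fiberToSpecResidueField s⟩
  let cT : (T : Scheme.{u}) := ⟨c, mem_connectedComponent⟩
  have hT : GeometricallyConnected (T.ι ≫ h.fiberToSpecResidueField s) := by
    show GeometricallyConnected ((T : Scheme.{u}) ↘ Spec (CommRingCat.of k))
    refine Groth.FBaseGeom.geometricallyConnected_of_sepClosedAt (k := k) (X := (T : Scheme.{u})) (x0 := cT) ?_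
    have h' : SepClosedAlong (Curv2.resMap k (T : Scheme.{u}) cT) := by
      refine hsepc.congr (RingEquiv.refl k) (RingEquiv.ofBijective (T.ι.residueFieldMap cT).hom
        (Groth.SpectralTopology.bijective_residueFieldMap T.ι cT)).symm fun r => ?_
      erw [RingEquiv.symm_apply_eq]
      have hcomp : CommRingCat.ofHom (Curv2.resMap k (T : Scheme.{u}) cT) =
          CommRingCat.ofHom (Curv2.resMap k (h.fiber s) c) ≫ T.ι.residueFieldMap cT := by
        apply Spec.map_injective
        rw [Spec.map_comp, ← Groth.VarietyBC.fromSpecResidueField_str (k := k) cT,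
          ← Groth.VarietyBC.fromSpecResidueField_str (k := k) c, ← Category.assoc]
        exact (congrArg (· ≫ _) (Scheme.Hom.SpecMap_residueFieldMap_fromSpecResidueField T.ι cT).symm).trans
          (by simp only [Category.assoc]; rfl)
      exact congrArg (fun m => m.hom r) hcomp
    intro a ha
    letI := Curv2.resAlgebra k (T : Scheme.{u}) cT
    exact h' a (minpoly k a) ha (minpoly.aeval k a)
  obtain ⟨S', g, s', hS', hnb, V, hVc, hVconn, hVfib⟩ := Groth.GeomComp.exists_etale_spread h s T hT
  haveI : Etale g := hnb.etale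
  haveI : Smooth (V.ι ≫ pullback.snd h g) := inferInstance
  haveI := hVconn
  haveI := Groth.SmoothWeil.geometricallyIrreducible_of_connected (V.ι ≫ pullback.snd h g)
  obtain ⟨x', hx'1, hx'2⟩ := Scheme.exists_preimage_of_isPullback (IsPullback.of_hasPullback h g) x s'
    (hs.trans hnb.base_eq.symm)
  have hx'V : x' ∈ V := (hVfib x' hx'2).mpr ⟨c, mem_connectedComponent, hc.trans hx'1.symm⟩
  haveI : IsAffine S' := hS'
  -- an affine open of `V` around the point and the base shrunk to its image
  obtain ⟨U, hU, hxU, hUV⟩ := exists_isAffineOpen_mem_and_subset (U := V) (x := x') hx'V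
  let p := U.ι ≫ pullback.snd h g
  haveI : Smooth p := inferInstance
  obtain ⟨W, hW, hs'W, hWsub⟩ := exists_isAffineOpen_mem_and_subset (x := s')
    (U := ⟨Set.range p.base, p.isOpenMap.isOpen_range⟩) ⟨⟨x', hxU⟩, hx'2⟩
  haveI : IsAffine (W : Scheme.{u}) := hW
  haveI : IsAffine (U : Scheme.{u}) := hU
  let U' : (U : Scheme.{u}).Opens := p ⁻¹ᵁ W
  have hU' : IsAffineOpen U' := hW.preimage p
  haveI : IsAffine (U' : Scheme.{u}) := hU'
  let f := pullback.snd (V.ι ≫ pullback.snd h g) W.ι
  let jv : (U' : Scheme.{u}) ⟶ pullback (V.ι ≫ pullback.snd h g) W.ι :=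
    pullback.lift (U'.ι ≫ (pullback h g).homOfLE hUV) (p ∣_ W) (by
      rw [morphismRestrict_ι, Category.assoc, Scheme.homOfLE_ι_assoc])
  haveI : IsOpenImmersion jv := by
    haveI : IsOpenImmersion (jv ≫ pullback.fst (V.ι ≫ pullback.snd h g) W.ι) := by
      rw [pullback.lift_fst]; infer_instance
    exact IsOpenImmersion.of_comp jv (pullback.fst (V.ι ≫ pullback.snd h g) W.ι)
  haveI : GeometricallyIrreducible f := MorphismProperty.pullback_snd _ _ inferInstance
  haveI : Smooth f := MorphismProperty.pullback_snd _ _ inferInstance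
  haveI : Surjective (jv ≫ f) := by
    rw [pullback.lift_snd]
    refine ⟨fun w => ?_⟩
    obtain ⟨t, ht⟩ := hWsub w.2
    refine ⟨⟨t, show p.base t ∈ W by rw [ht]; exact w.2⟩, W.ι.isOpenEmbedding.injective ?_⟩
    rw [← Scheme.Hom.comp_apply, morphismRestrict_ι]
    exact ht
  have hGI := geometricallyIntegral_of_open jv f
  rw [pullback.lift_snd] at hGI
  let j : (U' : Scheme.{u}) ⟶ pullback h (W.ι ≫ g) :=
    pullback.lift (U'.ι ≫ U.ι ≫ pullback.fst h g) (p ∣_ W) (by
      rw [morphismRestrict_ι_assoc, Category.assoc, Category.assoc, pullback.condition]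
      simp only [p, Category.assoc]
      rfl)
  let k₂ : pullback h (W.ι ≫ g) ⟶ pullback h g := pullback.map h (W.ι ≫ g) h g (𝟙 _) W.ι (𝟙 _)
    (by rw [Category.comp_id, Category.id_comp]) (by rw [Category.comp_id])
  have hjk : j ≫ k₂ = U'.ι ≫ U.ι := by
    apply pullback.hom_ext
    · simp only [Category.assoc, k₂, j, pullback.lift_fst, pullback.map, Category.comp_id]
    · simp only [Category.assoc, k₂, j, pullback.lift_snd, pullback.map, pullback.lift_snd_assoc]
      exact morphismRestrict_ι p W
  haveI : IsOpenImmersion k₂ :=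
    MorphismProperty.of_isPullback (P := @IsOpenImmersion)
      (IsPullback.flip (IsPullback.of_right (h₁₂ := pullback.fst h g) (h₂₂ := g) (v₁₃ := h)
        (by
          rw [show k₂ ≫ pullback.fst h g = pullback.fst h (W.ι ≫ g) from (pullback.lift_fst _ _ _).trans (Category.comp_id _)]
          exact IsPullback.of_hasPullback h (W.ι ≫ g))
        (pullback.lift_snd _ _ _) (IsPullback.of_hasPullback h g))) inferInstance
  haveI : IsOpenImmersion j := by
    haveI : IsOpenImmersion (j ≫ k₂) := by rw [hjk]; infer_instance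
    exact IsOpenImmersion.of_comp j k₂
  let t₀ : (U' : Scheme.{u}) := ⟨⟨x', hxU⟩, show p.base ⟨x', hxU⟩ ∈ W by
    rw [show p.base ⟨x', hxU⟩ = s' from hx'2]; exact hs'W⟩
  refine ⟨W, W.ι ≫ g, ⟨s', hs'W⟩, hW, ?_, j.opensRange, j.base t₀, isAffineOpen_opensRange j, ⟨t₀, rfl⟩, ?_, ?_, ?_⟩
  · refine ⟨inferInstance, by rw [Scheme.Hom.comp_apply, hs]; exact hnb.base_eq, ?_⟩
    show Function.Bijective ((W.ι ≫ g).residueFieldMap _).hom
    rw [Groth.SpectralTopology.hom_comp]
    exact (Groth.SpectralTopology.bijective_residueFieldMap W.ι _).comp hnb.residue_bijective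
  · rw [← Scheme.Hom.comp_apply, pullback.lift_fst]
    exact hx'1
  · rw [← Scheme.Hom.comp_apply, pullback.lift_snd]
    apply W.ι.isOpenEmbedding.injective
    rw [← Scheme.Hom.comp_apply, morphismRestrict_ι]
    exact hx'2
  · rw [← j.isoOpensRange_inv_comp, Category.assoc, pullback.lift_snd]
    exact (MorphismProperty.cancel_left_of_respectsIso (P := @GeometricallyIntegral) _ _).mpr hGI

/-- The point of a base change along a residually trivial point has trivial residue extension. -/
theorem bijective_residueFieldMap_fst {X S U : Scheme.{u}} (f : X ⟶ S) (g : U ⟶ S) (v : ↑(pullback f g))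
    (hb : Function.Bijective (g.residueFieldMap ((pullback.snd f g).base v))) :
    Function.Bijective ((pullback.fst f g).residueFieldMap v) := by
  refine ⟨((pullback.fst f g).residueFieldMap v).hom.injective, fun z => ?_⟩
  have htop := Groth.Flatmor4.eq_top_of_range_le v
    ((pullback.fst f g).residueFieldMap v).hom.fieldRange (fun a => ⟨a, rfl⟩) (fun a => ?_)
  · have hz := Subfield.mem_top z
    rw [← htop] at hz
    exact hz
  · obtain ⟨b, rfl⟩ := hb.2 a
    have hws : f (pullback.fst f g v) = g (pullback.snd f g v) :=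
      congr($(pullback.condition (f := f) (g := g)) v)
    refine ⟨((S.residueFieldCongr hws).inv ≫ f.residueFieldMap _) b, ?_⟩
    have hr : ((S.residueFieldCongr hws).inv ≫ f.residueFieldMap _) ≫
        (pullback.fst f g).residueFieldMap v =
        g.residueFieldMap _ ≫ (pullback.snd f g).residueFieldMap v := by
      simp only [Category.assoc]
      rw [← Scheme.residueFieldMap_comp, ← Scheme.residueFieldMap_comp,
        Scheme.Hom.residueFieldMap_congr pullback.condition]
      simp
    exact ConcreteCategory.congr_hom hr b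

set_option maxHeartbeats 1600000 in
/-- Ring form of `exists_geometricallyIntegral_nbhd`. -/
theorem exists_nbhd_geomIntegralFibres {R D : Type u} [CommRing R] [CommRing D] [Algebra R D] (n : ℕ)
    (hn : FlatCA.SmoothRelDim n R D) (p : Ideal R) [p.IsPrime] (y : Ideal D) [hy : y.IsPrime] [hyp : y.LiesOver p]
    (hsep : SepClosedAlong (Ideal.ResidueField.mapₐ p y (Algebra.ofId R D) hyp.over).toRingHom) :
    ∃ (R' : Type u) (_ : CommRing R') (_ : Algebra R R') (p' : Ideal R') (_ : p'.IsPrime),
      FlatCA.IsEtaleNhd R R' p p' ∧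
      ∃ (D' : Type u) (_ : CommRing D') (_ : Algebra R' D') (_ : Algebra D D') (_ : Algebra R D')
        (_ : IsScalarTower R R' D') (_ : IsScalarTower R D D'),
        IsOpenImmersion (Spec.map (CommRingCat.ofHom (Algebra.TensorProduct.lift (Algebra.ofId R' D')
          (IsScalarTower.toAlgHom R D D') fun _ _ => .all _ _ : R' ⊗[R] D →ₐ[R'] D').toRingHom)) ∧
        ∃ (y' : Ideal D') (_ : y'.IsPrime) (_ : y'.LiesOver y) (_ : y'.LiesOver p'),
          FlatCA.IsEtaleNhd D D' y y' ∧ FlatCA.GeomIntegralFibres R' D' ∧ FlatCA.SmoothRelDim n R' D' := by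
  let h := Spec.map (CommRingCat.ofHom (algebraMap R D))
  haveI : SmoothOfRelativeDimension n h := hn
  haveI : Smooth h := SmoothOfRelativeDimension.smooth n h
  obtain ⟨S', g, s', hS', hnb, U, x', hU, hxU, hx'1, hx'2, hGI⟩ :=
    exists_geometricallyIntegral_nbhd h ⟨y, hy⟩ (sepClosedAlong_residueFieldMap p y hsep)
  haveI : IsAffine S' := hS'
  haveI : IsAffine (U : Scheme.{u}) := hU
  haveI : Etale g := hnb.etale
  let R' : Type u := Γ(S', ⊤)
  let D' : Type u := Γ((U : Scheme.{u}), ⊤)
  let eS : S' ≅ Spec (CommRingCat.of R') := S'.isoSpec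
  let eU : (U : Scheme.{u}) ≅ Spec (CommRingCat.of D') := (U : Scheme.{u}).isoSpec
  let g' : Spec (CommRingCat.of R') ⟶ Spec (CommRingCat.of R) := eS.inv ≫ g
  let a : Spec (CommRingCat.of D') ⟶ Spec (CommRingCat.of D) := eU.inv ≫ U.ι ≫ pullback.fst h g
  let b : Spec (CommRingCat.of D') ⟶ Spec (CommRingCat.of R') := eU.inv ≫ U.ι ≫ pullback.snd h g ≫ eS.hom
  letI : Algebra R R' := (Spec.preimage g').hom.toAlgebra
  letI : Algebra R' D' := (Spec.preimage b).hom.toAlgebra
  letI : Algebra D D' := (Spec.preimage a).hom.toAlgebra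
  letI : Algebra R D' := ((algebraMap D D').comp (algebraMap R D)).toAlgebra
  haveI : IsScalarTower R D D' := .of_algebraMap_eq' rfl
  have hg' : Spec.map (CommRingCat.ofHom (algebraMap R R')) = g' := Spec.map_preimage _
  have ha : Spec.map (CommRingCat.ofHom (algebraMap D D')) = a := Spec.map_preimage _
  have hb : Spec.map (CommRingCat.ofHom (algebraMap R' D')) = b := Spec.map_preimage _
  have hab : a ≫ h = b ≫ g' := by
    simp only [a, b, g', Category.assoc, Iso.hom_inv_id_assoc, pullback.condition]
  haveI : IsScalarTower R R' D' := IsScalarTower.of_algebraMap_eq' (by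
    refine congrArg CommRingCat.Hom.hom (Spec.map_injective (?_ :
      Spec.map (CommRingCat.ofHom (algebraMap R D) ≫ CommRingCat.ofHom (algebraMap D D')) =
      Spec.map (CommRingCat.ofHom (algebraMap R R') ≫ CommRingCat.ofHom (algebraMap R' D'))))
    rw [Spec.map_comp, Spec.map_comp, hg', ha, hb]
    exact hab)
  let P' : Spec (CommRingCat.of R') := eS.hom.base s'
  let Y' : Spec (CommRingCat.of D') := eU.hom.base ⟨x', hxU⟩
  have hP' : g'.base P' = h.base ⟨y, hy⟩ := by
    show (eS.hom ≫ eS.inv ≫ g).base s' = _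
    rw [Iso.hom_inv_id_assoc]; exact hnb.base_eq
  have hgP : Function.Bijective (g'.residueFieldMap P').hom := by
    have e1 : eS.inv.base P' = s' := Scheme.hom_inv_apply eS s'
    show Function.Bijective ((eS.inv ≫ g).residueFieldMap P').hom
    rw [Groth.SpectralTopology.hom_comp]
    have key : ∀ v, v = s' → Function.Bijective (g.residueFieldMap v).hom := by
      rintro v rfl; exact hnb.residue_bijective
    exact (Groth.SpectralTopology.bijective_residueFieldMap eS.inv _).comp (key _ e1)
  have haY : a.base Y' = ⟨y, hy⟩ := by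
    show (eU.hom ≫ eU.inv ≫ U.ι ≫ pullback.fst h g).base ⟨x', hxU⟩ = _
    rw [Iso.hom_inv_id_assoc]; exact hx'1
  have hbY : b.base Y' = P' := by
    show (eU.hom ≫ eU.inv ≫ U.ι ≫ pullback.snd h g ≫ eS.hom).base ⟨x', hxU⟩ = eS.hom.base s'
    rw [Iso.hom_inv_id_assoc]; exact congrArg eS.hom.base hx'2
  have haY' : Function.Bijective (a.residueFieldMap Y').hom := by
    have e1 : eU.inv.base Y' = ⟨x', hxU⟩ := Scheme.hom_inv_apply eU _
    show Function.Bijective ((eU.inv ≫ U.ι ≫ pullback.fst h g).residueFieldMap Y').hom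
    rw [Groth.SpectralTopology.hom_comp, Groth.SpectralTopology.hom_comp]
    refine (Groth.SpectralTopology.bijective_residueFieldMap eU.inv _).comp
      ((Groth.SpectralTopology.bijective_residueFieldMap U.ι _).comp ?_)
    have key : ∀ v : ↑(pullback h g), v = x' → Function.Bijective ((pullback.fst h g).residueFieldMap v) := by
      rintro v rfl
      exact bijective_residueFieldMap_fst h g _ (hx'2.symm ▸ hnb.residue_bijective)
    exact key _ (congrArg U.ι.base e1)
  haveI hp'over : P'.asIdeal.LiesOver p := ⟨by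
    have := congrArg PrimeSpectrum.asIdeal hP'
    rw [← hg'] at this
    rw [hyp.over]
    exact this.symm⟩
  haveI hy'y : Y'.asIdeal.LiesOver y := ⟨by
    have := congrArg PrimeSpectrum.asIdeal haY
    rw [← ha] at this
    exact this.symm⟩
  haveI hy'p : Y'.asIdeal.LiesOver P'.asIdeal := ⟨by
    have := congrArg PrimeSpectrum.asIdeal hbY
    rw [← hb] at this
    exact this.symm⟩
  refine ⟨R', inferInstance, inferInstance, P'.asIdeal, P'.2, ⟨?_, hp'over, ?_⟩, D', inferInstance, inferInstance,
    inferInstance, inferInstance, inferInstance, inferInstance, ?_, Y'.asIdeal, Y'.2, hy'y, hy'p, ⟨?_, hy'y, ?_⟩, ?_, ?_⟩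
  · haveI : Etale g' := inferInstanceAs (Etale (eS.inv ≫ g))
    exact RingHom.etale_algebraMap.mp ((HasRingHomProperty.Spec_iff (P := @Etale)).mp (hg'.symm ▸ inferInstance))
  · have key := bijective_map_of_residueFieldMap (CommRingCat.ofHom (algebraMap R R')) P' (by rw [hg']; exact hgP)
    have e : ((Spec.map (CommRingCat.ofHom (algebraMap R R'))).base P').asIdeal = p := hp'over.over.symm
    revert key
    subst e
    exact id
  · let i : pullback h g ⟶ pullback (Spec.map (CommRingCat.ofHom (algebraMap R R'))) h :=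
      pullback.lift (pullback.snd h g ≫ eS.hom) (pullback.fst h g) (by
        rw [hg', Category.assoc, Iso.hom_inv_id_assoc, pullback.condition])
    haveI : IsIso i := by
      refine ⟨pullback.lift (pullback.snd _ _) (pullback.fst _ _ ≫ eS.inv) (by
        rw [← pullback.condition, hg', Category.assoc]), ?_, ?_⟩ <;>
      · apply pullback.hom_ext <;>
          simp only [i, Category.assoc, pullback.lift_fst, pullback.lift_snd, pullback.lift_fst_assoc,
            pullback.lift_snd_assoc, Category.id_comp, Iso.hom_inv_id, Iso.inv_hom_id, Category.comp_id]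
    let L : R' ⊗[R] D →ₐ[R'] D' := Algebra.TensorProduct.lift (Algebra.ofId R' D')
      (IsScalarTower.toAlgHom R D D') fun _ _ => .all _ _
    have hL1 : L.toRingHom.comp (Algebra.TensorProduct.includeLeftRingHom (R := R) (A := R') (B := D)) = algebraMap R' D' :=
      RingHom.ext fun r => by
        show L (r ⊗ₜ[R] (1 : D)) = _
        simp only [L, Algebra.TensorProduct.lift_tmul, map_one, mul_one]
        rfl
    have hL2 : L.toRingHom.comp (Algebra.TensorProduct.includeRight (R := R) (A := R') (B := D)).toRingHom = algebraMap D D' :=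
      RingHom.ext fun r => by
        show L ((1 : R') ⊗ₜ[R] r) = _
        simp only [L, Algebra.TensorProduct.lift_tmul, map_one, one_mul]
        rfl
    have e : Spec.map (CommRingCat.ofHom (Algebra.TensorProduct.lift (Algebra.ofId R' D')
          (IsScalarTower.toAlgHom R D D') fun _ _ => .all _ _ : R' ⊗[R] D →ₐ[R'] D').toRingHom) =
        eU.inv ≫ U.ι ≫ i ≫ (pullbackSpecIso R R' D).hom := by
      rw [← cancel_mono (pullbackSpecIso R R' D).inv]
      simp only [Category.assoc, Iso.hom_inv_id, Category.comp_id]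
      apply pullback.hom_ext
      · rw [Category.assoc, pullbackSpecIso_inv_fst, ← Spec.map_comp]
        refine Eq.trans (congrArg Spec.map (CommRingCat.hom_ext hL1)) ?_
        rw [Spec.map_preimage]
        simp [i, b]
        exact congrArg (U.ι ≫ ·) (pullback.lift_fst _ _ _).symm
      · rw [Category.assoc, pullbackSpecIso_inv_snd, ← Spec.map_comp]
        refine Eq.trans (congrArg Spec.map (CommRingCat.hom_ext hL2)) ?_
        rw [Spec.map_preimage]
        simp [i, a]
        exact congrArg (U.ι ≫ ·) (pullback.lift_snd _ _ _).symm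
    rw [e]
    infer_instance
  · haveI : Etale a := inferInstanceAs (Etale (eU.inv ≫ U.ι ≫ pullback.fst h g))
    exact RingHom.etale_algebraMap.mp ((HasRingHomProperty.Spec_iff (P := @Etale)).mp (ha.symm ▸ inferInstance))
  · have key := bijective_map_of_residueFieldMap (CommRingCat.ofHom (algebraMap D D')) Y' (by rw [ha]; exact haY')
    have e : ((Spec.map (CommRingCat.ofHom (algebraMap D D'))).base Y').asIdeal = y := hy'y.over.symm
    revert key
    subst e
    exact id
  · show GeometricallyIntegral (Spec.map (CommRingCat.ofHom (algebraMap R' D')))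
    rw [hb]
    refine (MorphismProperty.cancel_left_of_respectsIso (P := @GeometricallyIntegral) eU.inv _).mpr ?_
    rw [← Category.assoc]
    exact (MorphismProperty.cancel_right_of_respectsIso (P := @GeometricallyIntegral) _ eS.hom).mpr hGI
  · show SmoothOfRelativeDimension n (Spec.map (CommRingCat.ofHom (algebraMap R' D')))
    rw [hb]
    refine (MorphismProperty.cancel_left_of_respectsIso (P := @SmoothOfRelativeDimension n) eU.inv _).mpr ?_
    rw [← Category.assoc]
    refine (MorphismProperty.cancel_right_of_respectsIso (P := @SmoothOfRelativeDimension n) _ eS.hom).mpr ?_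
    haveI := smoothOfRelativeDimension_isStableUnderBaseChange (n := n)
    haveI : SmoothOfRelativeDimension n (pullback.snd h g) := MorphismProperty.pullback_snd _ _ hn
    exact (Nat.zero_add n) ▸ (smoothOfRelativeDimension_comp (n := 0) (m := n) (f := U.ι) (pullback.snd h g))

end Groth.RaynaudGruson.GeomIntegralNbhd
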