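import Groth.Agent.GenericFree.Presentation
import Mathlib

/-!
Over an open set of an irreducible base, every point of a finite type scheme specialises from the generic fibre.
-/

set_option autoImplicit false
universe u

open AlgebraicGeometry CategoryTheory Limits TopologicalSpace

namespace Groth.RaynaudGruson

theorem exists_forall_exists_le_over_nilradical {A B : Type u} [CommRing A] [CommRing B] [Algebra A B]
    [Algebra.FiniteType A B] [(nilradical A).IsPrime] :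
    ∃ g : A, g ∉ nilradical A ∧ ∀ P : Ideal B, P.IsPrime → algebraMap A B g ∉ P →
      ∃ Q : Ideal B, Q.IsPrime ∧ Q ≤ P ∧ Q.comap (algebraMap A B) = nilradical A := by
  let A₁ := A ⧸ nilradical A
  let B₁ := B ⧸ (nilradical A).map (algebraMap A B)
  haveI : Algebra.FiniteType A B₁ := Algebra.FiniteType.of_surjective (Ideal.Quotient.mkₐ A _) (Ideal.Quotient.mkₐ_surjective A _)
  haveI : Algebra.FiniteType A₁ B₁ := Algebra.FiniteType.of_restrictScalars_finiteType A A₁ B₁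
  obtain ⟨f, hf, -, htor⟩ := (Groth.GenericFree.gf_of_finiteType (R := A₁) B₁ B₁).exists_free
  obtain ⟨g, rfl⟩ := Ideal.Quotient.mk_surjective f
  refine ⟨g, fun h => hf (Ideal.Quotient.eq_zero_iff_mem.mpr h), fun P hP hgP => ?_⟩
  obtain ⟨Q, hQ, hQP⟩ := Ideal.exists_minimalPrimes_le (I := (⊥ : Ideal B)) (J := P) bot_le
  haveI := hQ.1.1
  refine ⟨Q, inferInstance, hQP, le_antisymm (fun r hr => ?_) (nilradical_le_prime _)⟩
  by_contra hrn
  obtain ⟨n, s, hs, hsr⟩ : ∃ (n : ℕ) (s : B), s ∉ Q ∧ s * algebraMap A B r ^ n = 0 := by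
    by_contra! hcon
    have hr0 : algebraMap A B r ∈ Q := hr
    obtain ⟨W, hW, hWQ, hdis⟩ := Ideal.exists_le_prime_disjoint (⊥ : Ideal B)
      (Q.primeCompl ⊔ Submonoid.powers (algebraMap A B r)) (Set.disjoint_left.mpr (by
        intro x hx hx'
        obtain ⟨s, hs, _, ⟨n, rfl⟩, hx''⟩ := Submonoid.mem_sup.mp hx'
        exact hcon n s hs (hx''.trans ((Submodule.mem_bot B).mp hx))))
    have hWleQ : W ≤ Q := fun x hx => by
      by_contra h
      exact Set.disjoint_left.mp hdis hx (Submonoid.mem_sup_left h)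
    exact Set.disjoint_left.mp hdis (hQ.2 ⟨hW, bot_le⟩ hWleQ hr0)
      (Submonoid.mem_sup_right (Submonoid.mem_powers _))
  obtain ⟨k, hk⟩ := htor ((Ideal.Quotient.mk (nilradical A) r) ^ n) (Ideal.Quotient.mk _ s)
    (pow_ne_zero _ fun h => hrn (Ideal.Quotient.eq_zero_iff_mem.mp h)) (by
      rw [← map_pow, Algebra.smul_def, Ideal.Quotient.algebraMap_quotient_map_quotient, ← map_mul,
        mul_comm, map_pow, hsr, map_zero])
  rw [← map_pow, Algebra.smul_def, Ideal.Quotient.algebraMap_quotient_map_quotient, ← map_mul,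
    Ideal.Quotient.eq_zero_iff_mem] at hk
  have hle : (nilradical A).map (algebraMap A B) ≤ Q :=
    Ideal.map_le_iff_le_comap.mpr (nilradical_le_prime _)
  rcases Ideal.IsPrime.mem_or_mem inferInstance (hle hk) with h | h
  · rw [map_pow] at h
    exact hgP (hQP (Ideal.IsPrime.mem_of_pow_mem inferInstance k h))
  · exact hs h

theorem exists_open_generalizing {X Y : Scheme.{u}} (f : X ⟶ Y) [IrreducibleSpace ↑Y] [LocallyOfFiniteType f]
    [QuasiCompact f] :
    ∃ V : Y.Opens, (V : Set ↑Y).Nonempty ∧ ∀ x : X, f.base x ∈ V → ∃ z : X, z ⤳ x ∧ f.base z = genericPoint ↑Y := by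
  classical
  obtain ⟨U, hU, hη, -⟩ := TopologicalSpace.Opens.isBasis_iff_nbhd.1 Y.isBasis_affineOpens
    (TopologicalSpace.Opens.mem_top (genericPoint ↑Y))
  obtain ⟨S, hS, hcover⟩ := isCompact_iff_finite_and_eq_biUnion_affineOpens.mp (f.isCompact_preimage hU.isCompact)
  haveI : Nonempty U := ⟨⟨_, hη⟩⟩
  replace hU : IsAffineOpen U := hU
  let p₀ := hU.primeIdealOf ⟨genericPoint ↑Y, hη⟩
  have hp₀η : hU.fromSpec p₀ = genericPoint ↑Y := hU.fromSpec_primeIdealOf ⟨genericPoint ↑Y, hη⟩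
  have hp₀ : p₀.asIdeal = nilradical Γ(Y, U) := le_antisymm (by
    rw [nilradical_eq_sInf]
    refine le_sInf fun q hq => ?_
    have hs : genericPoint ↑Y ⤳ hU.fromSpec ⟨q, hq⟩ := (genericPoint_spec ↑Y).specializes trivial
    rw [← hp₀η] at hs
    exact (PrimeSpectrum.le_iff_specializes p₀ ⟨q, hq⟩).mpr (hU.fromSpec.isOpenEmbedding.isInducing.specializes_iff.mp hs))
    (nilradical_le_prime _)
  haveI : (nilradical Γ(Y, U)).IsPrime := hp₀ ▸ p₀.isPrime
  have key : ∀ W : X.affineOpens, W.1 ≤ f ⁻¹ᵁ U → ∃ g : Γ(Y, U), g ∉ nilradical Γ(Y, U) ∧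
      ∀ x ∈ W.1, f.base x ∈ Y.basicOpen g → ∃ z : X, z ⤳ x ∧ f.base z = genericPoint ↑Y := fun W hW => by
    letI := (f.appLE U W.1 hW).hom.toAlgebra
    haveI : Algebra.FiniteType Γ(Y, U) Γ(X, W.1) := f.finiteType_appLE hU W.2 hW
    obtain ⟨g, hg, hgen⟩ := exists_forall_exists_le_over_nilradical (A := Γ(Y, U)) (B := Γ(X, W.1))
    refine ⟨g, hg, fun x hx hxg => ?_⟩
    have hW2 : IsAffineOpen W.1 := W.2
    let P := hW2.primeIdealOf ⟨x, hx⟩
    have hPx : hW2.fromSpec P = x := hW2.fromSpec_primeIdealOf ⟨x, hx⟩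
    have hcomm : ∀ Q : PrimeSpectrum Γ(X, W.1),
        f.base (hW2.fromSpec Q) = hU.fromSpec ⟨Q.asIdeal.comap (algebraMap Γ(Y, U) Γ(X, W.1)), inferInstance⟩ := fun Q =>
      (congrArg (fun k : Spec Γ(X, W.1) ⟶ Y => k.base Q) (hU.SpecMap_appLE_fromSpec f hW2 hW)).symm
    have hgP : algebraMap Γ(Y, U) Γ(X, W.1) g ∉ P.asIdeal := fun h => by
      rw [← hPx, hcomm, ← SetLike.mem_coe] at hxg
      have : (⟨P.asIdeal.comap (algebraMap Γ(Y, U) Γ(X, W.1)), inferInstance⟩ : PrimeSpectrum Γ(Y, U)) ∈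
          hU.fromSpec ⁻¹ᵁ Y.basicOpen g := hxg
      rw [hU.fromSpec_preimage_basicOpen] at this
      exact this h
    obtain ⟨Q, hQ, hQP, hQc⟩ := hgen P.asIdeal P.isPrime hgP
    refine ⟨hW2.fromSpec ⟨Q, hQ⟩, ?_, ?_⟩
    · rw [← hPx]
      exact ((PrimeSpectrum.le_iff_specializes ⟨Q, hQ⟩ P).mp hQP).map hW2.fromSpec.continuous
    · rw [hcomm]
      have : (⟨Q.comap (algebraMap Γ(Y, U) Γ(X, W.1)), inferInstance⟩ : PrimeSpectrum Γ(Y, U)) = p₀ :=
        PrimeSpectrum.ext (hQc.trans hp₀.symm)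
      rw [this, hp₀η]
  have hle : ∀ W ∈ S, W.1 ≤ f ⁻¹ᵁ U := fun W hW => by
    intro x hx
    rw [hcover]
    exact TopologicalSpace.Opens.mem_iSup.mpr ⟨W, TopologicalSpace.Opens.mem_iSup.mpr ⟨hW, hx⟩⟩
  choose g hg hgood using fun W : hS.toFinset => key W.1 (hle _ (hS.mem_toFinset.mp W.2))
  refine ⟨Y.basicOpen (∏ W, g W), ⟨genericPoint ↑Y, ?_⟩, fun x hx => ?_⟩
  · have : p₀ ∈ hU.fromSpec ⁻¹ᵁ Y.basicOpen (∏ W, g W) := by
      rw [hU.fromSpec_preimage_basicOpen]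
      show ∏ W, g W ∉ p₀.asIdeal
      rw [hp₀, (inferInstance : (nilradical Γ(Y, U)).IsPrime).prod_mem_iff]
      rintro ⟨W, -, hW⟩
      exact hg W hW
    show genericPoint ↑Y ∈ Y.basicOpen (∏ W, g W)
    rw [← hp₀η]
    exact this
  · have hxU : x ∈ f ⁻¹ᵁ U := Y.basicOpen_le _ hx
    rw [hcover] at hxU
    obtain ⟨W, hxU⟩ := TopologicalSpace.Opens.mem_iSup.mp hxU
    obtain ⟨hW, hxW⟩ := TopologicalSpace.Opens.mem_iSup.mp hxU
    refine hgood ⟨W, hS.mem_toFinset.mpr hW⟩ x hxW ?_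
    rw [← Finset.mul_prod_erase _ _ (Finset.mem_univ (⟨W, hS.mem_toFinset.mpr hW⟩ : hS.toFinset)), Y.basicOpen_mul] at hx
    exact hx.1

end Groth.RaynaudGruson
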