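import Mathlib

/-!
An absolutely irreducible polynomial has irreducible specializations over a dense open of the base.
-/

set_option autoImplicit false
universe u

namespace Groth.RaynaudGruson

open MvPolynomial

/-- Over a field, a factor of a polynomial of degree `≤ d` is supported in degrees `≤ d`. -/
theorem totalDegree_le_of_mul {κ : Type u} [Field κ] {σ : Type*} {a b P : MvPolynomial σ κ} (h : P = a * b)
    (hP : P ≠ 0) {d : ℕ} (hd : P.totalDegree ≤ d) : a.totalDegree ≤ d ∧ b.totalDegree ≤ d := by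
  have ha : a ≠ 0 := fun h0 => hP (by rw [h, h0, zero_mul])
  have hb : b ≠ 0 := fun h0 => hP (by rw [h, h0, mul_zero])
  have := MvPolynomial.totalDegree_mul_of_isDomain ha hb
  rw [← h] at this
  omega

theorem exists_coeff_ne_zero_of_not_isUnit {κ : Type u} [Field κ] {σ : Type*} {a : MvPolynomial σ κ} (ha : a ≠ 0)
    (hu : ¬ IsUnit a) : ∃ m, m ≠ 0 ∧ coeff m a ≠ 0 := by
  by_contra! hcon
  refine hu (MvPolynomial.isUnit_iff.mpr ⟨isUnit_iff_ne_zero.mpr fun h0 => ha ?_, fun i hi => by simp [hcon i hi]⟩)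
  ext m
  by_cases hm : m = 0
  · simp [hm, h0]
  · simp [hcon m hm]

/-- The general polynomial supported in a finite set of monomials. -/
noncomputable def genPoly {R : Type*} [CommRing R] {σ : Type*} (S : Finset (σ →₀ ℕ)) (c : S → R) : MvPolynomial σ R :=
  ∑ s : S, monomial s.1 (c s)

theorem coeff_genPoly {R : Type*} [CommRing R] {σ : Type*} (S : Finset (σ →₀ ℕ)) (c : S → R) (m : σ →₀ ℕ) (hm : m ∈ S) :
    coeff m (genPoly S c) = c ⟨m, hm⟩ := by
  classical
  rw [genPoly, coeff_sum, Finset.sum_eq_single (⟨m, hm⟩ : S)]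
  · simp
  · intro b _ hb
    rw [coeff_monomial, if_neg fun h => hb (Subtype.ext h)]
  · simp

theorem map_genPoly {R R' : Type*} [CommRing R] [CommRing R'] {σ : Type*} (S : Finset (σ →₀ ℕ)) (c : S → R)
    (φ : R →+* R') : MvPolynomial.map φ (genPoly S c) = genPoly S (fun s => φ (c s)) := by
  simp [genPoly, map_sum, map_monomial]

theorem genPoly_coeff {R : Type*} [CommRing R] {σ : Type*} (S : Finset (σ →₀ ℕ)) (a : MvPolynomial σ R)
    (ha : a.support ⊆ S) : genPoly S (fun s => coeff s.1 a) = a := by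
  classical
  ext m
  by_cases hm : m ∈ S
  · rw [coeff_genPoly S _ m hm]
  · rw [genPoly, coeff_sum, show coeff m a = 0 from notMem_support_iff.mp fun h => hm (ha h)]
    exact Finset.sum_eq_zero fun b _ => by rw [coeff_monomial, if_neg fun h : b.1 = m => hm (h ▸ b.2)]

theorem exists_point_of_field_point {V : Type} [Finite V] {L F Ω : Type u} [Field L] [Field F] [Field Ω]
    [Algebra L F] [Algebra L Ω] [IsAlgClosed Ω] (z : V → F) :
    ∃ w : V → Ω, ∀ x : MvPolynomial V L, aeval z x = 0 → aeval w x = 0 := by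
  let J : Ideal (MvPolynomial V L) := RingHom.ker (aeval (R := L) z)
  haveI : J.IsPrime := RingHom.ker_isPrime _
  obtain ⟨μ, hμ, hle⟩ := Ideal.exists_le_maximal J ‹J.IsPrime›.ne_top
  haveI : Module.Finite L (MvPolynomial V L ⧸ μ) := by
    letI : Field (MvPolynomial V L ⧸ μ) := Ideal.Quotient.field μ
    exact finite_of_finite_type_of_isJacobsonRing L (MvPolynomial V L ⧸ μ)
  letI : Field (MvPolynomial V L ⧸ μ) := Ideal.Quotient.field μ
  let g : (MvPolynomial V L ⧸ μ) →ₐ[L] Ω := IsAlgClosed.lift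
  refine ⟨fun v => g (Ideal.Quotient.mkₐ L μ (X v)), fun x hx => ?_⟩
  have : (g.comp (Ideal.Quotient.mkₐ L μ)) = aeval fun v => g (Ideal.Quotient.mkₐ L μ (X v)) := by
    refine MvPolynomial.algHom_ext fun v => ?_
    simp
  rw [← this]
  show g (Ideal.Quotient.mk μ x) = 0
  rw [Ideal.Quotient.eq_zero_iff_mem.mpr (hle hx), map_zero]

theorem exists_field_hom_of_prime {R : Type u} [CommRing R] (Q : Ideal R) [Q.IsPrime] :
    ∃ (F : Type u) (_ : Field F) (f : R →+* F), ∀ x, f x = 0 ↔ x ∈ Q :=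
  ⟨Q.ResidueField, inferInstance, algebraMap R Q.ResidueField, fun _ => Ideal.algebraMap_residueField_eq_zero⟩

theorem exists_eval_of_field_hom {V : Type} [Finite V] {A L Ω F : Type u} [CommRing A] [IsDomain A] [Field L]
    [Algebra A L] [IsFractionRing A L] [Field Ω] [Algebra L Ω] [IsAlgClosed Ω] [Algebra A Ω] [IsScalarTower A L Ω]
    [Field F] (evF : MvPolynomial V A →+* F) (hinj : Function.Injective (evF.comp MvPolynomial.C)) :
    ∃ w : V → Ω, ∀ x, evF x = 0 → eval₂Hom (algebraMap A Ω) w x = 0 := by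
  letI : Algebra L F := (IsFractionRing.lift (K := L) hinj).toAlgebra
  obtain ⟨w, hw⟩ := exists_point_of_field_point (L := L) (Ω := Ω) (fun v => evF (X v))
  refine ⟨w, fun x hx => ?_⟩
  have h1 : MvPolynomial.aeval w (MvPolynomial.map (algebraMap A L) x) = eval₂Hom (algebraMap A Ω) w x := by
    rw [MvPolynomial.aeval_def, MvPolynomial.eval₂_map, ← IsScalarTower.algebraMap_eq]
    rfl
  rw [← h1]
  refine hw _ ?_
  rw [MvPolynomial.aeval_def, MvPolynomial.eval₂_map]
  have h2 : eval₂Hom ((algebraMap L F).comp (algebraMap A L)) (fun v => evF (X v)) = evF := by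
    refine MvPolynomial.ringHom_ext (fun r => ?_) fun v => ?_
    · rw [eval₂Hom_C, RingHom.comp_apply, RingHom.algebraMap_toAlgebra]
      exact IsFractionRing.lift_algebraMap (K := L) hinj r
    · rw [eval₂Hom_X']
  exact (RingHom.congr_fun h2 x).trans hx

theorem exists_eval_of_forall_C_notMem {V : Type} [Finite V] {A L Ω : Type u} [CommRing A] [IsDomain A] [Field L]
    [Algebra A L] [IsFractionRing A L] [Field Ω] [Algebra L Ω] [IsAlgClosed Ω] [Algebra A Ω] [IsScalarTower A L Ω]
    (J : Ideal (MvPolynomial V A)) (hex : ∀ r : A, r ≠ 0 → MvPolynomial.C r ∉ J) :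
    ∃ w : V → Ω, ∀ x ∈ J, eval₂Hom (algebraMap A Ω) w x = 0 := by
  obtain ⟨Q, hQ, hJQ, hdis⟩ := Ideal.exists_le_prime_disjoint J
    ((nonZeroDivisors A).map (MvPolynomial.C : A →+* MvPolynomial V A)) (Set.disjoint_left.mpr (by
      rintro _ hx ⟨r, hr, rfl⟩; exact hex r (nonZeroDivisors.ne_zero hr) hx))
  obtain ⟨F, _, evF, hev⟩ := exists_field_hom_of_prime Q
  have hinj : Function.Injective (evF.comp (MvPolynomial.C (σ := V))) := by
    refine (injective_iff_map_eq_zero _).mpr fun x hx => ?_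
    by_contra hx0
    exact Set.disjoint_left.mp hdis ((hev _).mp hx) ⟨x, mem_nonZeroDivisors_of_ne_zero hx0, rfl⟩
  obtain ⟨w, hw⟩ := exists_eval_of_field_hom (L := L) (Ω := Ω) evF hinj
  exact ⟨w, fun x hx => hw x ((hev x).mpr (hJQ hx))⟩

theorem exists_irreducible_specializations' {A Ω : Type u} [CommRing A] [IsDomain A] [Field Ω] [IsAlgClosed Ω]
    [Algebra A Ω] (hinj : Function.Injective (algebraMap A Ω)) {n : ℕ}
    (P : MvPolynomial (Fin n) A) (hP : Irreducible (MvPolynomial.map (algebraMap A Ω) P)) :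
    ∃ r : A, r ≠ 0 ∧ ∀ (κ : Type u) [Field κ] (φ : A →+* κ), φ r ≠ 0 → Irreducible (MvPolynomial.map φ P) := by
  classical
  letI : Algebra (FractionRing A) Ω := (IsFractionRing.lift (K := FractionRing A) hinj).toAlgebra
  haveI : IsScalarTower A (FractionRing A) Ω := IsScalarTower.of_algebraMap_eq fun r =>
    (IsFractionRing.lift_algebraMap (K := FractionRing A) hinj r).symm
  let ι := algebraMap A Ω
  obtain ⟨m₀, hm₀, hc₀⟩ := exists_coeff_ne_zero_of_not_isUnit hP.ne_zero hP.not_isUnit
  rw [coeff_map] at hc₀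
  let d := P.totalDegree
  let S : Finset (Fin n →₀ ℕ) :=
    (Finset.Iic (Finsupp.equivFunOnFinite.symm fun _ => d)).filter fun m => m.degree ≤ d
  have hS : ∀ {R : Type u} [CommRing R] (a : MvPolynomial (Fin n) R), a.totalDegree ≤ d → a.support ⊆ S := by
    intro R _ a ha m hm
    have hdeg : m.degree ≤ d := by
      rw [Finsupp.degree_eq_sum]
      have := (le_totalDegree hm).trans ha
      rwa [Finsupp.sum_fintype _ _ (fun _ => rfl)] at this
    refine Finset.mem_filter.mpr ⟨Finset.mem_Iic.mpr fun i => ?_, hdeg⟩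
    simpa using (Finsupp.le_degree i m).trans hdeg
  let V := (S ⊕ S) ⊕ Unit
  let Qu : MvPolynomial (Fin n) (MvPolynomial V A) := genPoly S fun s => X (.inl (.inl s))
  let Ru : MvPolynomial (Fin n) (MvPolynomial V A) := genPoly S fun s => X (.inl (.inr s))
  let D : MvPolynomial (Fin n) (MvPolynomial V A) := Qu * Ru - MvPolynomial.map (MvPolynomial.C) P
  have key : ∀ p : S × S, ∃ r : A, r ≠ 0 ∧ (p.1.1 ≠ 0 → p.2.1 ≠ 0 → ∀ (κ : Type u) [Field κ] (φ : A →+* κ), φ r ≠ 0 →
      ∀ a b : MvPolynomial (Fin n) κ, MvPolynomial.map φ P = a * b → a.totalDegree ≤ d → b.totalDegree ≤ d →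
        coeff p.1.1 a * coeff p.2.1 b = 0) := by
    rintro ⟨m, m'⟩
    let J : Ideal (MvPolynomial V A) := Ideal.span
      (Set.range (fun x => coeff x D) ∪ {X (.inr ()) * (X (.inl (.inl m)) * X (.inl (.inr m'))) - 1})
    by_cases hex : ∃ r : A, r ≠ 0 ∧ MvPolynomial.C r ∈ J
    · obtain ⟨r, hr, hrJ⟩ := hex
      refine ⟨r, hr, fun _ _ κ _ φ hφ a b hab ha hb => ?_⟩
      by_contra hne
      let ev : MvPolynomial V A →+* κ := eval₂Hom φ
        (Sum.elim (Sum.elim (fun s => coeff s.1 a) (fun s => coeff s.1 b))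
          fun _ => (coeff m.1 a * coeff m'.1 b)⁻¹)
      have hD : MvPolynomial.map ev D = 0 := by
        rw [map_sub, map_mul, map_genPoly, map_genPoly, MvPolynomial.map_map]
        have e1 : genPoly S (fun s => ev (X (.inl (.inl s)))) = a := by
          simpa [ev] using genPoly_coeff S a (hS a ha)
        have e2 : genPoly S (fun s => ev (X (.inl (.inr s)))) = b := by
          simpa [ev] using genPoly_coeff S b (hS b hb)
        rw [e1, e2, ← hab, sub_eq_zero]
        rw [show ev.comp MvPolynomial.C = φ from RingHom.ext fun x => eval₂_C φ _ x]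
      have hJ : J ≤ RingHom.ker ev := Ideal.span_le.mpr (by
        rintro x (⟨y, rfl⟩ | rfl)
        · show ev (coeff y D) = 0
          rw [← coeff_map, hD, coeff_zero]
        · show ev _ = 0
          rw [map_sub, map_mul, map_mul, map_one]
          simp only [ev, eval₂Hom_X', Sum.elim_inr, Sum.elim_inl]
          rw [inv_mul_cancel₀ hne, sub_self])
      exact hφ ((eval₂_C φ _ r).symm.trans (hJ hrJ))
    · refine ⟨1, one_ne_zero, fun hm hm' => ?_⟩
      exfalso
      push Not at hex
      obtain ⟨w, hzero⟩ := exists_eval_of_forall_C_notMem (L := FractionRing A) (Ω := Ω) J hex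
      let evΩ : MvPolynomial V A →+* Ω := eval₂Hom ι w
      have hC : evΩ.comp MvPolynomial.C = ι := RingHom.ext fun r => eval₂_C ι w r
      let a : MvPolynomial (Fin n) Ω := genPoly S fun s => evΩ (X (.inl (.inl s)))
      let b : MvPolynomial (Fin n) Ω := genPoly S fun s => evΩ (X (.inl (.inr s)))
      have hab : MvPolynomial.map ι P = a * b := by
        have hD : MvPolynomial.map evΩ D = 0 := by
          ext x
          rw [coeff_map, hzero _ (Ideal.subset_span (Or.inl ⟨x, rfl⟩)), coeff_zero]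
        rw [map_sub, map_mul, map_genPoly, map_genPoly, MvPolynomial.map_map, hC, sub_eq_zero] at hD
        exact hD.symm
      have hone : evΩ (X (.inr ())) * (evΩ (X (.inl (.inl m))) * evΩ (X (.inl (.inr m')))) = 1 := by
        have := hzero _ (Ideal.subset_span (Or.inr (Set.mem_singleton _)))
        rwa [map_sub, map_mul, map_mul, map_one, sub_eq_zero] at this
      have ha : coeff m.1 a ≠ 0 := by
        rw [coeff_genPoly S _ m.1 m.2]
        exact left_ne_zero_of_mul (right_ne_zero_of_mul (hone ▸ one_ne_zero))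
      have hb : coeff m'.1 b ≠ 0 := by
        rw [coeff_genPoly S _ m'.1 m'.2]
        exact right_ne_zero_of_mul (right_ne_zero_of_mul (hone ▸ one_ne_zero))
      rcases hP.isUnit_or_isUnit hab with hu | hu
      · exact ha (isNilpotent_iff_eq_zero.mp ((MvPolynomial.isUnit_iff.mp hu).2 m.1 hm))
      · exact hb (isNilpotent_iff_eq_zero.mp ((MvPolynomial.isUnit_iff.mp hu).2 m'.1 hm'))
  choose r hr hkey using key
  refine ⟨coeff m₀ P * ∏ p : S × S, r p, mul_ne_zero (fun h => hc₀ (by rw [h, map_zero]))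
    (Finset.prod_ne_zero_iff.mpr fun p _ => hr p), fun κ _ φ hφ => ?_⟩
  rw [map_mul, map_prod] at hφ
  have hφ₀ : coeff m₀ (MvPolynomial.map φ P) ≠ 0 := by rw [coeff_map]; exact left_ne_zero_of_mul hφ
  refine ⟨fun hu => hφ₀ (isNilpotent_iff_eq_zero.mp ((MvPolynomial.isUnit_iff.mp hu).2 m₀ hm₀)),
    fun a b hab => ?_⟩
  have hP0 : MvPolynomial.map φ P ≠ 0 := fun h0 => hφ₀ (by rw [h0, coeff_zero])
  have hd' : (MvPolynomial.map φ P).totalDegree ≤ d :=
    Finset.sup_mono (MvPolynomial.support_map_subset φ P)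
  obtain ⟨had, hbd⟩ := totalDegree_le_of_mul hab hP0 hd'
  by_contra! hcon
  obtain ⟨m, hm, hma⟩ := exists_coeff_ne_zero_of_not_isUnit (fun h0 => hP0 (by rw [hab, h0, zero_mul])) hcon.1
  obtain ⟨m', hm', hmb⟩ := exists_coeff_ne_zero_of_not_isUnit (fun h0 => hP0 (by rw [hab, h0, mul_zero])) hcon.2
  refine mul_ne_zero hma hmb (hkey (⟨m, hS a had (mem_support_iff.mpr hma)⟩, ⟨m', hS b hbd (mem_support_iff.mpr hmb)⟩)
    hm hm' κ φ ?_ a b hab had hbd)
  exact (Finset.prod_ne_zero_iff.mp (right_ne_zero_of_mul hφ)) _ (Finset.mem_univ _)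

theorem exists_irreducible_specializations {A : Type u} [CommRing A] [IsDomain A] {n : ℕ}
    (P : MvPolynomial (Fin n) A)
    (hP : Irreducible (MvPolynomial.map (algebraMap A (AlgebraicClosure (FractionRing A))) P)) :
    ∃ r : A, r ≠ 0 ∧ ∀ (κ : Type u) [Field κ] (φ : A →+* κ), φ r ≠ 0 → Irreducible (MvPolynomial.map φ P) :=
  exists_irreducible_specializations' (by
    rw [IsScalarTower.algebraMap_eq A (FractionRing A) (AlgebraicClosure (FractionRing A))]
    exact (algebraMap (FractionRing A) (AlgebraicClosure (FractionRing A))).injective.comp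
      (IsFractionRing.injective A (FractionRing A))) P hP

end Groth.RaynaudGruson
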