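import Groth.Agent.RaynaudGruson.GenericAlgInjective
import Groth.Agent.RaynaudGruson.GenericGeneralization
import Groth.Agent.RaynaudGruson.IrredSpecialization
import Mathlib

/-!
An algebra with geometrically irreducible generic fibre has geometrically irreducible fibres over a dense open.
-/

set_option autoImplicit false
universe u

namespace Groth.RaynaudGruson

open TensorProduct

theorem isDomain_tensor_localizationAway {A F Q D : Type u} [CommRing A] [Field F] [Algebra A F] [CommRing Q]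
    [Algebra A Q] [CommRing D] [IsDomain D] [Algebra F D]
    (τ : F ⊗[A] Q →ₐ[F] D) (hτ : Function.Injective τ) (h : Q) [Nontrivial (F ⊗[A] Localization.Away h)] :
    IsDomain (F ⊗[A] Localization.Away h) := by
  letI : Algebra A D := ((algebraMap F D).comp (algebraMap A F)).toAlgebra
  haveI : IsScalarTower A F D := .of_algebraMap_eq fun _ => rfl
  let q : Q →ₐ[A] D := (τ.restrictScalars A).comp Algebra.TensorProduct.includeRight
  have hq : ∀ (a : F) (b : Q), τ (a ⊗ₜ b) = algebraMap F D a * q b := fun a b => by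
    rw [show a ⊗ₜ[A] b = (algebraMap F (F ⊗[A] Q) a) * ((1 : F) ⊗ₜ b) by simp, map_mul, AlgHom.commutes]
    rfl
  let H := Localization.Away h
  let ι : F ⊗[A] Q →ₐ[A] F ⊗[A] H := Algebra.TensorProduct.map (AlgHom.id A F) (IsScalarTower.toAlgHom A Q H)
  have hunit : IsUnit ((1 : F) ⊗ₜ[A] algebraMap Q H h) :=
    (IsLocalization.map_units H (⟨h, Submonoid.mem_powers h⟩ : Submonoid.powers h)).map
      (Algebra.TensorProduct.includeRight : H →ₐ[A] F ⊗[A] H)
  have hh : τ ((1 : F) ⊗ₜ h) ≠ 0 := fun h0 => by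
    refine hunit.ne_zero ?_
    have := congrArg ι (hτ (h0.trans (map_zero τ).symm))
    rwa [map_zero, Algebra.TensorProduct.map_tmul] at this
  let K := FractionRing D
  let qK : Q →ₐ[A] K := (IsScalarTower.toAlgHom A D K).comp q
  have hqK : ∀ y : Submonoid.powers h, IsUnit (qK y) := by
    rintro ⟨_, n, rfl⟩
    rw [map_pow]
    refine (IsUnit.mk0 _ fun h0 => hh ?_).pow n
    rw [show τ ((1 : F) ⊗ₜ h) = q h from rfl]
    exact IsFractionRing.injective D K (h0.trans (map_zero _).symm)
  let qH : H →ₐ[A] K := IsLocalization.liftAlgHom hqK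
  have hqH : ∀ x, qH (algebraMap Q H x) = qK x := fun x => IsLocalization.lift_eq hqK x
  let τH : F ⊗[A] H →ₐ[F] K := Algebra.TensorProduct.lift (Algebra.ofId F K) qH fun _ _ => Commute.all _ _
  have hτι : ∀ w, τH (ι w) = algebraMap D K (τ w) := fun w => by
    induction w with
    | zero => simp only [map_zero]
    | tmul a b =>
      rw [show ι (a ⊗ₜ b) = a ⊗ₜ algebraMap Q H b from rfl, Algebra.TensorProduct.lift_tmul,
        hq, hqH, map_mul, ← IsScalarTower.algebraMap_apply F D K]
      rfl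
    | add x y hx hy => simp only [map_add, hx, hy]
  have hsurj : ∀ z, ∃ n : ℕ, ∃ w, z * ((1 : F) ⊗ₜ[A] algebraMap Q H h) ^ n = ι w := fun z => by
    induction z with
    | zero => exact ⟨0, 0, by rw [zero_mul, map_zero]⟩
    | tmul a b =>
      obtain ⟨n, b', hb⟩ := IsLocalization.Away.surj h b
      refine ⟨n, a ⊗ₜ b', ?_⟩
      rw [Algebra.TensorProduct.tmul_pow, one_pow, Algebra.TensorProduct.tmul_mul_tmul, mul_one, hb]
      rfl
    | add x y hx hy =>
      obtain ⟨n, w, hw⟩ := hx
      obtain ⟨m, w', hw'⟩ := hy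
      refine ⟨n + m, w * ((1 : F) ⊗ₜ h) ^ m + w' * ((1 : F) ⊗ₜ h) ^ n, ?_⟩
      rw [map_add, map_mul, map_mul, map_pow, map_pow, ← hw, ← hw',
        show ι ((1 : F) ⊗ₜ h) = (1 : F) ⊗ₜ[A] algebraMap Q H h from rfl, pow_add]
      ring
  have hinj : Function.Injective τH := (injective_iff_map_eq_zero τH).mpr fun z hz => by
    obtain ⟨n, w, hw⟩ := hsurj z
    have h1 := congrArg τH hw
    rw [map_mul, hz, zero_mul, hτι] at h1
    have hw0 : w = 0 := hτ ((IsFractionRing.injective _ K (h1.symm.trans (map_zero _).symm)).trans (map_zero τ).symm)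
    rw [hw0, map_zero ι] at hw
    exact (hunit.pow n).mul_left_eq_zero.mp hw
  exact hinj.isDomain τH



section hypersurface

variable {A F : Type u} [CommRing A] [Field F] [Algebra A F] {σ : Type} (P : MvPolynomial σ A)

theorem isDomain_tensor_away (hP : Irreducible (MvPolynomial.map (algebraMap A F) P))
    (h : MvPolynomial σ A ⧸ Ideal.span {P}) [Nontrivial (F ⊗[A] Localization.Away h)] :
    IsDomain (F ⊗[A] Localization.Away h) := by
  let Q := MvPolynomial σ A ⧸ Ideal.span {P}
  let J : Ideal (MvPolynomial σ F) := Ideal.span {MvPolynomial.map (algebraMap A F) P}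
  haveI hJ : J.IsPrime := (Ideal.span_singleton_prime hP.ne_zero).mpr hP.prime
  let mkJ : MvPolynomial σ F →ₐ[F] MvPolynomial σ F ⧸ J := Ideal.Quotient.mkₐ F J
  let q₀ : MvPolynomial σ A →ₐ[A] MvPolynomial σ F ⧸ J := MvPolynomial.aeval fun i => mkJ (MvPolynomial.X i)
  have hq₀ : ∀ p, q₀ p = mkJ (MvPolynomial.map (algebraMap A F) p) := fun p => by
    induction p using MvPolynomial.induction_on with
    | C a =>
      rw [MvPolynomial.map_C, show MvPolynomial.C a = algebraMap A (MvPolynomial σ A) a from rfl, q₀.commutes,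
        show MvPolynomial.C (algebraMap A F a) = algebraMap F (MvPolynomial σ F) (algebraMap A F a) from rfl,
        mkJ.commutes, IsScalarTower.algebraMap_apply A F]
    | add x y hx hy => simp only [map_add, hx, hy]
    | mul_X p i hp => simp only [map_mul, hp, MvPolynomial.map_X, q₀, MvPolynomial.aeval_X]
  let q : Q →ₐ[A] MvPolynomial σ F ⧸ J := Ideal.Quotient.liftₐ _ q₀ (fun a ha => by
    obtain ⟨c, rfl⟩ := Ideal.mem_span_singleton'.mp ha
    rw [map_mul, hq₀ P, show mkJ (MvPolynomial.map (algebraMap A F) P) = 0 from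
      Ideal.Quotient.eq_zero_iff_mem.mpr (Ideal.mem_span_singleton_self _), mul_zero])
  let τ : F ⊗[A] Q →ₐ[F] MvPolynomial σ F ⧸ J :=
    Algebra.TensorProduct.lift (Algebra.ofId F _) q fun _ _ => Commute.all _ _
  let ψ : MvPolynomial σ F →ₐ[F] F ⊗[A] Q :=
    MvPolynomial.aeval (R := F) fun i : σ => (1 : F) ⊗ₜ[A] Ideal.Quotient.mk (Ideal.span {P}) (MvPolynomial.X i)
  have hψ : ∀ p, ψ (MvPolynomial.map (algebraMap A F) p) = (1 : F) ⊗ₜ[A] Ideal.Quotient.mk _ p := fun p => by
    induction p using MvPolynomial.induction_on with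
    | C a =>
      rw [MvPolynomial.map_C, show MvPolynomial.C (algebraMap A F a) =
        algebraMap F (MvPolynomial σ F) (algebraMap A F a) from rfl, ψ.commutes,
        ← IsScalarTower.algebraMap_apply A F, Algebra.TensorProduct.algebraMap_apply,
        show Ideal.Quotient.mk (Ideal.span {P}) (MvPolynomial.C a) = algebraMap A Q a from rfl,
        Algebra.algebraMap_eq_smul_one, Algebra.algebraMap_eq_smul_one, TensorProduct.smul_tmul]
    | add x y hx hy => simp only [map_add, hx, hy, tmul_add]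
    | mul_X p i hp =>
      simp only [map_mul, hp, MvPolynomial.map_X, ψ, MvPolynomial.aeval_X, Algebra.TensorProduct.tmul_mul_tmul,
        mul_one]
  have hψs : Function.Surjective ψ := fun z => by
    induction z with
    | zero => exact ⟨0, map_zero ψ⟩
    | tmul a b =>
      obtain ⟨p, rfl⟩ := Ideal.Quotient.mk_surjective b
      exact ⟨a • MvPolynomial.map (algebraMap A F) p, by rw [map_smul, hψ, smul_tmul', smul_eq_mul, mul_one]⟩
    | add x y hx hy =>
      obtain ⟨a, rfl⟩ := hx
      obtain ⟨b, rfl⟩ := hy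
      exact ⟨a + b, map_add ψ a b⟩
  have hτψ : τ.comp ψ = mkJ := MvPolynomial.algHom_ext fun i => by
    simp only [AlgHom.comp_apply, ψ, MvPolynomial.aeval_X, τ, Algebra.TensorProduct.lift_tmul, map_one, one_mul]
    exact MvPolynomial.aeval_X _ i
  have hτ : Function.Injective τ := (injective_iff_map_eq_zero τ).mpr fun z hz => by
    obtain ⟨p, rfl⟩ := hψs z
    have hp : mkJ p = 0 := by rw [← hτψ]; exact hz
    obtain ⟨c, rfl⟩ := Ideal.mem_span_singleton'.mp (Ideal.Quotient.eq_zero_iff_mem.mp hp)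
    rw [map_mul, hψ, Ideal.Quotient.eq_zero_iff_mem.mpr (Ideal.mem_span_singleton_self P), tmul_zero]
    exact mul_zero (M₀ := F ⊗[A] Q) _
  exact isDomain_tensor_localizationAway τ hτ h

end hypersurface


/-- Two field extensions of a domain embed in a common field. -/
theorem exists_common_field {A K Ω : Type u} [CommRing A] [IsDomain A] [Field K] [Field Ω] [Algebra A K] [Algebra A Ω]
    (hK : Function.Injective (algebraMap A K)) (hΩ : Function.Injective (algebraMap A Ω)) :
    ∃ (M : Type u) (_ : Field M) (f : K →+* M) (g : Ω →+* M),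
      f.comp (algebraMap A K) = g.comp (algebraMap A Ω) := by
  letI : Algebra (FractionRing A) K := (IsFractionRing.lift (K := FractionRing A) hK).toAlgebra
  letI : Algebra (FractionRing A) Ω := (IsFractionRing.lift (K := FractionRing A) hΩ).toAlgebra
  obtain ⟨m, hm⟩ := Ideal.exists_maximal (K ⊗[FractionRing A] Ω)
  letI : Field ((K ⊗[FractionRing A] Ω) ⧸ m) := Ideal.Quotient.field m
  refine ⟨(K ⊗[FractionRing A] Ω) ⧸ m, inferInstance,
    (Ideal.Quotient.mk m).comp (Algebra.TensorProduct.includeLeftRingHom),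
    (Ideal.Quotient.mk m).comp (Algebra.TensorProduct.includeRight (R := FractionRing A) (A := K) (B := Ω)).toRingHom,
    RingHom.ext fun a => congrArg (Ideal.Quotient.mk m) ?_⟩
  show algebraMap A K a ⊗ₜ[FractionRing A] (1 : Ω) = (1 : K) ⊗ₜ[FractionRing A] algebraMap A Ω a
  have h1 : algebraMap A K a = algebraMap A (FractionRing A) a • (1 : K) := by
    rw [Algebra.smul_def, mul_one]; exact (IsFractionRing.lift_algebraMap (K := FractionRing A) hK a).symm
  have h2 : algebraMap A Ω a = algebraMap A (FractionRing A) a • (1 : Ω) := by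
    rw [Algebra.smul_def, mul_one]; exact (IsFractionRing.lift_algebraMap (K := FractionRing A) hΩ a).symm
  rw [h1, h2, TensorProduct.smul_tmul]

/-- Elements nilpotent on the generic fibre are nilpotent on almost all fibres. -/
theorem exists_forall_isNilpotent_tmul {A B Ω : Type u} [CommRing A] [IsDomain A] [CommRing B] [Algebra A B]
    [Algebra.FiniteType A B] [Field Ω] [Algebra A Ω] (hΩ : Function.Injective (algebraMap A Ω)) :
    ∃ r : A, r ≠ 0 ∧ ∀ (F : Type u) [Field F] [Algebra A F], algebraMap A F r ≠ 0 →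
      ∀ b : B, IsNilpotent ((1 : Ω) ⊗ₜ[A] b) → IsNilpotent ((1 : F) ⊗ₜ[A] b) := by
  have hnil : nilradical A = ⊥ := nilradical_eq_zero A
  haveI : (nilradical A).IsPrime := by rw [hnil]; exact Ideal.isPrime_bot
  obtain ⟨r, hr, hle⟩ := exists_forall_exists_le_over_nilradical (A := A) (B := B)
  refine ⟨r, fun h => hr (by rw [h]; exact zero_mem _), fun F _ _ hF b hb => ?_⟩
  rw [← mem_nilradical, nilradical_eq_sInf]
  refine Submodule.mem_sInf.mpr fun (P : Ideal (F ⊗[A] B)) hP => ?_
  replace hP : P.IsPrime := hP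
  haveI : P.IsPrime := hP
  let ι : B →ₐ[A] F ⊗[A] B := Algebra.TensorProduct.includeRight
  haveI : (P.comap ι.toRingHom).IsPrime := Ideal.IsPrime.comap ι.toRingHom
  obtain ⟨Q, hQ, hQP, hQc⟩ := hle (P.comap ι.toRingHom) inferInstance (fun h => by
    refine (Ideal.IsPrime.ne_top hP) (Ideal.eq_top_of_isUnit_mem _ (Ideal.mem_comap.mp h) ?_)
    show IsUnit (ι (algebraMap A B r))
    rw [ι.commutes, IsScalarTower.algebraMap_apply A F (F ⊗[A] B)]
    exact (IsUnit.mk0 _ hF).map (algebraMap F (F ⊗[A] B)))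
  suffices hbQ : b ∈ Q by exact hQP hbQ
  obtain ⟨M, _, f, g, hfg⟩ := exists_common_field (A := A) (K := Q.ResidueField) (Ω := Ω) (by
    refine (injective_iff_map_eq_zero _).mpr fun a ha => ?_
    rw [IsScalarTower.algebraMap_apply A B Q.ResidueField, Ideal.algebraMap_residueField_eq_zero] at ha
    have : a ∈ Q.comap (algebraMap A B) := ha
    rw [hQc, hnil] at this
    exact this) hΩ
  letI : Algebra A M := (g.comp (algebraMap A Ω)).toAlgebra
  let fA : Q.ResidueField →ₐ[A] M := { f with commutes' := fun a => RingHom.congr_fun hfg a }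
  let gA : Ω →ₐ[A] M := { g with commutes' := fun a => rfl }
  let T : Ω ⊗[A] B →ₐ[A] M :=
    Algebra.TensorProduct.lift gA (fA.comp (IsScalarTower.toAlgHom A B Q.ResidueField)) fun _ _ => Commute.all _ _
  have h0 := (hb.map T).eq_zero
  rw [Algebra.TensorProduct.lift_tmul, map_one, one_mul] at h0
  exact Ideal.algebraMap_residueField_eq_zero.mp (f.injective (h0.trans (map_zero f).symm))

/-- A finite type domain containing a given domain and birational to an absolutely irreducible hypersurface is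
geometrically integral on almost all fibres. -/
theorem exists_forall_isDomain_tensor {A Ω : Type u} [CommRing A] [IsDomain A] [Field Ω] [IsAlgClosed Ω] [Algebra A Ω]
    (hΩ : Function.Injective (algebraMap A Ω)) {n : ℕ} (P : MvPolynomial (Fin n) A)
    (hP : Irreducible (MvPolynomial.map (algebraMap A Ω) P)) (h : MvPolynomial (Fin n) A ⧸ Ideal.span {P})
    [IsDomain (Localization.Away h)] (hinj : Function.Injective (algebraMap A (Localization.Away h)))
    {B : Type u} [CommRing B] [IsDomain B] [Algebra A B] [Algebra.FiniteType A B]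
    (σ : B →ₐ[A] Localization.Away h) (hσ : Function.Injective σ) :
    ∃ r : A, r ≠ 0 ∧ ∀ (F : Type u) [Field F] [Algebra A F], algebraMap A F r ≠ 0 → IsDomain (F ⊗[A] B) := by
  haveI : Algebra.FiniteType A (Localization.Away h) :=
    Algebra.FiniteType.trans (inferInstanceAs (Algebra.FiniteType A (MvPolynomial (Fin n) A ⧸ Ideal.span {P})))
      (IsLocalization.finiteType_of_monoid_fg (Submonoid.powers h) _)
  obtain ⟨r₁, hr₁, h₁⟩ := exists_irreducible_specializations' hΩ P hP
  obtain ⟨r₂, hr₂, h₂⟩ := exists_forall_lTensor_algHom_injective (Algebra.ofId A (Localization.Away h)) hinj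
  obtain ⟨r₃, hr₃, h₃⟩ := exists_forall_lTensor_algHom_injective σ hσ
  refine ⟨r₁ * r₂ * r₃, mul_ne_zero (mul_ne_zero hr₁ hr₂) hr₃, fun F _ _ hF => ?_⟩
  rw [map_mul, map_mul] at hF
  obtain ⟨hF12, hF3⟩ := mul_ne_zero_iff.mp hF
  obtain ⟨hF1, hF2⟩ := mul_ne_zero_iff.mp hF12
  haveI : Nontrivial (F ⊗[A] A) := (TensorProduct.rid A F).toEquiv.nontrivial
  haveI : Nontrivial (F ⊗[A] Localization.Away h) := (h₂ F hF2).nontrivial
  haveI := isDomain_tensor_away P (h₁ F (algebraMap A F) hF1) h
  exact Function.Injective.isDomain (Algebra.TensorProduct.map (AlgHom.id A F) σ) (h₃ F hF3)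


/-- A finitely generated field over an algebraically closed field is the function field of a hypersurface. -/
theorem exists_hypersurface_model (Ω L : Type u) [Field Ω] [IsAlgClosed Ω] [Field L] [Algebra Ω L]
    [Algebra.EssFiniteType Ω L] :
    ∃ (d : ℕ) (Φ : MvPolynomial (Fin (d + 1)) Ω →ₐ[Ω] L) (P : MvPolynomial (Fin (d + 1)) Ω),
      Irreducible P ∧ (MvPolynomial.finSuccEquiv Ω d P).Monic ∧ (∀ g, Φ g = 0 ↔ P ∣ g) ∧
        ∀ l : L, ∃ a b, l = Φ a / Φ b := by
  classical
  obtain ⟨s, hs, hsep⟩ := exists_isTranscendenceBasis_and_isSeparable_of_perfectField Ω L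
  let x : Fin s.card → L := fun i => (s.equivFin.symm i : L)
  have hx : IsTranscendenceBasis Ω x := hs.comp_equiv s.equivFin.symm
  have hrange : Set.range x = (s : Set L) := by
    ext l
    constructor
    · rintro ⟨i, rfl⟩; exact (s.equivFin.symm i).2
    · exact fun hl => ⟨s.equivFin ⟨l, hl⟩, by simp [x]⟩
  have hxinj : Function.Injective (MvPolynomial.aeval (R := Ω) x) := hx.1
  letI : Algebra (MvPolynomial (Fin s.card) Ω) L := (MvPolynomial.aeval (R := Ω) x).toAlgebra
  haveI : IsScalarTower Ω (MvPolynomial (Fin s.card) Ω) L :=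
    IsScalarTower.of_algebraMap_eq fun c => ((MvPolynomial.aeval (R := Ω) x).commutes c).symm
  let K₀ := IntermediateField.adjoin Ω (s : Set L)
  haveI : Algebra.IsSeparable K₀ L := hsep
  haveI : Algebra.EssFiniteType K₀ L := Algebra.EssFiniteType.of_comp Ω K₀ L
  haveI : FiniteDimensional K₀ L := Algebra.finite_of_essFiniteType_of_isAlgebraic
  obtain ⟨θ₀, hθ₀⟩ := Field.exists_primitive_element K₀ L
  haveI : Algebra.IsAlgebraic (Algebra.adjoin Ω (Set.range x)) L := hx.isAlgebraic
  have halg : IsAlgebraic (MvPolynomial (Fin s.card) Ω) θ₀ :=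
    IsAlgebraic.of_ringHom_of_comp_eq (f := hx.1.aevalEquiv.toRingEquiv.toRingHom) (g := RingHom.id L)
      (Algebra.IsAlgebraic.isAlgebraic (R := Algebra.adjoin Ω (Set.range x)) θ₀)
      hx.1.aevalEquiv.surjective Function.injective_id (RingHom.ext fun p => by
        simp [RingHom.algebraMap_toAlgebra])
  obtain ⟨c, hc, hint⟩ := halg.exists_integral_multiple
  have hcL : MvPolynomial.aeval x c ≠ 0 := fun h => hc (hxinj (h.trans (map_zero _).symm))
  let Φ : MvPolynomial (Fin (s.card + 1)) Ω →ₐ[Ω] L := MvPolynomial.aeval (Fin.cons (c • θ₀) x : Fin (s.card + 1) → L)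
  have hΦ : ∀ g, Φ g = Polynomial.aeval (c • θ₀) (MvPolynomial.finSuccEquiv Ω s.card g) := fun g => by
    refine DFunLike.congr_fun (MvPolynomial.algHom_ext (f := Φ)
      (g := ((Polynomial.aeval (c • θ₀)).restrictScalars Ω).comp (MvPolynomial.finSuccEquiv Ω s.card).toAlgHom)
      fun i => ?_) g
    refine Fin.cases ?_ (fun j => ?_) i
    · simp [Φ, MvPolynomial.finSuccEquiv_X_zero]
    · simp [Φ, MvPolynomial.finSuccEquiv_X_succ, RingHom.algebraMap_toAlgebra]
  have hdvd : ∀ q : Polynomial (MvPolynomial (Fin s.card) Ω),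
      Polynomial.aeval (c • θ₀) q = 0 ↔ minpoly (MvPolynomial (Fin s.card) Ω) (c • θ₀) ∣ q :=
    haveI : Module.IsTorsionFree (MvPolynomial (Fin s.card) Ω) L := Module.isTorsionFree_iff_algebraMap_injective.mpr hxinj
    fun q => minpoly.isIntegrallyClosed_dvd_iff hint q
  refine ⟨s.card, Φ, (MvPolynomial.finSuccEquiv Ω s.card).symm (minpoly _ (c • θ₀)), ?_, ?_, fun g => ?_, fun l => ?_⟩
  · exact (MulEquiv.irreducible_iff (MvPolynomial.finSuccEquiv Ω s.card).symm.toMulEquiv).mpr (minpoly.irreducible hint)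
  · rw [AlgEquiv.apply_symm_apply]
    exact minpoly.monic hint
  · rw [hΦ, hdvd, ← map_dvd_iff (MvPolynomial.finSuccEquiv Ω s.card), AlgEquiv.apply_symm_apply]
  · refine (IntermediateField.mem_adjoin_range_iff Ω _ l).mp ?_
    let M := IntermediateField.adjoin Ω (Set.range (Fin.cons (c • θ₀) x : Fin (s.card + 1) → L))
    have hxM : (s : Set L) ⊆ M := by
      rw [← hrange]
      rintro _ ⟨i, rfl⟩
      exact IntermediateField.subset_adjoin Ω _ ⟨i.succ, by simp⟩
    have hθM : θ₀ ∈ M := by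
      have h1 : (Fin.cons (c • θ₀) x : Fin (s.card + 1) → L) 0 ∈ M := IntermediateField.subset_adjoin Ω _ ⟨0, rfl⟩
      have h2 : MvPolynomial.aeval x c ∈ M := by
        have : MvPolynomial.aeval x c ∈ Algebra.adjoin Ω (Set.range x) := by
          rw [Algebra.adjoin_range_eq_range_aeval]; exact ⟨c, rfl⟩
        refine (Algebra.adjoin_le (S := M.toSubalgebra) ?_) this
        rw [hrange]; exact hxM
      have : θ₀ = (MvPolynomial.aeval x c)⁻¹ * (c • θ₀) := by
        rw [Algebra.smul_def, show algebraMap (MvPolynomial (Fin s.card) Ω) L c = MvPolynomial.aeval x c from rfl,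
          inv_mul_cancel_left₀ hcL]
      rw [this]
      exact M.mul_mem (M.inv_mem h2) (by simpa using h1)
    have hl : l ∈ IntermediateField.adjoin K₀ {θ₀} := by rw [hθ₀]; trivial
    show l ∈ M
    induction hl using IntermediateField.adjoin_induction with
    | mem y hy => rw [Set.mem_singleton_iff.mp hy]; exact hθM
    | algebraMap y => exact IntermediateField.adjoin_le_iff.mpr hxM y.2
    | add y z _ _ hy hz => exact M.add_mem hy hz
    | inv y _ hy => exact M.inv_mem hy
    | mul y z _ _ hy hz => exact M.mul_mem hy hz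


theorem exists_forall_isPrime_nilradical_of_model {A Ω : Type u} [CommRing A] [IsDomain A] [Field Ω] [IsAlgClosed Ω]
    [Algebra A Ω] (hΩ : Function.Injective (algebraMap A Ω)) {n : ℕ} (P : MvPolynomial (Fin n) A)
    (hP : Irreducible (MvPolynomial.map (algebraMap A Ω) P)) (h : MvPolynomial (Fin n) A ⧸ Ideal.span {P})
    [IsDomain (Localization.Away h)] (hinj : Function.Injective (algebraMap A (Localization.Away h)))
    {B : Type u} [CommRing B] [Algebra A B] [Algebra.FiniteType A B] (σ : B →ₐ[A] Localization.Away h)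
    (hker : ∀ b, σ b = 0 → IsNilpotent ((1 : Ω) ⊗ₜ[A] b)) :
    ∃ r : A, r ≠ 0 ∧ ∀ (F : Type u) [Field F] [Algebra A F], algebraMap A F r ≠ 0 →
      (nilradical (F ⊗[A] B)).IsPrime := by
  let I : Ideal B := RingHom.ker σ.toRingHom
  let σ' : B ⧸ I →ₐ[A] Localization.Away h := Ideal.Quotient.liftₐ I σ fun a ha => ha
  have hσ' : Function.Injective σ' := RingHom.lift_injective_of_ker_le_ideal I _ (le_refl _)
  haveI : IsDomain (B ⧸ I) := hσ'.isDomain σ'
  haveI : Algebra.FiniteType A (B ⧸ I) := .of_surjective (Ideal.Quotient.mkₐ A I) (Ideal.Quotient.mkₐ_surjective A I)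
  obtain ⟨r₁, hr₁, h₁⟩ := exists_forall_isDomain_tensor hΩ P hP h hinj σ' hσ'
  obtain ⟨r₂, hr₂, h₂⟩ := exists_forall_isNilpotent_tmul (B := B) hΩ
  refine ⟨r₁ * r₂, mul_ne_zero hr₁ hr₂, fun F _ _ hF => ?_⟩
  rw [map_mul] at hF
  obtain ⟨hF1, hF2⟩ := mul_ne_zero_iff.mp hF
  haveI := h₁ F hF1
  let q : F ⊗[A] B →ₐ[A] F ⊗[A] (B ⧸ I) := Algebra.TensorProduct.map (AlgHom.id A F) (Ideal.Quotient.mkₐ A I)
  haveI : (RingHom.ker q).IsPrime := RingHom.ker_isPrime q
  have hk : RingHom.ker q = nilradical (F ⊗[A] B) := by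
    refine le_antisymm ?_ (nilradical_le_prime _)
    rw [Algebra.TensorProduct.lTensor_ker _ (Ideal.Quotient.mkₐ_surjective A I), Ideal.map_le_iff_le_comap]
    intro b hb
    have hb' : b ∈ I := Ideal.Quotient.eq_zero_iff_mem.mp hb
    exact mem_nilradical.mpr (h₂ F hF2 b (hker b hb'))
  rw [← hk]
  exact RingHom.ker_isPrime q

theorem map_finSuccEquiv {R S : Type u} [CommRing R] [CommRing S] (f : R →+* S) (d : ℕ)
    (p : MvPolynomial (Fin (d + 1)) R) :
    MvPolynomial.finSuccEquiv S d (MvPolynomial.map f p) =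
      (MvPolynomial.finSuccEquiv R d p).map (MvPolynomial.map f) := by
  induction p using MvPolynomial.induction_on with
  | C a => simp [MvPolynomial.finSuccEquiv_apply]
  | add x y hx hy => simp only [map_add, Polynomial.map_add, hx, hy]
  | mul_X p i hp =>
    refine Fin.cases ?_ (fun j => ?_) i <;>
      simp [hp, MvPolynomial.finSuccEquiv_X_zero, MvPolynomial.finSuccEquiv_X_succ]

theorem exists_lift_coeffs {A Ω : Type u} [CommRing A] [CommRing Ω] [Algebra A Ω] {n : ℕ}
    (A' : Subalgebra A Ω) (p : MvPolynomial (Fin n) Ω) (hp : (p.coeffs : Set Ω) ⊆ A') :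
    ∃ p' : MvPolynomial (Fin n) A', MvPolynomial.map (algebraMap A' Ω) p' = p :=
  MvPolynomial.mem_range_map_iff_coeffs_subset.mpr fun c hc => ⟨⟨c, hp hc⟩, rfl⟩

theorem kerEq_of_monic {A L Ω : Type u} [CommRing A] [CommRing Ω] [Algebra A Ω] [CommRing L] [Algebra Ω L]
    (hA : Function.Injective (algebraMap A Ω)) {d : ℕ} (Φ : MvPolynomial (Fin (d + 1)) Ω →ₐ[Ω] L)
    {P' : MvPolynomial (Fin (d + 1)) A}
    (hmonic : (MvPolynomial.finSuccEquiv Ω d (MvPolynomial.map (algebraMap A Ω) P')).Monic)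
    (hker : ∀ g, Φ g = 0 ↔ MvPolynomial.map (algebraMap A Ω) P' ∣ g) (g : MvPolynomial (Fin (d + 1)) A)
    (hg : Φ (MvPolynomial.map (algebraMap A Ω) g) = 0) : g ∈ Ideal.span {P'} := by
  have hinj := MvPolynomial.map_injective (algebraMap A Ω) hA (σ := Fin d)
  rw [Ideal.mem_span_singleton, ← map_dvd_iff (MvPolynomial.finSuccEquiv A d)]
  rw [hker, ← map_dvd_iff (MvPolynomial.finSuccEquiv Ω d), map_finSuccEquiv, map_finSuccEquiv] at hg
  rw [map_finSuccEquiv] at hmonic
  exact (Polynomial.map_dvd_map _ hinj (Polynomial.monic_of_injective hinj hmonic)).mp hg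

theorem exists_generators_fractions {A Ω L B : Type u} [CommRing A] [CommRing Ω] [Algebra A Ω] [Field L]
    [Algebra Ω L] [Algebra A L] [IsScalarTower A Ω L] [CommRing B] [Algebra A B] [Algebra.FiniteType A B]
    {n : ℕ} (Φ : MvPolynomial (Fin n) Ω →ₐ[Ω] L) (P : MvPolynomial (Fin n) Ω)
    (hfrac : ∀ l : L, ∃ a b, l = Φ a / Φ b) (π : B →ₐ[A] L) :
    ∃ A' : Subalgebra A Ω, Algebra.FiniteType A A' ∧ (∃ P', MvPolynomial.map (algebraMap A' Ω) P' = P) ∧
      ∃ h' : MvPolynomial (Fin n) A', Φ (MvPolynomial.map (algebraMap A' Ω) h') ≠ 0 ∧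
        ∀ b : B, ∃ (k : ℕ) (a' : MvPolynomial (Fin n) A'),
          π b * Φ (MvPolynomial.map (algebraMap A' Ω) h') ^ k = Φ (MvPolynomial.map (algebraMap A' Ω) a') := by
  classical
  obtain ⟨t, ht⟩ := Algebra.FiniteType.out (R := A) (A := B)
  have hfrac' : ∀ l : L, ∃ a b, Φ b ≠ 0 ∧ l * Φ b = Φ a := fun l => by
    obtain ⟨a, b, rfl⟩ := hfrac l
    by_cases hb : Φ b = 0
    · exact ⟨0, 1, by rw [map_one]; exact one_ne_zero, by rw [hb, div_zero, zero_mul, map_zero]⟩
    · exact ⟨a, b, hb, div_mul_cancel₀ _ hb⟩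
  choose num den hden hnum using fun x : t => hfrac' (π x.1)
  let T : Finset Ω := P.coeffs ∪ Finset.univ.biUnion (fun x : t => (num x).coeffs ∪ (den x).coeffs)
  let A' := Algebra.adjoin A (T : Set Ω)
  have hT : (T : Set Ω) ⊆ A' := Algebra.subset_adjoin
  choose num' hnum' using fun x : t => exists_lift_coeffs A' (num x) fun c hc =>
    hT (Finset.mem_union_right _ (Finset.mem_biUnion.mpr ⟨x, Finset.mem_univ _, Finset.mem_union_left _ hc⟩))
  choose den' hden' using fun x : t => exists_lift_coeffs A' (den x) fun c hc =>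
    hT (Finset.mem_union_right _ (Finset.mem_biUnion.mpr ⟨x, Finset.mem_univ _, Finset.mem_union_right _ hc⟩))
  refine ⟨A', (Subalgebra.fg_iff_finiteType _).mp ⟨T, rfl⟩,
    exists_lift_coeffs A' P fun c hc => hT (Finset.mem_union_left _ hc), ∏ x, den' x, ?_, fun b => ?_⟩
  · rw [map_prod, map_prod]
    exact Finset.prod_ne_zero_iff.mpr fun x _ => by rw [hden']; exact hden x
  have hb : b ∈ Algebra.adjoin A (t : Set B) := by rw [ht]; trivial
  induction hb using Algebra.adjoin_induction with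
  | mem y hy =>
    refine ⟨1, num' ⟨y, hy⟩ * ∏ x ∈ Finset.univ.erase ⟨y, hy⟩, den' x, ?_⟩
    rw [pow_one, ← Finset.mul_prod_erase _ den' (Finset.mem_univ (⟨y, hy⟩ : t)), map_mul, map_mul, map_mul, map_mul,
      hden', hnum', ← mul_assoc, hnum ⟨y, hy⟩]
  | algebraMap a =>
    refine ⟨0, algebraMap A (MvPolynomial (Fin n) A') a, ?_⟩
    rw [pow_zero, mul_one, π.commutes, IsScalarTower.algebraMap_apply A Ω L, ← Φ.commutes,
      IsScalarTower.algebraMap_apply A A' (MvPolynomial (Fin n) A'), MvPolynomial.algebraMap_eq,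
      MvPolynomial.algebraMap_eq, MvPolynomial.map_C]
    rfl
  | add y z _ _ hy hz =>
    obtain ⟨k, a, ha⟩ := hy
    obtain ⟨m, c, hc⟩ := hz
    refine ⟨k + m, a * (∏ x, den' x) ^ m + c * (∏ x, den' x) ^ k, ?_⟩
    rw [map_add π, map_add, map_add, map_mul, map_mul, map_mul, map_mul, ← ha, ← hc, map_pow, map_pow, map_pow,
      map_pow, pow_add]
    ring
  | mul y z _ _ hy hz =>
    obtain ⟨k, a, ha⟩ := hy
    obtain ⟨m, c, hc⟩ := hz
    refine ⟨k + m, a * c, ?_⟩
    rw [map_mul π, map_mul, map_mul, ← ha, ← hc, pow_add]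
    ring

theorem exists_forall_isPrime_nilradical_of_lift {A A' Ω L B : Type u} [CommRing A] [CommRing A'] [IsDomain A']
    [Algebra A A'] [Field Ω] [IsAlgClosed Ω] [Algebra A Ω] [Algebra A' Ω] [IsScalarTower A A' Ω]
    (hA' : Function.Injective (algebraMap A' Ω)) [Field L] [Algebra Ω L] [CommRing B] [Algebra A B]
    [Algebra.FiniteType A B] {d : ℕ} (Φ : MvPolynomial (Fin (d + 1)) Ω →ₐ[Ω] L) (π : Ω ⊗[A] B →ₐ[Ω] L)
    (hπ : ∀ z, π z = 0 → IsNilpotent z) (P' h' : MvPolynomial (Fin (d + 1)) A')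
    (hP : Irreducible (MvPolynomial.map (algebraMap A' Ω) P'))
    (hmonic : (MvPolynomial.finSuccEquiv Ω d (MvPolynomial.map (algebraMap A' Ω) P')).Monic)
    (hker : ∀ g, Φ g = 0 ↔ MvPolynomial.map (algebraMap A' Ω) P' ∣ g)
    (hh : Φ (MvPolynomial.map (algebraMap A' Ω) h') ≠ 0)
    (hfrac : ∀ b : B, ∃ (k : ℕ) (a' : MvPolynomial (Fin (d + 1)) A'),
      π ((1 : Ω) ⊗ₜ b) * Φ (MvPolynomial.map (algebraMap A' Ω) h') ^ k = Φ (MvPolynomial.map (algebraMap A' Ω) a')) :
    ∃ r : A', r ≠ 0 ∧ ∀ (F : Type u) [Field F] [Algebra A' F], algebraMap A' F r ≠ 0 →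
      (nilradical (F ⊗[A'] (A' ⊗[A] B))).IsPrime := by
  letI : Algebra A' L := ((algebraMap Ω L).comp (algebraMap A' Ω)).toAlgebra
  haveI : IsScalarTower A' Ω L := .of_algebraMap_eq fun _ => rfl
  let q₀ : MvPolynomial (Fin (d + 1)) A' →ₐ[A'] L :=
    { Φ.toRingHom.comp (MvPolynomial.map (algebraMap A' Ω)) with
      commutes' := fun a => by
        show Φ (MvPolynomial.map (algebraMap A' Ω) (algebraMap A' _ a)) = algebraMap Ω L (algebraMap A' Ω a)
        rw [MvPolynomial.algebraMap_eq, MvPolynomial.map_C, ← Φ.commutes]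
        rfl }
  let Q := MvPolynomial (Fin (d + 1)) A' ⧸ Ideal.span {P'}
  let q : Q →ₐ[A'] L := Ideal.Quotient.liftₐ _ q₀ fun a ha => by
    obtain ⟨c, rfl⟩ := Ideal.mem_span_singleton'.mp ha
    exact (hker _).mpr (by rw [map_mul]; exact dvd_mul_left _ _)
  have hq : Function.Injective q := RingHom.lift_injective_of_ker_le_ideal _ _
    fun g hg => kerEq_of_monic hA' Φ hmonic hker g hg
  let h : Q := Ideal.Quotient.mk _ h'
  have hqh : q h = Φ (MvPolynomial.map (algebraMap A' Ω) h') := rfl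
  have hunit : ∀ y : Submonoid.powers h, IsUnit (q y) := by
    rintro ⟨_, n, rfl⟩
    rw [map_pow]
    exact (IsUnit.mk0 _ (hqh ▸ hh)).pow n
  let ιH : Localization.Away h →ₐ[A'] L := IsLocalization.liftAlgHom hunit
  have hι : ∀ x, ιH (algebraMap Q _ x) = q x := fun x => IsLocalization.lift_eq hunit x
  have hιinj : Function.Injective ιH := (injective_iff_map_eq_zero ιH).mpr fun x hx => by
    obtain ⟨⟨a, s⟩, has⟩ := IsLocalization.surj (Submonoid.powers h) x
    have := congrArg ιH has
    rw [map_mul, hx, zero_mul, hι] at this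
    rw [hq (this.symm.trans (map_zero q).symm), map_zero] at has
    exact (IsLocalization.map_units _ s).mul_left_eq_zero.mp has
  haveI : IsDomain (Localization.Away h) := hιinj.isDomain ιH
  have hinj : Function.Injective (algebraMap A' (Localization.Away h)) := fun x y hxy =>
    hA' ((algebraMap Ω L).injective (((ιH.commutes x).symm.trans (congrArg ιH hxy)).trans (ιH.commutes y)))
  let e : Ω ⊗[A'] (A' ⊗[A] B) ≃ₐ[Ω] Ω ⊗[A] B := Algebra.TensorProduct.cancelBaseChange A A' Ω Ω B
  let ρ : A' ⊗[A] B →ₐ[A'] L :=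
    ((π.comp e.toAlgHom).restrictScalars A').comp Algebra.TensorProduct.includeRight
  have hρ : ∀ z, ρ z ∈ ιH.range := fun z => by
    induction z with
    | zero => rw [map_zero]; exact ιH.range.zero_mem
    | tmul a b =>
      have hb : ρ (1 ⊗ₜ b) ∈ ιH.range := by
        obtain ⟨k, a', ha'⟩ := hfrac b
        refine ⟨algebraMap Q _ (Ideal.Quotient.mk _ a') * IsLocalization.Away.invSelf h ^ k, ?_⟩
        have hinv : ιH (IsLocalization.Away.invSelf h) * Φ (MvPolynomial.map (algebraMap A' Ω) h') = 1 := by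
          rw [← hqh, ← hι, ← map_mul, mul_comm, IsLocalization.Away.mul_invSelf, map_one]
        show ιH _ = _
        rw [map_mul, map_pow, hι, show q (Ideal.Quotient.mk _ a') = Φ (MvPolynomial.map (algebraMap A' Ω) a') from rfl,
          ← ha', mul_assoc, ← mul_pow, mul_comm (Φ (MvPolynomial.map (algebraMap A' Ω) h')), hinv, one_pow, mul_one]
        simp [ρ, e]
      rw [show a ⊗ₜ[A] b = a • ((1 : A') ⊗ₜ[A] b) by rw [smul_tmul', smul_eq_mul, mul_one], map_smul]
      exact ιH.range.smul_mem hb a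
    | add x y hx hy => rw [map_add]; exact ιH.range.add_mem hx hy
  let σ : A' ⊗[A] B →ₐ[A'] Localization.Away h :=
    (AlgEquiv.ofInjective ιH hιinj).symm.toAlgHom.comp (ρ.codRestrict ιH.range hρ)
  refine exists_forall_isPrime_nilradical_of_model hA' P' hP h hinj σ fun z hz => ?_
  have hz' : ρ z = 0 := congrArg Subtype.val
    ((AlgEquiv.ofInjective ιH hιinj).symm.injective (hz.trans (map_zero _).symm) :
      ρ.codRestrict ιH.range hρ z = 0)
  have := (hπ _ hz').map e.symm
  exact e.symm_apply_apply ((1 : Ω) ⊗ₜ z) ▸ this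

theorem isPrime_nilradical_of_fieldExtension {A A' B F F' : Type u} [CommRing A] [CommRing A'] [Algebra A A']
    [CommRing B] [Algebra A B] [Field F] [Algebra A F] [Field F'] [Algebra A F'] [Algebra A' F'] [Algebra F F']
    [IsScalarTower A A' F'] [IsScalarTower A F F'] [(nilradical (F' ⊗[A'] (A' ⊗[A] B))).IsPrime] :
    (nilradical (F ⊗[A] B)).IsPrime := by
  let e : F' ⊗[A'] (A' ⊗[A] B) ≃ₐ[F'] F' ⊗[A] B := Algebra.TensorProduct.cancelBaseChange A A' F' F' B
  let j : F ⊗[A] B →ₐ[A] F' ⊗[A] B := Algebra.TensorProduct.map (IsScalarTower.toAlgHom A F F') (AlgHom.id A B)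
  have hj : Function.Injective j := by
    let c := Algebra.TensorProduct.cancelBaseChange A F F' F' B
    have h1 : Function.Injective (Algebra.TensorProduct.includeRight : F ⊗[A] B →ₐ[F] F' ⊗[F] (F ⊗[A] B)) :=
      Algebra.TensorProduct.includeRight_injective (algebraMap F F').injective
    have h2 : (j : F ⊗[A] B → F' ⊗[A] B) = fun z => c ((1 : F') ⊗ₜ z) := funext fun z => by
      induction z with
      | zero => simp
      | tmul a b => simp [j, c, Algebra.smul_def]
      | add x y hx hy => simp only [map_add, hx, hy, tmul_add]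
    rw [h2]
    exact c.injective.comp h1
  have heq : nilradical (F ⊗[A] B) =
      (nilradical (F' ⊗[A'] (A' ⊗[A] B))).comap (e.symm.toAlgHom.toRingHom.comp j.toRingHom) := by
    ext z
    rw [Ideal.mem_comap, mem_nilradical, mem_nilradical]
    have hcomp : Function.Injective (e.symm.toAlgHom.toRingHom.comp j.toRingHom) := fun x y h => hj (e.symm.injective h)
    exact (IsNilpotent.map_iff hcomp).symm
  rw [heq]
  exact Ideal.IsPrime.comap _

theorem exists_forall_fieldExtension {A A' : Type u} [CommRing A] [IsDomain A] [CommRing A'] [IsDomain A'] [Algebra A A']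
    [Algebra.FiniteType A A'] (hinj : Function.Injective (algebraMap A A')) {r' : A'} (hr' : r' ≠ 0) :
    ∃ r : A, r ≠ 0 ∧ ∀ (F : Type u) [Field F] [Algebra A F], algebraMap A F r ≠ 0 →
      ∃ (F' : Type u) (_ : Field F') (_ : Algebra A F') (_ : Algebra A' F') (_ : Algebra F F'),
        IsScalarTower A A' F' ∧ IsScalarTower A F F' ∧ algebraMap A' F' r' ≠ 0 := by
  let R := Localization.Away r'
  haveI : IsDomain R := IsLocalization.isDomain_localization (powers_le_nonZeroDivisors_of_noZeroDivisors hr')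
  haveI : Algebra.FiniteType A R :=
    Algebra.FiniteType.trans (inferInstanceAs (Algebra.FiniteType A A'))
      (IsLocalization.finiteType_of_monoid_fg (Submonoid.powers r') _)
  obtain ⟨r, hr, h⟩ := exists_forall_lTensor_algHom_injective (Algebra.ofId A R) (by
    show Function.Injective (algebraMap A R)
    rw [IsScalarTower.algebraMap_eq A A' R, RingHom.coe_comp]
    exact (IsLocalization.injective _ (powers_le_nonZeroDivisors_of_noZeroDivisors hr')).comp hinj)
  refine ⟨r, hr, fun F _ _ hF => ?_⟩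
  haveI : Nontrivial (F ⊗[A] A) := (TensorProduct.rid A F).toEquiv.nontrivial
  haveI : Nontrivial (F ⊗[A] R) := (h F hF).nontrivial
  obtain ⟨m, hm⟩ := Ideal.exists_maximal (F ⊗[A] R)
  letI : Field ((F ⊗[A] R) ⧸ m) := Ideal.Quotient.field m
  let g : A' →ₐ[A] (F ⊗[A] R) ⧸ m := ((Ideal.Quotient.mkₐ A m).comp Algebra.TensorProduct.includeRight).comp
    (IsScalarTower.toAlgHom A A' R)
  letI : Algebra A' ((F ⊗[A] R) ⧸ m) := g.toRingHom.toAlgebra
  refine ⟨(F ⊗[A] R) ⧸ m, inferInstance, inferInstance, inferInstance, inferInstance,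
    .of_algebraMap_eq fun a => (g.commutes a).symm, inferInstance, ?_⟩
  exact (((IsLocalization.map_units R (⟨r', Submonoid.mem_powers r'⟩ : Submonoid.powers r')).map
      (Algebra.TensorProduct.includeRight (R := A) (A := F) (B := R))).map (Ideal.Quotient.mkₐ A m)).ne_zero

/-- **Generic geometric irreducibility, ring form.** -/
theorem exists_forall_isPrime_nilradical {A B Ω : Type u} [CommRing A] [IsDomain A] [CommRing B] [Algebra A B]
    [Algebra.FiniteType A B] [Field Ω] [IsAlgClosed Ω] [Algebra A Ω] (hΩ : Function.Injective (algebraMap A Ω))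
    [hnil : (nilradical (Ω ⊗[A] B)).IsPrime] :
    ∃ r : A, r ≠ 0 ∧ ∀ (F : Type u) [Field F] [Algebra A F], algebraMap A F r ≠ 0 →
      (nilradical (F ⊗[A] B)).IsPrime := by
  let D := (Ω ⊗[A] B) ⧸ nilradical (Ω ⊗[A] B)
  let L := FractionRing D
  haveI : Algebra.FiniteType Ω D :=
    Algebra.FiniteType.of_surjective (Ideal.Quotient.mkₐ Ω _) (Ideal.Quotient.mkₐ_surjective Ω _)
  haveI : Algebra.EssFiniteType D L := Algebra.EssFiniteType.of_isLocalization L (nonZeroDivisors D)
  haveI : Algebra.EssFiniteType Ω L := Algebra.EssFiniteType.comp Ω D L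
  obtain ⟨d, Φ, P, hP, hmonic, hker, hfrac⟩ := exists_hypersurface_model Ω L
  let π : Ω ⊗[A] B →ₐ[Ω] L := (IsScalarTower.toAlgHom Ω D L).comp (Ideal.Quotient.mkₐ Ω _)
  have hπ : ∀ z, π z = 0 → IsNilpotent z := fun z hz => mem_nilradical.mp (Ideal.Quotient.eq_zero_iff_mem.mp
    (IsFractionRing.injective D L (hz.trans (map_zero _).symm)))
  haveI : IsScalarTower A D L := inferInstance
  haveI : IsScalarTower A Ω L := .of_algebraMap_eq fun a => by
    rw [IsScalarTower.algebraMap_apply A D L, IsScalarTower.algebraMap_apply A Ω D,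
      ← IsScalarTower.algebraMap_apply Ω D L]
  obtain ⟨A', hA'ft, ⟨P', rfl⟩, h', hh, hh'⟩ := exists_generators_fractions Φ P hfrac
    ((π.restrictScalars A).comp Algebra.TensorProduct.includeRight)
  obtain ⟨r', hr', hgood⟩ := exists_forall_isPrime_nilradical_of_lift (A := A) (A' := A')
    Subtype.val_injective Φ π hπ P' h' hP hmonic hker hh hh'
  haveI := hA'ft
  obtain ⟨r, hr, hext⟩ := exists_forall_fieldExtension (A := A) (A' := A')
    (fun x y hxy => hΩ (congrArg Subtype.val hxy)) hr'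
  refine ⟨r, hr, fun F _ _ hF => ?_⟩
  obtain ⟨F', _, _, _, _, hT1, hT2, hne⟩ := hext F hF
  haveI := hgood F' hne
  exact isPrime_nilradical_of_fieldExtension (A' := A') (F' := F')


/-- Generic geometric irreducibility over a ring with prime nilradical. -/
theorem exists_forall_isPrime_nilradical' {A B Ω : Type u} [CommRing A] [hA : (nilradical A).IsPrime] [CommRing B]
    [Algebra A B] [Algebra.FiniteType A B] [Field Ω] [IsAlgClosed Ω] [Algebra A Ω]
    (hker : RingHom.ker (algebraMap A Ω) = nilradical A) [(nilradical (Ω ⊗[A] B)).IsPrime] :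
    ∃ g : A, g ∉ nilradical A ∧ ∀ (F : Type u) [Field F] [Algebra A F], algebraMap A F g ≠ 0 →
      (nilradical (F ⊗[A] B)).IsPrime := by
  let A₁ := A ⧸ nilradical A
  letI : Algebra A₁ Ω := (Ideal.Quotient.lift _ (algebraMap A Ω) fun a ha => by rwa [← hker] at ha).toAlgebra
  haveI : IsScalarTower A A₁ Ω := .of_algebraMap_eq fun a => rfl
  have hΩ : Function.Injective (algebraMap A₁ Ω) :=
    RingHom.lift_injective_of_ker_le_ideal _ _ hker.le
  let eΩ : Ω ⊗[A₁] (A₁ ⊗[A] B) ≃ₐ[Ω] Ω ⊗[A] B := Algebra.TensorProduct.cancelBaseChange A A₁ Ω Ω B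
  haveI : (nilradical (Ω ⊗[A₁] (A₁ ⊗[A] B))).IsPrime := by
    have : nilradical (Ω ⊗[A₁] (A₁ ⊗[A] B)) = (nilradical (Ω ⊗[A] B)).comap eΩ.toAlgHom.toRingHom := by
      ext z
      rw [Ideal.mem_comap, mem_nilradical, mem_nilradical]
      exact (IsNilpotent.map_iff (f := eΩ.toAlgHom.toRingHom) eΩ.injective).symm
    rw [this]
    exact Ideal.IsPrime.comap _
  obtain ⟨r, hr, hgood⟩ := exists_forall_isPrime_nilradical (A := A₁) (B := A₁ ⊗[A] B) hΩ
  obtain ⟨g, rfl⟩ := Ideal.Quotient.mk_surjective r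
  refine ⟨g, fun h => hr (Ideal.Quotient.eq_zero_iff_mem.mpr h), fun F _ _ hF => ?_⟩
  letI : Algebra A₁ F := (Ideal.Quotient.lift _ (algebraMap A F) fun a ha =>
    ((mem_nilradical.mp ha).map (algebraMap A F)).eq_zero).toAlgebra
  haveI : IsScalarTower A A₁ F := .of_algebraMap_eq fun a => rfl
  haveI := hgood F hF
  exact isPrime_nilradical_of_fieldExtension (A := A) (A' := A₁) (F := F) (F' := F)

end Groth.RaynaudGruson
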