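import Groth.Agent.RaynaudGruson.PureProjectiveNoeth
import Groth.Agent.RaynaudGruson.GeomIntegralNbhd
import Groth.Agent.RaynaudGruson.IrreducibleFibres
import Mathlib

/-!
Smooth algebras with geometrically irreducible fibres are projective modules over the base.
-/

set_option autoImplicit false
universe u

namespace Groth.RaynaudGruson.SmoothProjective

open CategoryTheory AlgebraicGeometry TensorProduct Limits Groth.RaynaudGruson

variable {R S : Type u} [CommRing R] [CommRing S] [Algebra R S]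

/-- Geometric irreducibility in terms of nilradicals. -/
theorem geomIrredFibres_iff : FlatCA.GeomIrredFibres R S ↔
    ∀ (K : Type u) [Field K] [Algebra R K], (nilradical (K ⊗[R] S)).IsPrime := by
  unfold FlatCA.GeomIrredFibres
  rw [GeometricallyIrreducible.eq_geometrically,
    geometrically_iff_of_commRing_of_isClosedUnderIsomorphisms]
  refine forall₃_congr fun K _ _ => ?_
  refine ((pullbackSpecIso R S K).hom.homeomorph.irreducibleSpace_iff).trans ?_
  rw [← PrimeSpectrum.irreducibleSpace_iff_isPrime_nilradical]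
  exact (PrimeSpectrum.homeomorphOfRingEquiv (Algebra.TensorProduct.comm R S K).toRingEquiv).irreducibleSpace_iff

theorem geomIntegralFibres_of_smooth [Algebra.Smooth R S] (h : FlatCA.GeomIrredFibres R S) :
    FlatCA.GeomIntegralFibres R S := by
  haveI : Smooth (Spec.map (CommRingCat.ofHom (algebraMap R S))) := by
    rw [HasRingHomProperty.Spec_iff (P := @Smooth)]
    exact RingHom.smooth_algebraMap.2 inferInstance
  haveI := h
  haveI := GeomIntegralNbhd.geometricallyReduced_of_smooth (Spec.map (CommRingCat.ofHom (algebraMap R S)))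
  exact GeometricallyIntegral.of_geometricallyReduced_of_geometricallyIrreducible _

theorem isPrime_nilradical_comap {A B : Type u} [CommRing A] [CommRing B] (f : A →+* B)
    (hf : Function.Injective f) [(nilradical B).IsPrime] : (nilradical A).IsPrime := by
  have : nilradical A = (nilradical B).comap f := by
    ext z
    rw [Ideal.mem_comap, mem_nilradical, mem_nilradical]
    exact (IsNilpotent.map_iff hf).symm
  rw [this]
  exact Ideal.IsPrime.comap _

/-- The stage condition: all field-valued points of the subalgebra generated by `F` lying in `V(I)` have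
geometrically irreducible fibres. -/
def GoodStage (R₀ : Type u) {R : Type u} (S₀ : Type u) [CommRing R₀] [CommRing R] [CommRing S₀] [Algebra R₀ R]
    [Algebra R₀ S₀] (I : Ideal R₀) (F : Set R) : Prop :=
  ∀ (K : Type u) [Field K] [Algebra R₀ K], (Algebra.adjoin R₀ F →ₐ[R₀] K) →
    (∀ a ∈ I, algebraMap R₀ K a = 0) → (nilradical (K ⊗[R₀] S₀)).IsPrime

theorem GoodStage.mono {R₀ R S₀ : Type u} [CommRing R₀] [CommRing R] [CommRing S₀] [Algebra R₀ R]
    [Algebra R₀ S₀] {I : Ideal R₀} {F G : Set R} (hFG : F ⊆ G) (h : GoodStage R₀ S₀ I F) :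
    GoodStage R₀ S₀ I G :=
  fun K _ _ φ hI => h K (φ.comp (Subalgebra.inclusion (Algebra.adjoin_mono hFG))) hI

theorem exists_generic_aux {R₀ S₀ A Ω : Type u} [CommRing R₀] [CommRing S₀] [Algebra R₀ S₀]
    [Algebra.FiniteType R₀ S₀] [CommRing A] [IsDomain A] [Algebra R₀ A] [Field Ω] [IsAlgClosed Ω] [Algebra R₀ Ω]
    [Algebra A Ω] [IsScalarTower R₀ A Ω] (hinj : Function.Injective (algebraMap A Ω))
    [(nilradical (Ω ⊗[R₀] S₀)).IsPrime] :
    ∃ r : A, r ≠ 0 ∧ ∀ (K : Type u) [Field K] [Algebra R₀ K] [Algebra A K] [IsScalarTower R₀ A K],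
      algebraMap A K r ≠ 0 → (nilradical (K ⊗[R₀] S₀)).IsPrime := by
  let e : Ω ⊗[A] (A ⊗[R₀] S₀) ≃ₐ[Ω] Ω ⊗[R₀] S₀ := Algebra.TensorProduct.cancelBaseChange R₀ A Ω Ω S₀
  haveI : (nilradical (Ω ⊗[A] (A ⊗[R₀] S₀))).IsPrime :=
    isPrime_nilradical_comap (e : Ω ⊗[A] (A ⊗[R₀] S₀) →+* Ω ⊗[R₀] S₀) e.injective
  obtain ⟨r, hr, hgood⟩ := exists_forall_isPrime_nilradical (A := A) (B := A ⊗[R₀] S₀) (Ω := Ω) hinj
  refine ⟨r, hr, fun K _ _ _ _ hg => ?_⟩
  haveI := hgood K hg
  let eK : K ⊗[A] (A ⊗[R₀] S₀) ≃ₐ[K] K ⊗[R₀] S₀ := Algebra.TensorProduct.cancelBaseChange R₀ A K K S₀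
  exact isPrime_nilradical_comap (eK.symm : K ⊗[R₀] S₀ →+* K ⊗[A] (A ⊗[R₀] S₀)) eK.symm.injective

/-- Near a point of `V(I)` in the image, the fibres are geometrically irreducible. -/
theorem exists_generic {R₀ R S₀ : Type u} [CommRing R₀] [CommRing R] [CommRing S₀] [Algebra R₀ R] [Algebra R₀ S₀]
    [Algebra.FiniteType R₀ S₀]
    (h : ∀ (K : Type u) [Field K] [Algebra R₀ K], (R →ₐ[R₀] K) → (nilradical (K ⊗[R₀] S₀)).IsPrime)
    (I : Ideal R₀) [I.IsPrime] (P : Ideal R) [P.IsPrime] (hPI : P.comap (algebraMap R₀ R) = I) :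
    ∃ g : R₀, g ∉ I ∧ ∀ (K : Type u) [Field K] [Algebra R₀ K], (∀ a ∈ I, algebraMap R₀ K a = 0) →
      algebraMap R₀ K g ≠ 0 → (nilradical (K ⊗[R₀] S₀)).IsPrime := by
  obtain ⟨Ω, _, _, f, hf⟩ : ∃ (Ω : Type u) (_ : Field Ω) (_ : IsAlgClosed Ω) (f : R →+* Ω),
      ∀ x, f x = 0 ↔ x ∈ P :=
    ⟨AlgebraicClosure P.ResidueField, inferInstance, inferInstance,
      (algebraMap P.ResidueField (AlgebraicClosure P.ResidueField)).comp (algebraMap R P.ResidueField),
      fun x => (map_eq_zero_iff _ (algebraMap P.ResidueField (AlgebraicClosure P.ResidueField)).injective).trans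
        Ideal.algebraMap_residueField_eq_zero⟩
  letI : Algebra R₀ Ω := (f.comp (algebraMap R₀ R)).toAlgebra
  let φ : R →ₐ[R₀] Ω := { f with commutes' := fun _ => rfl }
  have hker : ∀ a, algebraMap R₀ Ω a = 0 ↔ a ∈ I := fun a => by
    rw [← hPI]
    exact hf (algebraMap R₀ R a)
  letI : Algebra (R₀ ⧸ I) Ω := (Ideal.Quotient.lift I (algebraMap R₀ Ω) fun a ha => (hker a).mpr ha).toAlgebra
  haveI : IsScalarTower R₀ (R₀ ⧸ I) Ω := .of_algebraMap_eq fun _ => rfl
  have hinj : Function.Injective (algebraMap (R₀ ⧸ I) Ω) :=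
    RingHom.lift_injective_of_ker_le_ideal _ _ fun a ha => (hker a).mp ha
  haveI := h Ω φ
  obtain ⟨r, hr, hgood⟩ := exists_generic_aux (R₀ := R₀) (S₀ := S₀) hinj
  obtain ⟨g, rfl⟩ := Ideal.Quotient.mk_surjective r
  refine ⟨g, fun hg => hr (Ideal.Quotient.eq_zero_iff_mem.mpr hg), fun K _ _ hK hg => ?_⟩
  letI : Algebra (R₀ ⧸ I) K := (Ideal.Quotient.lift I (algebraMap R₀ K) hK).toAlgebra
  haveI : IsScalarTower R₀ (R₀ ⧸ I) K := .of_algebraMap_eq fun _ => rfl
  exact hgood K hg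

/-- Some finitely generated stage has geometrically irreducible fibres. -/
theorem exists_goodStage {R₀ R S₀ : Type u} [CommRing R₀] [IsNoetherianRing R₀] [CommRing R] [CommRing S₀]
    [Algebra R₀ R] [Algebra R₀ S₀] [Algebra.FiniteType R₀ S₀]
    (h : ∀ (K : Type u) [Field K] [Algebra R₀ K], (R →ₐ[R₀] K) → (nilradical (K ⊗[R₀] S₀)).IsPrime)
    (I : Ideal R₀) : ∃ F : Set R, F.Finite ∧ GoodStage R₀ S₀ I F := by
  refine IsNoetherian.induction (P := fun J : Submodule R₀ R₀ => ∃ F : Set R, F.Finite ∧ GoodStage R₀ S₀ (J : Ideal R₀) F)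
    (fun I' ih => ?_) I
  obtain ⟨I, rfl⟩ : ∃ I : Ideal R₀, I = I' := ⟨I', rfl⟩
  by_cases hI : I = ⊤
  · exact ⟨∅, Set.finite_empty, fun K _ _ _ hK => absurd (hK 1 (hI ▸ Submodule.mem_top)) (by simp)⟩
  by_cases hprime : I.IsPrime
  swap
  · obtain ⟨a, ha, b, hb, hab⟩ := (Ideal.not_isPrime_iff.mp hprime).resolve_left hI
    obtain ⟨F₁, hF₁, h₁⟩ := ih (I ⊔ Ideal.span {a})
      (lt_of_le_of_ne le_sup_left fun e => ha (e ▸ Ideal.mem_sup_right (Ideal.mem_span_singleton_self a)))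
    obtain ⟨F₂, hF₂, h₂⟩ := ih (I ⊔ Ideal.span {b})
      (lt_of_le_of_ne le_sup_left fun e => hb (e ▸ Ideal.mem_sup_right (Ideal.mem_span_singleton_self b)))
    refine ⟨F₁ ∪ F₂, hF₁.union hF₂, fun K _ _ φ hK => ?_⟩
    have hker : ∀ x : R₀, algebraMap R₀ K x = 0 → I ⊔ Ideal.span {x} ≤ RingHom.ker (algebraMap R₀ K) :=
      fun x hx => sup_le hK ((Ideal.span_singleton_le_iff_mem _).mpr hx)
    rcases mul_eq_zero.mp ((map_mul _ a b).symm.trans (hK _ hab)) with h0 | h0
    · exact h₁.mono Set.subset_union_left K φ fun x hx => hker a h0 hx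
    · exact h₂.mono Set.subset_union_right K φ fun x hx => hker b h0 hx
  haveI := hprime
  by_cases hover : (I.map (algebraMap R₀ R)).comap (algebraMap R₀ R) = I
  · obtain ⟨P, hP, hPI⟩ := (Ideal.comap_map_eq_self_iff_of_isPrime I).mp hover
    obtain ⟨g, hr, hgood⟩ := exists_generic h I P hPI
    obtain ⟨F, hF, hF'⟩ := ih (I ⊔ Ideal.span {g})
      (lt_of_le_of_ne le_sup_left fun e => hr (e ▸ Ideal.mem_sup_right (Ideal.mem_span_singleton_self g)))
    refine ⟨F, hF, fun K _ _ φ hK => ?_⟩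
    by_cases hg : algebraMap R₀ K g = 0
    · exact hF' K φ fun x hx => sup_le (c := RingHom.ker (algebraMap R₀ K)) hK
        ((Ideal.span_singleton_le_iff_mem _).mpr hg) hx
    exact hgood K hK hg
  · obtain ⟨g, hg, hgI⟩ := SetLike.exists_of_lt (lt_of_le_of_ne Ideal.le_comap_map (Ne.symm hover))
    obtain ⟨F, hF, hF'⟩ := ih (I ⊔ Ideal.span {g})
      (lt_of_le_of_ne le_sup_left fun e => hgI (e ▸ Ideal.mem_sup_right (Ideal.mem_span_singleton_self g)))
    obtain ⟨n, c, a, hca⟩ : ∃ (n : ℕ) (c : Fin n → R) (a : Fin n → I),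
        ∑ i, c i * algebraMap R₀ R (a i) = algebraMap R₀ R g := by
      obtain ⟨n, c, v, hv⟩ := Submodule.mem_span_set'.mp (Ideal.mem_comap.mp hg)
      choose a ha haI using fun i => (v i).2
      refine ⟨n, c, fun i => ⟨a i, ha i⟩, ?_⟩
      rw [← hv]
      exact Finset.sum_congr rfl fun i _ => by rw [haI i, smul_eq_mul]
    refine ⟨F ∪ Set.range c, hF.union (Set.finite_range c), fun K _ _ φ hK => ?_⟩
    have hgK : algebraMap R₀ K g = 0 := by
      have hc : ∀ i, c i ∈ Algebra.adjoin R₀ (F ∪ Set.range c) := fun i =>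
        Algebra.subset_adjoin (Or.inr ⟨i, rfl⟩)
      have : algebraMap R₀ (Algebra.adjoin R₀ (F ∪ Set.range c)) g =
          ∑ i, ⟨c i, hc i⟩ * algebraMap R₀ (Algebra.adjoin R₀ (F ∪ Set.range c)) (a i) := Subtype.ext (by
        rw [AddSubmonoidClass.coe_finset_sum]
        exact hca.symm)
      rw [← φ.commutes g, this, map_sum]
      exact Finset.sum_eq_zero fun i _ => by rw [map_mul, φ.commutes, hK _ (a i).2, mul_zero]
    exact hF'.mono Set.subset_union_left K φ fun x hx => sup_le (c := RingHom.ker (algebraMap R₀ K)) hK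
      ((Ideal.span_singleton_le_iff_mem _).mpr hgK) hx

theorem exists_noetherian_model_aux (R₀ S₀ : Type u) [CommRing R₀] [IsNoetherianRing R₀] [CommRing S₀]
    [Algebra R₀ R] [Algebra R₀ S₀] [Algebra.Smooth R₀ S₀] (e : S ≃ₐ[R] R ⊗[R₀] S₀)
    (h : FlatCA.GeomIrredFibres R S) :
    ∃ (R₁ S₁ : Type u) (_ : CommRing R₁) (_ : CommRing S₁) (_ : Algebra R₁ R) (_ : Algebra R₁ S₁),
      IsNoetherianRing R₁ ∧ Algebra.Smooth R₁ S₁ ∧ FlatCA.GeomIntegralFibres R₁ S₁ ∧
        Nonempty (S ≃ₐ[R] R ⊗[R₁] S₁) := by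
  have hgood : ∀ (K : Type u) [Field K] [Algebra R₀ K], (R →ₐ[R₀] K) → (nilradical (K ⊗[R₀] S₀)).IsPrime := by
    intro K _ _ φ
    letI : Algebra R K := φ.toRingHom.toAlgebra
    haveI : IsScalarTower R₀ R K := .of_algebraMap_eq fun r => (φ.commutes r).symm
    haveI := geomIrredFibres_iff.mp h K
    let e' : K ⊗[R₀] S₀ ≃ₐ[K] K ⊗[R] S := (Algebra.TensorProduct.cancelBaseChange R₀ R K K S₀).symm.trans
      (Algebra.TensorProduct.congr AlgEquiv.refl e.symm)
    exact isPrime_nilradical_comap e'.toRingEquiv.toRingHom e'.injective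
  obtain ⟨F, hF, hF'⟩ := exists_goodStage hgood (⊥ : Ideal R₀)
  let R₁ := Algebra.adjoin R₀ F
  haveI : Algebra.FiniteType R₀ R₁ :=
    (Subalgebra.fg_iff_finiteType _).mp (Subalgebra.fg_def.mpr ⟨F, hF, rfl⟩)
  let S₁ := R₁ ⊗[R₀] S₀
  have hirr : FlatCA.GeomIrredFibres R₁ S₁ := geomIrredFibres_iff.mpr fun K _ _ => by
    letI : Algebra R₀ K := ((algebraMap R₁ K).comp (algebraMap R₀ R₁)).toAlgebra
    haveI : IsScalarTower R₀ R₁ K := .of_algebraMap_eq fun r => rfl
    haveI := hF' K (IsScalarTower.toAlgHom R₀ R₁ K) (fun a ha => by rw [Ideal.mem_bot.mp ha, map_zero])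
    let e' : K ⊗[R₁] S₁ ≃ₐ[K] K ⊗[R₀] S₀ := Algebra.TensorProduct.cancelBaseChange R₀ R₁ K K S₀
    exact isPrime_nilradical_comap e'.toRingEquiv.toRingHom e'.injective
  exact ⟨R₁, S₁, inferInstance, inferInstance, inferInstance, inferInstance,
    Algebra.FiniteType.isNoetherianRing R₀ R₁, inferInstance, geomIntegralFibres_of_smooth hirr,
    ⟨e.trans (Algebra.TensorProduct.cancelBaseChange R₀ R₁ R R S₀).symm⟩⟩

/-- A smooth algebra with geometrically irreducible fibres is the base change of such an algebra over a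
Noetherian ring. -/
theorem exists_noetherian_model [Algebra.Smooth R S] (h : FlatCA.GeomIrredFibres R S) :
    ∃ (R₁ S₁ : Type u) (_ : CommRing R₁) (_ : CommRing S₁) (_ : Algebra R₁ R) (_ : Algebra R₁ S₁),
      IsNoetherianRing R₁ ∧ Algebra.Smooth R₁ S₁ ∧ FlatCA.GeomIntegralFibres R₁ S₁ ∧
        Nonempty (S ≃ₐ[R] R ⊗[R₁] S₁) := by
  obtain ⟨R₀, S₀, _, _, hfg, hsm, ⟨e⟩⟩ := Algebra.Smooth.exists_subalgebra_fg ℤ R S
  haveI := hsm
  haveI : Algebra.FiniteType ℤ R₀ := (Subalgebra.fg_iff_finiteType R₀).mp hfg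
  haveI : IsNoetherianRing R₀ := Algebra.FiniteType.isNoetherianRing ℤ R₀
  exact exists_noetherian_model_aux R₀ S₀ e h

/-- **Smooth algebras with geometrically irreducible fibres are projective.** -/
theorem projective_of_smooth (R S : Type u) [CommRing R] [CommRing S] [Algebra R S] [Algebra.Smooth R S]
    (h : FlatCA.GeomIrredFibres R S) : Module.Projective R S := by
  obtain ⟨R₁, S₁, _, _, _, _, hN, hsm, hgi, ⟨e⟩⟩ := exists_noetherian_model h
  haveI := hN
  haveI := hsm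
  haveI := projective_of_geomIntegralFibres hgi
  exact Module.Projective.of_equiv e.symm.toLinearEquiv

end Groth.RaynaudGruson.SmoothProjective
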