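import Groth.Agent.RaynaudGruson.DevissageFlat
import Groth.Agent.RaynaudGruson.SmoothProjective
import Groth.Agent.Calg1.Kaplansky
import Mathlib

/-!
A flat module with a complete dévissage at a point over a local ring is free.
-/

set_option autoImplicit false
universe u

namespace Groth.RaynaudGruson.DevissageFree

open IsLocalRing

theorem finitePresentation_of_restrictScalars {B A M : Type u} [CommRing B] [CommRing A] [Algebra B A]
    [Module.Finite B A] [AddCommGroup M] [Module A M] [Module B M] [IsScalarTower B A M] [Module.Finite A M]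
    [Module.FinitePresentation B M] : Module.FinitePresentation A M := by
  obtain ⟨n, f, hf⟩ := Module.Finite.exists_fin' A M
  refine Module.finitePresentation_of_surjective f hf ?_
  refine Submodule.FG.of_restrictScalars B ?_
  rw [← LinearMap.ker_restrictScalars]
  exact Module.FinitePresentation.fg_ker (f.restrictScalars B) hf

theorem finitePresentation_of_surjective_algebraMap {B A M : Type u} [CommRing B] [CommRing A] [Algebra B A]
    [Algebra.FinitePresentation B A] (h : Function.Surjective (algebraMap B A)) [AddCommGroup M] [Module A M]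
    [Module B M] [IsScalarTower B A M] [Module.FinitePresentation A M] : Module.FinitePresentation B M := by
  haveI : Module.Finite B A := Module.Finite.of_surjective (Algebra.linearMap B A) h
  haveI := Module.FinitePresentation.of_finite_of_finitePresentation B A
  exact Module.FinitePresentation.trans B M A

/-- Successive splittings assemble into a product. -/
theorem nonempty_pi_equiv {R : Type u} [CommRing R] : ∀ (n : ℕ) (M X : ℕ → Type u) [∀ i, AddCommGroup (M i)]
    [∀ i, Module R (M i)] [∀ i, AddCommGroup (X i)] [∀ i, Module R (X i)],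
    (∀ i, i + 1 < n + 1 → Nonempty (M i ≃ₗ[R] X i × M (i + 1))) → Nonempty (M n ≃ₗ[R] X n) →
    Nonempty (M 0 ≃ₗ[R] ∀ j : Fin (n + 1), X j) := by
  intro n
  induction n with
  | zero =>
    intro M X _ _ _ _ _ h
    obtain ⟨e⟩ := h
    exact ⟨e.trans (LinearEquiv.piUnique R fun j : Fin 1 => X j).symm⟩
  | succ n ih =>
    intro M X _ _ _ _ h hlast
    obtain ⟨e⟩ := ih (fun j => M (j + 1)) (fun j => X (j + 1)) (fun i hi => h (i + 1) (by omega)) hlast
    obtain ⟨e₀⟩ := h 0 (by omega)
    exact ⟨(e₀.trans (LinearEquiv.prodCongr (LinearEquiv.refl R _) e)).trans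
      (Fin.consLinearEquiv R fun j : Fin (n + 2) => X j)⟩

variable {R S : Type u} [CommRing R] [IsLocalRing R] [CommRing S] [Algebra R S]
  {N : Type u} [AddCommGroup N] [Module S N] [Module R N] [IsScalarTower R S N]
  {D : FlatCA.CompleteDevissage R S N (maximalIdeal R)} {q : Ideal S} [q.IsPrime]

theorem free_B (D : FlatCA.CompleteDevissage R S N (maximalIdeal R)) {i : ℕ} (hi : i < D.n) :
    Module.Free R (D.B i) :=
  haveI := D.smooth i hi
  haveI := SmoothProjective.projective_of_smooth R (D.B i) (D.geomIrred i hi)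
  Groth.Calg1.free_of_projective (D.B i)

theorem tower_A (D : FlatCA.CompleteDevissage R S N (maximalIdeal R)) (i : ℕ) :
    IsScalarTower R (D.A i) (D.M i) :=
  IsScalarTower.of_algebraMap_smul fun r m => by
    rw [IsScalarTower.algebraMap_apply R (D.B i) (D.A i), algebraMap_smul, algebraMap_smul]

theorem isoN_smul (D : FlatCA.CompleteDevissage R S N (maximalIdeal R)) (r : R) (x : N) :
    D.isoN (r • x) = r • D.isoN x := by
  haveI := tower_A D 0
  rw [← algebraMap_smul S r x, map_smul, ← algebraMap_smul (D.A 0) (algebraMap R S r) (D.isoN x),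
    ← IsScalarTower.algebraMap_apply, algebraMap_smul]

/-- Flatness at the first point of the dévissage. -/
theorem pred_zero (DD : FlatCA.CompleteDevissageAt R S N (maximalIdeal R) q D) (hflat : FlatCA.FlatAt R q N) :
    haveI := DD.hqA; FlatPred.Pred R (DD.qA 0).primeCompl (D.M 0) := by
  haveI := DD.hqA
  haveI := tower_A D 0
  haveI : IsScalarTower R S (D.M 0) := IsScalarTower.of_algebraMap_smul fun r m => by
    rw [← algebraMap_smul (D.A 0) (algebraMap R S r) m, ← IsScalarTower.algebraMap_apply, algebraMap_smul]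
  have h := ((FlatPred.flatAt_iff q).mp hflat).of_equiv D.isoN.toAddEquiv (isoN_smul D) (fun a m => map_smul D.isoN a m)
  exact h.of_dvd fun (u : S) (hu : u ∈ q.primeCompl) => ⟨algebraMap S (D.A 0) u, 1,
    fun hmem => hu (DD.q0 ▸ (show u ∈ (DD.qA 0).comap (algebraMap S (D.A 0)) from hmem)), fun m => by
    rw [one_smul, algebraMap_smul]⟩

/-- Flatness propagates along the dévissage. -/
theorem pred_qB [Algebra.FinitePresentation R S] (DD : FlatCA.CompleteDevissageAt R S N (maximalIdeal R) q D)
    (hflat : FlatCA.FlatAt R q N) : ∀ i, i < D.n →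
    haveI := DD.hqB; FlatPred.Pred R (DD.qB i).primeCompl (D.M i) := by
  haveI := DD.hqA
  haveI := DD.hqB
  have hA : ∀ i, i < D.n → FlatPred.Pred R (DD.qA i).primeCompl (D.M i) →
      FlatPred.Pred R (DD.qB i).primeCompl (D.M i) := fun i hi h => by
    haveI := D.finiteBA i hi
    haveI := tower_A D i
    haveI := DD.overA i
    haveI : Algebra.IsIntegral (D.B i) (D.A i) := Algebra.IsIntegral.of_finite (D.B i) (D.A i)
    exact (FlatPred.pred_iff_of_unique (DD.qB i) (DD.qA i) (DD.uniq i hi)).mp h
  intro i
  induction i with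
  | zero => exact fun hi => hA 0 hi (pred_zero DD hflat)
  | succ i ih =>
    intro hi
    have hi' : i < D.n := by omega
    refine hA (i + 1) hi ?_
    haveI := free_B D hi'
    haveI := D.finiteBA i hi'
    haveI := D.finiteM i hi'
    haveI : Module.Finite (D.B i) (D.M i) := Module.Finite.trans (D.A i) (D.M i)
    haveI := DD.overB i
    haveI := tower_A D (i + 1)
    haveI : IsScalarTower R (D.B i) (D.M (i + 1)) := IsScalarTower.of_algebraMap_smul fun r m => by
      rw [← algebraMap_smul (D.A (i + 1)) (algebraMap R (D.B i) r) m, ← IsScalarTower.algebraMap_apply, algebraMap_smul]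
    haveI := D.hp i
    have hPq : (DD.qB i).primeCompl ≤ ((maximalIdeal R).map (algebraMap R (D.B i))).primeCompl :=
      fun b hb hmem => hb (Ideal.map_le_iff_le_comap.mpr (Ideal.over_def (DD.qB i) (maximalIdeal R)).le hmem)
    have h1 := DevissageFlat.pred_coker _ (D.α i) rfl (D.fibreIso i hi') ((ih hi').mono hPq)
      (LinearMap.range (D.α i)).mkQ (LinearMap.range (D.α i)).mkQ_surjective (Submodule.ker_mkQ _) (ih hi')
    have h2 := h1.of_equiv (D.isoCoker i hi).toAddEquiv
      (fun r x => LinearMap.map_smul_of_tower (D.isoCoker i hi).toLinearMap r x)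
      (fun a x => map_smul (D.isoCoker i hi) a x)
    exact h2.of_dvd fun (u : D.B i) (hu : u ∈ (DD.qB i).primeCompl) => ⟨algebraMap (D.B i) (D.A (i + 1)) u, 1,
      fun hmem => hu (DD.qStep i hi ▸ (show u ∈ (DD.qA (i + 1)).comap (algebraMap (D.B i) (D.A (i + 1))) from hmem)), fun m => by rw [one_smul, algebraMap_smul]⟩

theorem injective_α [Algebra.FinitePresentation R S] (DD : FlatCA.CompleteDevissageAt R S N (maximalIdeal R) q D)
    (hflat : FlatCA.FlatAt R q N) {i : ℕ} (hi : i < D.n) : Function.Injective (D.α i) := by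
  haveI := DD.hqB
  haveI := free_B D hi
  haveI := D.finiteBA i hi
  haveI := D.finiteM i hi
  haveI : Module.Finite (D.B i) (D.M i) := Module.Finite.trans (D.A i) (D.M i)
  haveI := DD.overB i
  haveI := D.hp i
  have hPq : (DD.qB i).primeCompl ≤ ((maximalIdeal R).map (algebraMap R (D.B i))).primeCompl :=
    fun b hb hmem => hb (Ideal.map_le_iff_le_comap.mpr (Ideal.over_def (DD.qB i) (maximalIdeal R)).le hmem)
  exact DevissageFlat.injective _ (D.α i) rfl (D.fibreIso i hi) ((pred_qB DD hflat i hi).mono hPq)

/-- Downward induction along the dévissage: everything is free and finitely presented. -/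
theorem free_and_fp [Algebra.FinitePresentation R S] (DD : FlatCA.CompleteDevissageAt R S N (maximalIdeal R) q D)
    (hflat : FlatCA.FlatAt R q N) : ∀ k i, i + k + 1 = D.n →
    Module.Free R (D.M i) ∧ Module.FinitePresentation (D.B i) (D.M i) ∧
      (0 < k → Nonempty (D.M i ≃ₗ[R] (Fin (D.r i) → D.B i) × D.M (i + 1))) := by
  intro k
  induction k with
  | zero =>
    intro i hi
    obtain rfl : i = D.n - 1 := by omega
    haveI := free_B D (show D.n - 1 < D.n by omega)
    let e := LinearEquiv.ofBijective (D.α (D.n - 1)) ⟨injective_α DD hflat (by omega), D.cokerLast⟩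
    exact ⟨Module.Free.of_equiv (e.restrictScalars R), Module.FinitePresentation.of_equiv e, fun h => absurd h (lt_irrefl 0)⟩
  | succ k ih =>
    intro i hi
    have hi' : i < D.n := by omega
    have hi1 : i + 1 < D.n := by omega
    obtain ⟨hfree, hfp, -⟩ := ih (i + 1) (by omega)
    haveI := free_B D hi'
    haveI := D.finiteBA (i + 1) hi1
    haveI := D.finiteM (i + 1) hi1
    haveI := D.fpBA' i hi1
    haveI : Module.FinitePresentation (D.A (i + 1)) (D.M (i + 1)) :=
      finitePresentation_of_restrictScalars (B := D.B (i + 1))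
    haveI : Module.FinitePresentation (D.B i) (D.M (i + 1)) :=
      finitePresentation_of_surjective_algebraMap (A := D.A (i + 1)) (D.surjBA' i hi1)
    have hinj := injective_α DD hflat hi'
    let π : D.M i →ₗ[D.B i] D.M (i + 1) :=
      (D.isoCoker i hi1).toLinearMap ∘ₗ (LinearMap.range (D.α i)).mkQ
    have hπ : Function.Surjective π := (D.isoCoker i hi1).surjective.comp (Submodule.mkQ_surjective _)
    have hker : LinearMap.ker π = LinearMap.range (D.α i) := by
      rw [LinearMap.ker_comp, LinearEquiv.ker, Submodule.comap_bot, Submodule.ker_mkQ]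
    haveI : Module.FinitePresentation (D.B i) (LinearMap.ker π) :=
      Module.FinitePresentation.of_equiv ((LinearEquiv.ofInjective _ hinj).trans (LinearEquiv.ofEq _ _ hker.symm))
    haveI : IsScalarTower R (D.B i) (D.M (i + 1)) := IsScalarTower.of_algebraMap_smul fun r m => by
      haveI := tower_A D (i + 1)
      rw [← algebraMap_smul (D.A (i + 1)) (algebraMap R (D.B i) r) m, ← IsScalarTower.algebraMap_apply, algebraMap_smul]
    haveI := hfree
    obtain ⟨σ, hσ⟩ := Module.projective_lifting_property (π.restrictScalars R) LinearMap.id hπ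
    obtain ⟨e, he⟩ : ∃ e : D.M i ≃ₗ[R] (Fin (D.r i) → D.B i) × D.M (i + 1), True :=
      ⟨((Function.Exact.splitSurjectiveEquiv
        (f := (D.α i).restrictScalars R) (g := π.restrictScalars R)
        (LinearMap.exact_iff.mpr (by rw [LinearMap.ker_restrictScalars, hker, LinearMap.range_restrictScalars]))
        hinj) ⟨σ, hσ⟩).1, trivial⟩
    exact ⟨Module.Free.of_equiv e.symm, Module.finitePresentation_of_ker π hπ, fun _ => ⟨e⟩⟩

theorem main [Algebra.FinitePresentation R S] [Module.Finite S N]
    (DD : FlatCA.CompleteDevissageAt R S N (maximalIdeal R) q D)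
    (hflat : FlatCA.FlatAt R q N) :
    Module.FinitePresentation S N ∧ Module.Free R N ∧
      Nonempty (N ≃ₗ[R] (∀ i : Fin D.n, Fin (D.r i) → D.B i)) := by
  have h := free_and_fp DD hflat
  obtain ⟨m, hm⟩ : ∃ m, D.n = m + 1 := ⟨D.n - 1, by have := D.pos; omega⟩
  obtain ⟨hfree, hfp, -⟩ := h m 0 (by omega)
  haveI := D.finiteBA 0 D.pos
  haveI := D.finiteM 0 D.pos
  haveI := D.fpSA
  haveI : Module.FinitePresentation (D.A 0) (D.M 0) := finitePresentation_of_restrictScalars (B := D.B 0)
  haveI : Module.FinitePresentation S (D.M 0) := finitePresentation_of_surjective_algebraMap (A := D.A 0) D.surjSA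
  let eR : N ≃ₗ[R] D.M 0 := { D.isoN.toAddEquiv with map_smul' := isoN_smul D }
  haveI := hfree
  refine ⟨Module.FinitePresentation.of_equiv D.isoN.symm, Module.Free.of_equiv eR.symm, ?_⟩
  obtain ⟨e⟩ := nonempty_pi_equiv (R := R) m D.M (fun i => Fin (D.r i) → D.B i)
    (fun i hi => (h (m - i) i (by omega)).2.2 (by omega)) (by
      obtain rfl : m = D.n - 1 := by omega
      exact ⟨(LinearEquiv.ofBijective (D.α (D.n - 1))
        ⟨injective_α DD hflat (by omega), D.cokerLast⟩).symm.restrictScalars R⟩)
  rw [hm]
  exact ⟨eR.trans e⟩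

end Groth.RaynaudGruson.DevissageFree
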