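import Groth.Agent.RaynaudGruson.NoetherPoint
import Groth.Agent.RaynaudGruson.GeomIntegralNbhd
import Groth.Agent.VarietyBC.IrredComp
import Groth.Agent.GrassRep.Free
import Groth.Agent.S1276
import Groth.Agent.FibreDim.Composition
import Mathlib

/-!
Existence of elementary dévissages.
-/

set_option autoImplicit false
universe u

open TensorProduct

namespace Groth.RaynaudGruson.ElemDev

attribute [local instance] Algebra.TensorProduct.rightAlgebra

theorem bijective_mapₐ_self {R : Type u} [CommRing R] (p : Ideal R) [p.IsPrime] (h : p = p.comap (Algebra.ofId R R)) :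
    Function.Bijective (Ideal.ResidueField.mapₐ p p (Algebra.ofId R R) h) := by
  have : Ideal.ResidueField.mapₐ p p (Algebra.ofId R R) h = AlgHom.id R _ :=
    AlgHom.coe_ringHom_injective (Ideal.ResidueField.ringHom_ext (RingHom.ext fun r => by
      show Ideal.ResidueField.mapₐ p p (Algebra.ofId R R) h (algebraMap R _ r) = algebraMap R _ r
      exact AlgHom.commutes _ r))
  rw [this]; exact Function.bijective_id

theorem sepClosedAlong_of_purelyTranscendental {R D : Type u} [CommRing R] [CommRing D] [Algebra R D] (p : Ideal R)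
    [p.IsPrime] (y : Ideal D) [y.IsPrime] [hyp : y.LiesOver p] (h : FlatCA.PurelyTranscendental p y) :
    GeomIntegralNbhd.SepClosedAlong (Ideal.ResidueField.mapₐ p y (Algebra.ofId R D) hyp.over).toRingHom := by
  letI : Algebra p.ResidueField y.ResidueField :=
    (Ideal.ResidueField.mapₐ p y (Algebra.ofId R D) hyp.over).toRingHom.toAlgebra
  obtain ⟨ι, x, hx, htop⟩ := h
  intro a P hP ha
  have hint : IsIntegral p.ResidueField a :=
    IsAlgebraic.isIntegral ⟨P, hP.ne_zero, by rw [Polynomial.aeval_def]; exact ha⟩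
  let a' : IntermediateField.adjoin p.ResidueField (Set.range x) := ⟨a, htop.ge trivial⟩
  obtain ⟨c, hc⟩ := Groth.VarietyBC.mem_range_of_isIntegral_adjoin hx.1 a'
    (IntermediateField.isIntegral_iff.mpr hint)
  exact ⟨c, congrArg Subtype.val hc⟩

theorem smoothRelDim_mvPolynomial (R : Type u) [CommRing R] (n : ℕ) :
    FlatCA.SmoothRelDim n R (MvPolynomial (Fin n) R) := by
  have h := Groth.GrassRep.standardSmooth_mvPolynomial (R := R) (ULift.{u} (Fin n))
  rw [Nat.card_ulift, Nat.card_fin] at h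
  have h' : Algebra.IsStandardSmoothOfRelativeDimension n R (MvPolynomial (Fin n) R) :=
    Algebra.IsStandardSmoothOfRelativeDimension.of_algEquiv (n := n) (MvPolynomial.renameEquiv R Equiv.ulift)
  exact (AlgebraicGeometry.HasRingHomProperty.Spec_iff (P := @AlgebraicGeometry.SmoothOfRelativeDimension n)).mpr
    (RingHom.locally_of RingHom.isStandardSmoothOfRelativeDimension_respectsIso _
      ((RingHom.isStandardSmoothOfRelativeDimension_algebraMap n).mpr h'))

open AlgebraicGeometry CategoryTheory in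
theorem smoothRelDim_etale_comp {R P D : Type u} [CommRing R] [CommRing P] [CommRing D] [Algebra R P] [Algebra P D]
    [Algebra R D] [IsScalarTower R P D] [Algebra.Etale P D] {n : ℕ} (h : FlatCA.SmoothRelDim n R P) :
    FlatCA.SmoothRelDim n R D := by
  show SmoothOfRelativeDimension n (Spec.map (CommRingCat.ofHom (algebraMap R D)))
  rw [IsScalarTower.algebraMap_eq R P D, CommRingCat.ofHom_comp, Spec.map_comp]
  haveI : Etale (Spec.map (CommRingCat.ofHom (algebraMap P D))) :=
    (HasRingHomProperty.Spec_iff (P := @Etale)).mpr (RingHom.etale_algebraMap.mpr ‹_›)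
  haveI : SmoothOfRelativeDimension n (Spec.map (CommRingCat.ofHom (algebraMap R P))) := h
  exact (Nat.zero_add n) ▸ (smoothOfRelativeDimension_comp (n := 0) (m := n)
    (f := Spec.map (CommRingCat.ofHom (algebraMap P D))) (Spec.map (CommRingCat.ofHom (algebraMap R P))))

/-- A localisation of a base change along a residually trivial point has trivial residue extension. -/
theorem bijective_residue_of_fractions {P S D T : Type u} [CommRing P] [CommRing S] [CommRing D] [CommRing T]
    [Algebra P S] [Algebra P D] [Algebra S T] (ι : D →+* T)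
    (hι : ι.comp (algebraMap P D) = (algebraMap S T).comp (algebraMap P S))
    (y : Ideal P) [y.IsPrime] (y' : Ideal D) [y'.IsPrime] [hy : y'.LiesOver y]
    (q : Ideal S) [q.IsPrime] [q.LiesOver y] (q' : Ideal T) [q'.IsPrime] [hq : q'.LiesOver q]
    (hqy : q'.comap ι = y')
    (hb : Function.Bijective (Ideal.ResidueField.mapₐ y y' (Algebra.ofId P D) hy.over))
    (hfrac : ∀ t : T, ∃ u v, u ∈ Subring.closure (Set.range (algebraMap S T) ∪ Set.range ι) ∧
      v ∈ Subring.closure (Set.range (algebraMap S T) ∪ Set.range ι) ∧ v ∉ q' ∧ t * v = u) :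
    Function.Bijective (Ideal.ResidueField.mapₐ q q' (Algebra.ofId S T) hq.over) := by
  let b : q.ResidueField →ₐ[S] q'.ResidueField := Ideal.ResidueField.mapₐ q q' (Algebra.ofId S T) hq.over
  have hD : ∀ d : D, algebraMap T q'.ResidueField (ι d) ∈ b.toRingHom.fieldRange := by
    intro d
    obtain ⟨c, hc⟩ := hb.2 (algebraMap D y'.ResidueField d)
    let j : y'.ResidueField →+* q'.ResidueField := Ideal.ResidueField.map y' q' ι hqy.symm
    let i : y.ResidueField →+* q.ResidueField :=
      (Ideal.ResidueField.mapₐ y q (Algebra.ofId P S) (Ideal.over_def q y)).toRingHom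
    have hji : j.comp (Ideal.ResidueField.mapₐ y y' (Algebra.ofId P D) hy.over).toRingHom = b.toRingHom.comp i := by
      refine Ideal.ResidueField.ringHom_ext (RingHom.ext fun r => ?_)
      show j (Ideal.ResidueField.mapₐ y y' (Algebra.ofId P D) hy.over (algebraMap P _ r)) =
        b ((Ideal.ResidueField.mapₐ y q (Algebra.ofId P S) (Ideal.over_def q y)) (algebraMap P _ r))
      rw [AlgHom.commutes, AlgHom.commutes, IsScalarTower.algebraMap_apply P D y'.ResidueField,
        IsScalarTower.algebraMap_apply P S q.ResidueField, b.commutes,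
        IsScalarTower.algebraMap_apply S T q'.ResidueField]
      refine (Ideal.ResidueField.map_algebraMap _ _ _ _ _).trans ?_
      exact congrArg (algebraMap T q'.ResidueField) (RingHom.congr_fun hι r)
    refine ⟨i c, ?_⟩
    have := RingHom.congr_fun hji c
    rw [RingHom.comp_apply, RingHom.comp_apply] at this
    rw [← this]
    show j ((Ideal.ResidueField.mapₐ y y' (Algebra.ofId P D) hy.over) c) = _
    rw [hc]
    exact Ideal.ResidueField.map_algebraMap _ _ _ _ _
  have hcl : ∀ u ∈ Subring.closure (Set.range (algebraMap S T) ∪ Set.range ι),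
      algebraMap T q'.ResidueField u ∈ b.toRingHom.fieldRange := fun u hu => by
    refine (Subring.closure_le (t := b.toRingHom.fieldRange.toSubring.comap (algebraMap T q'.ResidueField))).mpr ?_ hu
    rintro _ (⟨s, rfl⟩ | ⟨d, rfl⟩)
    · exact ⟨algebraMap S q.ResidueField s, (b.commutes s).trans (IsScalarTower.algebraMap_apply S T q'.ResidueField s)⟩
    · exact hD d
  have hall : ∀ t : T, algebraMap T q'.ResidueField t ∈ b.toRingHom.fieldRange := fun t => by
    obtain ⟨u, v, hu, hv, hvq, e⟩ := hfrac t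
    have hv0 : algebraMap T q'.ResidueField v ≠ 0 := fun h => hvq (Ideal.algebraMap_residueField_eq_zero.mp h)
    rw [show algebraMap T q'.ResidueField t = algebraMap T _ u / algebraMap T _ v by
      rw [eq_div_iff hv0, ← map_mul, e]]
    exact div_mem (hcl u hu) (hcl v hv)
  refine ⟨b.toRingHom.injective, fun w => ?_⟩
  obtain ⟨u, v, hv, rfl⟩ := IsFractionRing.div_surjective (A := T ⧸ q') w
  obtain ⟨u, rfl⟩ := Ideal.Quotient.mk_surjective u
  obtain ⟨v, rfl⟩ := Ideal.Quotient.mk_surjective v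
  exact div_mem (H := b.toRingHom.fieldRange) (hall u) (hall v)

/-- The point and local dimension of the support on the closed subscheme cut out by `J`. -/
theorem exists_point_quotient {R S : Type u} [CommRing R] [CommRing S] [Algebra R S]
    (p : Ideal R) [p.IsPrime] (q : Ideal S) (J : Ideal S) (supp : Set (PrimeSpectrum (p.Fiber S)))
    (hsupp : ∀ x : PrimeSpectrum (p.Fiber S), FlatCA.fiberIdeal p J ≤ x.asIdeal ↔ x ∈ supp)
    (x : PrimeSpectrum (p.Fiber S)) (hx : x ∈ supp) (hxq : x.asIdeal.comap (algebraMap S (p.Fiber S)) = q)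
    (hqJ : (q.map (Ideal.Quotient.mk J)).comap (Ideal.Quotient.mk J) = q) :
    ∃ Q : PrimeSpectrum (p.Fiber (S ⧸ J)),
      Q.asIdeal.comap (algebraMap (S ⧸ J) (p.Fiber (S ⧸ J))) = q.map (Ideal.Quotient.mk J) ∧
      FlatMor.localDim (PrimeSpectrum (p.Fiber (S ⧸ J))) Q = FlatMor.localDim supp ⟨x, hx⟩ := by
  let ψ : p.Fiber S →ₐ[p.ResidueField] p.Fiber (S ⧸ J) :=
    Algebra.TensorProduct.map (AlgHom.id _ _) (Ideal.Quotient.mkₐ R J)
  have hψ : Function.Surjective ψ := LinearMap.lTensor_surjective _ (g := (Ideal.Quotient.mkₐ R J).toLinearMap)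
    Ideal.Quotient.mk_surjective
  have hker : RingHom.ker ψ.toRingHom = FlatCA.fiberIdeal p J := by
    have h := Algebra.TensorProduct.lTensor_ker (A := p.ResidueField) (Ideal.Quotient.mkₐ R J)
      (Ideal.Quotient.mkₐ_surjective R J)
    have e : RingHom.ker (Ideal.Quotient.mkₐ R J) = J := Ideal.mk_ker
    rw [e] at h
    exact h
  have he := PrimeSpectrum.isClosedEmbedding_comap_of_surjective _ ψ.toRingHom hψ
  have hr : Set.range (PrimeSpectrum.comap ψ.toRingHom) = supp := by
    rw [range_comap_of_surjective _ _ hψ, hker]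
    ext z
    exact hsupp z
  let e : PrimeSpectrum (p.Fiber (S ⧸ J)) ≃ₜ supp := he.isEmbedding.toHomeomorph.trans (Homeomorph.setCongr hr)
  refine ⟨e.symm ⟨x, hx⟩, ?_, ?_⟩
  · apply Ideal.comap_injective_of_surjective _ (Ideal.Quotient.mk_surjective (I := J))
    rw [hqJ, ← hxq]
    conv_rhs => rw [show x = PrimeSpectrum.comap ψ.toRingHom (e.symm ⟨x, hx⟩) from
      congrArg Subtype.val (e.apply_symm_apply ⟨x, hx⟩).symm]
    rfl
  · rw [Groth.FibreDim.localDim_eq_of_homeomorph e, e.apply_symm_apply]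

set_option maxHeartbeats 1600000 in
/-- **Existence of elementary dévissages.** -/
theorem nonempty_elemDevissage {R S : Type u} [CommRing R] [CommRing S] [Algebra R S] [Algebra.FiniteType R S]
    (N : Type u) [AddCommGroup N] [Module S N] [Module R N] [IsScalarTower R S N] [Module.Finite S N]
    (p : Ideal R) [p.IsPrime] (q : Ideal S) [q.IsPrime] [q.LiesOver p] (n : ℕ)
    (x : PrimeSpectrum (p.Fiber S)) (hxq : x.asIdeal = FlatCA.fiberIdeal p q)
    (hx : x ∈ Module.support (p.Fiber S) (FlatCA.fiberMod p S N))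
    (hn : FlatMor.localDim (Module.support (p.Fiber S) (FlatCA.fiberMod p S N)) ⟨x, hx⟩ = n) :
    Nonempty (FlatCA.ElemDevissage R S N p q n) := by
  -- the closed subscheme `V(J)`
  obtain ⟨J, hJfg, hJann, hJ⟩ := Groth.Agent.S1276.result (A := R) (B := S) N p
  have hxq' := Groth.Flatmor4.comap_eq_of_asIdeal_eq_fiberIdeal p q x hxq
  have hJq : J ≤ q := fun j hj => by
    rw [← hxq']
    exact (hJ x).mpr hx (Ideal.mem_map_of_mem _ hj)
  have hqJ : (q.map (Ideal.Quotient.mk J)).comap (Ideal.Quotient.mk J) = q := by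
    rw [Ideal.comap_map_of_surjective _ Ideal.Quotient.mk_surjective, ← RingHom.ker_eq_comap_bot,
      Ideal.mk_ker, sup_eq_left.mpr hJq]
  let B : Type u := S ⧸ J
  let qB : Ideal B := q.map (Ideal.Quotient.mk J)
  haveI : qB.IsPrime := Ideal.map_isPrime_of_surjective Ideal.Quotient.mk_surjective (by rwa [Ideal.mk_ker])
  haveI : qB.LiesOver p := ⟨by rw [Ideal.over_def q p, ← hqJ]; rfl⟩
  obtain ⟨Q, hQ, hQdim⟩ := exists_point_quotient p q J _ hJ x hx hxq' hqJ
  rw [hn] at hQdim
  -- normalisation at the point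
  obtain ⟨bv, y₀, hy₀, hy₀p, hqy₀, hqf, hPT⟩ :=
    NoetherPoint.exists_quasiFiniteAt_purelyTranscendental (B := B) p qB Q hQ n hQdim
  choose tv htv using fun i => Ideal.Quotient.mk_surjective (bv i)
  let P : Type u := MvPolynomial (Fin n) R
  letI aPS : Algebra P S := (MvPolynomial.aeval tv).toRingHom.toAlgebra
  haveI : IsScalarTower R P S := IsScalarTower.of_algebraMap_eq fun r => ((MvPolynomial.aeval tv).commutes r).symm
  have hPB : algebraMap P B = (MvPolynomial.aeval bv).toRingHom := by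
    refine MvPolynomial.ringHom_ext (fun r => ?_) (fun i => ?_)
    · show Ideal.Quotient.mk J ((MvPolynomial.aeval tv) (MvPolynomial.C r)) = (MvPolynomial.aeval bv) (MvPolynomial.C r)
      rw [MvPolynomial.aeval_C, MvPolynomial.aeval_C]; rfl
    · show Ideal.Quotient.mk J ((MvPolynomial.aeval tv) (MvPolynomial.X i)) = (MvPolynomial.aeval bv) (MvPolynomial.X i)
      rw [MvPolynomial.aeval_X, MvPolynomial.aeval_X, htv]
  have eAlg : (MvPolynomial.aeval bv).toRingHom.toAlgebra = (inferInstance : Algebra P B) :=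
    Algebra.algebra_ext _ _ fun r => (RingHom.congr_fun hPB r).symm
  have hqy₀' := hqy₀
  rw [eAlg] at hqy₀'
  haveI := hqy₀'
  have hqf' := hqf
  rw [eAlg] at hqf'
  haveI := hqf'
  haveI : IsScalarTower R P B := IsScalarTower.of_algebraMap_eq fun r => by
    rw [hPB]; exact ((MvPolynomial.aeval bv).commutes r).symm
  haveI : IsScalarTower P S B := IsScalarTower.of_algebraMap_eq fun r => rfl
  haveI : Algebra.FiniteType P B := .of_restrictScalars_finiteType R _ _
  -- finite over an étale neighbourhood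
  obtain ⟨D₀, _, _, _, y₁, _, _, e, -, P', _, _, hP'q, heP', hbij, hfin, huniq⟩ :=
    Algebra.exists_etale_isIdempotentElem_forall_liesOver_eq y₀ qB
  letI : Algebra R D₀ := ((algebraMap P D₀).comp (algebraMap R P)).toAlgebra
  haveI : IsScalarTower R P D₀ := .of_algebraMap_eq' rfl
  have hD₀ : FlatCA.SmoothRelDim n R D₀ := smoothRelDim_etale_comp (smoothRelDim_mvPolynomial R n)
  haveI : y₁.LiesOver p := Ideal.LiesOver.trans y₁ y₀ p
  haveI : p.LiesOver p := ⟨(Ideal.comap_id p).symm⟩
  have hPT₁ : FlatCA.PurelyTranscendental p y₁ :=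
    Groth.Flatmor4.purelyTranscendental_of_bijective p p y₀ y₁ (bijective_mapₐ_self p _) hbij hPT
  obtain ⟨R', _, _, p', _, hR', D, _, _, _, _, _, _, -, y', _, _, _, hDet, hGI, hsm⟩ :=
    GeomIntegralNbhd.exists_nbhd_geomIntegralFibres n hD₀ p y₁ (sepClosedAlong_of_purelyTranscendental p y₁ hPT₁)
  have hPT' : FlatCA.PurelyTranscendental p' y' := by
    haveI := hR'.2.1
    exact Groth.Flatmor4.purelyTranscendental_of_bijective p p' y₁ y' hR'.2.2 hDet.2.2 hPT₁
  haveI : Algebra.Etale D₀ D := hDet.1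
  letI : Algebra P D := ((algebraMap D₀ D).comp (algebraMap P D₀)).toAlgebra
  haveI : IsScalarTower P D₀ D := .of_algebraMap_eq' rfl
  haveI : IsScalarTower R P D := IsScalarTower.of_algebraMap_eq fun r => by
    rw [IsScalarTower.algebraMap_apply R D₀ D, IsScalarTower.algebraMap_apply R P D₀]; rfl
  haveI : Algebra.Etale P D := Algebra.Etale.comp P D₀ D
  haveI hy'y₀ : y'.LiesOver y₀ := Ideal.LiesOver.trans y' y₁ y₀
  have hbij' : Function.Bijective (Ideal.ResidueField.mapₐ y₀ y' (Algebra.ofId P D) hy'y₀.over) := by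
    rw [show ⇑(Ideal.ResidueField.mapₐ y₀ y' (Algebra.ofId P D) hy'y₀.over) =
      ⇑(Ideal.ResidueField.mapₐ y₁ y' (Algebra.ofId D₀ D) hDet.2.1.over) ∘
        ⇑(Ideal.ResidueField.mapₐ y₀ y₁ (Algebra.ofId P D₀) (Ideal.over_def y₁ y₀)) from ?_]
    · exact hDet.2.2.comp hbij
    refine congrArg DFunLike.coe (Ideal.ResidueField.ringHom_ext
      (f := (Ideal.ResidueField.mapₐ y₀ y' (Algebra.ofId P D) hy'y₀.over).toRingHom)
      (g := (Ideal.ResidueField.mapₐ y₁ y' (Algebra.ofId D₀ D) hDet.2.1.over).toRingHom.comp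
        (Ideal.ResidueField.mapₐ y₀ y₁ (Algebra.ofId P D₀) (Ideal.over_def y₁ y₀)).toRingHom) (RingHom.ext fun r => ?_))
    show Ideal.ResidueField.mapₐ y₀ y' (Algebra.ofId P D) hy'y₀.over (algebraMap P _ r) =
      Ideal.ResidueField.mapₐ y₁ y' (Algebra.ofId D₀ D) hDet.2.1.over
        (Ideal.ResidueField.mapₐ y₀ y₁ (Algebra.ofId P D₀) (Ideal.over_def y₁ y₀) (algebraMap P _ r))
    rw [AlgHom.commutes, AlgHom.commutes, IsScalarTower.algebraMap_apply P D₀ y₁.ResidueField, AlgHom.commutes,
      ← IsScalarTower.algebraMap_apply P D₀ y'.ResidueField]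
  -- the rings
  let mD : D₀ ⊗[P] B →ₐ[P] D ⊗[P] B := Algebra.TensorProduct.map (IsScalarTower.toAlgHom P D₀ D) (AlgHom.id P B)
  let eD : D ⊗[P] B := mD e
  let Ψ : S ⊗[P] D →ₐ[P] D ⊗[P] B :=
    (Algebra.TensorProduct.map (AlgHom.id P D) (IsScalarTower.toAlgHom P S B)).comp
      (Algebra.TensorProduct.comm P S D).toAlgHom
  have hΨ : Function.Surjective Ψ :=
    (LinearMap.lTensor_surjective D (g := (IsScalarTower.toAlgHom P S B).toLinearMap)
      Ideal.Quotient.mk_surjective).comp (Algebra.TensorProduct.comm P S D).surjective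
  obtain ⟨et, het⟩ := hΨ eD
  obtain ⟨S', _, aT, hlocS'⟩ : ∃ (S' : Type u) (_ : CommRing S') (_ : Algebra (S ⊗[P] D) S'),
      IsLocalization.Away et S' := ⟨Localization.Away et, inferInstance, inferInstance, inferInstance⟩
  letI aSS' : Algebra S S' := ((algebraMap (S ⊗[P] D) S').comp (algebraMap S (S ⊗[P] D))).toAlgebra
  haveI : IsScalarTower S (S ⊗[P] D) S' := .of_algebraMap_eq' rfl
  letI aRS' : Algebra R S' := ((algebraMap S S').comp (algebraMap R S)).toAlgebra
  haveI : IsScalarTower R S S' := .of_algebraMap_eq' rfl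
  let ι : D →+* S' := (algebraMap (S ⊗[P] D) S').comp (Algebra.TensorProduct.includeRight (R := P) (A := S) (B := D)).toRingHom
  letI aDS' : Algebra D S' := ι.toAlgebra
  letI aR'S' : Algebra R' S' := (ι.comp (algebraMap R' D)).toAlgebra
  have hιP : ι.comp (algebraMap P D) = (algebraMap S S').comp (algebraMap P S) := RingHom.ext fun r => by
    show algebraMap (S ⊗[P] D) S' (Algebra.TensorProduct.includeRight (R := P) (A := S) (B := D) (algebraMap P D r)) = _
    rw [AlgHom.commutes, IsScalarTower.algebraMap_apply P S (S ⊗[P] D)]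
    exact (IsScalarTower.algebraMap_apply S (S ⊗[P] D) S' _).symm
  haveI : Algebra.Etale S (S ⊗[P] D) := inferInstance
  haveI : Algebra.Etale (S ⊗[P] D) S' := Algebra.Etale.of_isLocalizationAway et
  haveI hS'et : Algebra.Etale S S' := Algebra.Etale.comp S (S ⊗[P] D) S'
  let K : Ideal S' := J.map (algebraMap S S')
  obtain ⟨C, _, κ, hκs, hκker⟩ : ∃ (C : Type u) (_ : CommRing C) (κ : S' →+* C),
      Function.Surjective κ ∧ RingHom.ker κ = K :=
    ⟨S' ⧸ K, inferInstance, Ideal.Quotient.mk K, Ideal.Quotient.mk_surjective, Ideal.mk_ker⟩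
  letI aS'C : Algebra S' C := κ.toAlgebra
  letI aR'C : Algebra R' C := (κ.comp (algebraMap R' S')).toAlgebra
  haveI : IsScalarTower R' S' C := .of_algebraMap_eq' rfl
  letI aDC : Algebra D C := (κ.comp ι).toAlgebra
  letI aD₀C : Algebra D₀ C := ((algebraMap D C).comp (algebraMap D₀ D)).toAlgebra
  haveI : IsScalarTower D₀ D C := .of_algebraMap_eq' rfl
  letI aPC : Algebra P C := ((algebraMap D C).comp (algebraMap P D)).toAlgebra
  haveI : IsScalarTower P D C := .of_algebraMap_eq' rfl
  let θB : B →+* C := Ideal.Quotient.lift J (κ.comp (algebraMap S S'))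
    fun j hj => by
      rw [RingHom.comp_apply, ← RingHom.mem_ker, hκker]
      exact Ideal.mem_map_of_mem _ hj
  let θB' : B →ₐ[P] C :=
    { toRingHom := θB
      commutes' := fun r => by
        show θB (algebraMap P B r) = κ (ι (algebraMap P D r))
        rw [IsScalarTower.algebraMap_apply P S B, show ι (algebraMap P D r) = _ from RingHom.congr_fun hιP r]
        rfl }
  let Λ : D ⊗[P] B →ₐ[D] C := Algebra.TensorProduct.lift (Algebra.ofId D C) θB' fun _ _ => .all _ _
  have hΛd : ∀ (d : D) (c : B), Λ (d ⊗ₜ c) = κ (ι d) * θB c := fun d c => Algebra.TensorProduct.lift_tmul _ _ _ d c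
  have hΛΨ : ∀ w : S ⊗[P] D, Λ (Ψ w) = κ (algebraMap (S ⊗[P] D) S' w) := by
    intro w
    induction w with
    | zero => simp
    | add a c ha hc => simp only [map_add, ha, hc]
    | tmul s d =>
      show Λ (d ⊗ₜ (algebraMap S B s)) = _
      rw [hΛd, show θB (algebraMap S B s) = κ (algebraMap S S' s) from rfl, ← map_mul]
      congr 1
      show algebraMap (S ⊗[P] D) S' ((1 : S) ⊗ₜ d) * _ = _
      rw [IsScalarTower.algebraMap_apply S (S ⊗[P] D) S' s, ← map_mul, Algebra.TensorProduct.algebraMap_apply,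
        Algebra.TensorProduct.tmul_mul_tmul, one_mul, mul_one]
      rfl
  have hΛe : IsUnit (Λ eD) := by
    rw [← het, hΛΨ]
    exact (IsLocalization.Away.algebraMap_isUnit et).map κ
  -- primes of the fibre
  let φ := Ideal.fiberIsoOfBijectiveResidueField (R' := D) (S := B) hbij'
  let φ₀ := Ideal.fiberIsoOfBijectiveResidueField (R' := D₀) (S := B) hbij
  let QD : y'.primesOver (D ⊗[P] B) := φ.symm ⟨qB, inferInstance, hqy₀'⟩
  haveI : QD.1.IsPrime := QD.2.1
  have hQDB : QD.1.comap (Algebra.TensorProduct.includeRight (R := P) (A := D) (B := B)).toRingHom = qB :=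
    Ideal.comap_fiberIsoOfBijectiveResidueField_symm hbij' _
  have hover₀ : ∀ (W : Ideal (D ⊗[P] B)) [W.IsPrime], W.LiesOver y' → (W.comap mD.toRingHom).LiesOver y₁ := by
    intro W _ hW
    refine ⟨?_⟩
    rw [Ideal.over_def y' y₁, hW.over]
    ext d
    show algebraMap D (D ⊗[P] B) (algebraMap D₀ D d) ∈ W ↔ mD (algebraMap D₀ (D₀ ⊗[P] B) d) ∈ W
    rw [Algebra.TensorProduct.algebraMap_apply, Algebra.TensorProduct.algebraMap_apply]
    simp [mD]
  have hcompB : ∀ (W : Ideal (D ⊗[P] B)), (W.comap mD.toRingHom).comap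
      (Algebra.TensorProduct.includeRight (R := P) (A := D₀) (B := B)).toRingHom =
      W.comap (Algebra.TensorProduct.includeRight (R := P) (A := D) (B := B)).toRingHom := by
    intro W
    ext c
    show mD ((1 : D₀) ⊗ₜ c) ∈ W ↔ _
    simp [mD]
  have hQDP : QD.1.comap mD.toRingHom = P' := by
    haveI := hover₀ QD.1 QD.2.2
    have key : ∀ A₁ A₂ : y₁.primesOver (D₀ ⊗[P] B),
        A₁.1.comap (Algebra.TensorProduct.includeRight (R := P) (A := D₀) (B := B)).toRingHom =
          A₂.1.comap (Algebra.TensorProduct.includeRight (R := P) (A := D₀) (B := B)).toRingHom → A₁.1 = A₂.1 := by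
      intro A₁ A₂ h
      obtain ⟨B₁, rfl⟩ := φ₀.symm.surjective A₁
      obtain ⟨B₂, rfl⟩ := φ₀.symm.surjective A₂
      erw [Ideal.comap_fiberIsoOfBijectiveResidueField_symm, Ideal.comap_fiberIsoOfBijectiveResidueField_symm] at h
      rw [Subtype.ext h]
    refine key ⟨_, Ideal.IsPrime.comap _, this⟩ ⟨P', inferInstance, inferInstance⟩ ?_
    exact (hcompB QD.1).trans (hQDB.trans hP'q.symm)
  have heQD : eD ∉ QD.1 := fun h => heP' (hQDP.le h)
  -- the points
  let qT : Ideal (S ⊗[P] D) := QD.1.comap Ψ.toRingHom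
  have hetq : et ∉ qT := fun h => heQD (het ▸ (h : Ψ et ∈ QD.1))
  have hdisj : Disjoint (Submonoid.powers et : Set (S ⊗[P] D)) (qT : Set (S ⊗[P] D)) :=
    (Ideal.disjoint_powers_iff_notMem_of_isPrime _).mpr hetq
  let q' : Ideal S' := qT.map (algebraMap (S ⊗[P] D) S')
  haveI hq'prime : q'.IsPrime := IsLocalization.isPrime_of_isPrime_disjoint (Submonoid.powers et) S' qT inferInstance hdisj
  have hq'T : q'.comap (algebraMap (S ⊗[P] D) S') = qT :=
    IsLocalization.comap_map_of_isPrime_disjoint (Submonoid.powers et) S' inferInstance hdisj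
  haveI hq'q : q'.LiesOver q := ⟨by
    rw [← hqJ]
    ext s
    show Ideal.Quotient.mk J s ∈ qB ↔ algebraMap S S' s ∈ q'
    rw [IsScalarTower.algebraMap_apply S (S ⊗[P] D) S' s, ← Ideal.mem_comap (f := algebraMap (S ⊗[P] D) S'), hq'T,
      ← hQDB]
    rfl⟩
  have hq'y : q'.comap ι = y' := by
    rw [QD.2.2.over]
    ext d
    show algebraMap (S ⊗[P] D) S' ((1 : S) ⊗ₜ d) ∈ q' ↔ algebraMap D (D ⊗[P] B) d ∈ QD.1
    rw [← Ideal.mem_comap (f := algebraMap (S ⊗[P] D) S'), hq'T, Algebra.TensorProduct.algebraMap_apply]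
    show Ψ ((1 : S) ⊗ₜ d) ∈ QD.1 ↔ _
    simp [Ψ]
  haveI hq'p' : q'.LiesOver p' := ⟨by
    rw [Ideal.over_def y' p', ← hq'y]
    rfl⟩
  haveI hqy : q.LiesOver y₀ := ⟨by rw [hqy₀'.over, ← hqJ]; rfl⟩
  have hresS : Function.Bijective (Ideal.ResidueField.mapₐ q q' (Algebra.ofId S S') hq'q.over) := by
    refine bijective_residue_of_fractions ι hιP y₀ y' q q' hq'y hbij' fun t => ?_
    obtain ⟨⟨w, v, hv⟩, e⟩ := IsLocalization.surj (Submonoid.powers et) t
    have hmem : ∀ a : S ⊗[P] D, algebraMap (S ⊗[P] D) S' a ∈ Subring.closure (Set.range (algebraMap S S') ∪ Set.range ι) := by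
      intro a
      induction a with
      | zero => simp
      | add a c ha hc => rw [map_add]; exact add_mem ha hc
      | tmul s d =>
        rw [show s ⊗ₜ[P] d = algebraMap S (S ⊗[P] D) s * ((1 : S) ⊗ₜ d) by simp, map_mul,
          ← IsScalarTower.algebraMap_apply]
        exact mul_mem (Subring.subset_closure (.inl ⟨s, rfl⟩)) (Subring.subset_closure (.inr ⟨d, rfl⟩))
    exact ⟨_, _, hmem w, hmem v, fun h => hdisj.le_bot ⟨hv, hq'T.le h⟩, e⟩
  haveI : IsScalarTower R S S' := inferInstance
  haveI : IsScalarTower R R' S' := IsScalarTower.of_algebraMap_eq fun r => by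
    show _ = ι (algebraMap R' D (algebraMap R R' r))
    rw [← IsScalarTower.algebraMap_apply R R' D, IsScalarTower.algebraMap_apply R P D,
      show ι (algebraMap P D _) = _ from RingHom.congr_fun hιP (algebraMap R P r), RingHom.comp_apply,
      ← IsScalarTower.algebraMap_apply R P S, IsScalarTower.algebraMap_apply R S S']
  haveI : IsScalarTower R' D C := IsScalarTower.of_algebraMap_eq fun _ => rfl
  -- finiteness
  have hsurjΛ : ∀ c : C, ∃ (w : D ⊗[P] B) (u : Cˣ), c * u = Λ w ∧ ∃ k : ℕ, (u : C) = Λ eD ^ k := by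
    intro c
    obtain ⟨t, rfl⟩ := hκs c
    obtain ⟨k, w, e⟩ := IsLocalization.Away.surj et t
    refine ⟨Ψ w, hΛe.unit ^ k, ?_, k, by simp⟩
    rw [hΛΨ, Units.val_pow_eq_pow_val, IsUnit.unit_spec, ← het, hΛΨ, ← map_pow, ← map_mul]
    exact congrArg κ e
  have hfinC : Module.Finite D C := by
    haveI := hfin
    let θ₀ : D₀ ⊗[P] B →ₐ[D₀] C := AlgHom.comp (Λ.restrictScalars D₀)
      (Algebra.TensorProduct.lift (Algebra.ofId D₀ (D ⊗[P] B))
        ((Algebra.TensorProduct.includeRight : B →ₐ[P] D ⊗[P] B)) fun _ _ => .all _ _)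
    have hθ₀ : ∀ w, θ₀ w = Λ (mD w) := by
      intro w
      induction w with
      | zero => simp
      | add a c ha hc => simp only [map_add, ha, hc]
      | tmul d c =>
        refine congrArg Λ ?_
        simp [mD, IsScalarTower.algebraMap_apply D₀ D (D ⊗[P] B)]
        rw [Algebra.TensorProduct.algebraMap_apply, Algebra.TensorProduct.tmul_mul_tmul]
        simp
    let θ : Localization.Away e →ₐ[D₀] C := IsLocalization.liftAlgHom (M := Submonoid.powers e) (f := θ₀) (by
      rintro ⟨_, k, rfl⟩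
      show IsUnit (θ₀ (e ^ k))
      rw [map_pow, hθ₀]
      exact hΛe.pow k)
    let Θ : D ⊗[D₀] Localization.Away e →ₐ[D] C :=
      Algebra.TensorProduct.lift (Algebra.ofId D C) θ fun _ _ => .all _ _
    have hΘs : ∀ z, Θ ((1 : D) ⊗ₜ z) = θ z := fun z => by
      rw [Algebra.TensorProduct.lift_tmul, map_one, one_mul]
    have hΘB : ∀ c : B, θB c ∈ Θ.range := fun c => ⟨(1 : D) ⊗ₜ algebraMap (D₀ ⊗[P] B) _ ((1 : D₀) ⊗ₜ c), by
      show Θ _ = _
      rw [hΘs, IsLocalization.liftAlgHom_apply, IsLocalization.lift_eq]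
      show θ₀ ((1 : D₀) ⊗ₜ c) = _
      rw [hθ₀]
      simp [mD, hΛd]⟩
    have hΘΛ : ∀ w, Λ w ∈ Θ.range := fun w => by
      induction w with
      | zero => simp
      | add a c ha hc => rw [map_add]; exact add_mem ha hc
      | tmul d c => rw [hΛd]; exact mul_mem (Θ.range.algebraMap_mem d) (hΘB c)
    refine Module.Finite.of_surjective Θ.toLinearMap fun c => ?_
    obtain ⟨w, u, hcu, k, hu⟩ := hsurjΛ c
    have hinv : ((u⁻¹ : Cˣ) : C) ∈ Θ.range := by
      refine ⟨(1 : D) ⊗ₜ IsLocalization.mk' _ 1 (⟨e ^ k, k, rfl⟩ : Submonoid.powers e), ?_⟩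
      show Θ _ = _
      rw [hΘs]
      refine u.eq_inv_of_mul_eq_one_left ?_ |>.trans rfl
      rw [hu, ← hθ₀, ← map_pow]
      rw [mul_comm]
      rw [show θ₀ (e ^ k) = θ (algebraMap _ _ (e ^ k)) by
        rw [IsLocalization.liftAlgHom_apply, IsLocalization.lift_eq]; rfl, ← map_mul]
      rw [IsLocalization.mk'_spec, map_one, map_one]
    have : c ∈ Θ.range := by
      rw [← mul_one c, ← u.mul_inv, ← mul_assoc, hcu]
      exact mul_mem (hΘΛ w) hinv
    exact this
  -- the point of `C`
  have hKq' : K ≤ q' := Ideal.map_le_iff_le_comap.mpr (hJq.trans (Ideal.over_def q' q).le)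
  let z : Ideal C := q'.map κ
  haveI : z.IsPrime := Ideal.map_isPrime_of_surjective hκs (by rwa [hκker])
  have hzq : z.comap κ = q' := by
    rw [Ideal.comap_map_of_surjective _ hκs, ← RingHom.ker_eq_comap_bot,
      hκker, sup_eq_left.mpr hKq']
  have huniqC : ∀ (z₁ : Ideal C) [z₁.IsPrime], z₁.LiesOver y' → z₁.comap Λ.toRingHom = QD.1 := by
    intro z₁ _ hz₁
    let W : Ideal (D ⊗[P] B) := z₁.comap Λ.toRingHom
    haveI hW : W.LiesOver y' := ⟨by
      rw [hz₁.over]; ext d
      show algebraMap D C d ∈ z₁ ↔ Λ (algebraMap D (D ⊗[P] B) d) ∈ z₁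
      rw [AlgHom.commutes]⟩
    haveI := hover₀ W hW
    have hW0 : W.comap mD.toRingHom = P' := huniq _ inferInstance this fun h =>
      Ideal.IsPrime.ne_top ‹z₁.IsPrime› (Ideal.eq_top_of_isUnit_mem _ (show Λ eD ∈ z₁ from h) hΛe)
    have hWB : W.comap (Algebra.TensorProduct.includeRight (R := P) (A := D) (B := B)).toRingHom = qB := by
      rw [← hcompB, hW0, hP'q]
    obtain ⟨B₁, hB₁⟩ := φ.symm.surjective ⟨W, inferInstance, hW⟩
    have h1 : B₁.1 = qB := by
      rw [← hWB, ← show (φ.symm B₁).1 = W from congrArg Subtype.val hB₁]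
      exact (Ideal.comap_fiberIsoOfBijectiveResidueField_symm hbij' B₁).symm
    have : B₁ = ⟨qB, inferInstance, hqy₀'⟩ := Subtype.ext h1
    rw [this] at hB₁
    exact (congrArg Subtype.val hB₁).symm
  have hzy : z.LiesOver y' := ⟨by
    rw [← hq'y, ← hzq]; rfl⟩
  have htor : Module.IsTorsionBySet S' (S' ⊗[S] N) (K : Set S') := by
    rintro w ⟨a, ha⟩
    induction w with
    | zero => simp
    | add u v hu hv => rw [smul_add, hu, hv, add_zero]
    | tmul t m =>
      show (a * t) ⊗ₜ[S] m = 0
      have hat : a * t ∈ J.map (algebraMap S S') := Ideal.mul_mem_right _ _ ha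
      clear ha
      generalize a * t = c at hat
      induction hat using Submodule.span_induction generalizing m with
      | mem c hc =>
        obtain ⟨j, hj, rfl⟩ := hc
        rw [Algebra.algebraMap_eq_smul_one, smul_tmul, Module.mem_annihilator.mp (hJann hj), tmul_zero]
      | zero => simp
      | add c d _ _ hc hd => rw [add_tmul, hc, hd, add_zero]
      | smul r c _ hc =>
        rw [← smul_tmul', hc, smul_zero]
  let eC : C ≃+* S' ⧸ K := ((Ideal.quotEquivOfEq hκker.symm).trans (RingHom.quotientKerEquivOfSurjective hκs)).symm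
  letI mQ : Module (S' ⧸ K) (S' ⊗[S] N) := htor.module
  letI mC : Module C (S' ⊗[S] N) := Module.compHom _ eC.toRingHom
  haveI : IsScalarTower S' C (S' ⊗[S] N) := IsScalarTower.of_algebraMap_smul fun a w => by
    show eC (κ a) • w = a • w
    rw [show eC (κ a) = Ideal.Quotient.mk K a from eC.eq_symm_apply.mp rfl]
    exact Module.IsTorsionBySet.mk_smul htor a w
  haveI : IsScalarTower D S' (S' ⊗[S] N) := IsScalarTower.of_algebraMap_smul fun d w => by
    induction w with
    | zero => simp
    | add u v hu hv => rw [smul_add, smul_add, hu, hv]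
    | tmul t m => rw [smul_tmul', smul_tmul', algebraMap_smul]
  haveI : IsScalarTower R' S' (S' ⊗[S] N) := IsScalarTower.of_algebraMap_smul fun d w => by
    induction w with
    | zero => simp
    | add u v hu hv => rw [smul_add, smul_add, hu, hv]
    | tmul t m => rw [smul_tmul', smul_tmul', algebraMap_smul]
  haveI : IsScalarTower D C (S' ⊗[S] N) := IsScalarTower.of_algebraMap_smul fun d w => by
    show algebraMap S' C (algebraMap D S' d) • w = d • w
    rw [IsScalarTower.algebraMap_smul, IsScalarTower.algebraMap_smul]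
  haveI : IsScalarTower R' C (S' ⊗[S] N) := IsScalarTower.of_algebraMap_smul fun r w => by
    show algebraMap S' C (algebraMap R' S' r) • w = r • w
    rw [IsScalarTower.algebraMap_smul, IsScalarTower.algebraMap_smul]
  haveI : IsScalarTower R' D (S' ⊗[S] N) := IsScalarTower.of_algebraMap_smul fun r w => by
    rw [← IsScalarTower.algebraMap_smul S' (algebraMap R' D r) w, ← IsScalarTower.algebraMap_smul S' r w]
    rfl
  exact ⟨{
    R' := R', S' := S', C := C, D := D, N' := S' ⊗[S] N, G := S' ⊗[S] N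
    p' := p', q' := q', z := z, y := y'
    etaleR := hR'
    etaleS := ⟨hS'et, hq'q, hresS⟩
    f := TensorProduct.mk S S' N 1
    isBaseChange := TensorProduct.isBaseChange S N S'
    surjC := hκs
    fpC := Algebra.FinitePresentation.of_surjective (f := Algebra.ofId S' C) hκs (by
      show (RingHom.ker κ).FG
      rw [hκker]; exact hJfg.map (algebraMap S S'))
    iso := LinearEquiv.refl _ _
    finiteDC := hfinC
    finiteG := Module.Finite.of_restrictScalars_finite S' C _
    zOver := ⟨hzq.symm⟩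
    zOverY := hzy
    uniq := fun z₁ _ hz₁ => by
      ext c
      obtain ⟨w, u, hcu, -⟩ := hsurjΛ c
      rw [← Ideal.mul_unit_mem_iff_mem z₁ u.isUnit, ← Ideal.mul_unit_mem_iff_mem z u.isUnit, hcu]
      show w ∈ z₁.comap Λ.toRingHom ↔ w ∈ z.comap Λ.toRingHom
      rw [huniqC z₁ hz₁, huniqC z hzy]
    pureTrans := hPT'
    smooth := hsm
    geomInt := hGI }⟩

end Groth.RaynaudGruson.ElemDev
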