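import Mathlib
import Groth.Prelude.Def_FlatCA
import Groth.Agent.Flatmor4.DevissageAt
import Groth.Agent.Flatmor4.DevissageShrink
import Groth.Agent.DescentBase.DimEtale
import Groth.Agent.RaynaudGruson.ElemDevissage

/-!
Pushouts along étale maps: algebra, residue fields and the dimension of supports.
-/

set_option autoImplicit false
set_option linter.style.haveILetI false
universe u

open TensorProduct CategoryTheory AlgebraicGeometry

namespace Groth.RaynaudGruson.EtalePushout

theorem exists_pushout (A B A' : Type u) [CommRing A] [CommRing B] [CommRing A'] [Algebra A B] [Algebra A A'] :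
    ∃ (B' : Type u) (_ : CommRing B') (_ : Algebra A' B') (_ : Algebra B B') (_ : Algebra A B')
      (_ : IsScalarTower A A' B') (_ : IsScalarTower A B B'), Algebra.IsPushout A A' B B' :=
  letI := Algebra.TensorProduct.rightAlgebra (R := A) (A := A') (B := B)
  ⟨A' ⊗[A] B, inferInstance, inferInstance, inferInstance, inferInstance, inferInstance, inferInstance,
    inferInstance⟩

theorem exists_baseChange (A A' : Type u) [CommRing A] [CommRing A'] [Algebra A A'] (M : Type u) [AddCommGroup M]
    [Module A M] :
    ∃ (M' : Type u) (_ : AddCommGroup M') (_ : Module A' M') (_ : Module A M') (_ : IsScalarTower A A' M')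
      (g : M →ₗ[A] M'), IsBaseChange A' g :=
  ⟨A' ⊗[A] M, inferInstance, inferInstance, inferInstance, inferInstance, _, TensorProduct.isBaseChange A M A'⟩

section ring

variable {A A' B B' : Type u} [CommRing A] [CommRing A'] [CommRing B] [CommRing B'] [Algebra A A'] [Algebra A B]
  [Algebra A' B'] [Algebra B B'] [Algebra A B'] [IsScalarTower A A' B'] [IsScalarTower A B B']

theorem etale_of_isPushout [Algebra.IsPushout A A' B B'] [Algebra.Etale A B] : Algebra.Etale A' B' :=
  Algebra.Etale.of_equiv (Algebra.IsPushout.equiv A A' B B')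

theorem etale_of_isPushout' [Algebra.IsPushout A A' B B'] [Algebra.Etale A A'] : Algebra.Etale B B' :=
  haveI : Algebra.IsPushout A B A' B' := Algebra.IsPushout.symm inferInstance
  etale_of_isPushout (A := A) (A' := B) (B := A') (B' := B')

/-- Surjective maps give a pushout square when the kernel is the extended kernel. -/
theorem isPushout_of_surjective_ker (h : Function.Surjective (algebraMap A B))
    (h' : Function.Surjective (algebraMap A' B'))
    (hk : RingHom.ker (algebraMap A' B') ≤ (RingHom.ker (algebraMap A B)).map (algebraMap A A')) :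
    Algebra.IsPushout A A' B B' := by
  let f : A' ⊗[A] B →ₐ[A'] B' := Algebra.TensorProduct.lift (Algebra.ofId A' B')
    (IsScalarTower.toAlgHom A B B') fun _ _ => .all _ _
  have hs : Function.Surjective (Algebra.TensorProduct.includeLeft (R := A) (S := A) (A := A') (B := B)) := by
    intro w
    induction w with
    | zero => exact ⟨0, map_zero _⟩
    | add u v hu hv =>
      obtain ⟨a, rfl⟩ := hu; obtain ⟨b, rfl⟩ := hv
      exact ⟨a + b, map_add _ _ _⟩
    | tmul a b =>
      obtain ⟨x, rfl⟩ := h b
      refine ⟨x • a, ?_⟩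
      show (x • a) ⊗ₜ[A] (1 : B) = _
      rw [TensorProduct.smul_tmul, Algebra.smul_def, mul_one]
  have hle : (RingHom.ker (algebraMap A B)).map (algebraMap A A') ≤
      RingHom.ker (Algebra.TensorProduct.includeLeft (R := A) (S := A) (A := A') (B := B)).toRingHom := by
    rw [Ideal.map_le_iff_le_comap]
    intro a ha
    show (algebraMap A A' a) ⊗ₜ[A] (1 : B) = 0
    rw [Algebra.algebraMap_eq_smul_one, TensorProduct.smul_tmul, ← Algebra.algebraMap_eq_smul_one,
      show algebraMap A B a = 0 from ha, TensorProduct.tmul_zero]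
  have hf : Function.Bijective f := by
    refine ⟨(injective_iff_map_eq_zero f).2 fun w hw => ?_, fun b => ?_⟩
    · obtain ⟨a, rfl⟩ := hs w
      refine hle (hk ?_)
      show algebraMap A' B' a = 0
      rw [← hw]
      show _ = f (a ⊗ₜ[A] (1 : B))
      simp only [f, Algebra.TensorProduct.lift_tmul, map_one, mul_one]
      rfl
    · obtain ⟨a, rfl⟩ := h' b
      exact ⟨a ⊗ₜ 1, by simp [f]⟩
  letI := Algebra.TensorProduct.rightAlgebra (R := A) (A := A') (B := B)
  refine Algebra.IsPushout.of_equiv (AlgEquiv.ofBijective f hf) ?_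
  refine RingHom.ext fun b => ?_
  show f ((1 : A') ⊗ₜ[A] b) = _
  simp [f]

end ring

section residue

/-- Composition of bijections of residue fields. -/
theorem bijective_mapₐ_trans {A B C : Type u} [CommRing A] [CommRing B] [CommRing C] [Algebra A B] [Algebra B C]
    [Algebra A C] [IsScalarTower A B C] (P : Ideal A) (Q : Ideal B) (T : Ideal C) [P.IsPrime] [Q.IsPrime]
    [T.IsPrime] [hQ : Q.LiesOver P] [hT : T.LiesOver Q] [hT' : T.LiesOver P]
    (h₁ : Function.Bijective (Ideal.ResidueField.mapₐ P Q (Algebra.ofId A B) hQ.over))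
    (h₂ : Function.Bijective (Ideal.ResidueField.mapₐ Q T (Algebra.ofId B C) hT.over)) :
    Function.Bijective (Ideal.ResidueField.mapₐ P T (Algebra.ofId A C) hT'.over) := by
  let a := Ideal.ResidueField.mapₐ P Q (Algebra.ofId A B) hQ.over
  let b := Ideal.ResidueField.mapₐ Q T (Algebra.ofId B C) hT.over
  let c := Ideal.ResidueField.mapₐ P T (Algebra.ofId A C) hT'.over
  have : c.toRingHom = b.toRingHom.comp a.toRingHom := Ideal.ResidueField.ringHom_ext (RingHom.ext fun r => by
    show c (algebraMap A _ r) = b (a (algebraMap A _ r))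
    rw [c.commutes, a.commutes, IsScalarTower.algebraMap_apply A B Q.ResidueField, b.commutes,
      IsScalarTower.algebraMap_apply B C T.ResidueField, ← IsScalarTower.algebraMap_apply A B C,
      ← IsScalarTower.algebraMap_apply A C T.ResidueField])
  show Function.Bijective c.toRingHom
  rw [this]
  exact h₂.comp h₁

/-- The first of two composable residue extensions is trivial when the composite and the second one are. -/
theorem bijective_mapₐ_left {A B C : Type u} [CommRing A] [CommRing B] [CommRing C] [Algebra A B] [Algebra B C]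
    [Algebra A C] [IsScalarTower A B C] (P : Ideal A) (Q : Ideal B) (T : Ideal C) [P.IsPrime] [Q.IsPrime]
    [T.IsPrime] [hQ : Q.LiesOver P] [hT : T.LiesOver Q] [hT' : T.LiesOver P]
    (h₂ : Function.Bijective (Ideal.ResidueField.mapₐ Q T (Algebra.ofId B C) hT.over))
    (h₃ : Function.Bijective (Ideal.ResidueField.mapₐ P T (Algebra.ofId A C) hT'.over)) :
    Function.Bijective (Ideal.ResidueField.mapₐ P Q (Algebra.ofId A B) hQ.over) := by
  let a := Ideal.ResidueField.mapₐ P Q (Algebra.ofId A B) hQ.over
  let b := Ideal.ResidueField.mapₐ Q T (Algebra.ofId B C) hT.over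
  let c := Ideal.ResidueField.mapₐ P T (Algebra.ofId A C) hT'.over
  have : c.toRingHom = b.toRingHom.comp a.toRingHom := Ideal.ResidueField.ringHom_ext (RingHom.ext fun r => by
    show c (algebraMap A _ r) = b (a (algebraMap A _ r))
    rw [c.commutes, a.commutes, IsScalarTower.algebraMap_apply A B Q.ResidueField, b.commutes,
      IsScalarTower.algebraMap_apply B C T.ResidueField, ← IsScalarTower.algebraMap_apply A B C,
      ← IsScalarTower.algebraMap_apply A C T.ResidueField])
  have h₃' : Function.Bijective c.toRingHom := h₃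
  rw [this] at h₃'
  exact (Function.Bijective.of_comp_iff' h₂ a).1 h₃'

theorem isEtaleNhd_trans {A B C : Type u} [CommRing A] [CommRing B] [CommRing C] [Algebra A B] [Algebra B C]
    [Algebra A C] [IsScalarTower A B C] {P : Ideal A} {Q : Ideal B} {T : Ideal C} [P.IsPrime] [Q.IsPrime]
    [T.IsPrime] (h₁ : FlatCA.IsEtaleNhd A B P Q) (h₂ : FlatCA.IsEtaleNhd B C Q T) :
    FlatCA.IsEtaleNhd A C P T := by
  obtain ⟨h1, hQ, hb1⟩ := h₁
  obtain ⟨h2, hT, hb2⟩ := h₂
  haveI : T.LiesOver P := Ideal.LiesOver.trans T Q P
  exact ⟨Algebra.Etale.comp A B C, ‹_›, bijective_mapₐ_trans P Q T hb1 hb2⟩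

/-- A surjection induces a bijection of residue fields. -/
theorem bijective_mapₐ_of_surjective {A B : Type u} [CommRing A] [CommRing B] [Algebra A B] (P : Ideal A)
    (Q : Ideal B) [P.IsPrime] [Q.IsPrime] [hQ : Q.LiesOver P] (h : Function.Surjective (algebraMap A B)) :
    Function.Bijective (Ideal.ResidueField.mapₐ P Q (Algebra.ofId A B) hQ.over) := by
  let b := Ideal.ResidueField.mapₐ P Q (Algebra.ofId A B) hQ.over
  refine ⟨b.toRingHom.injective, fun w => ?_⟩
  obtain ⟨u, v, hv, rfl⟩ := IsFractionRing.div_surjective (B ⧸ Q) w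
  obtain ⟨u, rfl⟩ := Ideal.Quotient.mk_surjective u
  obtain ⟨v, rfl⟩ := Ideal.Quotient.mk_surjective v
  have : ∀ x : B, algebraMap B Q.ResidueField x ∈ b.toRingHom.fieldRange := by
    intro x
    obtain ⟨a, rfl⟩ := h x
    exact ⟨algebraMap A _ a, by
      show b (algebraMap A _ a) = _
      rw [b.commutes, IsScalarTower.algebraMap_apply A B Q.ResidueField]⟩
  exact div_mem (H := b.toRingHom.fieldRange) (this u) (this v)

/-- Trivial residue extensions are preserved by base change. -/
theorem bijective_residue_of_isPushout {R R' S S' : Type u} [CommRing R] [CommRing R'] [CommRing S] [CommRing S']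
    [Algebra R R'] [Algebra R S] [Algebra R' S'] [Algebra R S'] [Algebra S S'] [IsScalarTower R R' S']
    [IsScalarTower R S S'] [Algebra.IsPushout R R' S S'] (p : Ideal R) [p.IsPrime]
    (p' : Ideal R') [p'.IsPrime] [hp' : p'.LiesOver p]
    (hκ : Function.Bijective (Ideal.ResidueField.mapₐ p p' (Algebra.ofId R R') hp'.over))
    (q : Ideal S) [q.IsPrime] [hq : q.LiesOver p] (q' : Ideal S') [q'.IsPrime] [hq' : q'.LiesOver q]
    [hq'' : q'.LiesOver p'] :
    Function.Bijective (Ideal.ResidueField.mapₐ q q' (Algebra.ofId S S') hq'.over) := by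
  let L := q.ResidueField
  let L' := q'.ResidueField
  let gk := Ideal.ResidueField.mapₐ p q (Algebra.ofId R S) hq.over
  let gK := Ideal.ResidueField.mapₐ p' q' (Algebra.ofId R' S') hq''.over
  let a := Ideal.ResidueField.mapₐ p p' (Algebra.ofId R R') hp'.over
  let b := Ideal.ResidueField.mapₐ q q' (Algebra.ofId S S') hq'.over
  have hcomm : b.toRingHom.comp gk.toRingHom = gK.toRingHom.comp a.toRingHom := by
    refine Ideal.ResidueField.ringHom_ext (RingHom.ext fun r => ?_)
    show b (gk (algebraMap R _ r)) = gK (a (algebraMap R _ r))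
    rw [gk.commutes, a.commutes, IsScalarTower.algebraMap_apply R S L, b.commutes,
      IsScalarTower.algebraMap_apply R R' p'.ResidueField, gK.commutes,
      IsScalarTower.algebraMap_apply S S' L', IsScalarTower.algebraMap_apply R' S' L',
      ← IsScalarTower.algebraMap_apply R S S', ← IsScalarTower.algebraMap_apply R R' S']
  have hbr : ∀ z : S', algebraMap S' L' z ∈ b.toRingHom.fieldRange := by
    intro z
    obtain ⟨w, rfl⟩ :=
      (Algebra.IsPushout.out (R := R) (S := R') (R' := S) (S' := S')).equiv.surjective z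
    induction w with
    | zero => simp
    | add u v hu hv => rw [map_add, map_add]; exact add_mem hu hv
    | tmul r s =>
      rw [IsBaseChange.equiv_tmul, Algebra.smul_def, map_mul]
      refine mul_mem ?_ ⟨algebraMap S L s, ?_⟩
      · obtain ⟨c, hc⟩ := hκ.2 (algebraMap R' _ r)
        refine ⟨gk c, ?_⟩
        show b.toRingHom.comp gk.toRingHom c = _
        rw [hcomm]
        show gK (a c) = _
        rw [show a c = algebraMap R' _ r from hc, gK.commutes, ← IsScalarTower.algebraMap_apply R' S' L']
      · show b (algebraMap S L s) = _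
        rw [b.commutes, IsScalarTower.algebraMap_apply S S' L']
        rfl
  refine ⟨b.toRingHom.injective, fun w => ?_⟩
  obtain ⟨u, v, hv, rfl⟩ := IsFractionRing.div_surjective (S' ⧸ q') w
  obtain ⟨u, rfl⟩ := Ideal.Quotient.mk_surjective u
  obtain ⟨v, rfl⟩ := Ideal.Quotient.mk_surjective v
  exact div_mem (H := b.toRingHom.fieldRange) (hbr u) (hbr v)

end residue

/-- Smoothness of relative dimension `n` descends to an étale algebra over the base. -/
theorem smoothRelDim_cancel {R R' D : Type u} [CommRing R] [CommRing R'] [CommRing D] [Algebra R R'] [Algebra R' D]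
    [Algebra R D] [IsScalarTower R R' D] [Algebra.Etale R R'] {n : ℕ} (h : FlatCA.SmoothRelDim n R D) :
    FlatCA.SmoothRelDim n R' D := by
  obtain ⟨T, _, _, _, _, _, _, hT⟩ := exists_pushout R D R'
  haveI := hT
  have hsm : FlatCA.SmoothRelDim n R' T := Flatmor4.smoothRelDim_baseChange R R' D T h
  haveI : Algebra.Etale D T := etale_of_isPushout' (A := R) (A' := R') (B := D) (B' := T)
  let e : R' ⊗[R] D ≃ₐ[R'] T := Algebra.IsPushout.equiv R R' D T
  let L : R' ⊗[R] D →ₐ[R'] D := Algebra.TensorProduct.lift (Algebra.ofId R' D) (AlgHom.id R D) fun _ _ => .all _ _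
  let φ : T →ₐ[R'] D := L.comp e.symm.toAlgHom
  have hφ : ∀ d : D, φ (algebraMap D T d) = d := fun d => by
    have h1 : e (1 ⊗ₜ[R] d) = algebraMap D T d := by
      simp [e, Algebra.IsPushout.equiv_tmul]
    show L (e.symm (algebraMap D T d)) = d
    rw [← h1, e.symm_apply_apply]
    simp [L]
  letI : Algebra T D := φ.toRingHom.toAlgebra
  haveI : IsScalarTower R' T D := .of_algebraMap_eq fun r => (φ.commutes r).symm
  haveI : IsScalarTower D T D := .of_algebraMap_eq fun d => (hφ d).symm
  haveI : Algebra.Etale D D := inferInstance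
  haveI : Algebra.Etale T D := Algebra.Etale.of_restrictScalars D T D
  exact ElemDev.smoothRelDim_etale_comp (R := R') (P := T) (D := D) hsm

section support

variable {F F' M M' : Type u} [CommRing F] [CommRing F'] [Algebra F F'] [Algebra.Etale F F']
  [AddCommGroup M] [Module F M] [Module.Finite F M] [AddCommGroup M'] [Module F M'] [Module F' M']
  [IsScalarTower F F' M'] {φ : M →ₗ[F] M'}

theorem exists_etale_support (hφ : IsBaseChange F' φ) :
    ∃ (A B : CommRingCat.{u}) (g : A ⟶ B) (_ : Etale (Spec.map g))
      (a : Spec A ≃ₜ Module.support F M) (b : Spec B ≃ₜ Module.support F' M'),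
      ∀ x, (a ((Spec.map g).base x)).1 = PrimeSpectrum.comap (algebraMap F F') (b x).1 := by
  let I := Module.annihilator F M
  let I' := I.map (algebraMap F F')
  obtain ⟨A, _, _, hA, hAk⟩ : ∃ (A : Type u) (_ : CommRing A) (_ : Algebra F A),
      Function.Surjective (algebraMap F A) ∧ RingHom.ker (algebraMap F A) = I :=
    ⟨F ⧸ I, inferInstance, inferInstance, Ideal.Quotient.mk_surjective, Ideal.mk_ker⟩
  obtain ⟨B, _, _, _, _, _, _, hP⟩ := exists_pushout F A F'
  haveI := hP
  haveI : Algebra.Etale A B := etale_of_isPushout' (A := F) (A' := F') (B := A) (B' := B)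
  have hB : Function.Surjective (algebraMap F' B) :=
    Flatmor4.surjective_of_isPushout (A := F) (A' := F') (B := A) (B' := B) hA
  let f := algebraMap F A
  let f' := algebraMap F' B
  have he := PrimeSpectrum.isClosedEmbedding_comap_of_surjective A f hA
  have he' := PrimeSpectrum.isClosedEmbedding_comap_of_surjective B f' hB
  have hr : Set.range (PrimeSpectrum.comap f) = Module.support F M := by
    rw [range_comap_of_surjective _ _ hA, hAk, Module.support_eq_zeroLocus]
  haveI : Module.Finite F A := Module.Finite.of_surjective (Algebra.linearMap F A) hA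
  have hr' : Set.range (PrimeSpectrum.comap f') = Module.support F' M' := by
    ext Q
    rw [range_comap_of_surjective _ _ hB, ← Module.support_of_algebra,
      Flatmor4.mem_support_isBaseChange hP.out, Flatmor4.mem_support_isBaseChange hφ, Module.support_of_algebra,
      hAk, Module.support_eq_zeroLocus]
  let a := he.isEmbedding.toHomeomorph.trans (Homeomorph.setCongr hr)
  let b := he'.isEmbedding.toHomeomorph.trans (Homeomorph.setCongr hr')
  haveI : Etale (Spec.map (CommRingCat.ofHom (algebraMap A B))) :=
    (HasRingHomProperty.Spec_iff (P := @Etale)).mpr (RingHom.etale_algebraMap.mpr ‹_›)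
  refine ⟨CommRingCat.of A, CommRingCat.of B, CommRingCat.ofHom (algebraMap A B), ‹_›, a, b, fun x => ?_⟩
  refine PrimeSpectrum.ext ?_
  show (x.asIdeal.comap (algebraMap A B)).comap f = (x.asIdeal.comap f').comap (algebraMap F F')
  rw [Ideal.comap_comap, Ideal.comap_comap, ← IsScalarTower.algebraMap_eq, ← IsScalarTower.algebraMap_eq]

theorem localDim_support_of_etale (hφ : IsBaseChange F' φ) (Q : Module.support F' M')
    (hQ : PrimeSpectrum.comap (algebraMap F F') Q.1 ∈ Module.support F M) :
    FlatMor.localDim (Module.support F' M') Q = FlatMor.localDim (Module.support F M) ⟨_, hQ⟩ := by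
  obtain ⟨A, B, g, _, a, b, h⟩ := exists_etale_support hφ
  have ha : a ((Spec.map g).base (b.symm Q)) = ⟨_, hQ⟩ := Subtype.ext (by rw [h, b.apply_symm_apply])
  rw [← ha, FibreDim.localDim_eq_of_homeomorph b.symm Q, DescentBase.localDim_eq_of_etale (Spec.map g),
    FibreDim.localDim_eq_of_homeomorph a ((Spec.map g).base (b.symm Q))]

theorem supportDim_le_of_etale (hφ : IsBaseChange F' φ) :
    Module.supportDim F' M' ≤ Module.supportDim F M := by
  haveI : Module.Finite F' M' := Module.Finite.equiv hφ.equiv
  obtain ⟨A, B, g, _, a, b, -⟩ := exists_etale_support hφ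
  rw [← Flatmor4.topologicalKrullDim_support (S := F') (N := M'),
    ← Flatmor4.topologicalKrullDim_support (S := F) (N := M),
    ← b.isHomeomorph.topologicalKrullDim_eq _, ← a.isHomeomorph.topologicalKrullDim_eq _]
  haveI : LocallyQuasiFinite (Spec.map g) := DescentBase.locallyQuasiFinite_of_etale _
  exact DescentBase.topologicalKrullDim_le_of_discrete_fibres (Spec.map g).base (Spec.map g).continuous
    (Spec.map g).isDiscrete_preimage_singleton

end support

section fibre

attribute [local instance] Algebra.TensorProduct.rightAlgebra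

variable {R A B : Type u} [CommRing R] [CommRing A] [CommRing B] [Algebra R A] [Algebra R B] [Algebra A B]
  [IsScalarTower R A B] [Algebra.Etale A B]
  {N N' : Type u} [AddCommGroup N] [Module A N] [Module R N] [IsScalarTower R A N] [Module.Finite A N]
  [AddCommGroup N'] [Module B N'] [Module R N'] [IsScalarTower R B N'] [Module A N'] [IsScalarTower A B N']

/-- The fibre support dimension along an étale algebra. -/
theorem fibreSupport_etale' (p : Ideal R) [p.IsPrime] {f : N →ₗ[A] N'} (hf : IsBaseChange B f)
    (q : Ideal A) [q.IsPrime] [q.LiesOver p] (q' : Ideal B) [q'.IsPrime] [q'.LiesOver q] [q'.LiesOver p]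
    {n : WithBot ℕ∞}
    (hn : ∃ (ξ : PrimeSpectrum (p.Fiber A)) (hξ : ξ ∈ Module.support (p.Fiber A) (FlatCA.fiberMod p A N)),
      ξ.asIdeal = FlatCA.fiberIdeal p q ∧
      FlatMor.localDim (Module.support (p.Fiber A) (FlatCA.fiberMod p A N)) ⟨ξ, hξ⟩ = n)
    :
    (Module.supportDim (p.Fiber A) (FlatCA.fiberMod p A N) ≤ n →
      Module.supportDim (p.Fiber B) (FlatCA.fiberMod p B N') = n) ∧
    ∃ (ξ : PrimeSpectrum (p.Fiber B)) (hξ : ξ ∈ Module.support (p.Fiber B) (FlatCA.fiberMod p B N')),
      ξ.asIdeal = FlatCA.fiberIdeal p q' ∧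
      FlatMor.localDim (Module.support (p.Fiber B) (FlatCA.fiberMod p B N')) ⟨ξ, hξ⟩ = n := by
  let F := p.Fiber A
  let F' := p.Fiber B
  let k := p.ResidueField
  let P := FlatCA.fiberMod p A N
  let P' := FlatCA.fiberMod p B N'
  letI : Algebra A F' := ((algebraMap B F').comp (algebraMap A B)).toAlgebra
  haveI : IsScalarTower A B F' := .of_algebraMap_eq' rfl
  haveI : IsScalarTower R A F' := .of_algebraMap_eq fun x => by
    rw [IsScalarTower.algebraMap_apply A B F', ← IsScalarTower.algebraMap_apply R A B,
      ← IsScalarTower.algebraMap_apply R B F']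
  letI : Algebra F F' := (Algebra.TensorProduct.lift (IsScalarTower.toAlgHom R k F')
    (IsScalarTower.toAlgHom R A F') fun _ _ => .all _ _).toRingHom.toAlgebra
  haveI : IsScalarTower k F F' := IsScalarTower.of_algebraMap_eq (R := k) (S := F) (A := F') fun x => by
    show _ = Algebra.TensorProduct.lift _ _ _ (x ⊗ₜ[R] (1 : A))
    rw [Algebra.TensorProduct.lift_tmul, map_one, mul_one]; rfl
  haveI : IsScalarTower A F F' := .of_algebraMap_eq fun x => by
    show _ = Algebra.TensorProduct.lift _ _ _ ((1 : k) ⊗ₜ[R] x)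
    rw [Algebra.TensorProduct.lift_tmul, map_one, one_mul]; rfl
  haveI : Algebra.IsPushout R k A F := inferInstance
  haveI : Algebra.IsPushout R k B F' := inferInstance
  haveI : Algebra.IsPushout A F B F' := Flatmor4.isPushout_cancel (R := R) (R' := k)
  haveI : Algebra.Etale F F' := etale_of_isPushout (A := A) (A' := F) (B := B) (B' := F')
  letI : Module A P' := Module.compHom P' (algebraMap A B)
  haveI : IsScalarTower A B P' := .of_algebraMap_smul fun _ _ => rfl
  haveI : IsScalarTower B F' P' := inferInstanceAs (IsScalarTower B F' (F' ⊗[B] N'))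
  haveI : IsScalarTower A F' P' := IsScalarTower.to₁₃₄ A B F' P'
  letI : Module F P' := Module.compHom P' (algebraMap F F')
  haveI : IsScalarTower F F' P' := .of_algebraMap_smul fun _ _ => rfl
  haveI : IsScalarTower A F P' := .of_algebraMap_smul fun r x => by
    show algebraMap F F' (algebraMap A F r) • x = r • x
    rw [← IsScalarTower.algebraMap_apply A F F', algebraMap_smul]
  haveI : IsScalarTower A F P := inferInstanceAs (IsScalarTower A F (F ⊗[A] N))
  haveI : Module.Finite F P := inferInstanceAs (Module.Finite F (F ⊗[A] N))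
  have hb : IsBaseChange F (FlatCA.toFiberMod p A N) := TensorProduct.isBaseChange A N F
  have hb' : IsBaseChange F' (FlatCA.toFiberMod p B N') := TensorProduct.isBaseChange B N' F'
  let ψ : P →ₗ[F] P' := hb.lift ((FlatCA.toFiberMod p B N').restrictScalars A ∘ₗ f)
  have hψ : IsBaseChange F' ψ := by
    refine IsBaseChange.of_comp hb ?_
    rw [IsBaseChange.lift_comp]
    exact hf.comp hb'
  haveI : Module.Finite B N' := Module.Finite.equiv hf.equiv
  obtain ⟨ξ, hξ, hξi, hdim⟩ := hn
  obtain ⟨Q', hQ'⟩ := Flatmor4.exists_fiber_prime p q'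
  have hQ : PrimeSpectrum.comap (algebraMap F F') Q' = ξ := by
    refine Flatmor4.fiber_prime_ext ?_
    rw [Flatmor4.comap_eq_of_asIdeal_eq_fiberIdeal p q ξ hξi, PrimeSpectrum.comap_asIdeal, Ideal.comap_comap,
      ← IsScalarTower.algebraMap_eq A F F', IsScalarTower.algebraMap_eq A B F', ← Ideal.comap_comap, hQ']
    exact (Ideal.LiesOver.over (P := q') (p := q)).symm
  have hmem : Q' ∈ Module.support F' P' := (Flatmor4.mem_support_isBaseChange hψ Q').2 (hQ ▸ hξ)
  have hloc : FlatMor.localDim (Module.support F' P') ⟨Q', hmem⟩ = n := by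
    rw [localDim_support_of_etale hψ ⟨Q', hmem⟩ (hQ ▸ hξ), ← hdim]
    congr 1
    exact Subtype.ext hQ
  refine ⟨fun hd => le_antisymm ((supportDim_le_of_etale hψ).trans hd) ?_, Q', hmem,
    Flatmor4.fiberIdeal_comap p Q' q' hQ', hloc⟩
  haveI : Module.Finite F' P' := inferInstanceAs (Module.Finite F' (F' ⊗[B] N'))
  rw [← hloc, ← Flatmor4.topologicalKrullDim_support (S := p.Fiber B) (N := FlatCA.fiberMod p B N')]
  exact SpectralTopology.localDim_le_dim _

theorem fibreSupport_etale (p : Ideal R) [p.IsPrime] {f : N →ₗ[A] N'} (hf : IsBaseChange B f)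
    (q : Ideal A) [q.IsPrime] [q.LiesOver p] (q' : Ideal B) [q'.IsPrime] [q'.LiesOver q] [q'.LiesOver p]
    {n : WithBot ℕ∞}
    (hn : ∃ (ξ : PrimeSpectrum (p.Fiber A)) (hξ : ξ ∈ Module.support (p.Fiber A) (FlatCA.fiberMod p A N)),
      ξ.asIdeal = FlatCA.fiberIdeal p q ∧
      FlatMor.localDim (Module.support (p.Fiber A) (FlatCA.fiberMod p A N)) ⟨ξ, hξ⟩ = n)
    (hd : Module.supportDim (p.Fiber A) (FlatCA.fiberMod p A N) ≤ n) :
    Module.supportDim (p.Fiber B) (FlatCA.fiberMod p B N') = n ∧
    ∃ (ξ : PrimeSpectrum (p.Fiber B)) (hξ : ξ ∈ Module.support (p.Fiber B) (FlatCA.fiberMod p B N')),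
      ξ.asIdeal = FlatCA.fiberIdeal p q' ∧
      FlatMor.localDim (Module.support (p.Fiber B) (FlatCA.fiberMod p B N')) ⟨ξ, hξ⟩ = n :=
  ⟨(fibreSupport_etale' p hf q q' hn).1 hd, (fibreSupport_etale' p hf q q' hn).2⟩

end fibre

end Groth.RaynaudGruson.EtalePushout
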