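import Mathlib
import Groth.Prelude.Def_FlatCA
import Groth.Agent.Flatmor4.CompleteDevissageBC
import Groth.Agent.Flatmor4.DevissageShrinkComplete
import Groth.Agent.RaynaudGruson.EtalePushout
import Groth.Agent.S12244

/-!
Operations on complete dévissages at a point: base change with trivial residue extension, shrinking,
and the transfer of geometric irreducibility to open subschemes.
-/

set_option autoImplicit false
set_option linter.style.haveILetI false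
universe u

open TensorProduct CategoryTheory AlgebraicGeometry

namespace Groth.RaynaudGruson.DevissageOps

theorem baseChange {R S : Type u} [CommRing R] [CommRing S] [Algebra R S] [Algebra.FiniteType R S]
    {N : Type u} [AddCommGroup N] [Module S N] [Module.Finite S N]
    {p : Ideal R} [p.IsPrime] {q : Ideal S} [q.IsPrime] (h : FlatCA.HasCompleteDevissageAt R S N p q)
    (R' : Type u) [CommRing R'] [Algebra R R'] (p' : Ideal R') [p'.IsPrime] [hp'o : p'.LiesOver p]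
    (hκ : Function.Bijective (Ideal.ResidueField.mapₐ p p' (Algebra.ofId R R') hp'o.over))
    (S' : Type u) [CommRing S'] [Algebra R' S'] [Algebra R S'] [Algebra S S'] [IsScalarTower R R' S']
    [IsScalarTower R S S'] [Algebra.IsPushout R R' S S']
    (N' : Type u) [AddCommGroup N'] [Module S' N'] [Module S N'] [IsScalarTower S S' N']
    (f : N →ₗ[S] N') (hf : IsBaseChange S' f)
    (q' : Ideal S') [q'.IsPrime] [q'.LiesOver q] [q'.LiesOver p'] :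
    FlatCA.HasCompleteDevissageAt R' S' N' p' q' := by
  obtain ⟨𝒟, ⟨𝒜⟩⟩ := h
  classical
  let P : ∀ i, Groth.Flatmor4.StepPiece 𝒟 i := Groth.Flatmor4.stepPiece 𝒟
  let φ : ∀ i, (Groth.Flatmor4.DevB 𝒟 R') i →ₐ[R'] (Groth.Flatmor4.DevA 𝒟 R') i := fun i => Algebra.TensorProduct.map (AlgHom.id R' R') (P i).fA
  let φ' : ∀ i, (Groth.Flatmor4.DevB 𝒟 R') i →ₐ[R'] (Groth.Flatmor4.DevA 𝒟 R') (i + 1) := fun i =>
    Algebra.TensorProduct.map (AlgHom.id R' R') (P i).fA'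
  let ψ : S' →ₐ[R'] (Groth.Flatmor4.DevA 𝒟 R') 0 := (Algebra.TensorProduct.map (AlgHom.id R' R')
    (IsScalarTower.toAlgHom R S (𝒟.A 0))).comp (Algebra.IsPushout.equiv R R' S S').symm.toAlgHom
  have hψ : ∀ s : S, ψ (algebraMap S S' s) = algebraMap (𝒟.A 0) ((Groth.Flatmor4.DevA 𝒟 R') 0) (algebraMap S (𝒟.A 0) s) := by
    intro s
    show Algebra.TensorProduct.map _ _ ((Algebra.IsPushout.equiv R R' S S').symm (algebraMap S S' s)) = _
    rw [Algebra.IsPushout.equiv_symm_algebraMap_right]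
    rfl
  haveI := fun i => Groth.Flatmor4.isScalarTower_devA 𝒟 R' i
  let gA : ∀ i, 𝒟.M i →ₗ[𝒟.A i] (Groth.Flatmor4.DevM 𝒟 R') i := fun i => TensorProduct.mk (𝒟.A i) ((Groth.Flatmor4.DevA 𝒟 R') i) (𝒟.M i) 1
  have hgA : ∀ i, IsBaseChange ((Groth.Flatmor4.DevA 𝒟 R') i) (gA i) := fun i =>
    TensorProduct.isBaseChange (𝒟.A i) (𝒟.M i) ((Groth.Flatmor4.DevA 𝒟 R') i)
  letI aBA : ∀ i, Algebra ((Groth.Flatmor4.DevB 𝒟 R') i) ((Groth.Flatmor4.DevA 𝒟 R') i) := fun i => (φ i).toRingHom.toAlgebra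
  haveI tRBA : ∀ i, IsScalarTower R' ((Groth.Flatmor4.DevB 𝒟 R') i) ((Groth.Flatmor4.DevA 𝒟 R') i) := fun i =>
    .of_algebraMap_eq fun x => ((φ i).commutes x).symm
  letI aBA' : ∀ i, Algebra ((Groth.Flatmor4.DevB 𝒟 R') i) ((Groth.Flatmor4.DevA 𝒟 R') (i + 1)) := fun i => (φ' i).toRingHom.toAlgebra
  haveI tRBA' : ∀ i, IsScalarTower R' ((Groth.Flatmor4.DevB 𝒟 R') i) ((Groth.Flatmor4.DevA 𝒟 R') (i + 1)) := fun i =>
    .of_algebraMap_eq fun x => ((φ' i).commutes x).symm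
  haveI tBAM : ∀ i, IsScalarTower ((Groth.Flatmor4.DevB 𝒟 R') i) ((Groth.Flatmor4.DevA 𝒟 R') i) ((Groth.Flatmor4.DevM 𝒟 R') i) := fun i => inferInstance
  haveI tB'AM : ∀ i, IsScalarTower ((Groth.Flatmor4.DevB 𝒟 R') i) ((Groth.Flatmor4.DevA 𝒟 R') (i + 1)) ((Groth.Flatmor4.DevM 𝒟 R') (i + 1)) := fun i => inferInstance
  haveI tRBM : ∀ i, IsScalarTower R' ((Groth.Flatmor4.DevB 𝒟 R') i) ((Groth.Flatmor4.DevM 𝒟 R') i) := fun i => inferInstance
  letI aSA : Algebra S' ((Groth.Flatmor4.DevA 𝒟 R') 0) := ψ.toRingHom.toAlgebra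
  haveI tRSA : IsScalarTower R' S' ((Groth.Flatmor4.DevA 𝒟 R') 0) := .of_algebraMap_eq fun x => (ψ.commutes x).symm
  letI sA : Algebra S ((Groth.Flatmor4.DevA 𝒟 R') 0) := ((algebraMap (𝒟.A 0) ((Groth.Flatmor4.DevA 𝒟 R') 0)).comp (algebraMap S (𝒟.A 0))).toAlgebra
  haveI : IsScalarTower S (𝒟.A 0) ((Groth.Flatmor4.DevA 𝒟 R') 0) := .of_algebraMap_eq' rfl
  haveI t8 : IsScalarTower S S' ((Groth.Flatmor4.DevA 𝒟 R') 0) := .of_algebraMap_eq fun s => (hψ s).symm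
  haveI : IsScalarTower R S ((Groth.Flatmor4.DevA 𝒟 R') 0) := .of_algebraMap_eq fun x => by
    rw [IsScalarTower.algebraMap_apply S (𝒟.A 0) ((Groth.Flatmor4.DevA 𝒟 R') 0), ← IsScalarTower.algebraMap_apply R S (𝒟.A 0),
      ← IsScalarTower.algebraMap_apply R (𝒟.A 0) ((Groth.Flatmor4.DevA 𝒟 R') 0)]
  haveI tSAM : IsScalarTower S' ((Groth.Flatmor4.DevA 𝒟 R') 0) ((Groth.Flatmor4.DevM 𝒟 R') 0) := inferInstance
  have hA : ∀ i, Algebra.IsPushout R R' (𝒟.A i) ((Groth.Flatmor4.DevA 𝒟 R') i) := fun i => Groth.Flatmor4.isPushout_devA 𝒟 R' i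
  let eB : ∀ i : Fin 𝒟.n, (R' ⊗[R] 𝒟.B i) ≃ₐ[R'] (Groth.Flatmor4.DevB 𝒟 R') i := fun i =>
    Algebra.TensorProduct.congr AlgEquiv.refl ((P i).e i.2)
  letI aB : ∀ i : Fin 𝒟.n, Algebra (𝒟.B i) ((Groth.Flatmor4.DevB 𝒟 R') i) := fun i =>
    ((eB i).toRingHom.comp Algebra.TensorProduct.includeRight.toRingHom).toAlgebra
  have haB : ∀ (i : Fin 𝒟.n) (x : 𝒟.B i),
      algebraMap (𝒟.B i) ((Groth.Flatmor4.DevB 𝒟 R') i) x = (1 : R') ⊗ₜ (P i).e i.2 x := fun i x => rfl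
  haveI t4 : ∀ i : Fin 𝒟.n, IsScalarTower R (𝒟.B i) ((Groth.Flatmor4.DevB 𝒟 R') i) := fun i => .of_algebraMap_eq fun x => by
    rw [haB, AlgEquiv.commutes, Algebra.TensorProduct.algebraMap_apply,
      Algebra.algebraMap_eq_smul_one, Algebra.algebraMap_eq_smul_one, TensorProduct.smul_tmul]
  have hB : ∀ i : Fin 𝒟.n, Algebra.IsPushout R R' (𝒟.B i) ((Groth.Flatmor4.DevB 𝒟 R') i) := fun i => by
    letI : Algebra (𝒟.B i) (R' ⊗[R] 𝒟.B i) := Algebra.TensorProduct.rightAlgebra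
    exact Algebra.IsPushout.of_equiv (eB i) rfl
  letI bA : ∀ i : Fin 𝒟.n, Algebra (𝒟.B i) ((Groth.Flatmor4.DevA 𝒟 R') i) := fun i =>
    ((φ i).toRingHom.comp (algebraMap (𝒟.B i) ((Groth.Flatmor4.DevB 𝒟 R') i))).toAlgebra
  haveI t6 : ∀ i : Fin 𝒟.n, IsScalarTower (𝒟.B i) ((Groth.Flatmor4.DevB 𝒟 R') i) ((Groth.Flatmor4.DevA 𝒟 R') i) := fun i => .of_algebraMap_eq' rfl
  haveI t5 : ∀ i : Fin 𝒟.n, IsScalarTower (𝒟.B i) (𝒟.A i) ((Groth.Flatmor4.DevA 𝒟 R') i) := fun i => .of_algebraMap_eq fun x => by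
    show (φ i) ((1 : R') ⊗ₜ (P i).e i.2 x) = (1 : R') ⊗ₜ algebraMap (𝒟.B i) (𝒟.A i) x
    show (1 : R') ⊗ₜ[R] (P i).fA ((P i).e i.2 x) = _
    rw [(P i).comm i.2]
  letI bA' : ∀ i : Fin 𝒟.n, Algebra (𝒟.B i) ((Groth.Flatmor4.DevA 𝒟 R') (i + 1)) := fun i =>
    ((φ' i).toRingHom.comp (algebraMap (𝒟.B i) ((Groth.Flatmor4.DevB 𝒟 R') i))).toAlgebra
  haveI t7 : ∀ i : Fin 𝒟.n, IsScalarTower (𝒟.B i) ((Groth.Flatmor4.DevB 𝒟 R') i) ((Groth.Flatmor4.DevA 𝒟 R') (i + 1)) := fun i => .of_algebraMap_eq' rfl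
  haveI t7' : ∀ i : Fin 𝒟.n, IsScalarTower (𝒟.B i) (𝒟.A (i + 1)) ((Groth.Flatmor4.DevA 𝒟 R') (i + 1)) := fun i =>
    .of_algebraMap_eq fun x => by
      show (φ' i) ((1 : R') ⊗ₜ (P i).e i.2 x) = (1 : R') ⊗ₜ algebraMap (𝒟.B i) (𝒟.A (i + 1)) x
      show (1 : R') ⊗ₜ[R] (P i).fA' ((P i).e i.2 x) = _
      rw [(P i).comm' i.2]
  haveI : ∀ i : Fin 𝒟.n, IsScalarTower (𝒟.B i) ((Groth.Flatmor4.DevA 𝒟 R') i) ((Groth.Flatmor4.DevM 𝒟 R') i) := fun i => inferInstance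
  haveI : ∀ i : Fin 𝒟.n, IsScalarTower (𝒟.B i) ((Groth.Flatmor4.DevB 𝒟 R') i) ((Groth.Flatmor4.DevM 𝒟 R') i) := fun i => inferInstance
  haveI : ∀ i : Fin 𝒟.n, IsScalarTower (𝒟.B i) (𝒟.A i) ((Groth.Flatmor4.DevM 𝒟 R') i) := fun i => inferInstance
  haveI : ∀ i : Fin 𝒟.n, IsScalarTower (𝒟.B i) ((Groth.Flatmor4.DevB 𝒟 R') i) ((Groth.Flatmor4.DevM 𝒟 R') (i + 1)) := fun i => inferInstance
  haveI : ∀ i : Fin 𝒟.n, IsScalarTower (𝒟.B i) (𝒟.A (i + 1)) ((Groth.Flatmor4.DevM 𝒟 R') (i + 1)) := fun i => inferInstance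
  haveI : IsScalarTower S ((Groth.Flatmor4.DevA 𝒟 R') 0) ((Groth.Flatmor4.DevM 𝒟 R') 0) := inferInstance
  haveI : IsScalarTower S (𝒟.A 0) ((Groth.Flatmor4.DevM 𝒟 R') 0) := inferInstance
  haveI : IsScalarTower S S' ((Groth.Flatmor4.DevM 𝒟 R') 0) := inferInstance
  haveI hSA : Algebra.IsPushout S S' (𝒟.A 0) ((Groth.Flatmor4.DevA 𝒟 R') 0) := by
    haveI := hA 0
    exact Groth.Flatmor4.isPushout_cancel (R := R) (R' := R')
  haveI hBA : ∀ i : Fin 𝒟.n, Algebra.IsPushout (𝒟.B i) ((Groth.Flatmor4.DevB 𝒟 R') i) (𝒟.A i) ((Groth.Flatmor4.DevA 𝒟 R') i) := fun i => by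
    haveI := hA i; haveI := hB i
    exact Groth.Flatmor4.isPushout_cancel (R := R) (R' := R')
  haveI hBA' : ∀ i : Fin 𝒟.n, Algebra.IsPushout (𝒟.B i) ((Groth.Flatmor4.DevB 𝒟 R') i) (𝒟.A (i + 1)) ((Groth.Flatmor4.DevA 𝒟 R') (i + 1)) := fun i => by
    haveI := hA (i + 1); haveI := hB i
    exact Groth.Flatmor4.isPushout_cancel (R := R) (R' := R')
  have hgS : IsBaseChange S' ((gA 0).restrictScalars S) :=
    Groth.Flatmor4.isBaseChange_restrict_of_isPushout (hgA 0)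
  have hgB : ∀ i : Fin 𝒟.n, IsBaseChange ((Groth.Flatmor4.DevB 𝒟 R') i) ((gA i).restrictScalars (𝒟.B i)) := fun i =>
    Groth.Flatmor4.isBaseChange_restrict_of_isPushout (hgA i)
  have hgB' : ∀ i : Fin 𝒟.n, IsBaseChange ((Groth.Flatmor4.DevB 𝒟 R') i) ((gA (i + 1)).restrictScalars (𝒟.B i)) := fun i =>
    Groth.Flatmor4.isBaseChange_restrict_of_isPushout (hgA (i + 1))
  let α' : ∀ i, (Fin (𝒟.r i) → (Groth.Flatmor4.DevB 𝒟 R') i) →ₗ[(Groth.Flatmor4.DevB 𝒟 R') i] (Groth.Flatmor4.DevM 𝒟 R') i := fun i =>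
    Fintype.linearCombination ((Groth.Flatmor4.DevB 𝒟 R') i) fun j => gA i (𝒟.α i (Pi.single j 1))
  have hrange : ∀ i : Fin 𝒟.n, LinearMap.range (α' i) =
      Submodule.span ((Groth.Flatmor4.DevB 𝒟 R') i) ((gA i) '' (LinearMap.range (𝒟.α i) : Set (𝒟.M i))) := fun i =>
    Groth.Flatmor4.range_linearCombination_eq_span ((gA i).restrictScalars (𝒟.B i)) (𝒟.α i)
  haveI hp' : ∀ i, (p'.map (algebraMap R' ((Groth.Flatmor4.DevB 𝒟 R') i))).IsPrime := fun i => (P i).prime R' p'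
  have hfib : ∀ i, i < 𝒟.n →
      Function.Bijective ((α' i).baseChange (p'.map (algebraMap R' ((Groth.Flatmor4.DevB 𝒟 R') i))).ResidueField) := by
    intro i hi
    let j : Fin 𝒟.n := ⟨i, hi⟩
    haveI := hB j
    haveI := 𝒟.smooth i hi
    let P₀ : Ideal (𝒟.B j) := p.map (algebraMap R (𝒟.B j))
    let P₁ : Ideal ((Groth.Flatmor4.DevB 𝒟 R') j) := p'.map (algebraMap R' ((Groth.Flatmor4.DevB 𝒟 R') j))
    haveI : P₀.IsPrime := 𝒟.hp i
    haveI : P₁.IsPrime := hp' i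
    have hover : P₀ = P₁.under (𝒟.B j) := by
      letI := fun (T : Type u) [CommRing T] [Algebra R T] (q : Ideal R) [q.IsPrime] =>
        (Algebra.TensorProduct.rightAlgebra : Algebra T (q.Fiber T))
      exact Groth.Flatmor4.map_eq_under_map_baseChange p p'
    letI : Algebra P₀.ResidueField P₁.ResidueField :=
      (Ideal.ResidueField.mapₐ P₀ P₁ (Algebra.ofId (𝒟.B j) ((Groth.Flatmor4.DevB 𝒟 R') j)) hover).toRingHom.toAlgebra
    haveI : IsScalarTower (𝒟.B j) P₀.ResidueField P₁.ResidueField := .of_algebraMap_eq fun x =>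
      ((Ideal.ResidueField.mapₐ P₀ P₁ (Algebra.ofId (𝒟.B j) ((Groth.Flatmor4.DevB 𝒟 R') j)) hover).commutes x).symm
    refine Groth.Flatmor4.bijective_baseChange_of_bijective (K := P₀.ResidueField) (L := P₁.ResidueField)
      (Groth.Flatmor4.isBaseChange_pi (𝒟.B j) ((Groth.Flatmor4.DevB 𝒟 R') j) (𝒟.r j)) (hgB j) (𝒟.α j) (α' j) (fun x => ?_)
      (𝒟.fibreIso i hi)
    rw [pi_eq_sum_univ' x, map_sum, map_sum, map_sum, map_sum]
    refine Finset.sum_congr rfl fun k _ => ?_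
    rw [map_smul, LinearMap.map_smul_of_tower, map_smul, map_smul]
    congr 1
    rw [show ((Algebra.linearMap (𝒟.B j) ((Groth.Flatmor4.DevB 𝒟 R') j)).compLeft (Fin (𝒟.r j))) (Pi.single k 1) =
      Pi.single k 1 from funext fun l => by
        rcases eq_or_ne l k with h | h <;> simp [h]]
    simp [α', Fintype.linearCombination_apply_single, j]
  have hlast : Function.Surjective (α' (𝒟.n - 1)) := by
    let j : Fin 𝒟.n := ⟨𝒟.n - 1, Nat.sub_lt 𝒟.pos one_pos⟩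
    rw [← LinearMap.range_eq_top]
    show LinearMap.range (α' j) = ⊤
    rw [hrange j, LinearMap.range_eq_top.2 (show Function.Surjective (𝒟.α j) from 𝒟.cokerLast),
      Submodule.top_coe, Set.image_univ, eq_top_iff]
    rintro z -
    obtain ⟨w, rfl⟩ := (hgB j).equiv.surjective z
    induction w with
    | zero => simp
    | tmul b x =>
      rw [IsBaseChange.equiv_tmul]
      exact Submodule.smul_mem _ _ (Submodule.subset_span ⟨x, rfl⟩)
    | add u v hu hv => rw [map_add]; exact add_mem hu hv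
  let isoC : ∀ i, i + 1 < 𝒟.n → ((Groth.Flatmor4.DevM 𝒟 R') i ⧸ LinearMap.range (α' i)) ≃ₗ[(Groth.Flatmor4.DevB 𝒟 R') i] (Groth.Flatmor4.DevM 𝒟 R') (i + 1) := fun i h =>
    Groth.Flatmor4.cokerEquiv (hgB ⟨i, Nat.lt_of_succ_lt h⟩) (hgB' ⟨i, Nat.lt_of_succ_lt h⟩) _ (𝒟.isoCoker i h) _
      (hrange ⟨i, Nat.lt_of_succ_lt h⟩)
  let isoN : N' ≃ₗ[S'] (Groth.Flatmor4.DevM 𝒟 R') 0 := hf.equiv.symm ≪≫ₗ 𝒟.isoN.baseChange S S' ≪≫ₗ hgS.equiv
  let 𝒟' : FlatCA.CompleteDevissage R' S' N' p' :=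
    { n := 𝒟.n
      pos := 𝒟.pos
      A := (Groth.Flatmor4.DevA 𝒟 R')
      B := (Groth.Flatmor4.DevB 𝒟 R')
      M := (Groth.Flatmor4.DevM 𝒟 R')
      r := 𝒟.r
      hp := hp'
      α := α'
      surjSA := Groth.Flatmor4.surjective_of_isPushout (A := S) (B := 𝒟.A 0) 𝒟.surjSA
      fpSA := by
        haveI := 𝒟.fpSA
        exact Groth.Flatmor4.finitePresentation_of_isPushout (A := S) (B := 𝒟.A 0)
      surjBA' := fun i h =>
        haveI := hBA' ⟨i, Nat.lt_of_succ_lt h⟩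
        Groth.Flatmor4.surjective_of_isPushout (A := 𝒟.B (⟨i, Nat.lt_of_succ_lt h⟩ : Fin 𝒟.n))
          (A' := (Groth.Flatmor4.DevB 𝒟 R') (⟨i, Nat.lt_of_succ_lt h⟩ : Fin 𝒟.n)) (B := 𝒟.A (i + 1)) (B' := (Groth.Flatmor4.DevA 𝒟 R') (i + 1)) (𝒟.surjBA' i h)
      fpBA' := fun i h => by
        haveI := 𝒟.fpBA' i h
        haveI := hBA' ⟨i, Nat.lt_of_succ_lt h⟩
        exact Groth.Flatmor4.finitePresentation_of_isPushout (A := 𝒟.B (⟨i, Nat.lt_of_succ_lt h⟩ : Fin 𝒟.n))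
          (A' := (Groth.Flatmor4.DevB 𝒟 R') (⟨i, Nat.lt_of_succ_lt h⟩ : Fin 𝒟.n)) (B := 𝒟.A (i + 1)) (B' := (Groth.Flatmor4.DevA 𝒟 R') (i + 1))
      finiteBA := fun i h => by
        haveI := 𝒟.finiteBA i h
        haveI := hBA ⟨i, h⟩
        exact Groth.Flatmor4.finite_of_isPushout (A := 𝒟.B (⟨i, h⟩ : Fin 𝒟.n))
          (A' := (Groth.Flatmor4.DevB 𝒟 R') (⟨i, h⟩ : Fin 𝒟.n)) (B := 𝒟.A i) (B' := (Groth.Flatmor4.DevA 𝒟 R') i)
      smooth := fun i h => by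
        haveI := 𝒟.smooth i h
        haveI := hB ⟨i, h⟩
        exact Algebra.Smooth.of_equiv (eB ⟨i, h⟩)
      geomIrred := fun i h =>
        haveI := hB ⟨i, h⟩
        Groth.Flatmor4.geomIrredFibres_baseChange R R' (𝒟.B (⟨i, h⟩ : Fin 𝒟.n))
          ((Groth.Flatmor4.DevB 𝒟 R') (⟨i, h⟩ : Fin 𝒟.n)) (𝒟.geomIrred i h)
      finiteM := fun i h => by
        haveI := 𝒟.finiteM i h
        exact Module.Finite.equiv (hgA i).equiv
      isoN := isoN
      isoCoker := isoC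
      fibreIso := hfib
      cokerLast := hlast }
  haveI := fun i => 𝒜.hqA i
  haveI := fun i => 𝒜.hqB i
  haveI := fun i => 𝒜.overA i
  haveI := fun i => 𝒜.overB i
  have htail : ∀ i, 𝒟.n ≤ i → ∃ (Q : Ideal (𝒟'.B i)) (P : Ideal (𝒟'.A i)),
      Q.IsPrime ∧ P.IsPrime ∧ Q.LiesOver p' ∧ P.LiesOver Q := by
    intro i _
    haveI : (𝒜.qA i).LiesOver p := Ideal.LiesOver.trans (𝒜.qA i) (𝒜.qB i) p
    haveI := hA i
    obtain ⟨P₁, hP₁, -, hP₁p⟩ := Groth.Flatmor4.exists_liesOver_of_bijective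
      (S' := (Groth.Flatmor4.DevA 𝒟 R') i) p p' hκ (𝒜.qA i)
    refine ⟨P₁.comap (algebraMap ((Groth.Flatmor4.DevB 𝒟 R') i) ((Groth.Flatmor4.DevA 𝒟 R') i)), P₁,
      Ideal.IsPrime.comap _, hP₁, ⟨?_⟩, ⟨rfl⟩⟩
    show p' = Ideal.comap (algebraMap R' ((Groth.Flatmor4.DevB 𝒟 R') i))
      (P₁.comap (algebraMap ((Groth.Flatmor4.DevB 𝒟 R') i) ((Groth.Flatmor4.DevA 𝒟 R') i)))
    rw [Ideal.comap_comap, ← IsScalarTower.algebraMap_eq]
    exact hP₁p.over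
  have hiso : ∀ x : N, 𝒟'.isoN (f x) = gA 0 (𝒟.isoN x) := fun x => by
    show isoN (f x) = gA 0 (𝒟.isoN x)
    simp [isoN, IsBaseChange.equiv_symm_apply, IsBaseChange.equiv_tmul]
  obtain ⟨𝒜', -, -⟩ := Groth.Agent.S12244.result R S N p q 𝒟 𝒜 R' p' hκ S' N' f hf q' 𝒟' rfl htail
    (aA := fun i => Groth.Flatmor4.devAlgA 𝒟 R' i)
    (rA := fun i => inferInstanceAs (Algebra R ((Groth.Flatmor4.DevA 𝒟 R') i)))
    (aB := aB) (rB := fun i => inferInstanceAs (Algebra R ((Groth.Flatmor4.DevB 𝒟 R') i)))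
    (bA := bA) (bA' := bA') (sA := sA)
    (mA := fun i => inferInstanceAs (Module (𝒟.A i) ((Groth.Flatmor4.DevM 𝒟 R') i)))
    (fun i => gA i)
    ⟨inferInstanceAs (IsScalarTower S (𝒟.A 0) ((Groth.Flatmor4.DevA 𝒟 R') 0)), hiso, fun i _ => t7' i,
      fun i => ⟨hA i, hB i, hgA i⟩⟩
  exact ⟨𝒟', ⟨𝒜'⟩⟩

/-- Shrinking around the point into a given standard open. -/
theorem exists_shrink {R S : Type u} [CommRing R] [CommRing S] [Algebra R S]
    {N : Type u} [AddCommGroup N] [Module S N] [Module.Finite S N]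
    {p : Ideal R} [p.IsPrime] {q : Ideal S} [q.IsPrime] (h : FlatCA.HasCompleteDevissageAt R S N p q)
    (u : S) (hu : u ∉ q) :
    ∃ (g : R) (hX : S), g ∉ p ∧ hX ∉ q ∧ IsUnit (algebraMap S (Localization.Away hX) u) ∧
      ∃ (_ : Algebra (Localization.Away g) (Localization.Away hX))
        (_ : IsScalarTower R (Localization.Away g) (Localization.Away hX))
        (_ : (Ideal.map (algebraMap R (Localization.Away g)) p).IsPrime)
        (_ : (Ideal.map (algebraMap S (Localization.Away hX)) q).IsPrime),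
        FlatCA.HasCompleteDevissageAt (Localization.Away g) (Localization.Away hX)
          (LocalizedModule (Submonoid.powers hX) N) (Ideal.map (algebraMap R (Localization.Away g)) p)
          (Ideal.map (algebraMap S (Localization.Away hX)) q) := by
  obtain ⟨𝒟, ⟨𝒜⟩⟩ := h
  obtain ⟨W, hW, hW0, hWs⟩ := Groth.Flatmor4.exists_upward 𝒟 𝒜 u hu
  obtain ⟨g, hX, a, b, hg, hXq, hunit, -, -, i1, i2, i3, i4, i5, i6, 𝒟', 𝒜', -⟩ :=
    Groth.Flatmor4.exists_completeShrink_of_mem R S N p q 𝒟 𝒜 u hu W hW hW0 hWs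
  exact ⟨g, hX, hg, hXq, hunit, i1, i2, i5, i6, 𝒟', ⟨𝒜'⟩⟩

/-- A standard open around the point is an elementary étale neighbourhood. -/
theorem isEtaleNhd_away {A A' : Type u} [CommRing A] [CommRing A'] [Algebra A A'] (s : A)
    [IsLocalization.Away s A'] (y : Ideal A) [y.IsPrime] (y' : Ideal A') [y'.IsPrime] [y'.LiesOver y] :
    FlatCA.IsEtaleNhd A A' y y' :=
  ⟨Algebra.Etale.of_isLocalizationAway s, ‹_›, Groth.Flatmor4.bijective_residueField_of_away s y y'⟩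

/-- An open subscheme, over an open of the base, which surjects onto that open inherits geometrically
irreducible fibres. -/
theorem geometricallyIrreducible_of_open {U V S₀ S₁ : Scheme.{u}} (f : U ⟶ S₁) (g : V ⟶ S₀) (j : U ⟶ V)
    (i : S₁ ⟶ S₀) [IsOpenImmersion j] [IsOpenImmersion i] [Surjective f] [GeometricallyIrreducible g]
    (w : j ≫ g = f ≫ i) : GeometricallyIrreducible f := by
  refine ⟨fun K _ y W a b hW => ?_⟩
  haveI : Surjective b := MorphismProperty.of_isPullback (P := @Surjective) hW inferInstance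
  haveI : Nonempty W := ⟨(b.surjective (IsLocalRing.closedPoint K)).choose⟩
  have hV := IsPullback.of_hasPullback g (y ≫ i)
  haveI := (‹GeometricallyIrreducible g›).geometrically_irreducibleSpace (y ≫ i) _ _ hV
  have hW' : IsPullback a b (j ≫ g) (y ≫ i) := by
    rw [w]
    exact Groth.Flatmor4.isPullback_comp_mono hW i
  let m : W ⟶ Limits.pullback g (y ≫ i) := hV.lift (a ≫ j) b (by rw [Category.assoc]; exact hW'.w)
  have hm : IsPullback a m j (Limits.pullback.fst g (y ≫ i)) := by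
    refine IsPullback.of_bot ?_ (hV.lift_fst _ _ _).symm hV
    rw [hV.lift_snd]
    exact hW'
  haveI : IsOpenImmersion m := MorphismProperty.of_isPullback (P := @IsOpenImmersion) hm inferInstance
  have hirr := (IrreducibleSpace.isIrreducible_univ (Limits.pullback g (y ≫ i) : Scheme.{u})).isPreirreducible.preimage
    m.isOpenEmbedding
  rw [Set.preimage_univ] at hirr
  haveI : PreirreducibleSpace W := ⟨hirr⟩
  exact { toPreirreducibleSpace := ‹_›, toNonempty := ‹_› }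

end Groth.RaynaudGruson.DevissageOps
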