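import Groth.Agent.RaynaudGruson.DevissageFree
import Mathlib

/-!
With a complete dévissage at `q` of a module flat at `q`, every element outside `q` is regular on
the closed fibre of the module.
-/

set_option autoImplicit false
set_option linter.style.haveILetI false
universe u

namespace Groth.RaynaudGruson.DevissageRegular

open IsLocalRing

theorem exists_fg_of_mem_smul_top {R M : Type*} [CommRing R] [AddCommGroup M] [Module R M] {I : Ideal R} {x : M}
    (hx : x ∈ I • (⊤ : Submodule R M)) : ∃ J : Ideal R, J.FG ∧ J ≤ I ∧ x ∈ J • (⊤ : Submodule R M) := by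
  refine Submodule.smul_induction_on hx (fun a ha y _ => ?_) fun y z hy hz => ?_
  · exact ⟨Ideal.span {a}, Submodule.fg_span_singleton a, Ideal.span_le.mpr (by simpa using ha),
      Submodule.smul_mem_smul (Ideal.mem_span_singleton_self a) trivial⟩
  · obtain ⟨J, hJ, hJI, hy⟩ := hy
    obtain ⟨K, hK, hKI, hz⟩ := hz
    exact ⟨J ⊔ K, Submodule.FG.sup hJ hK, sup_le hJI hKI,
      add_mem (Submodule.smul_mono le_sup_left le_rfl hy) (Submodule.smul_mono le_sup_right le_rfl hz)⟩

variable {R S : Type u} [CommRing R] [IsLocalRing R] [CommRing S] [Algebra R S]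
  {N : Type u} [AddCommGroup N] [Module S N] [Module R N] [IsScalarTower R S N]
  {D : FlatCA.CompleteDevissage R S N (maximalIdeal R)} {q : Ideal S} [q.IsPrime]

/-- Downward induction along the dévissage. -/
theorem regular_step [Algebra.FinitePresentation R S] (DD : FlatCA.CompleteDevissageAt R S N (maximalIdeal R) q D)
    (hflat : FlatCA.FlatAt R q N) : ∀ k i, i + k + 1 = D.n → ∀ v : D.A i, v ∉ DD.qA i → ∀ x : D.M i,
      v • x ∈ maximalIdeal R • (⊤ : Submodule R (D.M i)) → x ∈ maximalIdeal R • (⊤ : Submodule R (D.M i)) := by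
  have key : ∀ i, i < D.n → ∀ v : D.A i, v ∉ DD.qA i → ∀ x : D.M i,
      v • x ∈ maximalIdeal R • (⊤ : Submodule R (D.M i)) →
      (∀ b : D.B i, b ∉ DD.qB i → b • x ∈ maximalIdeal R • (⊤ : Submodule R (D.M i)) →
        ∃ f, x - D.α i f ∈ maximalIdeal R • (⊤ : Submodule R (D.M i))) →
      x ∈ maximalIdeal R • (⊤ : Submodule R (D.M i)) := by
    intro i hi v hv x hvx hsplit
    haveI := DD.hqA
    haveI := DD.hqB
    haveI := DD.overA i
    haveI := DD.overB i
    haveI := D.hp i
    haveI := DevissageFree.tower_A D i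
    haveI := D.finiteBA i hi
    haveI := D.finiteM i hi
    haveI := DevissageFree.free_B D hi
    haveI : Module.Finite (D.B i) (D.M i) := Module.Finite.trans (D.A i) (D.M i)
    haveI : Algebra.IsIntegral (D.B i) (D.A i) := Algebra.IsIntegral.of_finite (D.B i) (D.A i)
    obtain ⟨a, b, hb, hab⟩ := FlatPred.exists_mul_eq_algebraMap (DD.qB i) (DD.qA i) (DD.uniq i hi) hv
    have hbx : b • x ∈ maximalIdeal R • (⊤ : Submodule R (D.M i)) := by
      rw [← algebraMap_smul (D.A i) b x, ← hab, mul_comm, mul_smul]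
      refine Submodule.smul_induction_on hvx (fun r hr y _ => ?_) fun y z hy hz => ?_
      · rw [smul_comm]; exact Submodule.smul_mem_smul hr trivial
      · rw [smul_add]; exact add_mem hy hz
    obtain ⟨f, hf⟩ := hsplit b hb hbx
    have hbf : b • D.α i f ∈ maximalIdeal R • (⊤ : Submodule R (D.M i)) := by
      have h2 : b • (x - D.α i f) ∈ maximalIdeal R • (⊤ : Submodule R (D.M i)) := by
        refine Submodule.smul_induction_on hf (fun r hr y _ => ?_) fun y z hy hz => ?_
        · rw [smul_comm]; exact Submodule.smul_mem_smul hr trivial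
        · rw [smul_add]; exact add_mem hy hz
      rw [smul_sub] at h2
      simpa using sub_mem hbx h2
    obtain ⟨J, hJ, hJm, hbJ⟩ := exists_fg_of_mem_smul_top hbf
    have hPq : (DD.qB i).primeCompl ≤ ((maximalIdeal R).map (algebraMap R (D.B i))).primeCompl :=
      fun b hb hmem => hb (Ideal.map_le_iff_le_comap.mpr (Ideal.over_def (DD.qB i) (maximalIdeal R)).le hmem)
    have hfJ := DevissageFlat.mem_smul_top_of_smul_apply_mem _ (D.α i) rfl (D.fibreIso i hi)
      ((DevissageFree.pred_qB DD hflat i hi).mono hPq) hJ (hPq hb) hbJ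
    have h3 := Submodule.mem_map_of_mem (f := (D.α i).restrictScalars R) (Submodule.smul_mono hJm le_rfl hfJ)
    rw [Submodule.map_smul''] at h3
    have h4 : D.α i f ∈ maximalIdeal R • (⊤ : Submodule R (D.M i)) := Submodule.smul_mono le_rfl le_top h3
    simpa using add_mem hf h4
  intro k
  induction k with
  | zero =>
    intro i hi v hv x hvx
    obtain rfl : i = D.n - 1 := by omega
    refine key _ (by omega) v hv x hvx fun b _ _ => ?_
    obtain ⟨f, hf⟩ := D.cokerLast x
    exact ⟨f, by rw [hf, sub_self]; exact zero_mem _⟩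
  | succ k ih =>
    intro i hi v hv x hvx
    have hi1 : i + 1 < D.n := by omega
    refine key i (by omega) v hv x hvx fun b hb hbx => ?_
    haveI := DevissageFree.tower_A D (i + 1)
    haveI : IsScalarTower R (D.B i) (D.M (i + 1)) := IsScalarTower.of_algebraMap_smul fun r m => by
      rw [← algebraMap_smul (D.A (i + 1)) (algebraMap R (D.B i) r) m, ← IsScalarTower.algebraMap_apply, algebraMap_smul]
    let π : D.M i →ₗ[R] D.M (i + 1) :=
      ((D.isoCoker i hi1).toLinearMap ∘ₗ (LinearMap.range (D.α i)).mkQ).restrictScalars R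
    have hπb : π (b • x) = algebraMap (D.B i) (D.A (i + 1)) b • π x := by
      rw [algebraMap_smul]
      exact map_smul ((D.isoCoker i hi1).toLinearMap ∘ₗ (LinearMap.range (D.α i)).mkQ) b x
    have hmem := Submodule.mem_map_of_mem (f := π) hbx
    rw [Submodule.map_smul'', hπb] at hmem
    have hmem' : algebraMap (D.B i) (D.A (i + 1)) b • π x ∈ maximalIdeal R • (⊤ : Submodule R (D.M (i + 1))) :=
      Submodule.smul_mono le_rfl le_top hmem
    have hπx := ih (i + 1) (by omega) _ (fun h => hb ((DD.qStep i hi1).le h)) (π x) hmem'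
    have hsurj : Function.Surjective π := (D.isoCoker i hi1).surjective.comp (Submodule.mkQ_surjective _)
    rw [← LinearMap.range_eq_top.mpr hsurj, LinearMap.range_eq_map, ← Submodule.map_smul''] at hπx
    obtain ⟨y, hy, hyx⟩ := hπx
    have hker : x - y ∈ LinearMap.range (D.α i) := by
      have h0 : π (x - y) = 0 := by rw [map_sub, hyx, sub_self]
      have h1 : (D.isoCoker i hi1) (Submodule.Quotient.mk (x - y)) = 0 := h0
      exact (Submodule.Quotient.mk_eq_zero _).mp ((LinearEquiv.map_eq_zero_iff _).mp h1)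
    obtain ⟨f, hf⟩ := hker
    exact ⟨f, by rw [hf, sub_sub_cancel]; exact hy⟩

/-- Elements outside `q` are regular on `N / 𝔪 N`. -/
theorem regular_mod [Algebra.FinitePresentation R S] (DD : FlatCA.CompleteDevissageAt R S N (maximalIdeal R) q D)
    (hflat : FlatCA.FlatAt R q N) {v : S} (hv : v ∉ q) {n : N}
    (h : v • n ∈ ((maximalIdeal R).map (algebraMap R S)) • (⊤ : Submodule S N)) :
    n ∈ ((maximalIdeal R).map (algebraMap R S)) • (⊤ : Submodule S N) := by
  rw [← Submodule.restrictScalars_mem R, Ideal.smul_restrictScalars, Submodule.restrictScalars_top] at h ⊢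
  haveI := DD.hqA
  haveI := DevissageFree.tower_A D 0
  let eR : N ≃ₗ[R] D.M 0 := { D.isoN.toAddEquiv with map_smul' := DevissageFree.isoN_smul D }
  have hv' : algebraMap S (D.A 0) v ∉ DD.qA 0 := fun hmem =>
    hv (DD.q0.le (show v ∈ (DD.qA 0).comap (algebraMap S (D.A 0)) from hmem))
  have h1 := Submodule.mem_map_of_mem (f := eR.toLinearMap) h
  rw [Submodule.map_smul'', Submodule.map_top, LinearEquiv.range] at h1
  have h2 : algebraMap S (D.A 0) v • eR n ∈ maximalIdeal R • (⊤ : Submodule R (D.M 0)) := by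
    rw [algebraMap_smul, show v • eR n = eR (v • n) from (map_smul D.isoN v n).symm]
    exact h1
  obtain ⟨m, hm⟩ : ∃ m, D.n = m + 1 := ⟨D.n - 1, by have := D.pos; omega⟩
  have h3 := regular_step DD hflat m 0 (by omega) _ hv' _ h2
  have h4 := Submodule.mem_map_of_mem (f := eR.symm.toLinearMap) h3
  rw [Submodule.map_smul'', Submodule.map_top, LinearEquiv.range] at h4
  rwa [LinearEquiv.coe_coe, LinearEquiv.symm_apply_apply] at h4

end Groth.RaynaudGruson.DevissageRegular
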