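import Mathlib
import Groth.Prelude.Def_FlatCA
import Groth.Agent.Flatmor4.DevissageAt
import Groth.Agent.Calg6.TwoFibreEta

/-!
The generic point of a smooth fibre and the support of modules of a one-step dévissage.
-/

set_option autoImplicit false
set_option linter.style.haveILetI false
universe u

open TensorProduct

namespace Groth.RaynaudGruson.FibreGenericPoint

attribute [local instance] Algebra.TensorProduct.rightAlgebra

theorem fiber_comap_strictMono {R S : Type u} [CommRing R] [CommRing S] [Algebra R S] (p : Ideal R) [p.IsPrime]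
    {ξ ξ' : PrimeSpectrum (p.Fiber S)} :
    ξ ≤ ξ' ↔ ξ.asIdeal.comap (algebraMap S (p.Fiber S)) ≤ ξ'.asIdeal.comap (algebraMap S (p.Fiber S)) := by
  refine ⟨fun h => Ideal.comap_mono h, fun h => ?_⟩
  rw [← PrimeSpectrum.asIdeal_le_asIdeal, Flatmor4.fiberIdeal_comap p ξ _ rfl, Flatmor4.fiberIdeal_comap p ξ' _ rfl]
  exact Ideal.map_mono h

theorem mem_support_fiberMod {R S : Type u} [CommRing R] [CommRing S] [Algebra R S] (p : Ideal R) [p.IsPrime]
    (N : Type u) [AddCommGroup N] [Module S N] [Module R N] [IsScalarTower R S N] [Module.Finite S N]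
    (ξ : PrimeSpectrum (p.Fiber S)) :
    ξ ∈ Module.support (p.Fiber S) (FlatCA.fiberMod p S N) ↔
      PrimeSpectrum.comap (algebraMap S (p.Fiber S)) ξ ∈ Module.support S N := by
  haveI : IsScalarTower S (p.Fiber S) (FlatCA.fiberMod p S N) :=
    inferInstanceAs (IsScalarTower S (p.Fiber S) ((p.Fiber S) ⊗[S] N))
  have hb : IsBaseChange (p.Fiber S) (FlatCA.toFiberMod p S N) := TensorProduct.isBaseChange S N (p.Fiber S)
  exact Flatmor4.mem_support_isBaseChange hb ξ

/-- A module vanishing at the generic point of a smooth fibre has fibre support of smaller dimension. -/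
theorem supportDim_fiberMod_lt {R D : Type u} [CommRing R] [CommRing D] [Algebra R D] {n : ℕ}
    (hsm : FlatCA.SmoothRelDim n R D) (p : Ideal R) [p.IsPrime] [(p.map (algebraMap R D)).IsPrime]
    (M : Type u) [AddCommGroup M] [Module D M] [Module R M] [IsScalarTower R D M] [Module.Finite D M]
    (hM : Subsingleton ((p.map (algebraMap R D)).ResidueField ⊗[D] M)) :
    Module.supportDim (p.Fiber D) (FlatCA.fiberMod p D M) < (n : WithBot ℕ∞) := by
  let F := p.Fiber D
  let P := p.map (algebraMap R D)
  haveI : Algebra.IsPushout R p.ResidueField D F := inferInstance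
  have hF : ringKrullDim F ≤ n := Calg6.TwoFibreEta.ringKrullDim_le_of_smooth
    (Flatmor4.smoothRelDim_baseChange R p.ResidueField D F hsm)
  let s := Module.support F (FlatCA.fiberMod p D M)
  rcases isEmpty_or_nonempty s with hs | hs
  · rw [Module.supportDim, Order.krullDim_eq_bot]
    exact WithBot.bot_lt_coe _
  obtain ⟨⟨ξ₁, hξ₁⟩⟩ := hs
  have hPQ : ∀ ξ : PrimeSpectrum F, P ≤ ξ.asIdeal.comap (algebraMap D F) := fun ξ => by
    refine Ideal.map_le_iff_le_comap.2 ?_
    rw [Ideal.comap_comap, ← IsScalarTower.algebraMap_eq R D F]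
    intro r hr
    rw [Ideal.mem_comap, IsScalarTower.algebraMap_apply R p.ResidueField F,
      show algebraMap R p.ResidueField r = 0 from Ideal.algebraMap_residueField_eq_zero.2 hr, map_zero]
    exact zero_mem _
  haveI : P.LiesOver p := ⟨le_antisymm Ideal.le_comap_map <| by
    refine le_trans (Ideal.comap_mono (hPQ ξ₁)) (le_of_eq ?_)
    exact (((PrimeSpectrum.primesOverOrderIsoFiber R D p).symm ξ₁).2.2.over.trans (by
      rw [PrimeSpectrum.coe_primesOverOrderIsoFiber_symm_apply]; rfl)).symm⟩
  obtain ⟨ξ₀, hξ₀⟩ := Flatmor4.exists_fiber_prime p P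
  have hle : ∀ ξ : PrimeSpectrum F, ξ₀ ≤ ξ := fun ξ =>
    (fiber_comap_strictMono p).2 (hξ₀.le.trans (hPQ ξ))
  have hnot : ξ₀ ∉ s := by
    intro h
    have h1 := (mem_support_fiberMod p M ξ₀).1 h
    rw [Module.mem_support_iff_nontrivial_residueField_tensorProduct] at h1
    rw [show PrimeSpectrum.comap (algebraMap D F) ξ₀ = ⟨P, ‹_›⟩ from PrimeSpectrum.ext hξ₀] at h1
    exact not_subsingleton_iff_nontrivial.2 h1 hM
  have hlen : ∀ l : LTSeries s, l.length < n := by
    intro l
    have hlt : ξ₀ < (l.head : PrimeSpectrum F) :=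
      lt_of_le_of_ne (hle _) fun h => hnot (h ▸ l.head.2)
    let l' : LTSeries (PrimeSpectrum F) := (l.map Subtype.val (Subtype.strictMono_coe _)).cons ξ₀ hlt
    have h2 : (l'.length : WithBot ℕ∞) ≤ n := (Order.LTSeries.length_le_krullDim l').trans hF
    have h3 : l'.length ≤ n := by exact_mod_cast h2
    have h4 : l'.length = l.length + 1 := by
      simp [l']
    omega
  have hpos : 0 < n := lt_of_le_of_lt (Nat.zero_le _) (hlen (RelSeries.singleton _ ⟨ξ₁, hξ₁⟩))
  refine lt_of_le_of_lt (b := ((n - 1 : ℕ) : WithBot ℕ∞)) (iSup_le fun l => ?_) ?_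
  · exact_mod_cast Nat.le_sub_one_of_lt (hlen l)
  · exact_mod_cast Nat.sub_lt hpos one_pos

/-- The fibre support of `N` maps to that of `G` over `D` preserving strict inclusions. -/
theorem supportDim_fiberMod_le {R S C D : Type u} [CommRing R] [CommRing S] [CommRing C] [CommRing D]
    [Algebra R S] [Algebra R C] [Algebra R D] [Algebra S C] [Algebra D C] [IsScalarTower R S C]
    [IsScalarTower R D C] [Module.Finite D C] (hsurj : Function.Surjective (algebraMap S C))
    (N G : Type u) [AddCommGroup N] [Module S N] [Module R N] [IsScalarTower R S N] [Module.Finite S N]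
    [AddCommGroup G] [Module C G] [Module S G] [IsScalarTower S C G] [Module.Finite C G]
    [Module D G] [IsScalarTower D C G] [Module R G] [IsScalarTower R D G]
    (e : N ≃ₗ[S] G) (p : Ideal R) [p.IsPrime] :
    Module.supportDim (p.Fiber S) (FlatCA.fiberMod p S N) ≤
      Module.supportDim (p.Fiber D) (FlatCA.fiberMod p D G) := by
  haveI : Module.Finite D G := Module.Finite.trans C G
  let F := p.Fiber S
  let F' := p.Fiber D
  let φ := algebraMap S C
  have key : ∀ ξ : Module.support F (FlatCA.fiberMod p S N), ∃ c : Ideal C, c.IsPrime ∧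
      c.comap φ = ξ.1.asIdeal.comap (algebraMap S F) ∧ ∃ η : Module.support F' (FlatCA.fiberMod p D G),
        η.1.asIdeal.comap (algebraMap D F') = c.comap (algebraMap D C) := by
    intro ξ
    let Q := ξ.1.asIdeal.comap (algebraMap S F)
    have hQN : Module.annihilator S N ≤ Q := by
      have h := (mem_support_fiberMod p N ξ.1).1 ξ.2
      rw [Module.support_eq_zeroLocus] at h
      exact h
    have hann : Module.annihilator S N = (Module.annihilator C G).comap φ := by
      rw [e.annihilator_eq]
      ext s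
      simp only [Module.mem_annihilator, Ideal.mem_comap, φ, algebraMap_smul]
    have hker : RingHom.ker φ ≤ Q := le_trans (le_of_le_of_eq (Ideal.comap_mono bot_le) hann.symm) hQN
    have hc : (Q.map φ).IsPrime := Ideal.map_isPrime_of_surjective hsurj hker
    have hcQ : (Q.map φ).comap φ = Q := by
      rw [Ideal.comap_map_of_surjective φ hsurj]
      exact sup_eq_left.2 hker
    refine ⟨Q.map φ, hc, hcQ, ?_⟩
    have hGc : Module.annihilator C G ≤ Q.map φ := by
      rw [← Ideal.map_comap_of_surjective φ hsurj (Module.annihilator C G), ← hann]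
      exact Ideal.map_mono hQN
    have hQp : Q.comap (algebraMap R S) = p :=
      ((PrimeSpectrum.primesOverOrderIsoFiber R S p).symm ξ.1).2.2.over.trans (by
        rw [PrimeSpectrum.coe_primesOverOrderIsoFiber_symm_apply]; rfl) |>.symm
    haveI : ((Q.map φ).comap (algebraMap D C)).LiesOver p := ⟨by
      show p = ((Q.map φ).comap _).comap _
      rw [Ideal.comap_comap, ← IsScalarTower.algebraMap_eq, IsScalarTower.algebraMap_eq R S C,
        ← Ideal.comap_comap, hcQ, hQp]⟩
    obtain ⟨η, hη⟩ := Flatmor4.exists_fiber_prime p ((Q.map φ).comap (algebraMap D C))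
    refine ⟨⟨η, ?_⟩, hη⟩
    rw [mem_support_fiberMod, Module.support_eq_zeroLocus, PrimeSpectrum.mem_zeroLocus, SetLike.coe_subset_coe,
      PrimeSpectrum.comap_asIdeal, hη]
    intro d hd
    rw [Ideal.mem_comap]
    refine hGc ?_
    rw [Module.mem_annihilator] at hd ⊢
    intro x
    rw [algebraMap_smul]
    exact hd x
  choose c hc hcξ η hη using key
  refine Order.krullDim_le_of_strictMono η fun ξ ξ' hlt => ?_
  have hlt' : c ξ < c ξ' := by
    have hle : c ξ ≤ c ξ' := (Ideal.comap_le_comap_iff_of_surjective φ hsurj _ _).1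
      (by rw [hcξ, hcξ]; exact Ideal.comap_mono hlt.le)
    refine lt_of_le_of_ne hle fun h => hlt.ne (Subtype.ext ?_)
    refine Flatmor4.fiber_prime_ext ?_
    rw [← hcξ, ← hcξ, h]
  haveI := hc ξ
  haveI : Algebra.IsIntegral D C := inferInstance
  have h2 : (c ξ).comap (algebraMap D C) < (c ξ').comap (algebraMap D C) :=
    Ideal.IsIntegral.comap_lt_comap hlt'
  refine lt_of_le_of_ne ((fiber_comap_strictMono p).2 (by rw [hη, hη]; exact h2.le)) fun h => h2.ne ?_
  rw [← hη, ← hη, h]

end Groth.RaynaudGruson.FibreGenericPoint
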