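import Mathlib
import Groth.Prelude.Def_FlatCA
import Groth.Agent.RaynaudGruson.FibreGenericPoint
import Groth.Agent.RaynaudGruson.EtalePushout
import Groth.Agent.FibreDim.BaseChange
import Groth.Agent.Flatmor4.CompleteDevissageBC
import Groth.Agent.Flatmor4.DevissageShrinkComplete

/-!
The fibre support of the module of a one-step dévissage over the smooth algebra; elementary dévissages as
one-step dévissages at a point.
-/

set_option autoImplicit false
set_option linter.style.haveILetI false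
universe u

open TensorProduct

namespace Groth.RaynaudGruson.StepSupport

attribute [local instance] Algebra.TensorProduct.rightAlgebra

theorem isPrime_map_of_smooth {R D : Type u} [CommRing R] [CommRing D] [Algebra R D] {n : ℕ}
    (hsm : FlatCA.SmoothRelDim n R D) (hgi : FlatCA.GeomIrredFibres R D) (p : Ideal R) [p.IsPrime] :
    (p.map (algebraMap R D)).IsPrime := by
  haveI := Flatmor4.smooth_of_smoothRelDim hsm
  haveI := Flatmor4.isDomain_fiber R D hgi p
  rw [← Flatmor4.ker_includeRight_fiber R D p]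
  exact RingHom.ker_isPrime _

/-- The fibre support of `G` over the smooth algebra is the whole fibre, of local dimension `n` everywhere. -/
theorem localDim_fiberMod_step {R S : Type u} [CommRing R] [CommRing S] [Algebra R S]
    {N : Type u} [AddCommGroup N] [Module S N] [Module R N] [IsScalarTower R S N] [Module.Finite S N]
    {p : Ideal R} [p.IsPrime]
    {C D G : Type u} [CommRing C] [CommRing D] [Algebra S C] [Algebra R C] [IsScalarTower R S C]
    [Algebra R D] [Algebra D C] [IsScalarTower R D C] [AddCommGroup G] [Module C G] [Module S G]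
    [IsScalarTower S C G] [Module D G] [IsScalarTower D C G] [Module R G] [IsScalarTower R D G]
    {n : ℕ} (h : FlatCA.IsOneStepDevissage R S N p C D G n) (y : Ideal D) [y.IsPrime] [y.LiesOver p] :
    ∃ (η : PrimeSpectrum (p.Fiber D)) (hη : η ∈ Module.support (p.Fiber D) (FlatCA.fiberMod p D G)),
      η.asIdeal = FlatCA.fiberIdeal p y ∧
      FlatMor.localDim (Module.support (p.Fiber D) (FlatCA.fiberMod p D G)) ⟨η, hη⟩ = n := by
  obtain ⟨⟨e⟩, hsurjC, -, hDC, hCG, hsm, hgi, hdim⟩ := h
  haveI := hDC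
  haveI := hCG
  haveI : Module.Finite D G := Module.Finite.trans C G
  haveI := isPrime_map_of_smooth hsm hgi p
  let F := p.Fiber D
  let P := p.map (algebraMap R D)
  haveI : Algebra.IsPushout R p.ResidueField D F := inferInstance
  haveI : Algebra.FiniteType R D := by
    haveI := Flatmor4.smooth_of_smoothRelDim hsm
    infer_instance
  haveI : Algebra.FiniteType p.ResidueField F := inferInstance
  have hle' : (Module.supportDim F (FlatCA.fiberMod p D G)) ≥ n := hdim ▸
    FibreGenericPoint.supportDim_fiberMod_le (R := R) (S := S) (C := C) (D := D) hsurjC N G e p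
  have hF : ringKrullDim F ≤ n := Calg6.TwoFibreEta.ringKrullDim_le_of_smooth
    (Flatmor4.smoothRelDim_baseChange R p.ResidueField D F hsm)
  have hP : Nontrivial (P.ResidueField ⊗[D] G) := by
    by_contra h0
    exact absurd (lt_of_le_of_lt hle' (FibreGenericPoint.supportDim_fiberMod_lt hsm p G
      (not_nontrivial_iff_subsingleton.1 h0))) (lt_irrefl _)
  haveI : P.LiesOver p := ⟨le_antisymm Ideal.le_comap_map
    ((Ideal.comap_mono (Ideal.map_le_iff_le_comap.2 (Ideal.LiesOver.over (P := y) (p := p)).le)).trans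
      (Ideal.LiesOver.over (P := y) (p := p)).ge)⟩
  obtain ⟨ξ₀, hξ₀⟩ := Flatmor4.exists_fiber_prime p P
  have hmin : ∀ ξ : PrimeSpectrum F, ξ₀ ≤ ξ := fun ξ => by
    refine (FibreGenericPoint.fiber_comap_strictMono p).2 (hξ₀.le.trans (Ideal.map_le_iff_le_comap.2 ?_))
    have h2 := ((PrimeSpectrum.primesOverOrderIsoFiber R D p).symm ξ).2.2.over
    rw [PrimeSpectrum.coe_primesOverOrderIsoFiber_symm_apply] at h2
    exact h2.le
  have hξ₀s : ξ₀ ∈ Module.support F (FlatCA.fiberMod p D G) := by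
    rw [FibreGenericPoint.mem_support_fiberMod, Module.mem_support_iff_nontrivial_residueField_tensorProduct,
      show PrimeSpectrum.comap (algebraMap D F) ξ₀ = ⟨P, ‹_›⟩ from PrimeSpectrum.ext hξ₀]
    exact hP
  have huniv : Module.support F (FlatCA.fiberMod p D G) = Set.univ :=
    Set.eq_univ_of_forall fun ξ => Module.mem_support_mono (hmin ξ) hξ₀s
  have hFeq : ringKrullDim F = n := le_antisymm hF (hle'.trans (Module.supportDim_le_ringKrullDim _ _))
  obtain ⟨η, hη⟩ := Flatmor4.exists_fiber_prime p y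
  refine ⟨η, huniv ▸ Set.mem_univ _, Flatmor4.fiberIdeal_comap p η y hη, ?_⟩
  rw [FibreDim.localDim_eq_of_homeomorph ((Homeomorph.setCongr huniv).trans (Homeomorph.Set.univ _))]
  refine le_antisymm ((Groth.SpectralTopology.localDim_le_dim _).trans ?_) ?_
  · rw [PrimeSpectrum.topologicalKrullDim_eq_ringKrullDim, hFeq]
  · rw [← hFeq]
    refine le_trans (le_of_eq ?_) (FibreDim.ringKrullDim_quotient_le_localDim p.ResidueField η (hmin η))
    rw [ringKrullDim_quotient, ringKrullDim]
    have : PrimeSpectrum.zeroLocus (ξ₀.asIdeal : Set F) = Set.univ := Set.eq_univ_of_forall fun ξ => hmin ξ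
    rw [this]
    exact (Order.krullDim_eq_of_orderIso OrderIso.Set.univ).symm

/-- An elementary dévissage is a one-step dévissage at its point. -/
theorem isOneStepDevissage_of_elem {R S : Type u} [CommRing R] [CommRing S] [Algebra R S]
    [Algebra.FiniteType R S]
    {N : Type u} [AddCommGroup N] [Module S N] [Module R N] [IsScalarTower R S N] [Module.Finite S N]
    {p : Ideal R} [p.IsPrime] {q : Ideal S} [q.IsPrime] [q.LiesOver p] {n : ℕ}
    (E : FlatCA.ElemDevissage R S N p q n) [Module E.R' E.N'] [IsScalarTower E.R' E.S' E.N']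
    (hn : ∃ (ξ : PrimeSpectrum (p.Fiber S)) (hξ : ξ ∈ Module.support (p.Fiber S) (FlatCA.fiberMod p S N)),
      ξ.asIdeal = FlatCA.fiberIdeal p q ∧
      FlatMor.localDim (Module.support (p.Fiber S) (FlatCA.fiberMod p S N)) ⟨ξ, hξ⟩ = n) :
    FlatCA.IsOneStepDevissage E.R' E.S' E.N' E.p' E.C E.D E.G n ∧
    ∃ (ξ : PrimeSpectrum (E.p'.Fiber E.S')) (hξ : ξ ∈ Module.support (E.p'.Fiber E.S') (FlatCA.fiberMod E.p' E.S' E.N')),
      ξ.asIdeal = FlatCA.fiberIdeal E.p' E.q' ∧
      FlatMor.localDim (Module.support (E.p'.Fiber E.S') (FlatCA.fiberMod E.p' E.S' E.N')) ⟨ξ, hξ⟩ = n := by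
  obtain ⟨hR', hp'o, hκ⟩ := E.etaleR
  obtain ⟨hS', hq'o, -⟩ := E.etaleS
  haveI := hR'; haveI := hp'o; haveI := hS'; haveI := hq'o
  obtain ⟨S₀, _, _, _, _, _, _, hPS⟩ := EtalePushout.exists_pushout R S E.R'
  haveI := hPS
  haveI : Algebra.Etale S S₀ := EtalePushout.etale_of_isPushout' (A := R) (A' := E.R') (B := S) (B' := S₀)
  let φ : S₀ →ₐ[E.R'] E.S' := (Algebra.TensorProduct.lift (Algebra.ofId E.R' E.S')
    (IsScalarTower.toAlgHom R S E.S') fun _ _ => .all _ _).comp (Algebra.IsPushout.equiv R E.R' S S₀).symm.toAlgHom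
  letI : Algebra S₀ E.S' := φ.toRingHom.toAlgebra
  haveI : IsScalarTower E.R' S₀ E.S' := .of_algebraMap_eq fun r => (φ.commutes r).symm
  haveI : IsScalarTower S S₀ E.S' := .of_algebraMap_eq fun s => by
    have h1 : (Algebra.IsPushout.equiv R E.R' S S₀) (1 ⊗ₜ[R] s) = algebraMap S S₀ s := by
      simp [Algebra.IsPushout.equiv_tmul]
    show _ = φ (algebraMap S S₀ s)
    rw [← h1]
    simp [φ]
  haveI : Algebra.Etale S₀ E.S' := Algebra.Etale.of_restrictScalars S S₀ E.S'
  obtain ⟨N₀, _, _, _, _, f₀, hf₀⟩ := EtalePushout.exists_baseChange S S₀ N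
  letI : Module E.R' N₀ := Module.compHom N₀ (algebraMap E.R' S₀)
  haveI : IsScalarTower E.R' S₀ N₀ := .of_algebraMap_smul fun _ _ => rfl
  haveI : Module.Finite S₀ N₀ := Module.Finite.equiv hf₀.equiv
  let q₀ : Ideal S₀ := E.q'.comap (algebraMap S₀ E.S')
  haveI : E.q'.LiesOver q₀ := ⟨rfl⟩
  haveI : q₀.LiesOver q := ⟨by
    show q = (E.q'.comap _).comap _
    rw [Ideal.comap_comap, ← IsScalarTower.algebraMap_eq]
    exact hq'o.over⟩
  haveI : q₀.LiesOver E.p' := ⟨by
    show E.p' = (E.q'.comap _).comap _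
    rw [Ideal.comap_comap, ← IsScalarTower.algebraMap_eq]
    exact Ideal.LiesOver.over⟩
  have hpt₀ := Flatmor4.exists_point_localDim_baseChange (R := R) (R' := E.R') (S := S) (S' := S₀)
    p E.p' hκ hf₀ q q₀ hn
  letI : Module S₀ E.N' := Module.compHom E.N' (algebraMap S₀ E.S')
  haveI : IsScalarTower S₀ E.S' E.N' := .of_algebraMap_smul fun _ _ => rfl
  haveI : IsScalarTower S S₀ E.N' := .of_algebraMap_smul fun r x => by
    rw [← algebraMap_smul E.S' (algebraMap S S₀ r) x, ← IsScalarTower.algebraMap_apply S S₀ E.S', algebraMap_smul]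
  have hf₁ : IsBaseChange E.S' (hf₀.lift E.f) := by
    refine IsBaseChange.of_comp hf₀ ?_
    rw [IsBaseChange.lift_comp]
    exact E.isBaseChange
  obtain ⟨-, hpt⟩ := EtalePushout.fibreSupport_etale' (R := E.R') (A := S₀) (B := E.S') E.p' hf₁ q₀ E.q' hpt₀
  haveI : Module.Finite E.S' E.N' := Module.Finite.equiv E.isBaseChange.equiv
  haveI := E.finiteDC
  haveI := E.finiteG
  haveI := E.geomInt
  refine ⟨⟨⟨E.iso⟩, E.surjC, E.fpC, E.finiteDC, E.finiteG, E.smooth,
    show AlgebraicGeometry.GeometricallyIrreducible _ from inferInstance, ?_⟩, hpt⟩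
  refine le_antisymm ((FibreGenericPoint.supportDim_fiberMod_le (R := E.R') (S := E.S') (C := E.C) (D := E.D)
    E.surjC E.N' E.G E.iso E.p').trans ((Module.supportDim_le_ringKrullDim _ _).trans ?_)) ?_
  · haveI : Algebra.IsPushout E.R' E.p'.ResidueField E.D (E.p'.Fiber E.D) := inferInstance
    exact Calg6.TwoFibreEta.ringKrullDim_le_of_smooth
      (Flatmor4.smoothRelDim_baseChange E.R' E.p'.ResidueField E.D (E.p'.Fiber E.D) E.smooth)
  · obtain ⟨ξ, hξ, -, hd⟩ := hpt
    haveI : Module.Finite (E.p'.Fiber E.S') (FlatCA.fiberMod E.p' E.S' E.N') :=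
      inferInstanceAs (Module.Finite (E.p'.Fiber E.S') ((E.p'.Fiber E.S') ⊗[E.S'] E.N'))
    rw [← hd, ← Flatmor4.topologicalKrullDim_support]
    exact SpectralTopology.localDim_le_dim _

end Groth.RaynaudGruson.StepSupport
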