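import Mathlib
import Groth.Prelude.Def_FlatCA
import Groth.Agent.RaynaudGruson.StepSupport

/-!
Building complete dévissages at a point step by step.
-/

set_option autoImplicit false
set_option linter.style.haveILetI false
universe u

open TensorProduct

namespace Groth.RaynaudGruson.DevissageCons

/-- A type prepended to a family. -/
def consFam (X : Type u) (F : ℕ → Type u) : ℕ → Type u
  | 0 => X
  | j + 1 => F j

theorem transport {R S : Type u} [CommRing R] [CommRing S] [Algebra R S] {N N' : Type u} [AddCommGroup N]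
    [Module S N] [AddCommGroup N'] [Module S N'] (e : N' ≃ₗ[S] N) {p : Ideal R} [p.IsPrime] {q : Ideal S} [q.IsPrime]
    (h : FlatCA.HasCompleteDevissageAt R S N p q) : FlatCA.HasCompleteDevissageAt R S N' p q := by
  obtain ⟨𝒟, ⟨𝒜⟩⟩ := h
  refine ⟨{ 𝒟 with isoN := e.trans 𝒟.isoN }, ⟨?_⟩⟩
  exact
    { qB := 𝒜.qB, qA := 𝒜.qA, hqB := 𝒜.hqB, hqA := 𝒜.hqA, overB := 𝒜.overB, overA := 𝒜.overA,
      pureTrans := 𝒜.pureTrans, uniq := 𝒜.uniq, q0 := 𝒜.q0, qStep := 𝒜.qStep, d := 𝒜.d,
      relDim := 𝒜.relDim, locDim := 𝒜.locDim }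

section

variable {R S : Type u} [CommRing R] [CommRing S] [Algebra R S]
  {N : Type u} [AddCommGroup N] [Module S N] [Module R N] [IsScalarTower R S N] [Module.Finite S N]
  {p : Ideal R} [p.IsPrime] {q : Ideal S} [q.IsPrime] [q.LiesOver p]
  {C D G : Type u} [CommRing C] [CommRing D] [Algebra S C] [Algebra R C] [IsScalarTower R S C]
  [Algebra R D] [Algebra D C] [IsScalarTower R D C] [AddCommGroup G] [Module C G] [Module S G]
  [IsScalarTower S C G] [Module D G] [IsScalarTower D C G] [Module R G] [IsScalarTower R D G]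
  {n : ℕ} (h : FlatCA.IsOneStepDevissage R S N p C D G n)
  (z : Ideal C) [z.IsPrime] (y : Ideal D) [y.IsPrime] [z.LiesOver q] [z.LiesOver y] [y.LiesOver p]
  (h3 : ∀ (z₁ : Ideal C) [z₁.IsPrime], z₁.LiesOver y → z₁ = z)
  (h4 : FlatCA.PurelyTranscendental p y) [(p.map (algebraMap R D)).IsPrime]
  {r : ℕ} (α : (Fin r → D) →ₗ[D] G)
  (hα : Function.Bijective (α.baseChange (p.map (algebraMap R D)).ResidueField))

include h h3 h4 hα in
theorem single (hsurj : Function.Surjective α) : FlatCA.HasCompleteDevissageAt R S N p q := by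
  have hloc := StepSupport.localDim_fiberMod_step h y
  obtain ⟨⟨e⟩, hsurjC, hfp, hDC, hCG, hsm, hgi, hdim⟩ := h
  haveI hsmooth : Algebra.Smooth R D := Flatmor4.smooth_of_smoothRelDim hsm
  let 𝒟 : FlatCA.CompleteDevissage R S N p :=
    { n := 1
      pos := one_pos
      A := fun _ => C
      B := fun _ => D
      M := fun _ => G
      r := fun _ => r
      hp := fun _ => ‹_›
      α := fun _ => α
      surjSA := hsurjC
      fpSA := hfp
      surjBA' := fun i hi => absurd hi (by omega)
      fpBA' := fun i hi => absurd hi (by omega)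
      finiteBA := fun _ _ => hDC
      smooth := fun _ _ => hsmooth
      geomIrred := fun _ _ => hgi
      finiteM := fun _ _ => hCG
      isoN := e
      isoCoker := fun i hi => absurd hi (by omega)
      fibreIso := fun _ _ => hα
      cokerLast := hsurj }
  refine ⟨𝒟, ⟨?_⟩⟩
  exact
    { qB := fun _ => y, qA := fun _ => z
      hqB := fun _ => inferInstance, hqA := fun _ => inferInstance
      overB := fun _ => inferInstanceAs (y.LiesOver p), overA := fun _ => inferInstanceAs (z.LiesOver y)
      pureTrans := fun _ _ => h4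
      uniq := fun _ _ Q _ hQ => h3 Q hQ
      q0 := (Ideal.LiesOver.over (P := z) (p := q)).symm
      qStep := fun i hi => absurd hi (show ¬ i + 1 < 1 by omega)
      d := fun _ => n
      relDim := fun _ _ => hsm
      locDim := fun _ _ => hloc }

include h h3 h4 hα in
theorem cons (htail : FlatCA.HasCompleteDevissageAt R D (G ⧸ LinearMap.range α) p y) :
    FlatCA.HasCompleteDevissageAt R S N p q := by
  have hloc := StepSupport.localDim_fiberMod_step h y
  obtain ⟨⟨e⟩, hsurjC, hfp, hDC, hCG, hsm, hgi, hdim⟩ := h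
  haveI hsmooth : Algebra.Smooth R D := Flatmor4.smooth_of_smoothRelDim hsm
  obtain ⟨T, ⟨𝒜⟩⟩ := htail
  let A' := consFam C T.A
  let B' := consFam D T.B
  let M' := consFam G T.M
  letI cA : ∀ i, CommRing (A' i) := fun i => match i with | 0 => ‹CommRing C› | j + 1 => T.cA j
  letI cB : ∀ i, CommRing (B' i) := fun i => match i with | 0 => ‹CommRing D› | j + 1 => T.cB j
  letI aRA : ∀ i, Algebra R (A' i) := fun i => match i with | 0 => ‹Algebra R C› | j + 1 => T.aRA j
  letI aRB : ∀ i, Algebra R (B' i) := fun i => match i with | 0 => ‹Algebra R D› | j + 1 => T.aRB j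
  letI aBA : ∀ i, Algebra (B' i) (A' i) := fun i => match i with | 0 => ‹Algebra D C› | j + 1 => T.aBA j
  haveI tRBA : ∀ i, IsScalarTower R (B' i) (A' i) := fun i =>
    match i with | 0 => ‹IsScalarTower R D C› | j + 1 => T.tRBA j
  letI aBA' : ∀ i, Algebra (B' i) (A' (i + 1)) := fun i => match i with | 0 => T.aSA | j + 1 => T.aBA' j
  haveI tRBA' : ∀ i, IsScalarTower R (B' i) (A' (i + 1)) := fun i =>
    match i with | 0 => T.tRSA | j + 1 => T.tRBA' j
  letI gM : ∀ i, AddCommGroup (M' i) := fun i => match i with | 0 => ‹AddCommGroup G› | j + 1 => T.gM j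
  letI mAM : ∀ i, Module (A' i) (M' i) := fun i => match i with | 0 => ‹Module C G› | j + 1 => T.mAM j
  letI mBM : ∀ i, Module (B' i) (M' i) := fun i => match i with | 0 => ‹Module D G› | j + 1 => T.mBM j
  haveI tBAM : ∀ i, IsScalarTower (B' i) (A' i) (M' i) := fun i =>
    match i with | 0 => ‹IsScalarTower D C G› | j + 1 => T.tBAM j
  letI mRM : ∀ i, Module R (M' i) := fun i => match i with | 0 => ‹Module R G› | j + 1 => T.mRM j
  haveI tRBM : ∀ i, IsScalarTower R (B' i) (M' i) := fun i =>
    match i with | 0 => ‹IsScalarTower R D G› | j + 1 => T.tRBM j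
  letI mB'M : ∀ i, Module (B' i) (M' (i + 1)) := fun i => match i with | 0 => T.mSM | j + 1 => T.mB'M j
  haveI tB'AM : ∀ i, IsScalarTower (B' i) (A' (i + 1)) (M' (i + 1)) := fun i =>
    match i with | 0 => T.tSAM | j + 1 => T.tB'AM j
  let r' : ℕ → ℕ := fun i => match i with | 0 => r | j + 1 => T.r j
  haveI hp' : ∀ i, (p.map (algebraMap R (B' i))).IsPrime := fun i => match i with | 0 => ‹_› | j + 1 => T.hp j
  let α' : ∀ i, (Fin (r' i) → B' i) →ₗ[B' i] M' i := fun i => match i with | 0 => α | j + 1 => T.α j
  letI aSA : Algebra S (A' 0) := ‹Algebra S C›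
  haveI tRSA : IsScalarTower R S (A' 0) := ‹IsScalarTower R S C›
  letI mSM : Module S (M' 0) := ‹Module S G›
  haveI tSAM : IsScalarTower S (A' 0) (M' 0) := ‹IsScalarTower S C G›
  obtain ⟨k, hk⟩ : ∃ k, T.n = k + 1 := ⟨T.n - 1, by have := T.pos; omega⟩
  let 𝒟 : FlatCA.CompleteDevissage R S N p :=
    { n := T.n + 1
      pos := Nat.succ_pos _
      A := A'
      B := B'
      M := M'
      r := r'
      hp := hp'
      α := α'
      surjSA := hsurjC
      fpSA := hfp
      surjBA' := fun i hi => match i, hi with
        | 0, _ => T.surjSA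
        | j + 1, hi => T.surjBA' j (by omega)
      fpBA' := fun i hi => match i, hi with
        | 0, _ => T.fpSA
        | j + 1, hi => T.fpBA' j (by omega)
      finiteBA := fun i hi => match i, hi with
        | 0, _ => hDC
        | j + 1, hi => T.finiteBA j (by omega)
      smooth := fun i hi => match i, hi with
        | 0, _ => hsmooth
        | j + 1, hi => T.smooth j (by omega)
      geomIrred := fun i hi => match i, hi with
        | 0, _ => hgi
        | j + 1, hi => T.geomIrred j (by omega)
      finiteM := fun i hi => match i, hi with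
        | 0, _ => hCG
        | j + 1, hi => T.finiteM j (by omega)
      isoN := e
      isoCoker := fun i hi => match i, hi with
        | 0, _ => T.isoN
        | j + 1, hi => T.isoCoker j (by omega)
      fibreIso := fun i hi => match i, hi with
        | 0, _ => hα
        | j + 1, hi => T.fibreIso j (by omega)
      cokerLast := by
        show Function.Surjective (α' (T.n + 1 - 1))
        rw [Nat.add_sub_cancel, hk]
        show Function.Surjective (T.α k)
        have := T.cokerLast
        rwa [hk, Nat.add_sub_cancel] at this }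
  let qB' : ∀ i, Ideal (B' i) := fun i => match i with | 0 => y | j + 1 => 𝒜.qB j
  let qA' : ∀ i, Ideal (A' i) := fun i => match i with | 0 => z | j + 1 => 𝒜.qA j
  have huniq : ∀ i, i < T.n + 1 → ∀ (Q : Ideal (A' i)) [Q.IsPrime], Q.LiesOver (qB' i) → Q = qA' i := by
    intro i hi Q hQ hQy
    cases i with
    | zero => exact @h3 Q hQ hQy
    | succ j =>
      have key := 𝒜.uniq j (by omega)
      exact @key Q hQ hQy
  refine ⟨𝒟, ⟨?_⟩⟩
  exact
    { qB := qB'
      qA := qA'
      hqB := fun i => match i with | 0 => inferInstanceAs y.IsPrime | j + 1 => 𝒜.hqB j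
      hqA := fun i => match i with | 0 => inferInstanceAs z.IsPrime | j + 1 => 𝒜.hqA j
      overB := fun i => match i with | 0 => inferInstanceAs (y.LiesOver p) | j + 1 => 𝒜.overB j
      overA := fun i => match i with | 0 => inferInstanceAs (z.LiesOver y) | j + 1 => 𝒜.overA j
      pureTrans := fun i hi => match i, hi with
        | 0, _ => h4
        | j + 1, hi => 𝒜.pureTrans j (by have h' : j + 1 < T.n + 1 := hi; omega)
      uniq := huniq
      q0 := (Ideal.LiesOver.over (P := z) (p := q)).symm
      qStep := fun i hi => match i, hi with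
        | 0, _ => 𝒜.q0
        | j + 1, hi => 𝒜.qStep j (by have h' : j + 1 + 1 < T.n + 1 := hi; omega)
      d := fun i => match i with | 0 => n | j + 1 => 𝒜.d j
      relDim := fun i hi => match i, hi with
        | 0, _ => hsm
        | j + 1, hi => 𝒜.relDim j (by have h' : j + 1 < T.n + 1 := hi; omega)
      locDim := fun i hi => match i, hi with
        | 0, _ => hloc
        | j + 1, hi => 𝒜.locDim j (by have h' : j + 1 < T.n + 1 := hi; omega) }

end

end Groth.RaynaudGruson.DevissageCons
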