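import Mathlib
import Groth.Prelude.Def_FlatCA
import Groth.Agent.RaynaudGruson.DevissageOps
import Groth.Agent.RaynaudGruson.DevissageCons
import Groth.Agent.RaynaudGruson.GeomIntegralNbhd
import Groth.Agent.RaynaudGruson.ElemDevissage

/-!
Choosing the final étale neighbourhoods over which the tail of a dévissage lives.
-/

set_option autoImplicit false
set_option linter.style.haveILetI false
universe u

open TensorProduct CategoryTheory AlgebraicGeometry
open Groth.RaynaudGruson.EtalePushout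

namespace Groth.RaynaudGruson.DevissageTail

/-- Neighbourhoods over which the smooth algebra has geometrically irreducible fibres and the given module
either vanishes or has a complete dévissage at the point. -/
def GoodNbhd (n : ℕ) (R D : Type u) [CommRing R] [CommRing D] [Algebra R D] (M : Type u) [AddCommGroup M]
    [Module D M] (p : Ideal R) [p.IsPrime] (y : Ideal D) [y.IsPrime] : Prop :=
  ∃ (R₃ : Type u) (_ : CommRing R₃) (_ : Algebra R R₃) (p₃ : Ideal R₃) (_ : p₃.IsPrime)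
    (D₃ : Type u) (_ : CommRing D₃) (_ : Algebra D D₃) (_ : Algebra R₃ D₃) (_ : Algebra R D₃)
    (_ : IsScalarTower R R₃ D₃) (_ : IsScalarTower R D D₃) (y₃ : Ideal D₃) (_ : y₃.IsPrime)
    (_ : y₃.LiesOver p₃),
    FlatCA.IsEtaleNhd R R₃ p p₃ ∧ FlatCA.IsEtaleNhd D D₃ y y₃ ∧ FlatCA.SmoothRelDim n R₃ D₃ ∧
    FlatCA.GeomIrredFibres R₃ D₃ ∧
    ∀ (M₃ : Type u) [AddCommGroup M₃] [Module D₃ M₃] [Module D M₃] [IsScalarTower D D₃ M₃] (f : M →ₗ[D] M₃),
      IsBaseChange D₃ f → Subsingleton M₃ ∨ FlatCA.HasCompleteDevissageAt R₃ D₃ M₃ p₃ y₃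

/-- A point of a smooth algebra has a standard open neighbourhood which surjects onto a standard open of
the base. -/
theorem exists_open_image {R D : Type u} [CommRing R] [CommRing D] [Algebra R D] [Algebra.Smooth R D]
    (p : Ideal R) [p.IsPrime] (y : Ideal D) [y.IsPrime] [y.LiesOver p] (h : D) (hy : h ∉ y) :
    ∃ g : R, g ∉ p ∧ ∀ P : Ideal R, P.IsPrime → g ∉ P →
      ∃ Q : Ideal D, Q.IsPrime ∧ Q.comap (algebraMap R D) = P ∧ h ∉ Q := by
  have hU := (PrimeSpectrum.isOpenMap_comap_of_hasGoingDown_of_finitePresentation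
    (R := R) (S := D)) _ (PrimeSpectrum.basicOpen h).2
  have hpU : (⟨p, ‹_›⟩ : PrimeSpectrum R) ∈ PrimeSpectrum.comap (algebraMap R D) ''
      (PrimeSpectrum.basicOpen h : Set (PrimeSpectrum D)) :=
    ⟨⟨y, inferInstance⟩, hy, PrimeSpectrum.ext (Ideal.LiesOver.over (P := y) (p := p)).symm⟩
  obtain ⟨_, ⟨_, ⟨g, rfl⟩, rfl⟩, hg, hgU⟩ :=
    PrimeSpectrum.isBasis_basic_opens.exists_subset_of_mem_open hpU hU
  refine ⟨g, hg, fun P hP hgP => ?_⟩
  obtain ⟨Q, hQw, hQ⟩ := hgU (show (⟨P, hP⟩ : PrimeSpectrum R) ∈ PrimeSpectrum.basicOpen g from hgP)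
  exact ⟨Q.asIdeal, Q.2, congrArg PrimeSpectrum.asIdeal hQ, hQw⟩

/-- The case where the module vanishes near the point. -/
theorem goodNbhd_of_notMem {R D : Type u} [CommRing R] [CommRing D] [Algebra R D] {n : ℕ}
    (hsm : FlatCA.SmoothRelDim n R D) (hgi : FlatCA.GeomIrredFibres R D) (p : Ideal R) [p.IsPrime]
    (y : Ideal D) [y.IsPrime] [y.LiesOver p] (M : Type u) [AddCommGroup M] [Module D M] [Module.Finite D M]
    (hy : (⟨y, ‹_›⟩ : PrimeSpectrum D) ∉ Module.support D M) : GoodNbhd n R D M p y := by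
  haveI := Flatmor4.smooth_of_smoothRelDim hsm
  rw [Module.support_eq_zeroLocus, PrimeSpectrum.mem_zeroLocus, Set.not_subset] at hy
  obtain ⟨h, hann, hhy⟩ := hy
  obtain ⟨g, hg, hgs⟩ := exists_open_image p y h hhy
  obtain ⟨t, ht⟩ : ∃ t, t = h * algebraMap R D g := ⟨_, rfl⟩
  have hgy : algebraMap R D g ∉ y := fun hm => hg ((Ideal.LiesOver.over (P := y) (p := p)).symm ▸ hm)
  have hty : t ∉ y := fun hm => ((Ideal.IsPrime.mem_or_mem ‹y.IsPrime› (ht ▸ hm)).elim hhy hgy)
  let R₃ := Localization.Away g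
  let D₃ := Localization.Away t
  have hu : IsUnit (algebraMap R D₃ g) := by
    rw [IsScalarTower.algebraMap_apply R D D₃]
    exact isUnit_of_dvd_unit (map_dvd _ ⟨h, by rw [ht, mul_comm]⟩) (IsLocalization.Away.algebraMap_isUnit t)
  letI : Algebra R₃ D₃ := (IsLocalization.Away.lift g (g := algebraMap R D₃) hu).toAlgebra
  haveI : IsScalarTower R R₃ D₃ := .of_algebraMap_eq fun x => (IsLocalization.Away.lift_eq g hu x).symm
  obtain ⟨hp', hp'o⟩ := Flatmor4.away_map_prime g p hg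
  obtain ⟨hy', hy'o⟩ := Flatmor4.away_map_prime t y hty
  haveI := hp'; haveI := hp'o; haveI := hy'; haveI := hy'o
  haveI : (Ideal.map (algebraMap D D₃) y).LiesOver (Ideal.map (algebraMap R R₃) p) := ⟨
    Flatmor4.away_prime_ext (A := R) (A' := R₃) g inferInstance inferInstance (by
      rw [Ideal.comap_comap, ← IsScalarTower.algebraMap_eq, IsScalarTower.algebraMap_eq R D D₃, ← Ideal.comap_comap]
      show (Ideal.map (algebraMap R R₃) p).under R = ((Ideal.map (algebraMap D D₃) y).under D).under R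
      rw [← hy'o.over, ← hp'o.over, ← Ideal.LiesOver.over (P := y) (p := p)])⟩
  refine ⟨R₃, inferInstance, inferInstance, Ideal.map (algebraMap R R₃) p, hp', D₃, inferInstance, inferInstance,
    inferInstance, inferInstance, inferInstance, inferInstance, Ideal.map (algebraMap D D₃) y, hy', inferInstance,
    DevissageOps.isEtaleNhd_away g p _, DevissageOps.isEtaleNhd_away t y _, ?_, ?_, ?_⟩
  · exact Flatmor4.smoothRelDim_shrink (R := R) (D := D) g t hsm
  · refine Flatmor4.geomIrred_shrink (R := R) (D := D) g t hgi fun P hP hgP => ?_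
    obtain ⟨Q, hQ, hQP, hhQ⟩ := hgs P hP hgP
    exact ⟨Q, hQ, hQP, fun hm => (hQ.mem_or_mem (ht ▸ hm)).elim hhQ fun h' => hgP (hQP ▸ h')⟩
  · intro M₃ _ _ _ _ f hf
    refine Or.inl ⟨fun a b => ?_⟩
    have hu' : IsUnit (algebraMap D D₃ h) :=
      isUnit_of_dvd_unit (map_dvd _ ⟨algebraMap R D g, ht⟩) (IsLocalization.Away.algebraMap_isUnit t)
    have hz : ∀ w : M₃, algebraMap D D₃ h • w = 0 := fun w => by
      induction w using hf.inductionOn with
      | zero => rw [smul_zero]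
      | tmul m => rw [algebraMap_smul, ← map_smul, Module.mem_annihilator.1 hann m, map_zero]
      | smul c m hm => rw [smul_comm, hm, smul_zero]
      | add u v hu hv => rw [smul_add, hu, hv, add_zero]
    rw [hu'.smul_left_cancel.1 ((hz a).trans (hz b).symm)]

/-- The case where the module has a complete dévissage after étale localisation. -/
theorem goodNbhd_of_devissage {R D : Type u} [CommRing R] [CommRing D] [Algebra R D] {n : ℕ}
    (hsm : FlatCA.SmoothRelDim n R D) (p : Ideal R) [p.IsPrime] (y : Ideal D) [y.IsPrime] [y.LiesOver p]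
    (hPT : FlatCA.PurelyTranscendental p y) (M : Type u) [AddCommGroup M] [Module D M] [Module.Finite D M]
    (R₂ : Type u) [CommRing R₂] [Algebra R R₂] (p₂ : Ideal R₂) [p₂.IsPrime] (hR₂ : FlatCA.IsEtaleNhd R R₂ p p₂)
    (D₂ : Type u) [CommRing D₂] [Algebra D D₂] [Algebra R₂ D₂] [Algebra R D₂] [IsScalarTower R R₂ D₂]
    [IsScalarTower R D D₂] (y₂ : Ideal D₂) [y₂.IsPrime] [y₂.LiesOver p₂] (hD₂ : FlatCA.IsEtaleNhd D D₂ y y₂)
    (M₂ : Type u) [AddCommGroup M₂] [Module D₂ M₂] [Module D M₂] [IsScalarTower D D₂ M₂] (f₂ : M →ₗ[D] M₂)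
    (hf₂ : IsBaseChange D₂ f₂) (htail : FlatCA.HasCompleteDevissageAt R₂ D₂ M₂ p₂ y₂) :
    GoodNbhd n R D M p y := by
  obtain ⟨hR₂et, hp₂o, hκ₂⟩ := id hR₂
  obtain ⟨hD₂et, hy₂o, hb₂⟩ := id hD₂
  haveI := hR₂et; haveI := hp₂o; haveI := hD₂et; haveI := hy₂o
  haveI : Algebra.FiniteType R D := by
    haveI := Flatmor4.smooth_of_smoothRelDim hsm
    infer_instance
  haveI : Module.Finite D₂ M₂ := Module.Finite.equiv hf₂.equiv
  haveI : Algebra.FiniteType R D₂ := Algebra.FiniteType.trans (R := R) (S := D) (A := D₂) inferInstance inferInstance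
  haveI : Algebra.FiniteType R₂ D₂ := Algebra.FiniteType.of_restrictScalars_finiteType R R₂ D₂
  have hsm₂ : FlatCA.SmoothRelDim n R₂ D₂ := smoothRelDim_cancel (R := R) (R' := R₂) (D := D₂)
    (ElemDev.smoothRelDim_etale_comp (R := R) (P := D) (D := D₂) hsm)
  have hPT₂ : FlatCA.PurelyTranscendental p₂ y₂ :=
    Flatmor4.purelyTranscendental_of_bijective (R := R) (R' := R₂) (S := D) (S' := D₂) p p₂ y y₂ hκ₂ hb₂ hPT
  obtain ⟨R'', _, _, p'', _, hR'', D'', _, _, _, _, _, _, hopen, y'', _, _, _, hD'', hGI, -⟩ :=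
    GeomIntegralNbhd.exists_nbhd_geomIntegralFibres n hsm₂ p₂ y₂
      (ElemDev.sepClosedAlong_of_purelyTranscendental p₂ y₂ hPT₂)
  obtain ⟨hR''et, hp''o, hκ''⟩ := id hR''
  haveI := hR''et; haveI := hp''o
  -- the base change `T` of `D₂` and the open piece `D''`
  obtain ⟨T, _, _, _, _, _, _, hPT', L, hopen', hLD⟩ : ∃ (T : Type u) (_ : CommRing T) (_ : Algebra R'' T)
      (_ : Algebra D₂ T) (_ : Algebra R₂ T) (_ : IsScalarTower R₂ R'' T) (_ : IsScalarTower R₂ D₂ T)
      (_ : Algebra.IsPushout R₂ R'' D₂ T) (L : T →ₐ[R''] D''),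
      IsOpenImmersion (Spec.map (CommRingCat.ofHom L.toRingHom)) ∧
      ∀ d : D₂, L (algebraMap D₂ T d) = algebraMap D₂ D'' d := by
    letI : Algebra D₂ (R'' ⊗[R₂] D₂) := Algebra.TensorProduct.rightAlgebra
    exact ⟨R'' ⊗[R₂] D₂, inferInstance, inferInstance, inferInstance, inferInstance, inferInstance, inferInstance,
      inferInstance, Algebra.TensorProduct.lift (Algebra.ofId R'' D'') (IsScalarTower.toAlgHom R₂ D₂ D'')
        fun _ _ => .all _ _, hopen, fun d => by
        show Algebra.TensorProduct.lift _ _ _ ((1 : R'') ⊗ₜ[R₂] d) = _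
        rw [Algebra.TensorProduct.lift_tmul, map_one, one_mul]
        rfl⟩
  haveI := hPT'
  let yT : Ideal T := y''.comap L.toRingHom
  haveI : yT.LiesOver y₂ := ⟨by
    show y₂ = (y''.comap L.toRingHom).comap _
    rw [Ideal.comap_comap, Ideal.LiesOver.over (P := y'') (p := y₂)]
    refine congrArg (fun φ => Ideal.comap φ y'') (RingHom.ext fun d => ?_)
    exact (hLD d).symm⟩
  haveI : yT.LiesOver p'' := ⟨by
    show p'' = (y''.comap L.toRingHom).comap _
    rw [Ideal.comap_comap, L.toRingHom_eq_coe, L.comp_algebraMap]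
    exact Ideal.LiesOver.over⟩
  obtain ⟨MT, _, _, _, _, fT, hfT⟩ := exists_baseChange D₂ T M₂
  haveI : Module.Finite T MT := Module.Finite.equiv hfT.equiv
  have hTail : FlatCA.HasCompleteDevissageAt R'' T MT p'' yT :=
    DevissageOps.baseChange htail R'' p'' hκ'' T MT fT hfT yT
  have hDT : FlatCA.IsEtaleNhd D₂ T y₂ yT :=
    ⟨etale_of_isPushout' (A := R₂) (A' := R'') (B := D₂) (B' := T), inferInstance,
      bijective_residue_of_isPushout (R := R₂) (R' := R'') (S := D₂) (S' := T) p₂ p'' hκ'' y₂ yT⟩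
  -- shrink into the open piece
  haveI := hopen'
  let jL := Spec.map (CommRingCat.ofHom L.toRingHom)
  obtain ⟨_, ⟨_, ⟨u, rfl⟩, rfl⟩, huy, huU⟩ := PrimeSpectrum.isBasis_basic_opens.exists_subset_of_mem_open
    (show (⟨yT, inferInstance⟩ : PrimeSpectrum T) ∈ Set.range jL.base from ⟨⟨y'', inferInstance⟩, rfl⟩)
    jL.isOpenEmbedding.isOpen_range
  obtain ⟨g, hX, hg, hXy, hunit, _, _, hp₄, hy₄, hTail₄⟩ := DevissageOps.exists_shrink hTail u huy
  haveI := hp₄; haveI := hy₄
  let R₄ := Localization.Away g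
  let T₄ := Localization.Away hX
  let p₄ := Ideal.map (algebraMap R'' R₄) p''
  let y₄ := Ideal.map (algebraMap T T₄) yT
  haveI hp₄o : p₄.LiesOver p'' := (Flatmor4.away_map_prime g p'' hg).2
  haveI hy₄o : y₄.LiesOver yT := (Flatmor4.away_map_prime hX yT hXy).2
  haveI : y₄.LiesOver p₄ := ⟨
    Flatmor4.away_prime_ext (A := R'') (A' := R₄) g inferInstance inferInstance (by
      rw [Ideal.comap_comap, ← IsScalarTower.algebraMap_eq, IsScalarTower.algebraMap_eq R'' T T₄, ← Ideal.comap_comap]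
      show p₄.under R'' = (y₄.under T).under R''
      rw [← hy₄o.over, ← hp₄o.over, ← Ideal.LiesOver.over (P := yT) (p := p'')])⟩
  -- the composite algebra structures
  letI : Algebra R R'' := ((algebraMap R₂ R'').comp (algebraMap R R₂)).toAlgebra
  haveI : IsScalarTower R R₂ R'' := .of_algebraMap_eq' rfl
  letI : Algebra D T := ((algebraMap D₂ T).comp (algebraMap D D₂)).toAlgebra
  haveI : IsScalarTower D D₂ T := .of_algebraMap_eq' rfl
  letI : Algebra R T := ((algebraMap D T).comp (algebraMap R D)).toAlgebra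
  haveI : IsScalarTower R D T := .of_algebraMap_eq' rfl
  have hR₄ : FlatCA.IsEtaleNhd R R₄ p p₄ :=
    isEtaleNhd_trans (isEtaleNhd_trans hR₂ hR'') (DevissageOps.isEtaleNhd_away g p'' p₄)
  have hD₄ : FlatCA.IsEtaleNhd D T₄ y y₄ :=
    isEtaleNhd_trans (isEtaleNhd_trans hD₂ hDT) (DevissageOps.isEtaleNhd_away hX yT y₄)
  haveI : IsScalarTower R D T₄ := .of_algebraMap_eq fun x => by
    rw [IsScalarTower.algebraMap_apply R T T₄, IsScalarTower.algebraMap_apply R D T,
      ← IsScalarTower.algebraMap_apply D T T₄]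
  haveI : IsScalarTower R R₄ T₄ := .of_algebraMap_eq fun x => by
    rw [IsScalarTower.algebraMap_apply R T T₄, IsScalarTower.algebraMap_apply R R'' R₄]
    show algebraMap T T₄ (algebraMap D₂ T (algebraMap D D₂ (algebraMap R D x))) =
      algebraMap R₄ T₄ (algebraMap R'' R₄ (algebraMap R₂ R'' (algebraMap R R₂ x)))
    rw [← IsScalarTower.algebraMap_apply R'' R₄ T₄, IsScalarTower.algebraMap_apply R'' T T₄,
      ← IsScalarTower.algebraMap_apply R D D₂, IsScalarTower.algebraMap_apply R R₂ D₂,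
      ← IsScalarTower.algebraMap_apply R₂ D₂ T, IsScalarTower.algebraMap_apply R₂ R'' T]
  haveI := hR₄.1
  haveI := hD₄.1
  have hsm₄ : FlatCA.SmoothRelDim n R₄ T₄ := smoothRelDim_cancel (R := R) (R' := R₄) (D := T₄)
    (ElemDev.smoothRelDim_etale_comp (R := R) (P := D) (D := T₄) hsm)
  haveI := Flatmor4.smooth_of_smoothRelDim hsm₄
  -- restrict to the image
  obtain ⟨g₁, hg₁, hgs⟩ := exists_open_image p₄ y₄ (1 : T₄) y₄.one_notMem
  have hg₁y : algebraMap R₄ T₄ g₁ ∉ y₄ := fun hm => hg₁ ((Ideal.LiesOver.over (P := y₄) (p := p₄)).symm ▸ hm)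
  obtain ⟨R₃, _, _, hlR₃⟩ : ∃ (R₃ : Type u) (_ : CommRing R₃) (_ : Algebra R₄ R₃), IsLocalization.Away g₁ R₃ :=
    ⟨Localization.Away g₁, inferInstance, inferInstance, inferInstance⟩
  obtain ⟨D₃, _, _, hlD₃⟩ : ∃ (D₃ : Type u) (_ : CommRing D₃) (_ : Algebra T₄ D₃),
      IsLocalization.Away (algebraMap R₄ T₄ g₁) D₃ :=
    ⟨Localization.Away (algebraMap R₄ T₄ g₁), inferInstance, inferInstance, inferInstance⟩
  haveI := hlR₃
  haveI := hlD₃
  letI : Algebra R₄ D₃ := ((algebraMap T₄ D₃).comp (algebraMap R₄ T₄)).toAlgebra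
  haveI : IsScalarTower R₄ T₄ D₃ := .of_algebraMap_eq' rfl
  have hu₃ : IsUnit (algebraMap R₄ D₃ g₁) := by
    rw [IsScalarTower.algebraMap_apply R₄ T₄ D₃]
    exact IsLocalization.Away.algebraMap_isUnit _
  letI : Algebra R₃ D₃ := (IsLocalization.Away.lift g₁ (g := algebraMap R₄ D₃) hu₃).toAlgebra
  haveI : IsScalarTower R₄ R₃ D₃ := .of_algebraMap_eq fun x => (IsLocalization.Away.lift_eq g₁ hu₃ x).symm
  haveI : IsLocalization (Algebra.algebraMapSubmonoid T₄ (Submonoid.powers g₁)) D₃ := by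
    rw [Algebra.algebraMapSubmonoid_powers]
    infer_instance
  haveI : Algebra.IsPushout R₄ R₃ T₄ D₃ := (Algebra.isPushout_of_isLocalization (Submonoid.powers g₁) R₃ T₄ D₃).symm
  have hd₁ : Disjoint (Submonoid.powers g₁ : Set R₄) (p₄ : Set R₄) :=
    (Ideal.disjoint_powers_iff_notMem_of_isPrime _).mpr hg₁
  have hd₂ : Disjoint (Submonoid.powers (algebraMap R₄ T₄ g₁) : Set T₄) (y₄ : Set T₄) :=
    (Ideal.disjoint_powers_iff_notMem_of_isPrime _).mpr hg₁y
  have hp₃ : (p₄.map (algebraMap R₄ R₃)).IsPrime :=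
    IsLocalization.isPrime_of_isPrime_disjoint (Submonoid.powers g₁) R₃ p₄ inferInstance hd₁
  have hp₃o : (p₄.map (algebraMap R₄ R₃)).LiesOver p₄ :=
    ⟨(IsLocalization.comap_map_of_isPrime_disjoint (Submonoid.powers g₁) R₃ inferInstance hd₁).symm⟩
  have hy₃ : (y₄.map (algebraMap T₄ D₃)).IsPrime :=
    IsLocalization.isPrime_of_isPrime_disjoint (Submonoid.powers (algebraMap R₄ T₄ g₁)) D₃ y₄ inferInstance hd₂
  have hy₃o : (y₄.map (algebraMap T₄ D₃)).LiesOver y₄ :=
    ⟨(IsLocalization.comap_map_of_isPrime_disjoint (Submonoid.powers (algebraMap R₄ T₄ g₁)) D₃ inferInstance hd₂).symm⟩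
  haveI := hp₃; haveI := hp₃o; haveI := hy₃; haveI := hy₃o
  let p₃ := Ideal.map (algebraMap R₄ R₃) p₄
  let y₃ := Ideal.map (algebraMap T₄ D₃) y₄
  haveI : y₃.LiesOver p₃ := ⟨
    Flatmor4.away_prime_ext (A := R₄) (A' := R₃) g₁ inferInstance inferInstance (by
      rw [Ideal.comap_comap, ← IsScalarTower.algebraMap_eq, IsScalarTower.algebraMap_eq R₄ T₄ D₃, ← Ideal.comap_comap]
      show p₃.under R₄ = (y₃.under T₄).under R₄
      rw [← hy₃o.over, ← hp₃o.over, ← Ideal.LiesOver.over (P := y₄) (p := p₄)])⟩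
  letI : Algebra R R₃ := ((algebraMap R₄ R₃).comp (algebraMap R R₄)).toAlgebra
  haveI : IsScalarTower R R₄ R₃ := .of_algebraMap_eq' rfl
  letI : Algebra D D₃ := ((algebraMap T₄ D₃).comp (algebraMap D T₄)).toAlgebra
  haveI : IsScalarTower D T₄ D₃ := .of_algebraMap_eq' rfl
  letI : Algebra R D₃ := ((algebraMap T₄ D₃).comp (algebraMap R T₄)).toAlgebra
  haveI : IsScalarTower R T₄ D₃ := .of_algebraMap_eq' rfl
  have hR₃ : FlatCA.IsEtaleNhd R R₃ p p₃ := isEtaleNhd_trans hR₄ (DevissageOps.isEtaleNhd_away g₁ p₄ p₃)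
  have hD₃ : FlatCA.IsEtaleNhd D D₃ y y₃ :=
    isEtaleNhd_trans hD₄ (DevissageOps.isEtaleNhd_away (algebraMap R₄ T₄ g₁) y₄ y₃)
  haveI : IsScalarTower R D D₃ := .of_algebraMap_eq fun x => by
    rw [IsScalarTower.algebraMap_apply R T₄ D₃, IsScalarTower.algebraMap_apply R D T₄,
      ← IsScalarTower.algebraMap_apply D T₄ D₃]
  haveI : IsScalarTower R R₃ D₃ := .of_algebraMap_eq fun x => by
    rw [IsScalarTower.algebraMap_apply R R₄ R₃, ← IsScalarTower.algebraMap_apply R₄ R₃ D₃,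
      IsScalarTower.algebraMap_apply R₄ T₄ D₃, ← IsScalarTower.algebraMap_apply R R₄ T₄,
      ← IsScalarTower.algebraMap_apply R T₄ D₃]
  have hsm₃ : FlatCA.SmoothRelDim n R₃ D₃ := Flatmor4.smoothRelDim_baseChange R₄ R₃ T₄ D₃ hsm₄
  -- geometric irreducibility
  have hgi₃ : FlatCA.GeomIrredFibres R₃ D₃ := by
    let f₃ := Spec.map (CommRingCat.ofHom (algebraMap R₃ D₃))
    let f'' := Spec.map (CommRingCat.ofHom (algebraMap R'' D''))
    let i := Spec.map (CommRingCat.ofHom (algebraMap R₄ R₃)) ≫ Spec.map (CommRingCat.ofHom (algebraMap R'' R₄))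
    let jT := Spec.map (CommRingCat.ofHom (algebraMap T₄ D₃)) ≫ Spec.map (CommRingCat.ofHom (algebraMap T T₄))
    haveI : IsOpenImmersion (Spec.map (CommRingCat.ofHom (algebraMap R₄ R₃))) :=
      IsOpenImmersion.of_isLocalization g₁
    haveI : IsOpenImmersion (Spec.map (CommRingCat.ofHom (algebraMap R'' R₄))) :=
      IsOpenImmersion.of_isLocalization g
    haveI : IsOpenImmersion (Spec.map (CommRingCat.ofHom (algebraMap T₄ D₃))) :=
      IsOpenImmersion.of_isLocalization (algebraMap R₄ T₄ g₁)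
    haveI : IsOpenImmersion (Spec.map (CommRingCat.ofHom (algebraMap T T₄))) :=
      IsOpenImmersion.of_isLocalization hX
    have hrange : Set.range jT.base ⊆ Set.range jL.base := by
      rintro _ ⟨Q, rfl⟩
      refine huU ?_
      show u ∉ (jT.base Q).asIdeal
      intro hm
      refine Q.2.ne_top (Ideal.eq_top_of_isUnit_mem _ ?_ (hunit.map (algebraMap T₄ D₃)))
      exact hm
    let j := IsOpenImmersion.lift jL jT hrange
    have hj : j ≫ jL = jT := IsOpenImmersion.lift_fac _ _ _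
    haveI : IsOpenImmersion (j ≫ jL) := hj.symm ▸ inferInstance
    haveI : IsOpenImmersion j := IsOpenImmersion.of_comp j jL
    haveI : Surjective f₃ := ⟨fun P => by
      let P₄ : Ideal R₄ := P.asIdeal.comap (algebraMap R₄ R₃)
      have hgP : g₁ ∉ P₄ := fun hm => P.isPrime.ne_top (Ideal.eq_top_of_isUnit_mem _ hm
        (IsLocalization.Away.algebraMap_isUnit g₁))
      obtain ⟨Q, hQ, hQP, -⟩ := hgs P₄ inferInstance hgP
      have hgQ : algebraMap R₄ T₄ g₁ ∉ Q := fun hm => hgP (hQP ▸ hm)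
      obtain ⟨Q', hQ'⟩ : (⟨Q, hQ⟩ : PrimeSpectrum T₄) ∈ Set.range (PrimeSpectrum.comap (algebraMap T₄ D₃)) := by
        rw [PrimeSpectrum.localization_away_comap_range D₃ (algebraMap R₄ T₄ g₁)]; exact hgQ
      refine ⟨Q', PrimeSpectrum.localization_comap_injective R₃ (Submonoid.powers g₁) (PrimeSpectrum.ext ?_)⟩
      show (Q'.asIdeal.comap (algebraMap R₃ D₃)).comap (algebraMap R₄ R₃) = P₄
      rw [Ideal.comap_comap, ← IsScalarTower.algebraMap_eq, IsScalarTower.algebraMap_eq R₄ T₄ D₃,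
        ← Ideal.comap_comap, show Q'.asIdeal.comap (algebraMap T₄ D₃) = Q from
          congrArg PrimeSpectrum.asIdeal hQ', hQP]⟩
    haveI : GeometricallyIntegral f'' := hGI
    refine DevissageOps.geometricallyIrreducible_of_open f₃ f'' j i ?_
    have hR''T : f'' = jL ≫ Spec.map (CommRingCat.ofHom (algebraMap R'' T)) := by
      show Spec.map _ = Spec.map _ ≫ Spec.map _
      rw [← Spec.map_comp, ← CommRingCat.ofHom_comp, L.toRingHom_eq_coe, L.comp_algebraMap]
    rw [hR''T, ← Category.assoc, hj]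
    show (Spec.map _ ≫ Spec.map _) ≫ Spec.map _ = Spec.map _ ≫ Spec.map _ ≫ Spec.map _
    simp only [← Spec.map_comp, ← CommRingCat.ofHom_comp, Category.assoc]
    congr 2
    rw [RingHom.comp_assoc, ← IsScalarTower.algebraMap_eq R'' T T₄, IsScalarTower.algebraMap_eq R'' R₄ T₄, ← RingHom.comp_assoc,
      ← IsScalarTower.algebraMap_eq R₄ T₄ D₃, IsScalarTower.algebraMap_eq R₄ R₃ D₃, RingHom.comp_assoc]
  -- the dévissage
  refine ⟨R₃, inferInstance, inferInstance, p₃, hp₃, D₃, inferInstance, inferInstance, inferInstance,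
    inferInstance, inferInstance, inferInstance, y₃, hy₃, inferInstance, hR₃, hD₃, hsm₃, hgi₃, ?_⟩
  intro M₃ _ _ _ _ f hf
  refine Or.inr ?_
  obtain ⟨M₄, _, _, _, _, f₄, hf₄, hTail₅⟩ : ∃ (M₄ : Type u) (_ : AddCommGroup M₄) (_ : Module T₄ M₄) (_ : Module T M₄)
      (_ : IsScalarTower T T₄ M₄) (f₄ : MT →ₗ[T] M₄), IsBaseChange T₄ f₄ ∧
      FlatCA.HasCompleteDevissageAt R₄ T₄ M₄ p₄ y₄ :=
    ⟨LocalizedModule (Submonoid.powers hX) MT, inferInstance, inferInstance, inferInstance, inferInstance,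
      LocalizedModule.mkLinearMap (Submonoid.powers hX) MT,
      IsLocalizedModule.isBaseChange (Submonoid.powers hX) T₄ (LocalizedModule.mkLinearMap (Submonoid.powers hX) MT), hTail₄⟩
  haveI : Module.Finite T₄ M₄ := Module.Finite.equiv hf₄.equiv
  obtain ⟨M₅, _, _, _, _, f₅, hf₅⟩ := exists_baseChange T₄ D₃ M₄
  haveI : Algebra.FiniteType R₄ T₄ := inferInstance
  have h5 : FlatCA.HasCompleteDevissageAt R₃ D₃ M₅ p₃ y₃ :=
    DevissageOps.baseChange (R := R₄) (S := T₄) hTail₅ R₃ p₃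
      (Flatmor4.bijective_residueField_of_away g₁ p₄ p₃) D₃ M₅ f₅ hf₅ y₃
  -- identify `M₅` with the base change of `M`
  letI : Module D₂ M₅ := Module.compHom M₅ ((algebraMap T₄ D₃).comp ((algebraMap T T₄).comp (algebraMap D₂ T)))
  letI : Module T M₅ := Module.compHom M₅ ((algebraMap T₄ D₃).comp (algebraMap T T₄))
  letI : Module D M₅ := Module.compHom M₅ (algebraMap D D₃)
  haveI : IsScalarTower D D₃ M₅ := .of_algebraMap_smul fun _ _ => rfl
  haveI : IsScalarTower T T₄ M₅ := .of_algebraMap_smul fun r x => by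
    rw [← algebraMap_smul D₃ (algebraMap T T₄ r) x]; rfl
  haveI : IsScalarTower D₂ T M₅ := .of_algebraMap_smul fun _ _ => rfl
  haveI : IsScalarTower D D₂ M₅ := .of_algebraMap_smul fun _ _ => rfl
  letI : Module D MT := Module.compHom MT (algebraMap D D₂)
  haveI : IsScalarTower D D₂ MT := .of_algebraMap_smul fun _ _ => rfl
  letI : Module D₂ M₄ := Module.compHom M₄ (algebraMap D₂ T)
  haveI : IsScalarTower D₂ T M₄ := .of_algebraMap_smul fun _ _ => rfl
  letI : Module D M₄ := Module.compHom M₄ (algebraMap D T)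
  haveI : IsScalarTower D T M₄ := .of_algebraMap_smul fun _ _ => rfl
  haveI : IsScalarTower D T MT := .of_algebraMap_smul fun r x => by
    rw [IsScalarTower.algebraMap_apply D D₂ T, algebraMap_smul, algebraMap_smul]
  haveI : IsScalarTower D T₄ M₄ := .of_algebraMap_smul fun r x => by
    rw [IsScalarTower.algebraMap_apply D T T₄, algebraMap_smul, algebraMap_smul]
  haveI : IsScalarTower D T₄ M₅ := .of_algebraMap_smul fun r x => by
    rw [← algebraMap_smul D₃ (algebraMap D T₄ r) x]; rfl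
  have hT : IsBaseChange T ((fT.restrictScalars D).comp f₂) := hf₂.comp hfT
  have h4 : IsBaseChange T₄ ((f₄.restrictScalars D).comp ((fT.restrictScalars D).comp f₂)) := hT.comp hf₄
  have h3 : IsBaseChange D₃ ((f₅.restrictScalars D).comp
      ((f₄.restrictScalars D).comp ((fT.restrictScalars D).comp f₂))) := h4.comp hf₅
  exact DevissageCons.transport (hf.equiv.symm ≪≫ₗ h3.equiv) h5

end Groth.RaynaudGruson.DevissageTail
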