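import Mathlib
import Groth.Prelude.Def_FlatCA
import Groth.Agent.RaynaudGruson.EtalePushout
import Groth.Agent.AlgStBasic.SmoothDescent

/-!
The pullback of a one-step dévissage at a point along given étale neighbourhoods of the base and of the
smooth algebra.
-/

set_option autoImplicit false
set_option linter.style.haveILetI false
universe u

open TensorProduct CategoryTheory AlgebraicGeometry
open Groth.RaynaudGruson.EtalePushout

namespace Groth.RaynaudGruson.StepPullback

theorem exists_pullback_step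
    {R S : Type u} [CommRing R] [CommRing S] [Algebra R S]
    [Algebra.FiniteType R S]
    {N : Type u} [AddCommGroup N] [Module S N] [Module R N] [IsScalarTower R S N] [Module.Finite S N]
    {p : Ideal R} [p.IsPrime] (q : Ideal S) [q.IsPrime] [q.LiesOver p]
    {C D G : Type u} [CommRing C] [CommRing D] [Algebra S C] [Algebra R C] [IsScalarTower R S C]
    [Algebra R D] [Algebra D C] [IsScalarTower R D C] [AddCommGroup G] [Module C G] [Module S G]
    [IsScalarTower S C G] [Module D G] [IsScalarTower D C G] {n : ℕ}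
    (h : FlatCA.IsOneStepDevissage R S N p C D G n)
    (z : Ideal C) [z.IsPrime] (y : Ideal D) [y.IsPrime] [z.LiesOver q] [z.LiesOver y] [y.LiesOver p]
    (h1 : ∃ (ξ : PrimeSpectrum (p.Fiber S)) (hξ : ξ ∈ Module.support (p.Fiber S) (FlatCA.fiberMod p S N)),
      ξ.asIdeal = FlatCA.fiberIdeal p q ∧
      FlatMor.localDim (Module.support (p.Fiber S) (FlatCA.fiberMod p S N)) ⟨ξ, hξ⟩ = n)
    (h3 : ∀ (z₁ : Ideal C) [z₁.IsPrime], z₁.LiesOver y → z₁ = z)
    (h4 : FlatCA.PurelyTranscendental p y)
    (R'' : Type u) [CommRing R''] [Algebra R R''] (p'' : Ideal R'') [p''.IsPrime]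
    (hR0 : FlatCA.IsEtaleNhd R R'' p p'')
    (D'' : Type u) [CommRing D''] [Algebra D D''] [Algebra R'' D''] [Algebra R D''] [IsScalarTower R R'' D'']
    [IsScalarTower R D D''] (y'' : Ideal D'') [y''.IsPrime] (hD0 : FlatCA.IsEtaleNhd D D'' y y'')
    [y''.LiesOver p''] (hsm'' : FlatCA.SmoothRelDim n R'' D'') (hgi'' : FlatCA.GeomIrredFibres R'' D'') :
    ∃ (S'' C'' G'' : Type u) (_ : CommRing S'') (_ : CommRing C'') (_ : Algebra S S'') (_ : Algebra R'' S'')
      (_ : Algebra R S'') (_ : IsScalarTower R S S'') (_ : IsScalarTower R R'' S'') (_ : Algebra S'' C'')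
      (_ : Algebra R'' C'') (_ : IsScalarTower R'' S'' C'') (_ : Algebra D'' C'') (_ : IsScalarTower R'' D'' C'')
      (_ : AddCommGroup G'') (_ : Module C'' G'') (_ : Module S'' G'') (_ : IsScalarTower S'' C'' G'')
      (_ : Module R'' G'') (_ : IsScalarTower R'' S'' G'') (_ : Module S G'') (_ : IsScalarTower S S'' G'')
      (_ : Module D'' G'') (_ : IsScalarTower D'' C'' G'') (_ : IsScalarTower R'' D'' G'')
      (_ : Module D G'') (_ : IsScalarTower D D'' G'')
      (gN : N →ₗ[S] G'') (gD : G →ₗ[D] G'')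
      (q'' : Ideal S'') (_ : q''.IsPrime) (z'' : Ideal C'') (_ : z''.IsPrime)
      (_ : q''.LiesOver p'') (_ : z''.LiesOver q'') (_ : z''.LiesOver y''),
      IsBaseChange S'' gN ∧ IsBaseChange D'' gD ∧ FlatCA.IsEtaleNhd S S'' q q'' ∧
      FlatCA.IsOneStepDevissage R'' S'' G'' p'' C'' D'' G'' n ∧
      (∃ (ξ : PrimeSpectrum (p''.Fiber S'')) (hξ : ξ ∈ Module.support (p''.Fiber S'') (FlatCA.fiberMod p'' S'' G'')),
        ξ.asIdeal = FlatCA.fiberIdeal p'' q'' ∧
        FlatMor.localDim (Module.support (p''.Fiber S'') (FlatCA.fiberMod p'' S'' G'')) ⟨ξ, hξ⟩ = n) ∧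
      (∀ (z₂ : Ideal C'') [z₂.IsPrime], z₂.LiesOver y'' → z₂ = z'') ∧
      FlatCA.PurelyTranscendental p'' y'' := by
  classical
  obtain ⟨⟨e⟩, hsurjC, hfp, hDC, hCG, hsm, hgi, hdim⟩ := h
  haveI := hfp
  haveI := hDC
  haveI := hCG
  obtain ⟨hR0et, hp''o, hκ⟩ := hR0
  obtain ⟨hD0et, hy''o, hb⟩ := hD0
  haveI := hR0et
  haveI := hp''o
  haveI := hD0et
  haveI := hy''o
  have hPT : FlatCA.PurelyTranscendental p'' y'' :=
    Groth.Flatmor4.purelyTranscendental_of_bijective (R := R) (R' := R'') (S := D) (S' := D'') p p'' y y'' hκ hb h4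
  obtain ⟨C'', _, _, _, _, _, _, hPC⟩ := exists_pushout D C D''
  haveI := hPC
  haveI : Algebra.Etale C C'' := etale_of_isPushout' (A := D) (A' := D'') (B := C) (B' := C'')
  obtain ⟨z'', _, _, _⟩ := Groth.Flatmor4.exists_liesOver_of_bijective (R := D) (R' := D'') (S := C) (S' := C'')
    y y'' hb z
  have huniq : ∀ (z₂ : Ideal C'') [z₂.IsPrime], z₂.LiesOver y'' → z₂ = z'' := by
    intro z₂ _ hz₂
    have hy₂ : (z₂.comap (algebraMap C C'')).LiesOver y := ⟨by
      show y = (z₂.comap _).comap _
      rw [Ideal.comap_comap, ← IsScalarTower.algebraMap_eq, IsScalarTower.algebraMap_eq D D'' C'',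
        ← Ideal.comap_comap]
      exact hy''o.over.trans (congrArg (Ideal.comap _) hz₂.over)⟩
    haveI : z₂.LiesOver z := ⟨(h3 _ hy₂).symm⟩
    exact Groth.Flatmor4.eq_of_liesOver_of_bijective (R := D) (R' := D'') (S := C) (S' := C'') y y'' hb z z₂ z''
  letI : Algebra R'' C'' := ((algebraMap D'' C'').comp (algebraMap R'' D'')).toAlgebra
  haveI : IsScalarTower R'' D'' C'' := .of_algebraMap_eq' rfl
  letI : Algebra R C'' := ((algebraMap C C'').comp (algebraMap R C)).toAlgebra
  haveI : IsScalarTower R C C'' := .of_algebraMap_eq' rfl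
  haveI : IsScalarTower R R'' C'' := .of_algebraMap_eq fun x => by
    rw [IsScalarTower.algebraMap_apply R C C'', IsScalarTower.algebraMap_apply R D C,
      ← IsScalarTower.algebraMap_apply D C C'', IsScalarTower.algebraMap_apply D D'' C'',
      ← IsScalarTower.algebraMap_apply R D D'', IsScalarTower.algebraMap_apply R R'' D'',
      ← IsScalarTower.algebraMap_apply R'' D'' C'']
  letI : Algebra S C'' := ((algebraMap C C'').comp (algebraMap S C)).toAlgebra
  haveI : IsScalarTower S C C'' := .of_algebraMap_eq' rfl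
  haveI : IsScalarTower R S C'' := .of_algebraMap_eq fun x => by
    rw [IsScalarTower.algebraMap_apply S C C'', ← IsScalarTower.algebraMap_apply R S C,
      ← IsScalarTower.algebraMap_apply R C C'']
  obtain ⟨S₀, _, _, _, _, _, _, hPS⟩ := exists_pushout R S R''
  haveI := hPS
  haveI : Algebra.Etale S S₀ := etale_of_isPushout' (A := R) (A' := R'') (B := S) (B' := S₀)
  let e₀ : R'' ⊗[R] S ≃ₐ[R''] S₀ := Algebra.IsPushout.equiv R R'' S S₀
  let φ : S₀ →ₐ[R''] C'' := (Algebra.TensorProduct.lift (Algebra.ofId R'' C'') (IsScalarTower.toAlgHom R S C'')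
    fun _ _ => .all _ _).comp e₀.symm.toAlgHom
  letI : Algebra S₀ C'' := φ.toRingHom.toAlgebra
  haveI : IsScalarTower R'' S₀ C'' := .of_algebraMap_eq fun r => (φ.commutes r).symm
  haveI : IsScalarTower S S₀ C'' := .of_algebraMap_eq fun s => by
    have h1 : e₀ (1 ⊗ₜ[R] s) = algebraMap S S₀ s := by simp [e₀, Algebra.IsPushout.equiv_tmul]
    show _ = φ (algebraMap S S₀ s)
    rw [← h1]
    simp [φ]
  obtain ⟨C₀, _, _, _, _, _, _, hPC₀⟩ := exists_pushout S C S₀
  haveI := hPC₀
  haveI : Algebra.Etale C C₀ := etale_of_isPushout' (A := S) (A' := S₀) (B := C) (B' := C₀)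
  let e₁ : S₀ ⊗[S] C ≃ₐ[S₀] C₀ := Algebra.IsPushout.equiv S S₀ C C₀
  let ψ : C₀ →ₐ[S₀] C'' := (Algebra.TensorProduct.lift (Algebra.ofId S₀ C'') (IsScalarTower.toAlgHom S C C'')
    fun _ _ => .all _ _).comp e₁.symm.toAlgHom
  letI : Algebra C₀ C'' := ψ.toRingHom.toAlgebra
  haveI : IsScalarTower S₀ C₀ C'' := .of_algebraMap_eq fun r => (ψ.commutes r).symm
  haveI : IsScalarTower C C₀ C'' := .of_algebraMap_eq fun c => by
    have h1 : e₁ (1 ⊗ₜ[S] c) = algebraMap C C₀ c := by simp [e₁, Algebra.IsPushout.equiv_tmul]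
    show _ = ψ (algebraMap C C₀ c)
    rw [← h1]
    simp [ψ]
  haveI : IsScalarTower S C₀ C'' := .of_algebraMap_eq fun x => by
    rw [IsScalarTower.algebraMap_apply S C C₀, ← IsScalarTower.algebraMap_apply C C₀ C'', ← IsScalarTower.algebraMap_apply S C C'']
  haveI : Algebra.Etale C₀ C'' := Algebra.Etale.of_restrictScalars C C₀ C''
  have hC₀ : Function.Surjective (algebraMap S₀ C₀) :=
    Groth.Flatmor4.surjective_of_isPushout (A := S) (A' := S₀) (B := C) (B' := C₀) hsurjC
  obtain ⟨S'', _, _, π, hS''et, hπ, hker⟩ :=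
    Groth.AlgStBasic.SmoothDescent.exists_etale_lift (P := S₀) (B := C₀) (C := C'') hC₀
  haveI := hS''et
  letI : Algebra S'' C'' := π.toRingHom.toAlgebra
  haveI : IsScalarTower S₀ S'' C'' := .of_algebraMap_eq fun r => (π.commutes r).symm
  letI : Algebra R'' S'' := ((algebraMap S₀ S'').comp (algebraMap R'' S₀)).toAlgebra
  haveI : IsScalarTower R'' S₀ S'' := .of_algebraMap_eq' rfl
  letI : Algebra S S'' := ((algebraMap S₀ S'').comp (algebraMap S S₀)).toAlgebra
  haveI : IsScalarTower S S₀ S'' := .of_algebraMap_eq' rfl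
  letI : Algebra R S'' := ((algebraMap S₀ S'').comp (algebraMap R S₀)).toAlgebra
  haveI : IsScalarTower R S₀ S'' := .of_algebraMap_eq' rfl
  haveI : IsScalarTower R S S'' := .of_algebraMap_eq fun x => by
    rw [IsScalarTower.algebraMap_apply S S₀ S'', ← IsScalarTower.algebraMap_apply R S S₀,
      ← IsScalarTower.algebraMap_apply R S₀ S'']
  haveI : IsScalarTower R R'' S'' := .of_algebraMap_eq fun x => by
    rw [IsScalarTower.algebraMap_apply R'' S₀ S'', ← IsScalarTower.algebraMap_apply R R'' S₀,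
      ← IsScalarTower.algebraMap_apply R S₀ S'']
  haveI : IsScalarTower R'' S'' C'' := .of_algebraMap_eq fun x => by
    rw [IsScalarTower.algebraMap_apply R'' S₀ S'', ← IsScalarTower.algebraMap_apply S₀ S'' C'',
      ← IsScalarTower.algebraMap_apply R'' S₀ C'']
  haveI : IsScalarTower S S'' C'' := .of_algebraMap_eq fun x => by
    rw [IsScalarTower.algebraMap_apply S S₀ S'', ← IsScalarTower.algebraMap_apply S₀ S'' C'',
      ← IsScalarTower.algebraMap_apply S S₀ C'']
  haveI : Algebra.IsPushout S₀ S'' C₀ C'' :=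
    isPushout_of_surjective_ker (A := S₀) (A' := S'') (B := C₀) (B' := C'') hC₀ hπ hker.le
  haveI hPSC : Algebra.IsPushout S S'' C C'' :=
    (Algebra.IsPushout.comp_iff S S₀ C (T' := C'') (S' := C₀)).2 inferInstance
  haveI : Algebra.Etale S S'' := Algebra.Etale.comp S S₀ S''
  let q'' : Ideal S'' := z''.comap (algebraMap S'' C'')
  haveI hzq'' : z''.LiesOver q'' := ⟨rfl⟩
  haveI hq''q : q''.LiesOver q := ⟨by
    show q = (z''.comap _).comap _
    rw [Ideal.comap_comap, ← IsScalarTower.algebraMap_eq, IsScalarTower.algebraMap_eq S C C'', ← Ideal.comap_comap]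
    exact (Ideal.LiesOver.over (P := z) (p := q)).trans
      (congrArg (Ideal.comap _) (Ideal.LiesOver.over (P := z'') (p := z)))⟩
  haveI hq''p : q''.LiesOver p'' := ⟨by
    show p'' = (z''.comap _).comap _
    rw [Ideal.comap_comap, ← IsScalarTower.algebraMap_eq, IsScalarTower.algebraMap_eq R'' D'' C'', ← Ideal.comap_comap]
    exact (Ideal.LiesOver.over (P := y'') (p := p'')).trans
      (congrArg (Ideal.comap _) (Ideal.LiesOver.over (P := z'') (p := y'')))⟩
  haveI : z''.LiesOver q := Ideal.LiesOver.trans z'' z q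
  have hqq : Function.Bijective (Ideal.ResidueField.mapₐ q q'' (Algebra.ofId S S'') hq''q.over) :=
    bijective_mapₐ_left q q'' z'' (bijective_mapₐ_of_surjective q'' z'' hπ)
      (bijective_mapₐ_trans q z z'' (bijective_mapₐ_of_surjective q z hsurjC)
        (bijective_residue_of_isPushout (R := D) (R' := D'') (S := C) (S' := C'') y y'' hb z z''))
  obtain ⟨G'', _, _, _, _, g, hg⟩ := exists_baseChange C C'' G
  letI : Module S'' G'' := Module.compHom G'' (algebraMap S'' C'')
  haveI : IsScalarTower S'' C'' G'' := .of_algebraMap_smul fun _ _ => rfl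
  letI : Module S G'' := Module.compHom G'' (algebraMap S C'')
  haveI : IsScalarTower S C'' G'' := .of_algebraMap_smul fun _ _ => rfl
  haveI : IsScalarTower S C G'' := .of_algebraMap_smul fun r x => by
    rw [← algebraMap_smul C'' (algebraMap S C r) x, ← IsScalarTower.algebraMap_apply S C C'', algebraMap_smul]
  haveI : IsScalarTower S S'' G'' := .of_algebraMap_smul fun r x => by
    rw [← algebraMap_smul C'' (algebraMap S S'' r) x, ← IsScalarTower.algebraMap_apply S S'' C'', algebraMap_smul]
  letI : Module R'' G'' := Module.compHom G'' (algebraMap R'' S'')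
  haveI : IsScalarTower R'' S'' G'' := .of_algebraMap_smul fun _ _ => rfl
  haveI : Module.Finite C'' G'' := Module.Finite.equiv hg.equiv
  have hgS : IsBaseChange S'' (g.restrictScalars S) :=
    Groth.Flatmor4.isBaseChange_restrict_of_isPushout (A := S) (A' := S'') (B := C) (B' := C'') hg
  let gN : N →ₗ[S] G'' := g.restrictScalars S ∘ₗ e.toLinearMap
  have hgN : IsBaseChange S'' gN := by
    refine IsBaseChange.of_equiv (LinearEquiv.baseChange S S'' N G e ≪≫ₗ hgS.equiv) fun x => ?_
    simp [gN, IsBaseChange.equiv_tmul]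
  -- the dimension of the fibre support
  obtain ⟨N₀, _, _, _, _, f₀, hf₀⟩ := exists_baseChange S S₀ N
  letI : Module R'' N₀ := Module.compHom N₀ (algebraMap R'' S₀)
  haveI : IsScalarTower R'' S₀ N₀ := .of_algebraMap_smul fun _ _ => rfl
  haveI : Module.Finite S₀ N₀ := Module.Finite.equiv hf₀.equiv
  let q₀ : Ideal S₀ := q''.comap (algebraMap S₀ S'')
  haveI : q''.LiesOver q₀ := ⟨rfl⟩
  haveI : q₀.LiesOver q := ⟨by
    show q = (q''.comap _).comap _
    rw [Ideal.comap_comap, ← IsScalarTower.algebraMap_eq]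
    exact hq''q.over⟩
  haveI : q₀.LiesOver p'' := ⟨by
    show p'' = (q''.comap _).comap _
    rw [Ideal.comap_comap, ← IsScalarTower.algebraMap_eq]
    exact hq''p.over⟩
  have hpt₀ := Groth.Flatmor4.exists_point_localDim_baseChange (R := R) (R' := R'') (S := S) (S' := S₀)
    p p'' hκ hf₀ q q₀ h1
  have hdim₀ := Groth.Flatmor4.supportDim_fiberMod_baseChange (R := R) (R' := R'') (S := S) (S' := S₀) p p'' hf₀
  letI : Module S₀ G'' := Module.compHom G'' (algebraMap S₀ S'')
  haveI : IsScalarTower S₀ S'' G'' := .of_algebraMap_smul fun _ _ => rfl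
  haveI : IsScalarTower S S₀ G'' := .of_algebraMap_smul fun r x => by
    rw [← algebraMap_smul S'' (algebraMap S S₀ r) x, ← IsScalarTower.algebraMap_apply S S₀ S'', algebraMap_smul]
  have hf₁ : IsBaseChange S'' (hf₀.lift gN) := by
    refine IsBaseChange.of_comp hf₀ ?_
    rw [IsBaseChange.lift_comp]
    exact hgN
  obtain ⟨hd, hpt⟩ := fibreSupport_etale (R := R'') (A := S₀) (B := S'') p'' hf₁ q₀ q'' hpt₀
    (le_of_eq (hdim₀.trans hdim))
  letI : Module D'' G'' := Module.compHom G'' (algebraMap D'' C'')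
  haveI : IsScalarTower D'' C'' G'' := .of_algebraMap_smul fun _ _ => rfl
  letI : Module D G'' := Module.compHom G'' (algebraMap D C'')
  haveI : IsScalarTower D C'' G'' := .of_algebraMap_smul fun _ _ => rfl
  haveI : IsScalarTower D C G'' := .of_algebraMap_smul fun r x => by
    rw [← algebraMap_smul C'' (algebraMap D C r) x, ← IsScalarTower.algebraMap_apply D C C'', algebraMap_smul]
  haveI : IsScalarTower D D'' G'' := .of_algebraMap_smul fun r x => by
    rw [← algebraMap_smul C'' (algebraMap D D'' r) x, ← IsScalarTower.algebraMap_apply D D'' C'', algebraMap_smul]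
  haveI : IsScalarTower R'' C'' G'' := .of_algebraMap_smul fun r x => by
    rw [IsScalarTower.algebraMap_apply R'' S'' C'', algebraMap_smul, algebraMap_smul]
  haveI : IsScalarTower R'' D'' G'' := .of_algebraMap_smul fun r x => by
    rw [← algebraMap_smul C'' (algebraMap R'' D'' r) x, ← IsScalarTower.algebraMap_apply R'' D'' C'', algebraMap_smul]
  have hgD : IsBaseChange D'' (g.restrictScalars D) :=
    Groth.Flatmor4.isBaseChange_restrict_of_isPushout (A := D) (A' := D'') (B := C) (B' := C'') hg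
  refine ⟨S'', C'', G'', inferInstance, inferInstance, inferInstance, inferInstance, inferInstance, inferInstance,
    inferInstance, inferInstance, inferInstance, inferInstance, inferInstance, inferInstance, inferInstance,
    inferInstance, inferInstance, inferInstance, inferInstance, inferInstance, inferInstance, inferInstance,
    inferInstance, inferInstance, inferInstance, inferInstance, inferInstance,
    gN, g.restrictScalars D, q'', inferInstance, z'', inferInstance, hq''p, hzq'', inferInstance,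
    hgN, hgD, ⟨inferInstance, hq''q, hqq⟩,
    ⟨⟨LinearEquiv.refl S'' G''⟩, hπ,
      Groth.Flatmor4.finitePresentation_of_isPushout (A := S) (A' := S'') (B := C) (B' := C''),
      Groth.Flatmor4.finite_of_isPushout (A := D) (A' := D'') (B := C) (B' := C''), inferInstance, hsm'', hgi'', hd⟩,
    hpt, fun z₂ _ => huniq z₂, hPT⟩

end Groth.RaynaudGruson.StepPullback
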