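import Mathlib
import Groth.Prelude.Def_FlatCA
import Groth.Agent.RaynaudGruson.DevissageTail
import Groth.Agent.RaynaudGruson.DevissageCons
import Groth.Agent.RaynaudGruson.StepPullback
import Groth.Agent.S1285

/-!
Existence of complete dévissages after étale localisation.
-/

set_option autoImplicit false
set_option linter.style.haveILetI false
universe u

open TensorProduct
open Groth.RaynaudGruson.EtalePushout

namespace Groth.RaynaudGruson.DevissageExists

attribute [local instance] Algebra.TensorProduct.rightAlgebra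

/-- Over compatible étale neighbourhoods the extended primes correspond. -/
theorem map_eq_under_of_etaleNhd {R R₃ D D₃ : Type u} [CommRing R] [CommRing R₃] [CommRing D] [CommRing D₃]
    [Algebra R R₃] [Algebra R D] [Algebra R₃ D₃] [Algebra D D₃] [Algebra R D₃] [IsScalarTower R R₃ D₃]
    [IsScalarTower R D D₃] [Algebra.Etale R R₃] [Module.Flat D D₃] (p : Ideal R) (p₃ : Ideal R₃) [p.IsPrime]
    [p₃.IsPrime] [p₃.LiesOver p] (y : Ideal D) (y₃ : Ideal D₃) [y.IsPrime] [y₃.IsPrime] [y.LiesOver p]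
    [y₃.LiesOver y] [y₃.LiesOver p₃] [(p.map (algebraMap R D)).IsPrime] :
    p.map (algebraMap R D) = (p₃.map (algebraMap R₃ D₃)).under D := by
  let P := p.map (algebraMap R D)
  have hPy : P ≤ y := Ideal.map_le_iff_le_comap.2 (Ideal.LiesOver.over (P := y) (p := p)).le
  refine le_antisymm ?_ ?_
  · refine Ideal.map_le_iff_le_comap.2 ?_
    rw [Ideal.under, Ideal.comap_comap, ← IsScalarTower.algebraMap_eq, IsScalarTower.algebraMap_eq R R₃ D₃,
      ← Ideal.comap_comap]
    exact (Ideal.LiesOver.over (P := p₃) (p := p)).le.trans (Ideal.comap_mono Ideal.le_comap_map)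
  · haveI : P.IsPrime := ‹_›
    obtain ⟨Q, hQle, hQ, hQP⟩ := Ideal.exists_ideal_le_liesOver_of_le y₃ (p := P) (q := y) hPy
    haveI := hQ
    have hsub : Q.under R₃ ≤ p₃ := (Ideal.comap_mono hQle).trans (Ideal.LiesOver.over (P := y₃) (p := p₃)).ge
    have hover : (Q.under R₃).under R = p := by
      refine le_antisymm ((Ideal.comap_mono hsub).trans (Ideal.LiesOver.over (P := p₃) (p := p)).ge) ?_
      show p ≤ (Q.comap (algebraMap R₃ D₃)).comap (algebraMap R R₃)
      rw [Ideal.comap_comap, ← IsScalarTower.algebraMap_eq, IsScalarTower.algebraMap_eq R D D₃,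
        ← Ideal.comap_comap]
      show p ≤ (Q.under D).under R
      rw [← hQP.over]
      exact Ideal.le_comap_map
    have heq : Q.under R₃ = p₃ := Algebra.QuasiFinite.eq_of_le_of_under_eq _ _ hsub
      (hover.trans (Ideal.LiesOver.over (P := p₃) (p := p)))
    show (p₃.map (algebraMap R₃ D₃)).under D ≤ P
    rw [hQP.over]
    exact Ideal.comap_mono (Ideal.map_le_iff_le_comap.2 heq.ge)

/-- Existence of complete dévissages after étale localisation. -/
theorem exists_devissage : ∀ (n : ℕ) (R S : Type u) [CommRing R] [CommRing S] [Algebra R S]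
    [Algebra.FiniteType R S] (N : Type u) [AddCommGroup N] [Module S N] [Module R N] [IsScalarTower R S N]
    [Module.Finite S N] (p : Ideal R) [p.IsPrime] (q : Ideal S) [q.IsPrime] [q.LiesOver p],
    (∃ (ξ : PrimeSpectrum (p.Fiber S)) (hξ : ξ ∈ Module.support (p.Fiber S) (FlatCA.fiberMod p S N)),
      ξ.asIdeal = FlatCA.fiberIdeal p q ∧
      FlatMor.localDim (Module.support (p.Fiber S) (FlatCA.fiberMod p S N)) ⟨ξ, hξ⟩ = n) →
    ∃ (R' S' : Type u) (_ : CommRing R') (_ : CommRing S') (_ : Algebra R R') (_ : Algebra S S') (_ : Algebra R' S')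
      (_ : Algebra R S') (_ : IsScalarTower R R' S') (_ : IsScalarTower R S S')
      (p' : Ideal R') (q' : Ideal S') (_ : p'.IsPrime) (_ : q'.IsPrime),
      FlatCA.IsEtaleNhd R R' p p' ∧ FlatCA.IsEtaleNhd S S' q q' ∧ q'.LiesOver p' ∧
      ∀ (N' : Type u) [AddCommGroup N'] [Module S' N'] [Module S N'] [IsScalarTower S S' N']
        (f : N →ₗ[S] N'), IsBaseChange S' f → FlatCA.HasCompleteDevissageAt R' S' N' p' q' := by
  intro n
  induction n using Nat.strong_induction_on with
  | _ n ih =>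
  intro R S _ _ _ _ N _ _ _ _ _ p _ q _ _ hn
  classical
  obtain ⟨ξ₀, hξ₀, hξ₀q, hξ₀d⟩ := id hn
  obtain ⟨E⟩ := ElemDev.nonempty_elemDevissage N p q n ξ₀ hξ₀q hξ₀ hξ₀d
  letI : Module E.R' E.N' := Module.compHom E.N' (algebraMap E.R' E.S')
  haveI : IsScalarTower E.R' E.S' E.N' := .of_algebraMap_smul fun _ _ => rfl
  obtain ⟨hstep, hpt⟩ := StepSupport.isOneStepDevissage_of_elem E hn
  obtain ⟨hRet, hp'o, -⟩ := id E.etaleR
  obtain ⟨hSet, hq'o, -⟩ := id E.etaleS
  haveI := hRet; haveI := hp'o; haveI := hSet; haveI := hq'o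
  haveI : Algebra.FiniteType R E.S' :=
    Algebra.FiniteType.trans (R := R) (S := S) (A := E.S') inferInstance inferInstance
  haveI : Algebra.FiniteType E.R' E.S' := Algebra.FiniteType.of_restrictScalars_finiteType R E.R' E.S'
  haveI : Module.Finite E.S' E.N' := Module.Finite.equiv E.isBaseChange.equiv
  haveI := E.finiteDC
  haveI := E.finiteG
  haveI : Module.Finite E.D E.G := Module.Finite.trans E.C E.G
  have hsm := E.smooth
  have hgi : FlatCA.GeomIrredFibres E.R' E.D := by
    haveI := E.geomInt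
    show AlgebraicGeometry.GeometricallyIrreducible _
    infer_instance
  haveI hPprime : (E.p'.map (algebraMap E.R' E.D)).IsPrime := StepSupport.isPrime_map_of_smooth hsm hgi E.p'
  obtain ⟨⟨r, α, -, hα⟩, hdrop⟩ := Groth.Agent.S1285.result E.N' E.p' E.C E.D E.G n hstep
  let M := E.G ⧸ LinearMap.range α
  have hgood : DevissageTail.GoodNbhd n E.R' E.D M E.p' E.y := by
    by_cases hy : (⟨E.y, E.hy⟩ : PrimeSpectrum E.D) ∈ Module.support E.D M
    swap
    · exact DevissageTail.goodNbhd_of_notMem hsm hgi E.p' E.y M hy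
    obtain ⟨η, hη⟩ := Flatmor4.exists_fiber_prime E.p' E.y
    have hηs : η ∈ Module.support (E.p'.Fiber E.D) (FlatCA.fiberMod E.p' E.D M) :=
      (FibreGenericPoint.mem_support_fiberMod E.p' M η).2 ((show PrimeSpectrum.comap (algebraMap E.D _) η =
        ⟨E.y, E.hy⟩ from PrimeSpectrum.ext hη).symm ▸ hy)
    have hlt : FlatMor.localDim (Module.support (E.p'.Fiber E.D) (FlatCA.fiberMod E.p' E.D M)) ⟨η, hηs⟩ <
        (n : WithBot ℕ∞) := by
      refine lt_of_le_of_lt ((SpectralTopology.localDim_le_dim _).trans (le_of_eq ?_)) (hdrop r α hα)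
      haveI : Module.Finite (E.p'.Fiber E.D) (FlatCA.fiberMod E.p' E.D M) :=
        inferInstanceAs (Module.Finite (E.p'.Fiber E.D) ((E.p'.Fiber E.D) ⊗[E.D] M))
      exact Flatmor4.topologicalKrullDim_support (FlatCA.fiberMod E.p' E.D M)
    obtain ⟨m, hm, hmn⟩ : ∃ m : ℕ, FlatMor.localDim (Module.support (E.p'.Fiber E.D)
        (FlatCA.fiberMod E.p' E.D M)) ⟨η, hηs⟩ = m ∧ m < n := by
      have h0 := SpectralTopology.localDim_nonneg (⟨η, hηs⟩ : Module.support (E.p'.Fiber E.D)
        (FlatCA.fiberMod E.p' E.D M))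
      revert hlt h0
      generalize FlatMor.localDim (Module.support (E.p'.Fiber E.D) (FlatCA.fiberMod E.p' E.D M)) ⟨η, hηs⟩ = d
      intro hlt h0
      induction d using WithBot.recBotCoe with
      | bot => simp at h0
      | coe d =>
        induction d using ENat.recTopCoe with
        | top =>
          have h' : (⊤ : ℕ∞) < (n : ℕ∞) := WithBot.coe_lt_coe.1 hlt
          exact absurd h' not_top_lt
        | coe d => exact ⟨d, rfl, by exact_mod_cast hlt⟩
    haveI : Algebra.FiniteType E.R' E.D := by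
      haveI := Flatmor4.smooth_of_smoothRelDim hsm
      infer_instance
    obtain ⟨R₂, D₂, _, _, _, _, _, _, _, _, p₂, y₂, _, _, hR₂, hD₂, hy₂, htail⟩ :=
      ih m hmn E.R' E.D M E.p' E.y ⟨η, hηs, Flatmor4.fiberIdeal_comap E.p' η E.y hη, hm⟩
    haveI := hy₂
    obtain ⟨M₂, _, _, _, _, f₂, hf₂⟩ := exists_baseChange E.D D₂ M
    exact DevissageTail.goodNbhd_of_devissage hsm E.p' E.y E.pureTrans M R₂ p₂ hR₂ D₂ y₂ hD₂ M₂ f₂ hf₂
      (htail M₂ f₂ hf₂)
  obtain ⟨R₃, _, _, p₃, _, D₃, _, _, _, _, _, _, y₃, _, hy₃p₃, hR₃, hD₃, hsm₃, hgi₃, htail⟩ := hgood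
  obtain ⟨S₃, C₃, G₃, _, _, _, _, _, _, _, _, _, _, _, _, _, _, _, _, _, _, _, _, _, _, _, _, _, gN, gD,
    q₃, _, z₃, _, _, _, _, hgN, hgD, hS₃, hstep₃, -, huniq₃, hPT₃⟩ :=
    StepPullback.exists_pullback_step E.q' hstep E.z E.y hpt E.uniq E.pureTrans R₃ p₃ hR₃ D₃ y₃ hD₃ hsm₃ hgi₃
  haveI := hy₃p₃
  haveI := hR₃.1; haveI := hR₃.2.1; haveI := hD₃.1; haveI := hD₃.2.1
  haveI : Module.Finite S₃ G₃ := Module.Finite.equiv hgN.equiv
  haveI hP₃ : (p₃.map (algebraMap R₃ D₃)).IsPrime := StepSupport.isPrime_map_of_smooth hsm₃ hgi₃ p₃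
  let P := E.p'.map (algebraMap E.R' E.D)
  let P₃ := p₃.map (algebraMap R₃ D₃)
  have hover : P = P₃.under E.D := map_eq_under_of_etaleNhd E.p' p₃ E.y y₃
  letI : Algebra P.ResidueField P₃.ResidueField :=
    (Ideal.ResidueField.mapₐ P P₃ (Algebra.ofId E.D D₃) hover).toRingHom.toAlgebra
  haveI : IsScalarTower E.D P.ResidueField P₃.ResidueField := .of_algebraMap_eq fun x =>
    ((Ideal.ResidueField.mapₐ P P₃ (Algebra.ofId E.D D₃) hover).commutes x).symm
  let α₃ : (Fin r → D₃) →ₗ[D₃] G₃ := Fintype.linearCombination D₃ fun j => gD (α (Pi.single j 1))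
  have hα₃ : Function.Bijective (α₃.baseChange P₃.ResidueField) := by
    refine Flatmor4.bijective_baseChange_of_bijective (K := P.ResidueField) (L := P₃.ResidueField)
      (Flatmor4.isBaseChange_pi E.D D₃ r) hgD α α₃ (fun x => ?_) hα
    rw [pi_eq_sum_univ' x, map_sum, map_sum, map_sum, map_sum]
    refine Finset.sum_congr rfl fun k _ => ?_
    rw [map_smul, LinearMap.map_smul_of_tower, map_smul, map_smul]
    congr 1
    rw [show ((Algebra.linearMap E.D D₃).compLeft (Fin r)) (Pi.single k 1) =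
      Pi.single k 1 from funext fun l => by
        rcases eq_or_ne l k with h | h <;> simp [h]]
    simp [α₃, Fintype.linearCombination_apply_single]
  obtain ⟨M₃, _, _, _, _, fM, hfM⟩ := exists_baseChange E.D D₃ M
  let eM : (G₃ ⧸ LinearMap.range α₃) ≃ₗ[D₃] M₃ :=
    Flatmor4.cokerEquiv hgD hfM (LinearMap.range α) (LinearEquiv.refl E.D M) (LinearMap.range α₃)
      (Flatmor4.range_linearCombination_eq_span gD α)
  have hmain : FlatCA.HasCompleteDevissageAt R₃ S₃ G₃ p₃ q₃ := by
    rcases htail M₃ fM hfM with hz | hdev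
    · refine DevissageCons.single hstep₃ z₃ y₃ huniq₃ hPT₃ α₃ hα₃ fun g => ?_
      haveI : Subsingleton (G₃ ⧸ LinearMap.range α₃) := eM.toEquiv.subsingleton
      exact (Submodule.Quotient.mk_eq_zero (LinearMap.range α₃) (x := g)).1 (Subsingleton.elim _ _)
    · exact DevissageCons.cons hstep₃ z₃ y₃ huniq₃ hPT₃ α₃ hα₃ (DevissageCons.transport eM hdev)
  -- composite neighbourhoods
  letI : Algebra R R₃ := ((algebraMap E.R' R₃).comp (algebraMap R E.R')).toAlgebra
  haveI : IsScalarTower R E.R' R₃ := .of_algebraMap_eq' rfl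
  letI : Algebra S S₃ := ((algebraMap E.S' S₃).comp (algebraMap S E.S')).toAlgebra
  haveI : IsScalarTower S E.S' S₃ := .of_algebraMap_eq' rfl
  letI : Algebra R S₃ := ((algebraMap S S₃).comp (algebraMap R S)).toAlgebra
  haveI : IsScalarTower R S S₃ := .of_algebraMap_eq' rfl
  haveI : IsScalarTower R R₃ S₃ := .of_algebraMap_eq fun x => by
    rw [IsScalarTower.algebraMap_apply R E.R' R₃, ← IsScalarTower.algebraMap_apply E.R' R₃ S₃,
      IsScalarTower.algebraMap_apply E.R' E.S' S₃, ← IsScalarTower.algebraMap_apply R E.R' E.S',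
      IsScalarTower.algebraMap_apply R S E.S', ← IsScalarTower.algebraMap_apply S E.S' S₃,
      ← IsScalarTower.algebraMap_apply R S S₃]
  letI : Module S G₃ := Module.compHom G₃ (algebraMap S E.S')
  haveI : IsScalarTower S E.S' G₃ := .of_algebraMap_smul fun _ _ => rfl
  haveI : IsScalarTower S S₃ G₃ := .of_algebraMap_smul fun a x => by
    rw [IsScalarTower.algebraMap_apply S E.S' S₃, algebraMap_smul, algebraMap_smul]
  refine ⟨R₃, S₃, inferInstance, inferInstance, inferInstance, inferInstance, inferInstance, inferInstance,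
    inferInstance, inferInstance, p₃, q₃, inferInstance, inferInstance, isEtaleNhd_trans E.etaleR hR₃,
    isEtaleNhd_trans E.etaleS hS₃, inferInstance, ?_⟩
  intro N' _ _ _ _ f hf
  exact DevissageCons.transport (hf.equiv.symm ≪≫ₗ (E.isBaseChange.comp hgN).equiv) hmain

end Groth.RaynaudGruson.DevissageExists
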