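import Groth.Agent.RaynaudGruson.DevissageExists
import Groth.Agent.RaynaudGruson.DevissageOps
import Groth.Agent.RaynaudGruson.DevissageFree
import Groth.Agent.RaynaudGruson.DevissageRegular
import Groth.Agent.RaynaudGruson.FibreGenericPoint
import Groth.Agent.FlatmorThree.FlatAtBaseChange
import Groth.Agent.S1277
import Groth.Agent.S1252
import Mathlib

/-!
The local structure of a module which is flat at a point: étale locally free over the base.
-/

set_option autoImplicit false
universe u

open TensorProduct
open scoped Pointwise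

namespace Groth.RaynaudGruson.LocalStructure

attribute [local instance] Algebra.TensorProduct.rightAlgebra

theorem isEtaleNhd_refl (R : Type u) [CommRing R] (p : Ideal R) [p.IsPrime] : FlatCA.IsEtaleNhd R R p p := by
  haveI : p.LiesOver p := ⟨rfl⟩
  haveI : IsLocalization.Away (1 : R) R := IsLocalization.away_of_isUnit_of_bijective R isUnit_one Function.bijective_id
  exact DevissageOps.isEtaleNhd_away (1 : R) p p

/-- After an elementary étale localisation there is a complete dévissage or the module vanishes. -/
theorem exists_nbhd {R S : Type u} [CommRing R] [CommRing S] [Algebra R S] [Algebra.FiniteType R S]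
    (N : Type u) [AddCommGroup N] [Module S N] [Module R N] [IsScalarTower R S N] [Module.Finite S N]
    (p : Ideal R) [p.IsPrime] (q : Ideal S) [q.IsPrime] [q.LiesOver p] :
    ∃ (R' S' : Type u) (_ : CommRing R') (_ : CommRing S') (_ : Algebra R R') (_ : Algebra S S') (_ : Algebra R' S')
      (_ : Algebra R S') (_ : IsScalarTower R R' S') (_ : IsScalarTower R S S')
      (p' : Ideal R') (q' : Ideal S') (_ : p'.IsPrime) (_ : q'.IsPrime),
      FlatCA.IsEtaleNhd R R' p p' ∧ FlatCA.IsEtaleNhd S S' q q' ∧ q'.LiesOver p' ∧
      ∀ (N' : Type u) [AddCommGroup N'] [Module S' N'] [Module S N'] [IsScalarTower S S' N']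
        (f : N →ₗ[S] N'), IsBaseChange S' f →
          FlatCA.HasCompleteDevissageAt R' S' N' p' q' ∨ Subsingleton N' := by
  by_cases hq : (⟨q, inferInstance⟩ : PrimeSpectrum S) ∈ Module.support S N
  · obtain ⟨x, hx⟩ := Flatmor4.exists_fiber_prime p q
    have hxs : x ∈ Module.support (p.Fiber S) (FlatCA.fiberMod p S N) :=
      (FibreGenericPoint.mem_support_fiberMod p N x).2 ((show PrimeSpectrum.comap (algebraMap S _) x =
        ⟨q, inferInstance⟩ from PrimeSpectrum.ext hx).symm ▸ hq)
    obtain ⟨R', S', i1, i2, i3, i4, i5, i6, i7, i8, p', q', i9, i10, h1, h2, h3, h4⟩ :=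
      Groth.Agent.S1252.result N p q ⟨x, hxs, Flatmor4.fiberIdeal_comap p x q hx⟩
    exact ⟨R', S', i1, i2, i3, i4, i5, i6, i7, i8, p', q', i9, i10, h1, h2, h3,
      fun N' _ _ _ _ f hf => Or.inl (h4 N' f hf)⟩
  · obtain ⟨g, hg, hgN⟩ : ∃ g, g ∉ q ∧ ∀ m : N, g • m = 0 := by
      rw [Module.support_eq_zeroLocus, PrimeSpectrum.mem_zeroLocus] at hq
      obtain ⟨g, hg, hgq⟩ := Set.not_subset.mp hq
      exact ⟨g, hgq, fun m => Module.mem_annihilator.mp hg m⟩
    have hdisj : Disjoint ((Submonoid.powers g : Submonoid S) : Set S) (q : Set S) := by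
      refine Set.disjoint_left.mpr ?_
      rintro _ ⟨n, rfl⟩ h
      exact hg (‹q.IsPrime›.mem_of_pow_mem n h)
    let S' := Localization.Away g
    haveI hq'p : (q.map (algebraMap S S')).IsPrime :=
      IsLocalization.isPrime_of_isPrime_disjoint (Submonoid.powers g) S' q ‹_› hdisj
    haveI hq'o : (q.map (algebraMap S S')).LiesOver q :=
      ⟨(IsLocalization.under_map_of_isPrime_disjoint (Submonoid.powers g) S' ‹_› hdisj).symm⟩
    refine ⟨R, S', inferInstance, inferInstance, inferInstance, inferInstance, inferInstance, inferInstance,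
      inferInstance, inferInstance, p, q.map (algebraMap S S'), inferInstance, hq'p, isEtaleNhd_refl R p,
      DevissageOps.isEtaleNhd_away g q _, Ideal.LiesOver.trans _ q p, fun N' _ _ _ _ f hf => Or.inr ?_⟩
    refine subsingleton_of_forall_eq 0 fun y => ?_
    obtain ⟨z, rfl⟩ := hf.equiv.surjective y
    induction z using TensorProduct.induction_on with
    | zero => rw [map_zero]
    | add a b ha hb => rw [map_add, ha, hb, add_zero]
    | tmul t m =>
      obtain ⟨u, hu⟩ := IsLocalization.Away.algebraMap_isUnit (S := S') g
      have : t ⊗ₜ[S] m = 0 := by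
        rw [show t = g • ((↑u⁻¹ : S') * t) by rw [Algebra.smul_def, ← hu, ← mul_assoc, Units.mul_inv, one_mul],
          TensorProduct.smul_tmul, hgN, tmul_zero]
      rw [this, map_zero]

/-- Finite presentation of modules descends along faithfully flat maps. -/
theorem finitePresentation_of_tensor {R T M : Type u} [CommRing R] [CommRing T] [Algebra R T]
    [Module.FaithfullyFlat R T] [AddCommGroup M] [Module R M] [Module.Finite R M]
    [Module.FinitePresentation T (T ⊗[R] M)] : Module.FinitePresentation R M := by
  obtain ⟨n, f, hf⟩ := Module.Finite.exists_fin' R M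
  refine Module.finitePresentation_of_surjective f hf (Module.Finite.iff_fg.mp ?_)
  haveI : Module.Finite T (T ⊗[R] LinearMap.ker f) := by
    have hi : Function.Injective ((LinearMap.ker f).subtype.baseChange T) :=
      Module.Flat.lTensor_preserves_injective_linearMap _ Subtype.val_injective
    have he : Function.Exact ((LinearMap.ker f).subtype.baseChange T) (f.baseChange T) :=
      lTensor_exact T f.exact_subtype_ker_map hf
    have hfg := Module.FinitePresentation.fg_ker (f.baseChange T) (LinearMap.lTensor_surjective T hf)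
    rw [LinearMap.exact_iff.mp he] at hfg
    haveI := Module.Finite.iff_fg.mpr hfg
    exact Module.Finite.equiv (LinearEquiv.ofInjective _ hi).symm
  exact Module.Finite.of_finite_tensorProduct_of_faithfullyFlat T

/-- The residue field of a prime is that of its localisation. -/
theorem bijective_residue_atPrime {R : Type u} [CommRing R] (p : Ideal R) [p.IsPrime]
    [h : (IsLocalRing.maximalIdeal (Localization.AtPrime p)).LiesOver p] :
    Function.Bijective (Ideal.ResidueField.mapₐ p (IsLocalRing.maximalIdeal (Localization.AtPrime p))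
      (Algebra.ofId R (Localization.AtPrime p)) h.over) := by
  let L := (IsLocalRing.maximalIdeal (Localization.AtPrime p)).ResidueField
  let φ := Ideal.ResidueField.mapₐ p (IsLocalRing.maximalIdeal (Localization.AtPrime p))
    (Algebra.ofId R (Localization.AtPrime p)) h.over
  refine ⟨φ.toRingHom.injective, fun w => ?_⟩
  have hA : ∀ a : Localization.AtPrime p, algebraMap _ L a ∈ φ.toRingHom.fieldRange := by
    intro a
    obtain ⟨x, s, rfl⟩ := IsLocalization.exists_mk'_eq p.primeCompl a
    have hx : ∀ y : R, algebraMap (Localization.AtPrime p) L (algebraMap R _ y) ∈ φ.toRingHom.fieldRange :=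
      fun y => ⟨algebraMap R _ y, by
        show φ (algebraMap R _ y) = _
        rw [φ.commutes, IsScalarTower.algebraMap_apply R (Localization.AtPrime p) L]⟩
    have hs : algebraMap (Localization.AtPrime p) L (algebraMap R _ (s : R)) ≠ 0 :=
      ((IsLocalization.map_units (Localization.AtPrime p) s).map (algebraMap (Localization.AtPrime p) L)).ne_zero
    have heq : algebraMap (Localization.AtPrime p) L (IsLocalization.mk' _ x s) =
        algebraMap (Localization.AtPrime p) L (algebraMap R _ x) /
          algebraMap (Localization.AtPrime p) L (algebraMap R _ (s : R)) := by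
      rw [eq_div_iff hs, ← map_mul, IsLocalization.mk'_spec]
    rw [heq]
    exact div_mem (hx x) (hx s)
  obtain ⟨u, v, -, rfl⟩ := IsFractionRing.div_surjective
    ((Localization.AtPrime p) ⧸ IsLocalRing.maximalIdeal (Localization.AtPrime p)) w
  obtain ⟨u, rfl⟩ := Ideal.Quotient.mk_surjective u
  obtain ⟨v, rfl⟩ := Ideal.Quotient.mk_surjective v
  exact div_mem (H := φ.toRingHom.fieldRange) (hA u) (hA v)

set_option maxHeartbeats 1600000 in
/-- **Local structure of a module flat at a point** over a finitely presented algebra. -/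
theorem exists_nbhd_free_regular {R S : Type u} [CommRing R] [CommRing S] [Algebra R S] [Algebra.FinitePresentation R S]
    (N : Type u) [AddCommGroup N] [Module S N] [Module R N] [IsScalarTower R S N] [Module.Finite S N]
    (p : Ideal R) [p.IsPrime] (q : Ideal S) [q.IsPrime] [q.LiesOver p] (hflat : FlatCA.FlatAt R q N) :
    ∃ (R' : Type u) (_ : CommRing R') (_ : Algebra R R') (p' : Ideal R') (_ : p'.IsPrime),
      FlatCA.IsEtaleNhd R R' p p' ∧
      ∀ (SA NA : Type u) [CommRing SA] [Algebra R SA] [Algebra S SA] [Algebra (Localization.AtPrime p') SA]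
        [IsScalarTower R S SA] [IsScalarTower R (Localization.AtPrime p') SA]
        [Algebra.IsPushout R S (Localization.AtPrime p') SA]
        [AddCommGroup NA] [Module SA NA] [Module S NA] [IsScalarTower S SA NA]
        (f : N →ₗ[S] NA), IsBaseChange SA f →
        ∃ (C : Type u) (_ : CommRing C) (_ : Algebra SA C) (_ : Algebra (Localization.AtPrime p') C)
          (_ : IsScalarTower (Localization.AtPrime p') SA C) (_ : Algebra S C) (_ : IsScalarTower S SA C)
          (x' : Ideal C) (_ : x'.IsPrime) (hx : x'.LiesOver q),
          Algebra.Etale SA C ∧ Algebra.FinitePresentation (Localization.AtPrime p') C ∧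
          x'.LiesOver (IsLocalRing.maximalIdeal (Localization.AtPrime p')) ∧
          Function.Bijective (Ideal.ResidueField.mapₐ q x' (Algebra.ofId S C) hx.over) ∧
          Module.FinitePresentation C (C ⊗[SA] NA) ∧
          Module.Free (Localization.AtPrime p') (RestrictScalars (Localization.AtPrime p') C (C ⊗[SA] NA)) ∧
          ∀ v : C, v ∉ x' → ∀ z : C ⊗[SA] NA,
            v • z ∈ ((IsLocalRing.maximalIdeal (Localization.AtPrime p')).map (algebraMap (Localization.AtPrime p') C)) • (⊤ : Submodule C (C ⊗[SA] NA)) →
            z ∈ ((IsLocalRing.maximalIdeal (Localization.AtPrime p')).map (algebraMap (Localization.AtPrime p') C)) • (⊤ : Submodule C (C ⊗[SA] NA)) := by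
  obtain ⟨R', S', _, _, _, _, _, _, _, _, p', q', _, _, hR, hS, hq'p', hdev⟩ := exists_nbhd N p q
  refine ⟨R', inferInstance, inferInstance, p', inferInstance, hR, ?_⟩
  intro SA NA _ _ _ _ _ _ _ _ _ _ _ f hf
  obtain ⟨hRet, hp'o, hκ⟩ := hR
  obtain ⟨hSet, hq'o, hκS⟩ := hS
  haveI := hRet; haveI := hp'o; haveI := hSet; haveI := hq'o; haveI := hq'p'
  haveI : Algebra.FinitePresentation R S' := Algebra.FinitePresentation.trans R S S'
  haveI : Algebra.FinitePresentation R' S' :=
    Algebra.FinitePresentation.of_restrict_scalars_finitePresentation R R' S'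
  let A := Localization.AtPrime p'
  obtain ⟨C, _, _, _, _, _, _, hpush⟩ := EtalePushout.exists_pushout R' S' A
  haveI := hpush
  letI : Algebra R C := ((algebraMap A C).comp (algebraMap R A)).toAlgebra
  haveI : IsScalarTower R A C := .of_algebraMap_eq' rfl
  have hRS'C : ∀ r : R, algebraMap R C r = algebraMap S' C (algebraMap R S' r) := fun r => by
    show algebraMap A C (algebraMap R A r) = _
    rw [IsScalarTower.algebraMap_apply R R' A, IsScalarTower.algebraMap_apply R R' S',
      ← IsScalarTower.algebraMap_apply R' A C, ← IsScalarTower.algebraMap_apply R' S' C]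
  haveI : IsScalarTower R S' C := .of_algebraMap_eq hRS'C
  let j : S →ₐ[R] C := (IsScalarTower.toAlgHom R S' C).comp (IsScalarTower.toAlgHom R S S')
  let σ : SA →ₐ[R] C := Algebra.pushoutDesc SA j (IsScalarTower.toAlgHom R A C) fun _ _ => Commute.all _ _
  letI : Algebra SA C := σ.toRingHom.toAlgebra
  letI : Algebra S C := j.toRingHom.toAlgebra
  haveI : IsScalarTower S S' C := .of_algebraMap_eq fun s => rfl
  haveI : IsScalarTower S SA C := .of_algebraMap_eq fun s => (Algebra.pushoutDesc_left SA j _ _ s).symm
  haveI : IsScalarTower A SA C := .of_algebraMap_eq fun a =>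
    (Algebra.pushoutDesc_right SA j (IsScalarTower.toAlgHom R A C) _ a).symm
  haveI : IsScalarTower R SA C := .of_algebraMap_eq fun r => by
    rw [IsScalarTower.algebraMap_apply R A SA, ← IsScalarTower.algebraMap_apply A SA C,
      ← IsScalarTower.algebraMap_apply R A C]
  haveI : IsScalarTower R S C := .of_algebraMap_eq fun r => by
    rw [hRS'C, IsScalarTower.algebraMap_apply R S S', IsScalarTower.algebraMap_apply S S' C]
  -- étaleness
  haveI : Algebra.FormallyEtale R' A := Algebra.FormallyEtale.of_isLocalization p'.primeCompl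
  haveI : Algebra.FormallyEtale R A := Algebra.FormallyEtale.comp R R' A
  haveI : Algebra.FormallyEtale S SA := by
    haveI : Algebra.IsPushout R S A SA := inferInstance
    exact Algebra.FormallyEtale.of_equiv (Algebra.IsPushout.equiv R S A SA)
  haveI : Algebra.FormallyEtale S' C := by
    haveI : Algebra.IsPushout R' S' A C := Algebra.IsPushout.symm inferInstance
    exact Algebra.FormallyEtale.of_equiv (Algebra.IsPushout.equiv R' S' A C)
  haveI : Algebra.FormallyEtale S C := Algebra.FormallyEtale.comp S S' C
  haveI : Algebra.FinitePresentation A C :=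
    Algebra.FinitePresentation.equiv (Algebra.IsPushout.equiv R' A S' C)
  haveI : Algebra.FiniteType A SA := by
    haveI : Algebra.IsPushout R A S SA := Algebra.IsPushout.symm inferInstance
    exact Algebra.FiniteType.equiv (inferInstanceAs (Algebra.FiniteType A (A ⊗[R] S)))
      (Algebra.IsPushout.equiv R A S SA)
  haveI hEtC : Algebra.Etale SA C :=
    { formallyEtale := Algebra.FormallyEtale.of_restrictScalars (R := S)
      finitePresentation := Algebra.FinitePresentation.of_restrict_scalars_finitePresentation A SA C }
  -- the point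
  haveI hmo : (IsLocalRing.maximalIdeal A).LiesOver p' :=
    ⟨(IsLocalization.AtPrime.under_maximalIdeal A p').symm⟩
  let φA : A →ₐ[R'] q'.ResidueField := IsLocalization.liftAlgHom (M := p'.primeCompl)
    (f := Algebra.ofId R' q'.ResidueField) fun y => isUnit_iff_ne_zero.mpr fun h => y.2 (by
      have h' : algebraMap R' q'.ResidueField (y : R') = 0 := h
      rw [IsScalarTower.algebraMap_apply R' S' q'.ResidueField, Ideal.algebraMap_residueField_eq_zero] at h'
      exact hq'p'.over ▸ h')
  let φ : C →ₐ[R'] q'.ResidueField :=
    Algebra.pushoutDesc C φA (IsScalarTower.toAlgHom R' S' q'.ResidueField) fun _ _ => Commute.all _ _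
  let x := RingHom.ker φ.toRingHom
  haveI hxp : x.IsPrime := RingHom.ker_isPrime _
  haveI hxq' : x.LiesOver q' := ⟨by
    ext s
    show s ∈ q' ↔ φ (algebraMap S' C s) = 0
    rw [Algebra.pushoutDesc_right]
    exact Ideal.algebraMap_residueField_eq_zero.symm⟩
  haveI hxm : x.LiesOver (IsLocalRing.maximalIdeal A) := ⟨by
    refine ((IsLocalRing.maximalIdeal.isMaximal A).eq_of_le (Ideal.IsPrime.under A x).ne_top ?_)
    rw [← Localization.AtPrime.map_eq_maximalIdeal, Ideal.map_le_iff_le_comap]
    intro r hr
    show φ (algebraMap A C (algebraMap R' A r)) = 0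
    rw [← IsScalarTower.algebraMap_apply, φ.commutes, IsScalarTower.algebraMap_apply R' S' q'.ResidueField,
      Ideal.algebraMap_residueField_eq_zero]
    exact (Ideal.mem_of_liesOver q' p' r).mp hr⟩
  haveI hxq : x.LiesOver q := Ideal.LiesOver.trans x q' q
  refine ⟨C, inferInstance, inferInstance, inferInstance, inferInstance, inferInstance, inferInstance, x, hxp, hxq,
    hEtC, inferInstance, hxm, ?_, ?_⟩
  · haveI : Algebra.IsPushout R' A S' C := inferInstance
    exact EtalePushout.bijective_mapₐ_trans q q' x hκS
      (EtalePushout.bijective_residue_of_isPushout (R := R') (R' := A) p' (IsLocalRing.maximalIdeal A)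
        (bijective_residue_atPrime p') q' x)
  -- the module
  obtain ⟨N', _, _, _, _, f', hf'⟩ := EtalePushout.exists_baseChange S S' N
  let NC := C ⊗[SA] NA
  let gS : NA →ₗ[SA] NC := TensorProduct.mk SA C NA 1
  have hgS : IsBaseChange C gS := TensorProduct.isBaseChange SA NA C
  haveI : SMulCommClass SA C NC := inferInstance
  haveI : SMulCommClass SA S' C := ⟨fun a b c => by
    rw [Algebra.smul_def, Algebra.smul_def, Algebra.smul_def, Algebra.smul_def, mul_left_comm]⟩
  haveI : IsScalarTower S' C NC := inferInstance
  haveI : IsScalarTower S C NC := IsScalarTower.of_algebraMap_smul fun s z => by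
    rw [IsScalarTower.algebraMap_apply S SA C, algebraMap_smul, algebraMap_smul]
  haveI : IsScalarTower S S' NC := IsScalarTower.of_algebraMap_smul fun s z => by
    rw [← algebraMap_smul C (algebraMap S S' s) z, ← IsScalarTower.algebraMap_apply, algebraMap_smul]
  have hcomp : IsBaseChange C ((gS.restrictScalars S).comp f) := IsBaseChange.comp hf hgS
  let h' : N' →ₗ[S'] NC := hf'.lift ((gS.restrictScalars S).comp f)
  have hh' : IsBaseChange C h' := IsBaseChange.of_comp hf' (by
    have : (h'.restrictScalars S).comp f' = (gS.restrictScalars S).comp f :=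
      LinearMap.ext fun m => hf'.lift_eq _ m
    rw [show (h' : N' →ₗ[S] NC) ∘ₗ f' = (gS.restrictScalars S).comp f from this]
    exact hcomp)
  haveI : Module.Finite S' N' := Module.Finite.equiv hf'.equiv
  haveI : Module.Finite SA NA := Module.Finite.equiv hf.equiv
  rcases hdev N' f' hf' with hdev | hsub
  · haveI : Algebra.IsPushout R' A S' C := inferInstance
    obtain ⟨D, ⟨DD⟩⟩ := DevissageOps.baseChange hdev A (IsLocalRing.maximalIdeal A) (bijective_residue_atPrime p')
      C NC h' hh' x
    haveI : SMulCommClass SA A C := ⟨fun a b c => by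
      rw [Algebra.smul_def, Algebra.smul_def, Algebra.smul_def, Algebra.smul_def, mul_left_comm]⟩
    haveI : IsScalarTower A C NC := inferInstance
    letI : Module A NA := Module.compHom NA (algebraMap A SA)
    haveI : IsScalarTower A SA NA := IsScalarTower.of_algebraMap_smul fun _ _ => rfl
    haveI : IsScalarTower A SA NC := IsScalarTower.of_algebraMap_smul fun a z => by
      rw [← algebraMap_smul C (algebraMap A SA a) z, ← IsScalarTower.algebraMap_apply, algebraMap_smul]
    let Q := x.comap (algebraMap SA C)
    have hQ : Q.comap (algebraMap S SA) = q := by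
      rw [Ideal.comap_comap, ← IsScalarTower.algebraMap_eq]
      exact hxq.over.symm
    have h1 : FlatCA.FlatAt A Q NA := FlatmorThree.flatAt_baseChange f hf q Q hQ hflat
    have h2 : FlatCA.FlatAt A x NC := (Groth.Agent.S1277.flatAt_iff_of_flat gS hgS Q x rfl).mp h1
    obtain ⟨hfp, hfree, -⟩ := DevissageFree.main DD h2
    haveI := hfree
    refine ⟨hfp, ?_, fun v hv z hz => DevissageRegular.regular_mod DD h2 hv hz⟩
    let e : NC ≃ₗ[A] RestrictScalars A C NC :=
      { (RestrictScalars.addEquiv A C NC).symm with
        map_smul' := fun a z => by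
          refine (RestrictScalars.addEquiv A C NC).injective ?_
          show (RestrictScalars.addEquiv A C NC) ((RestrictScalars.addEquiv A C NC).symm (a • z)) = _
          rw [AddEquiv.apply_symm_apply]
          exact (algebraMap_smul C a z).symm }
    exact Module.Free.of_equiv e
  · haveI : Subsingleton NC := hh'.equiv.symm.toEquiv.subsingleton
    haveI : Subsingleton (RestrictScalars A C NC) := (RestrictScalars.addEquiv A C NC).toEquiv.subsingleton
    exact ⟨inferInstance, Module.Free.of_subsingleton _ _, fun v _ z _ => by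
      rw [Subsingleton.elim z 0]; exact zero_mem _⟩

/-- The same, without the regularity of the elements outside the point. -/
theorem exists_nbhd_free {R S : Type u} [CommRing R] [CommRing S] [Algebra R S] [Algebra.FinitePresentation R S]
    (N : Type u) [AddCommGroup N] [Module S N] [Module R N] [IsScalarTower R S N] [Module.Finite S N]
    (p : Ideal R) [p.IsPrime] (q : Ideal S) [q.IsPrime] [q.LiesOver p] (hflat : FlatCA.FlatAt R q N) :
    ∃ (R' : Type u) (_ : CommRing R') (_ : Algebra R R') (p' : Ideal R') (_ : p'.IsPrime),
      FlatCA.IsEtaleNhd R R' p p' ∧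
      ∀ (SA NA : Type u) [CommRing SA] [Algebra R SA] [Algebra S SA] [Algebra (Localization.AtPrime p') SA]
        [IsScalarTower R S SA] [IsScalarTower R (Localization.AtPrime p') SA]
        [Algebra.IsPushout R S (Localization.AtPrime p') SA]
        [AddCommGroup NA] [Module SA NA] [Module S NA] [IsScalarTower S SA NA]
        (f : N →ₗ[S] NA), IsBaseChange SA f →
        ∃ (C : Type u) (_ : CommRing C) (_ : Algebra SA C) (_ : Algebra (Localization.AtPrime p') C)
          (_ : IsScalarTower (Localization.AtPrime p') SA C) (_ : Algebra S C) (_ : IsScalarTower S SA C)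
          (x' : Ideal C) (_ : x'.IsPrime) (hx : x'.LiesOver q),
          Algebra.Etale SA C ∧ Algebra.FinitePresentation (Localization.AtPrime p') C ∧
          x'.LiesOver (IsLocalRing.maximalIdeal (Localization.AtPrime p')) ∧
          Function.Bijective (Ideal.ResidueField.mapₐ q x' (Algebra.ofId S C) hx.over) ∧
          Module.FinitePresentation C (C ⊗[SA] NA) ∧
          Module.Free (Localization.AtPrime p') (RestrictScalars (Localization.AtPrime p') C (C ⊗[SA] NA)) := by
  obtain ⟨R', i1, i2, p', i3, h1, h2⟩ := exists_nbhd_free_regular N p q hflat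
  refine ⟨R', i1, i2, p', i3, h1, fun SA NA _ _ _ _ _ _ _ _ _ _ _ f hf => ?_⟩
  obtain ⟨C, j1, j2, j3, j4, j5, j6, x', j7, hx, k1, k2, k3, k4, k5, k6, -⟩ := h2 SA NA f hf
  exact ⟨C, j1, j2, j3, j4, j5, j6, x', j7, hx, k1, k2, k3, k4, k5, k6⟩

end Groth.RaynaudGruson.LocalStructure
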