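import Groth.Agent.RaynaudGruson.FlatLocusDevissage
import Groth.Agent.RaynaudGruson.FreeEmbeddingHensel
import Groth.Agent.RaynaudGruson.LocalStructure
import Groth.Agent.Flatmor4.DevissageBaseChange
import Groth.Agent.FlatMorOne.FlatLocusBaseChange
import Groth.Agent.S1277
import Groth.Agent.S6928
import Mathlib

/-!
The flattening ideal above the closed points over a henselian local ring.
-/

set_option autoImplicit false
set_option linter.style.haveILetI false
universe u

open TensorProduct IsLocalRing

namespace Groth.RaynaudGruson.FlatLocusHensel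

attribute [local instance] TensorAction.tModule

/-- A prime of a pushout over two primes with the same contraction. -/
theorem exists_prime_pushout {R R' T T' : Type u} [CommRing R] [CommRing R'] [CommRing T] [CommRing T'] [Algebra R R']
    [Algebra R T] [Algebra R' T'] [Algebra T T'] [Algebra R T'] [IsScalarTower R R' T'] [IsScalarTower R T T']
    [Algebra.IsPushout R R' T T'] (p : Ideal R) [p.IsPrime] (a : Ideal R') [a.IsPrime] [a.LiesOver p] (b : Ideal T)
    [b.IsPrime] [b.LiesOver p] :
    ∃ Q : Ideal T', Q.IsPrime ∧ Q.comap (algebraMap R' T') = a ∧ Q.comap (algebraMap T T') = b := by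
  letI := Algebra.TensorProduct.rightAlgebra (R := R) (A := R') (B := T)
  obtain ⟨Ω, _, _, ι, φ, hι, hφ⟩ := exists_field_point p b a
  let e := Algebra.IsPushout.equiv R R' T T'
  let L : R' ⊗[R] T →ₐ[R] Ω := Algebra.TensorProduct.lift φ ι fun _ _ => .all _ _
  let g : T' →+* Ω := L.toRingHom.comp e.symm.toRingEquiv.toRingHom
  refine ⟨RingHom.ker g, RingHom.ker_isPrime g, ?_, ?_⟩
  · ext x
    show L (e.symm (algebraMap R' T' x)) = 0 ↔ _
    rw [AlgEquiv.commutes, Algebra.TensorProduct.algebraMap_apply, show L = Algebra.TensorProduct.lift φ ι (fun _ _ => .all _ _) from rfl, Algebra.TensorProduct.lift_tmul, map_one, mul_one, ← hφ]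
    rfl
  · ext x
    show L (e.symm (algebraMap T T' x)) = 0 ↔ _
    rw [Algebra.IsPushout.equiv_symm_algebraMap_right, show L = Algebra.TensorProduct.lift φ ι (fun _ _ => .all _ _) from rfl, Algebra.TensorProduct.lift_tmul, map_one, one_mul, ← hι]
    rfl

/-- Base changes factor. -/
theorem exists_lift {R R1 R2 N X Z : Type u} [CommRing R] [CommRing R1] [CommRing R2] [Algebra R R1] [Algebra R R2]
    [Algebra R1 R2] [IsScalarTower R R1 R2] [AddCommGroup N] [Module R N] [AddCommGroup X] [Module R1 X] [Module R X]
    [IsScalarTower R R1 X] [AddCommGroup Z] [Module R2 Z] [Module R1 Z] [Module R Z] [IsScalarTower R1 R2 Z]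
    [IsScalarTower R R2 Z] [IsScalarTower R R1 Z] {f : N →ₗ[R] X} (hf : IsBaseChange R1 f) {g : N →ₗ[R] Z}
    (hg : IsBaseChange R2 g) : ∃ h : X →ₗ[R1] Z, IsBaseChange R2 h := by
  refine ⟨hf.lift g, IsBaseChange.of_comp hf ?_⟩
  rw [show (hf.lift g : X →ₗ[R] Z) ∘ₗ f = g from LinearMap.ext fun m => hf.lift_eq g m]
  exact hg

/-- Flatness over a base is kept by base change. -/
theorem flat_tensor_of_flat {R R₀ A' X : Type u} [CommRing R] [CommRing R₀] [CommRing A'] [Algebra R R₀] [Algebra R A']
    [Algebra R₀ A'] [IsScalarTower R R₀ A'] [AddCommGroup X] [Module R X] [Module.Flat R₀ (R₀ ⊗[R] X)] :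
    Module.Flat A' (A' ⊗[R] X) :=
  Module.Flat.of_linearEquiv (AlgebraTensorModule.cancelBaseChange R R₀ A' A' X).symm

set_option maxHeartbeats 1600000 in
/-- The algebra with a dévissage over a henselian local ring, above a point of a finite type algebra. -/
theorem exists_local_model {A S : Type u} [CommRing A] [HenselianLocalRing A] [CommRing S] [Algebra A S]
    [Algebra.FiniteType A S] (N : Type u) [AddCommGroup N] [Module S N] [Module A N] [IsScalarTower A S N]
    [Module.Finite S N] (q : Ideal S) [q.IsPrime] [q.LiesOver (maximalIdeal A)] :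
    ∃ (C : Type u) (_ : CommRing C) (_ : Algebra S C) (_ : Algebra A C) (_ : IsScalarTower A S C) (x : Ideal C)
      (_ : x.IsPrime) (NC : Type u) (_ : AddCommGroup NC) (_ : Module C NC) (_ : Module S NC) (_ : IsScalarTower S C NC)
      (_ : Module A NC) (_ : IsScalarTower A C NC) (f : N →ₗ[S] NC),
      Module.Flat S C ∧ x.LiesOver q ∧ IsBaseChange C f ∧
      ∃ I : Ideal A, Module.Flat (A ⧸ I) ((A ⧸ I) ⊗[A] NC) ∧
        ∀ (A' : Type u) [CommRing A'] [IsLocalRing A'] [Algebra A A'] [IsLocalHom (algebraMap A A')],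
          TensorAction.Above A (maximalIdeal A') x NC → I.map (algebraMap A A') = ⊥ := by
  obtain ⟨R', S', _, _, _, _, _, _, _, _, p', q', _, _, hR, hS, hq'p', hdev⟩ :=
    LocalStructure.exists_nbhd N (maximalIdeal A) q
  have hbij := FreeEmbedding.bijective_of_isEtaleNhd p' hR
  obtain ⟨hRet, hp'o, -⟩ := hR
  obtain ⟨hSet, hq'o, -⟩ := hS
  haveI := hRet; haveI := hp'o; haveI := hSet; haveI := hq'o; haveI := hq'p'
  haveI : Algebra.FiniteType A S' := Algebra.FiniteType.trans (S := S) inferInstance inferInstance
  haveI : Algebra.FiniteType R' S' := Algebra.FiniteType.of_restrictScalars_finiteType A R' S'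
  -- `A` as the localisation of `R'` at `p'`
  let L := Localization.AtPrime p'
  let e : A ≃ₐ[A] L := AlgEquiv.ofBijective (Algebra.ofId A L) hbij
  letI : Algebra R' A := (e.symm.toRingEquiv.toRingHom.comp (algebraMap R' L)).toAlgebra
  haveI : IsScalarTower A R' A := IsScalarTower.of_algebraMap_eq fun a => by
    show a = e.symm (algebraMap R' L (algebraMap A R' a))
    rw [← IsScalarTower.algebraMap_apply, AlgEquiv.commutes]
    rfl
  let e' : L ≃ₐ[R'] A := { e.symm.toRingEquiv with commutes' := fun r => rfl }
  haveI : IsLocalization.AtPrime A p' := IsLocalization.isLocalization_of_algEquiv p'.primeCompl e'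
  haveI hmo : (maximalIdeal A).LiesOver p' := ⟨(IsLocalization.AtPrime.under_maximalIdeal A p').symm⟩
  have hκ : Function.Bijective (Ideal.ResidueField.mapₐ p' (maximalIdeal A) (Algebra.ofId R' A) hmo.over) := by
    refine ⟨RingHom.injective _, fun z => ?_⟩
    obtain ⟨a, rfl⟩ := Ideal.algebraMap_residueField_surjective (maximalIdeal A) z
    refine ⟨algebraMap R' p'.ResidueField (algebraMap A R' a), ?_⟩
    rw [AlgHom.commutes, IsScalarTower.algebraMap_apply R' A (maximalIdeal A).ResidueField,
      ← IsScalarTower.algebraMap_apply A R' A]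
    rfl
  obtain ⟨C, _, _, _, _, _, _, hpush⟩ := EtalePushout.exists_pushout R' S' A
  haveI := hpush
  haveI : Algebra.IsPushout R' S' A C := Algebra.IsPushout.symm inferInstance
  haveI hloc : IsLocalization (Algebra.algebraMapSubmonoid S' p'.primeCompl) C :=
    (Algebra.isLocalization_iff_isPushout p'.primeCompl A).mpr inferInstance
  letI : Algebra S C := ((algebraMap S' C).comp (algebraMap S S')).toAlgebra
  haveI : IsScalarTower S S' C := .of_algebraMap_eq' rfl
  haveI : IsScalarTower A S C := IsScalarTower.of_algebraMap_eq fun a => by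
    show algebraMap A C a = algebraMap S' C (algebraMap S S' (algebraMap A S a))
    rw [← IsScalarTower.algebraMap_apply A S S', IsScalarTower.algebraMap_apply A R' S',
      ← IsScalarTower.algebraMap_apply R' S' C, IsScalarTower.algebraMap_apply R' A C,
      ← IsScalarTower.algebraMap_apply A R' A]
    rfl
  haveI : Module.Flat S' C := IsLocalization.flat C (Algebra.algebraMapSubmonoid S' p'.primeCompl)
  haveI : Module.Flat S C := Module.Flat.trans S S' C
  have hdisj : Disjoint ((Algebra.algebraMapSubmonoid S' p'.primeCompl : Submonoid S') : Set S') (q' : Set S') := by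
    refine Set.disjoint_left.mpr ?_
    rintro _ ⟨r, hr, rfl⟩ hmem
    exact hr ((Ideal.mem_of_liesOver q' p' r).mpr hmem)
  let x := q'.map (algebraMap S' C)
  haveI hxp : x.IsPrime := IsLocalization.isPrime_of_isPrime_disjoint (Algebra.algebraMapSubmonoid S' p'.primeCompl) C q' ‹_› hdisj
  haveI hxq' : x.LiesOver q' :=
    ⟨(IsLocalization.comap_map_of_isPrime_disjoint (Algebra.algebraMapSubmonoid S' p'.primeCompl) C ‹_› hdisj).symm⟩
  haveI hxq : x.LiesOver q := Ideal.LiesOver.trans x q' q
  haveI hxm : x.LiesOver (maximalIdeal A) := ⟨by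
    refine ((maximalIdeal.isMaximal A).eq_of_le (Ideal.IsPrime.under A x).ne_top ?_)
    rw [← IsLocalization.AtPrime.map_eq_maximalIdeal p' A, Ideal.map_le_iff_le_comap]
    intro r hr
    show algebraMap A C (algebraMap R' A r) ∈ x
    rw [← IsScalarTower.algebraMap_apply, IsScalarTower.algebraMap_apply R' S' C]
    exact Ideal.mem_map_of_mem _ ((Ideal.mem_of_liesOver q' p' r).mp hr)⟩
  obtain ⟨N', _, _, _, _, f', hf'⟩ := EtalePushout.exists_baseChange S S' N
  haveI : Module.Finite S' N' := Module.Finite.equiv hf'.equiv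
  obtain ⟨NC, _, _, _, _, g, hg⟩ := EtalePushout.exists_baseChange S' C N'
  letI : Module S NC := Module.compHom NC (algebraMap S C)
  haveI : IsScalarTower S C NC := IsScalarTower.of_algebraMap_smul fun _ _ => rfl
  haveI : IsScalarTower S S' NC := IsScalarTower.of_algebraMap_smul fun s z => by
    rw [← algebraMap_smul C (algebraMap S S' s) z, ← IsScalarTower.algebraMap_apply, algebraMap_smul]
  letI : Module A NC := Module.compHom NC (algebraMap A C)
  haveI : IsScalarTower A C NC := IsScalarTower.of_algebraMap_smul fun _ _ => rfl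
  refine ⟨C, inferInstance, inferInstance, inferInstance, inferInstance, x, inferInstance, NC, inferInstance,
    inferInstance, inferInstance, inferInstance, inferInstance, inferInstance, (g.restrictScalars S).comp f',
    inferInstance, hxq, hf'.comp hg, ?_⟩
  rcases hdev N' f' hf' with hdev | hsub
  · haveI : Algebra.IsPushout R' A S' C := Algebra.IsPushout.symm inferInstance
    obtain ⟨D, ⟨DD⟩⟩ := DevissageOps.baseChange hdev A (maximalIdeal A) hκ C NC g hg x
    exact FlatLocusDevissage.exists_ideal DD
  · haveI : Subsingleton NC := hg.equiv.symm.toEquiv.subsingleton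
    exact ⟨⊥, inferInstance, fun A' _ _ _ _ _ => Ideal.map_bot⟩

set_option maxHeartbeats 1600000 in
/-- **The flattening ideal above the closed points**, for a presented local algebra. -/
theorem exists_ideal_of_localization {A S B : Type u} [CommRing A] [HenselianLocalRing A] [CommRing S] [CommRing B]
    [IsLocalRing B] [Algebra A B] [IsLocalHom (algebraMap A B)] [Algebra A S] [Algebra S B] [IsScalarTower A S B]
    [Algebra.FiniteType A S] (q : Ideal S) [q.IsPrime] [q.LiesOver (maximalIdeal A)]
    [(maximalIdeal B).LiesOver q] [IsLocalization.AtPrime B q]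
    (M : Type u) [AddCommGroup M] [Module B M] [Module A M] [IsScalarTower A B M] [Module.Finite B M]
    (N : Type u) [AddCommGroup N] [Module S N] [Module A N] [IsScalarTower A S N] [Module.Finite S N]
    [Module S M] [IsScalarTower S B M] (fN : N →ₗ[S] M) (hfN : IsBaseChange B fN) :
    ∃ I : Ideal A, ∀ (A' B' M' : Type u) [CommRing A'] [IsLocalRing A'] [Algebra A A'] [IsLocalHom (algebraMap A A')]
        [CommRing B'] [Algebra B B'] [Algebra A' B'] [Algebra A B'] [IsScalarTower A B B'] [IsScalarTower A A' B']
        [Algebra.IsPushout A B A' B']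
        [AddCommGroup M'] [Module B' M'] [Module B M'] [IsScalarTower B B' M'] [Module A' M'] [IsScalarTower A' B' M']
        (f : M →ₗ[B] M'), IsBaseChange B' f →
        ((∀ (Q : Ideal B') [Q.IsPrime], (maximalIdeal A').map (algebraMap A' B') ⊔ (maximalIdeal B).map (algebraMap B B') ≤ Q →
            FlatCA.FlatAt A' Q M') ↔ I.map (algebraMap A A') = ⊥) := by
  obtain ⟨C, _, _, _, _, x, _, NC, _, _, _, _, _, _, fC, hCflat, hxq, hfC, I, hIflat, hI⟩ := exists_local_model (A := A) N q
  haveI := hCflat; haveI := hxq; haveI := hIflat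
  -- `CB = B ⊗ C`
  obtain ⟨CB, _, _, _, _, _, _, hpushCB⟩ := EtalePushout.exists_pushout S B C
  haveI := hpushCB
  haveI : Algebra.IsPushout S B C CB := Algebra.IsPushout.symm inferInstance
  haveI : Module.Flat B CB := Module.Flat.of_linearEquiv (Algebra.IsPushout.equiv S B C CB).symm.toLinearEquiv
  haveI : IsLocalization (Algebra.algebraMapSubmonoid C q.primeCompl) CB :=
    (Algebra.isLocalization_iff_isPushout q.primeCompl B).mpr inferInstance
  haveI : Module.Flat C CB := IsLocalization.flat CB (Algebra.algebraMapSubmonoid C q.primeCompl)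
  obtain ⟨xB, hxBp, hxB1, hxB2⟩ := exists_prime_pushout (R := S) (R' := B) (T := C) (T' := CB) q (maximalIdeal B) x
  haveI := hxBp
  letI : Algebra A CB := ((algebraMap B CB).comp (algebraMap A B)).toAlgebra
  haveI : IsScalarTower A B CB := .of_algebraMap_eq' rfl
  haveI : IsScalarTower A C CB := IsScalarTower.of_algebraMap_eq fun a => by
    show algebraMap B CB (algebraMap A B a) = _
    rw [IsScalarTower.algebraMap_apply A S B, ← IsScalarTower.algebraMap_apply S B CB,
      IsScalarTower.algebraMap_apply S C CB, ← IsScalarTower.algebraMap_apply A S C]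
  refine ⟨I, fun A' B' M' _ _ _ _ _ _ _ _ _ _ _ _ _ _ _ _ _ f hf => ?_⟩
  -- the ring `E = A' ⊗ CB`
  obtain ⟨E, _, _, _, _, _, _, hpushE⟩ := EtalePushout.exists_pushout A CB A'
  haveI := hpushE
  haveI : Algebra.IsPushout A A' B B' := Algebra.IsPushout.symm inferInstance
  letI : Algebra B E := ((algebraMap CB E).comp (algebraMap B CB)).toAlgebra
  haveI : IsScalarTower B CB E := .of_algebraMap_eq' rfl
  haveI : IsScalarTower A B E := IsScalarTower.of_algebraMap_eq fun a => by
    rw [IsScalarTower.algebraMap_apply A CB E, IsScalarTower.algebraMap_apply A B CB]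
    rfl
  let σB : B' →ₐ[A] E := Algebra.pushoutDesc B' (IsScalarTower.toAlgHom A A' E) (IsScalarTower.toAlgHom A B E) fun _ _ => Commute.all _ _
  letI : Algebra B' E := σB.toRingHom.toAlgebra
  haveI : IsScalarTower A' B' E := .of_algebraMap_eq fun a => (Algebra.pushoutDesc_left B' (IsScalarTower.toAlgHom A A' E) _ _ a).symm
  haveI : IsScalarTower B B' E := .of_algebraMap_eq fun b => (Algebra.pushoutDesc_right B' _ (IsScalarTower.toAlgHom A B E) _ b).symm
  haveI : Algebra.IsPushout B B' CB E := Groth.Flatmor4.isPushout_cancel (R := A) (R' := A')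
  letI : Algebra C E := ((algebraMap CB E).comp (algebraMap C CB)).toAlgebra
  haveI : IsScalarTower C CB E := .of_algebraMap_eq' rfl
  haveI : IsScalarTower A C E := IsScalarTower.of_algebraMap_eq fun a => by
    rw [IsScalarTower.algebraMap_apply A CB E, IsScalarTower.algebraMap_apply A C CB]
    rfl
  let C' := A' ⊗[A] C
  letI : Algebra C C' := Algebra.TensorProduct.rightAlgebra
  haveI : Algebra.IsPushout A A' C C' := inferInstance
  let σC : C' →ₐ[A] E := Algebra.pushoutDesc C' (IsScalarTower.toAlgHom A A' E) (IsScalarTower.toAlgHom A C E) fun _ _ => Commute.all _ _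
  letI : Algebra C' E := σC.toRingHom.toAlgebra
  haveI : IsScalarTower A' C' E := .of_algebraMap_eq fun a => (Algebra.pushoutDesc_left C' (IsScalarTower.toAlgHom A A' E) _ _ a).symm
  haveI : IsScalarTower C C' E := .of_algebraMap_eq fun c => (Algebra.pushoutDesc_right C' _ (IsScalarTower.toAlgHom A C E) _ c).symm
  haveI : Algebra.IsPushout C C' CB E := Groth.Flatmor4.isPushout_cancel (R := A) (R' := A')
  haveI : Module.Flat B' E := Module.Flat.of_linearEquiv (Algebra.IsPushout.equiv B B' CB E).symm.toLinearEquiv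
  haveI : Module.Flat C' E := Module.Flat.of_linearEquiv (Algebra.IsPushout.equiv C C' CB E).symm.toLinearEquiv
  -- modules
  letI : Algebra S E := ((algebraMap CB E).comp (algebraMap S CB)).toAlgebra
  haveI : IsScalarTower S CB E := .of_algebraMap_eq' rfl
  haveI : IsScalarTower S B E := IsScalarTower.of_algebraMap_eq fun s => by
    show algebraMap CB E (algebraMap S CB s) = _
    rw [IsScalarTower.algebraMap_apply S B CB]
    rfl
  haveI : IsScalarTower S C E := IsScalarTower.of_algebraMap_eq fun s => by
    show algebraMap CB E (algebraMap S CB s) = _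
    rw [IsScalarTower.algebraMap_apply S C CB]
    rfl
  obtain ⟨NE, _, _, _, _, gE, hgE⟩ := EtalePushout.exists_baseChange S E N
  letI : Module B NE := Module.compHom NE (algebraMap B E)
  haveI : IsScalarTower B E NE := IsScalarTower.of_algebraMap_smul fun _ _ => rfl
  haveI : IsScalarTower S B NE := IsScalarTower.of_algebraMap_smul fun s z => by
    rw [← algebraMap_smul E (algebraMap S B s) z, ← IsScalarTower.algebraMap_apply, algebraMap_smul]
  letI : Module C NE := Module.compHom NE (algebraMap C E)
  haveI : IsScalarTower C E NE := IsScalarTower.of_algebraMap_smul fun _ _ => rfl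
  haveI : IsScalarTower S C NE := IsScalarTower.of_algebraMap_smul fun s z => by
    rw [← algebraMap_smul E (algebraMap S C s) z, ← IsScalarTower.algebraMap_apply, algebraMap_smul]
  obtain ⟨gB, hgB⟩ := exists_lift hfN hgE
  obtain ⟨gC, hgC⟩ := exists_lift hfC hgE
  letI : Module B' NE := Module.compHom NE (algebraMap B' E)
  haveI : IsScalarTower B' E NE := IsScalarTower.of_algebraMap_smul fun _ _ => rfl
  haveI : IsScalarTower B B' NE := IsScalarTower.of_algebraMap_smul fun s z => by
    rw [← algebraMap_smul E (algebraMap B B' s) z, ← IsScalarTower.algebraMap_apply, algebraMap_smul]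
  obtain ⟨k, hk⟩ := exists_lift hf hgB
  let X := A' ⊗[A] NC
  letI : Module C X := Module.compHom X (algebraMap C C')
  haveI : IsScalarTower C C' X := IsScalarTower.of_algebraMap_smul fun _ _ => rfl
  let gX : NC →ₗ[C] X :=
    { toFun := fun z => (1 : A') ⊗ₜ[A] z
      map_add' := tmul_add _
      map_smul' := fun c z => by
        show (1 : A') ⊗ₜ[A] (c • z) = ((1 : A') ⊗ₜ[A] c) • ((1 : A') ⊗ₜ[A] z)
        simp }
  have hgX : IsBaseChange C' gX := TensorAction.isBaseChange_mk gX fun _ => rfl
  letI : Module C' NE := Module.compHom NE (algebraMap C' E)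
  haveI : IsScalarTower C' E NE := IsScalarTower.of_algebraMap_smul fun _ _ => rfl
  haveI : IsScalarTower C C' NE := IsScalarTower.of_algebraMap_smul fun s z => by
    rw [← algebraMap_smul E (algebraMap C C' s) z, ← IsScalarTower.algebraMap_apply, algebraMap_smul]
  obtain ⟨h, hh⟩ := exists_lift hgX hgC
  letI : Module A' NE := Module.compHom NE (algebraMap A' E)
  haveI : IsScalarTower A' E NE := IsScalarTower.of_algebraMap_smul fun _ _ => rfl
  constructor
  · intro hflat
    refine hI A' fun Q' _ hQ'1 hQ'2 => ?_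
    haveI : Q'.LiesOver x := ⟨hQ'2.symm⟩
    haveI : xB.LiesOver x := ⟨hxB2.symm⟩
    obtain ⟨y, _, hy1, hy2⟩ := exists_prime_pushout (R := C) (R' := C') (T := CB) (T' := E) x Q' xB
    have hQle : (maximalIdeal A').map (algebraMap A' B') ⊔ (maximalIdeal B).map (algebraMap B B') ≤
        y.comap (algebraMap B' E) := by
      refine sup_le (Ideal.map_le_iff_le_comap.mpr ?_) (Ideal.map_le_iff_le_comap.mpr ?_)
      · rw [Ideal.comap_comap, ← IsScalarTower.algebraMap_eq, IsScalarTower.algebraMap_eq A' C' E, ← Ideal.comap_comap, hy1]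
        exact hQ'1.ge
      · rw [Ideal.comap_comap, ← IsScalarTower.algebraMap_eq, IsScalarTower.algebraMap_eq B CB E, ← Ideal.comap_comap, hy2, hxB1]
    have h1 := (Groth.Agent.S1277.flatAt_iff_of_flat k hk (y.comap (algebraMap B' E)) y rfl).mp (hflat _ hQle)
    exact (FlatPred.flatAt_iff Q').mp ((Groth.Agent.S1277.flatAt_iff_of_flat h hh Q' y hy1).mpr h1)
  · intro hIA' Q _ hQ
    letI : Algebra (A ⧸ I) A' := (Ideal.Quotient.lift I (algebraMap A A') fun a ha => by
      rw [← Ideal.mem_bot, ← hIA']
      exact Ideal.mem_map_of_mem _ ha).toAlgebra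
    haveI : IsScalarTower A (A ⧸ I) A' := .of_algebraMap_eq fun a => rfl
    haveI : Module.Flat A' X := flat_tensor_of_flat (R₀ := A ⧸ I)
    haveI : Q.LiesOver (maximalIdeal B) := ⟨((maximalIdeal.isMaximal B).eq_of_le (Ideal.IsPrime.comap _).ne_top
      (Ideal.map_le_iff_le_comap.mp (le_sup_right.trans hQ)))⟩
    haveI : xB.LiesOver (maximalIdeal B) := ⟨hxB1.symm⟩
    obtain ⟨y, _, hy1, -⟩ := exists_prime_pushout (R := B) (R' := B') (T := CB) (T' := E) (maximalIdeal B) Q xB
    have h1 : FlatCA.FlatAt A' (y.comap (algebraMap C' E)) X := Groth.FlatMorOne.flat_localized_of_flat _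
    exact (Groth.Agent.S1277.flatAt_iff_of_flat k hk Q y hy1).mpr
      ((Groth.Agent.S1277.flatAt_iff_of_flat h hh _ y rfl).mp h1)

end Groth.RaynaudGruson.FlatLocusHensel
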