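import Mathlib

/-!
The ideal cutting out flatness of the middle term of `F → M → L → 0` when `F` is free and `L` is flat
modulo a given ideal.
-/

set_option autoImplicit false
set_option linter.style.haveILetI false
universe u

open TensorProduct

namespace Groth.RaynaudGruson.ContentIdeal

/-- An extension of flat modules is flat. -/
theorem flat_middle {A N P Q : Type u} [CommRing A] [AddCommGroup N] [Module A N] [AddCommGroup P] [Module A P]
    [AddCommGroup Q] [Module A Q] [Module.Flat A N] [Module.Flat A Q] (u : N →ₗ[A] P) (v : P →ₗ[A] Q)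
    (hu : Function.Injective u) (huv : Function.Exact u v) (hv : Function.Surjective v) : Module.Flat A P := by
  rw [Module.Flat.iff_lTensor_injective]
  intro I _
  refine (injective_iff_map_eq_zero _).mpr fun z hz => ?_
  have h1 : v.rTensor I z = 0 := by
    refine Module.Flat.lTensor_preserves_injective_linearMap (M := Q) I.subtype I.injective_subtype ?_
    rw [map_zero, ← LinearMap.comp_apply, LinearMap.lTensor_comp_rTensor, ← LinearMap.rTensor_comp_lTensor,
      LinearMap.comp_apply, hz, map_zero]
  obtain ⟨w, rfl⟩ := (rTensor_exact I huv hv z).mp h1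
  have h2 : u.rTensor A (I.subtype.lTensor N w) = 0 := by
    rw [← LinearMap.comp_apply, LinearMap.rTensor_comp_lTensor, ← LinearMap.lTensor_comp_rTensor,
      LinearMap.comp_apply, hz]
  have h3 : I.subtype.lTensor N w = 0 :=
    Module.Flat.rTensor_preserves_injective_linearMap (M := A) u hu (h2.trans (map_zero _).symm)
  rw [Module.Flat.lTensor_preserves_injective_linearMap (M := N) I.subtype I.injective_subtype
    (h3.trans (map_zero _).symm), map_zero]

/-- If the cokernel is flat, injectivity after base change is cut out by the contents of the kernel. -/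
theorem exists_ideal_injective {R F M L : Type u} [CommRing R] [AddCommGroup F] [Module R F] [Module.Free R F]
    [AddCommGroup M] [Module R M] [AddCommGroup L] [Module R L] [Module.Flat R L] (α : F →ₗ[R] M) (π : M →ₗ[R] L)
    (hex : Function.Exact α π) (hπ : Function.Surjective π) :
    ∃ I : Ideal R, Function.Injective (α.lTensor (R ⧸ I)) ∧
      ∀ (A' : Type u) [CommRing A'] [Algebra R A'], Function.Injective (α.lTensor A') → I.map (algebraMap R A') = ⊥ := by
  classical
  let b := Module.Free.chooseBasis R F
  let I : Ideal R := Ideal.span {a | ∃ k ∈ LinearMap.ker α, ∃ i, b.repr k i = a}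
  refine ⟨I, ?_, fun A' _ _ hinj => ?_⟩
  · let p : F →ₗ[R] LinearMap.range α := α.rangeRestrict
    have hp : Function.Exact (LinearMap.ker α).subtype p := by
      rw [LinearMap.exact_iff, LinearMap.ker_rangeRestrict, Submodule.range_subtype]
    have hι : Function.Injective ((LinearMap.range α).subtype.lTensor (R ⧸ I)) :=
      LinearMap.lTensor_injective_of_exact_of_flat π hπ (LinearMap.range α).subtype Subtype.val_injective
        (LinearMap.exact_iff.mpr (by rw [Submodule.range_subtype, LinearMap.exact_iff.mp hex])) _
    have hzero : (LinearMap.ker α).subtype.lTensor (R ⧸ I) = 0 := by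
      refine TensorProduct.ext' fun c k => ?_
      rw [LinearMap.lTensor_tmul, LinearMap.zero_apply, Submodule.subtype_apply, ← b.linearCombination_repr (k : F),
        Finsupp.linearCombination_apply, Finsupp.sum, TensorProduct.tmul_sum]
      refine Finset.sum_eq_zero fun i _ => ?_
      have hmem : b.repr (k : F) i ∈ I := Ideal.subset_span ⟨k, k.2, i, rfl⟩
      rw [← TensorProduct.smul_tmul, Algebra.smul_def, Ideal.Quotient.algebraMap_eq,
        Ideal.Quotient.eq_zero_iff_mem.mpr hmem, zero_mul, zero_tmul]
    have hpinj : Function.Injective (p.lTensor (R ⧸ I)) := by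
      refine (injective_iff_map_eq_zero _).mpr fun z hz => ?_
      obtain ⟨w, rfl⟩ := (lTensor_exact (R ⧸ I) hp α.surjective_rangeRestrict z).mp hz
      rw [hzero, LinearMap.zero_apply]
    have : α = (LinearMap.range α).subtype ∘ₗ p := rfl
    rw [this, LinearMap.lTensor_comp, LinearMap.coe_comp]
    exact hι.comp hpinj
  · rw [Ideal.map_span, Ideal.span_eq_bot]
    rintro _ ⟨a, ⟨k, hk, i, rfl⟩, rfl⟩
    have h1 : (1 : A') ⊗ₜ[R] k = 0 := hinj (by rw [LinearMap.lTensor_tmul, LinearMap.mem_ker.mp hk, tmul_zero, map_zero])
    have h2 : (b.baseChange A').repr ((1 : A') ⊗ₜ[R] k) i = 0 := by rw [h1, map_zero, Finsupp.zero_apply]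
    rwa [Module.Basis.baseChange_repr_tmul, ← Algebra.algebraMap_eq_smul_one] at h2

/-- The same relative to an ideal modulo which the cokernel is flat. -/
theorem exists_ideal_step {A F M L : Type u} [CommRing A] [AddCommGroup F] [Module A F] [Module.Free A F]
    [AddCommGroup M] [Module A M] [AddCommGroup L] [Module A L] (α : F →ₗ[A] M) (π : M →ₗ[A] L)
    (hex : Function.Exact α π) (hπ : Function.Surjective π) (J : Ideal A)
    [Module.Flat (A ⧸ J) ((A ⧸ J) ⊗[A] L)] :
    ∃ I : Ideal A, Module.Flat (A ⧸ I) ((A ⧸ I) ⊗[A] M) ∧
      ∀ (A' : Type u) [CommRing A'] [Algebra A A'], J.map (algebraMap A A') = ⊥ →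
        Function.Injective (α.lTensor A') → I.map (algebraMap A A') = ⊥ := by
  classical
  let R := A ⧸ J
  haveI : Module.Free R (R ⊗[A] F) := inferInstance
  have hπR : Function.Surjective (π.baseChange R) := LinearMap.lTensor_surjective R hπ
  have hexR : Function.Exact (α.baseChange R) (π.baseChange R) := lTensor_exact R hex hπ
  obtain ⟨I₀, hI₀, hI₀'⟩ := exists_ideal_injective (α.baseChange R) (π.baseChange R) hexR hπR
  let I := I₀.comap (Ideal.Quotient.mk J)
  have natural : ∀ (T : Type u) [CommRing T] [Algebra A T] [Algebra R T] [IsScalarTower A R T]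
      (z : T ⊗[R] (R ⊗[A] F)),
      AlgebraTensorModule.cancelBaseChange A R T T M ((α.baseChange R).lTensor T z) =
        α.lTensor T (AlgebraTensorModule.cancelBaseChange A R T T F z) := by
    intro T _ _ _ _ z
    induction z with
    | zero => simp
    | add a b ha hb => simp only [map_add, ha, hb]
    | tmul t w =>
      induction w with
      | zero => simp
      | add a b ha hb => simp only [tmul_add, map_add, ha, hb]
      | tmul c f => simp [smul_tmul']
  have hI : I₀.comap (Ideal.Quotient.mk J) = I := rfl
  refine ⟨I, ?_, fun A' _ _ hJ hinj => ?_⟩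
  · let T := A ⧸ I
    have hJI : J ≤ I := fun a ha => by
      show Ideal.Quotient.mk J a ∈ I₀
      rw [Ideal.Quotient.eq_zero_iff_mem.mpr ha]
      exact zero_mem _
    letI : Algebra R T := (Ideal.Quotient.factor hJI).toAlgebra
    haveI : IsScalarTower A R T := .of_algebraMap_eq fun a => rfl
    have hinjT : Function.Injective (α.lTensor T) := by
      let ψ : R ⧸ I₀ →+* T := Ideal.Quotient.lift I₀ (algebraMap R T) (by
        intro x hx
        obtain ⟨a, rfl⟩ := Ideal.Quotient.mk_surjective x
        exact Ideal.Quotient.eq_zero_iff_mem.mpr hx)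
      have hψ : Function.Bijective ψ := by
        refine ⟨(injective_iff_map_eq_zero ψ).mpr fun x hx => ?_, fun y => ?_⟩
        · obtain ⟨x, rfl⟩ := Ideal.Quotient.mk_surjective x
          obtain ⟨a, rfl⟩ := Ideal.Quotient.mk_surjective x
          exact Ideal.Quotient.eq_zero_iff_mem.mpr (Ideal.Quotient.eq_zero_iff_mem.mp hx : a ∈ I)
        · obtain ⟨a, rfl⟩ := Ideal.Quotient.mk_surjective y
          exact ⟨Ideal.Quotient.mk I₀ (Ideal.Quotient.mk J a), rfl⟩
      let eψ : (R ⧸ I₀) ≃ₗ[R] T := LinearEquiv.ofBijective
        { toFun := ψ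
          map_add' := map_add ψ
          map_smul' := fun r x => by
            rw [Algebra.smul_def, map_mul, RingHom.id_apply, Algebra.smul_def]
            rfl } hψ
      have h1 : Function.Injective ((α.baseChange R).lTensor T) := by
        intro x y hxy
        obtain ⟨x, rfl⟩ := (eψ.rTensor (R ⊗[A] F)).surjective x
        obtain ⟨y, rfl⟩ := (eψ.rTensor (R ⊗[A] F)).surjective y
        refine congrArg _ (hI₀ ((eψ.rTensor (R ⊗[A] M)).injective ?_))
        show eψ.toLinearMap.rTensor (R ⊗[A] M) ((α.baseChange R).lTensor (R ⧸ I₀) x) =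
          eψ.toLinearMap.rTensor (R ⊗[A] M) ((α.baseChange R).lTensor (R ⧸ I₀) y)
        rw [← LinearMap.comp_apply, LinearMap.rTensor_comp_lTensor, ← LinearMap.lTensor_comp_rTensor,
          ← LinearMap.comp_apply, LinearMap.rTensor_comp_lTensor, ← LinearMap.lTensor_comp_rTensor]
        exact hxy
      intro x y hxy
      obtain ⟨x, rfl⟩ := (AlgebraTensorModule.cancelBaseChange A R T T F).surjective x
      obtain ⟨y, rfl⟩ := (AlgebraTensorModule.cancelBaseChange A R T T F).surjective y
      rw [← natural, ← natural] at hxy
      exact congrArg _ (h1 ((AlgebraTensorModule.cancelBaseChange A R T T M).injective hxy))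
    haveI : Module.Flat T (T ⊗[R] (R ⊗[A] L)) := inferInstance
    haveI : Module.Flat T (T ⊗[A] L) :=
      Module.Flat.of_linearEquiv (AlgebraTensorModule.cancelBaseChange A R T T L).symm
    exact flat_middle (α.baseChange T) (π.baseChange T) hinjT (lTensor_exact T hex hπ)
      (LinearMap.lTensor_surjective T hπ)
  · letI : Algebra R A' := (Ideal.Quotient.lift J (algebraMap A A') fun a ha => by
      rw [← Ideal.mem_bot, ← hJ]
      exact Ideal.mem_map_of_mem _ ha).toAlgebra
    haveI : IsScalarTower A R A' := .of_algebraMap_eq fun a => rfl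
    have h1 : Function.Injective ((α.baseChange R).lTensor A') := by
      intro x y hxy
      refine (AlgebraTensorModule.cancelBaseChange A R A' A' F).injective (hinj ?_)
      rw [← natural, ← natural, hxy]
    have h2 := hI₀' A' h1
    rw [eq_bot_iff, Ideal.map_le_iff_le_comap]
    intro a ha
    have h3 := Ideal.mem_map_of_mem (algebraMap R A') (show Ideal.Quotient.mk J a ∈ I₀ from ha)
    rw [h2] at h3
    exact h3

end Groth.RaynaudGruson.ContentIdeal
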