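import Groth.Agent.RaynaudGruson.FlatFibreAss
import Groth.Agent.FlatMorOne.FlatLocusScheme
import Groth.Agent.FlatMor2.FibreGenericAss.Main
import Mathlib

/-!
Flatness of a finite type quasi-coherent module at a point from flatness at the relative associated points of its
fibre generizing it.
-/

set_option autoImplicit false
set_option linter.style.haveILetI false
universe u

open CategoryTheory AlgebraicGeometry IsLocalRing TopologicalSpace

namespace Groth.RaynaudGruson.FlatFibreAss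

variable {X S : Scheme.{u}} (f : X ⟶ S) (F : X.Modules)

/-- The maximal ideal of the base, pushed to a stalk and intersected with sections. -/
theorem germ_mem_iff [F.IsQuasicoherent] {O : S.Opens} (hO : IsAffineOpen O) {W : X.Opens} (hW : IsAffineOpen W) (e : W ≤ f ⁻¹ᵁ O)
    (x : X) (hx : x ∈ W) (t : Γ(F, W)) :
    letI := (f.appLE O W e).hom.toAlgebra
    Groth.QCohMod.germ F x hx t ∈ Ideal.map (f.stalkMap x).hom (maximalIdeal (S.presheaf.stalk (f x))) •
          (⊤ : Submodule (X.presheaf.stalk x) (F.presheaf.stalk x)) ↔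
        ∃ c ∉ (hW.primeIdealOf ⟨x, hx⟩).asIdeal, c • t ∈
          (hO.primeIdealOf ⟨f x, e hx⟩).asIdeal.map (algebraMap Γ(S, O) Γ(X, W)) •
            (⊤ : Submodule Γ(X, W) Γ(F, W)) := by
  letI := (f.appLE O W e).hom.toAlgebra
  letI := Groth.QCohMod.stalkModule F x hx
  letI : Algebra Γ(X, W) (X.presheaf.stalk x) :=
    TopCat.Presheaf.algebra_section_stalk X.presheaf ⟨x, hx⟩
  haveI : IsLocalization.AtPrime (X.presheaf.stalk x) (hW.primeIdealOf ⟨x, hx⟩).asIdeal :=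
    hW.isLocalization_stalk ⟨x, hx⟩
  letI : Algebra Γ(S, O) (S.presheaf.stalk (f x)) :=
    TopCat.Presheaf.algebra_section_stalk S.presheaf ⟨f x, e hx⟩
  haveI : IsLocalization.AtPrime (S.presheaf.stalk (f x)) (hO.primeIdealOf ⟨f x, e hx⟩).asIdeal :=
    hO.isLocalization_stalk ⟨f x, e hx⟩
  haveI : IsScalarTower Γ(X, W) (X.presheaf.stalk x) (F.presheaf.stalk x) :=
    IsScalarTower.of_compHom _ _ _
  haveI := Groth.QCohMod.isLocalizedModule_germ F hW x hx
  have hJ : Ideal.map (f.stalkMap x).hom (maximalIdeal (S.presheaf.stalk (f x))) =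
      ((hO.primeIdealOf ⟨f x, e hx⟩).asIdeal.map (algebraMap Γ(S, O) Γ(X, W))).map
        (algebraMap Γ(X, W) (X.presheaf.stalk x)) := by
    rw [← IsLocalization.AtPrime.map_eq_maximalIdeal (hO.primeIdealOf ⟨f x, e hx⟩).asIdeal
      (S.presheaf.stalk (f x)), Ideal.map_map, Ideal.map_map]
    congr 1
    refine RingHom.ext fun r => ?_
    show f.stalkMap x (S.presheaf.germ O (f x) (e hx) r) = X.presheaf.germ W x hx (f.appLE O W e r)
    rw [Scheme.Hom.germ_stalkMap_apply, Scheme.Hom.appLE]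
    exact (TopCat.Presheaf.germ_res_apply X.presheaf (homOfLE e) x hx _).symm
  rw [hJ]
  exact Groth.FlatMor2.FibreGenericAss.mem_map_smul_top_iff (hW.primeIdealOf ⟨x, hx⟩).asIdeal
    (Groth.QCohMod.germₗ F x hx) _ t

/-- **Flatness from the relative associated points.** -/
theorem isFlatOverAt_of_relAss [LocallyOfFiniteType f] [Coh.IsQCoh F] (hF : CohB1.IsFT F) (x : X)
    (h : ∀ y : X, y ⤳ x → f y = f x → y ∈ MoreMor.relAss f F → FlatMod.IsFlatOverAt f F y) :
    FlatMod.IsFlatOverAt f F x := by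
  haveI : F.IsQuasicoherent := inferInstance
  obtain ⟨O, hO, hsO, -⟩ := exists_isAffineOpen_mem_and_subset (U := (⊤ : S.Opens)) (x := f x) trivial
  obtain ⟨W, hW, hxW, hWO⟩ := exists_isAffineOpen_mem_and_subset (U := f ⁻¹ᵁ O) (x := x) hsO
  have e : W ≤ f ⁻¹ᵁ O := hWO
  letI : Algebra Γ(S, O) Γ(X, W) := (f.appLE O W e).hom.toAlgebra
  haveI : Algebra.FiniteType Γ(S, O) Γ(X, W) := f.finiteType_appLE hO hW e
  haveI : Module.Finite Γ(X, W) Γ(F, W) := Groth.QCohMod.finite_sections F hF hW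
  letI := Groth.Flatmor4.sectionModule f F e
  haveI : IsScalarTower Γ(S, O) Γ(X, W) Γ(F, W) := .of_algebraMap_smul fun _ _ => rfl
  have hcomap : ∀ y (hy : y ∈ W), (hW.primeIdealOf ⟨y, hy⟩).asIdeal.comap (algebraMap Γ(S, O) Γ(X, W)) =
      (hO.primeIdealOf ⟨f y, e hy⟩).asIdeal :=
    fun y hy => congrArg PrimeSpectrum.asIdeal (IsAffineOpen.comap_primeIdealOf_appLE O hO W hW e hy)
  refine (Groth.FlatMorOne.isFlatOverAt_iff_localized f F hW hO e ⟨x, hxW⟩).mpr
    (flat_localized Γ(F, W) _ fun P _ hPq hPp t ht => ?_)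
  let y : X := hW.fromSpec ⟨P, inferInstance⟩
  have hyx : y ⤳ x := by
    have h1 : (⟨P, inferInstance⟩ : PrimeSpectrum Γ(X, W)) ⤳ hW.primeIdealOf ⟨x, hxW⟩ :=
      (PrimeSpectrum.le_iff_specializes _ _).mp hPq
    have h2 := h1.map hW.fromSpec.continuous
    rwa [hW.fromSpec_primeIdealOf] at h2
  have hyW : y ∈ W := hyx.mem_open W.isOpen hxW
  have hPy : hW.primeIdealOf ⟨y, hyW⟩ = ⟨P, inferInstance⟩ :=
    hW.fromSpec.isOpenEmbedding.injective (hW.fromSpec_primeIdealOf ⟨y, hyW⟩)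
  have hpy : (hO.primeIdealOf ⟨f y, e hyW⟩).asIdeal = (hO.primeIdealOf ⟨f x, e hxW⟩).asIdeal := by
    rw [← hcomap y hyW, ← hcomap x hxW, hPy]
    exact hPp
  have hfy : f y = f x := by
    have h1 : hO.fromSpec (hO.primeIdealOf ⟨f y, e hyW⟩) = hO.fromSpec (hO.primeIdealOf ⟨f x, e hxW⟩) :=
      congrArg _ (PrimeSpectrum.ext hpy)
    rwa [hO.fromSpec_primeIdealOf, hO.fromSpec_primeIdealOf] at h1
  have hPy' : P = (hW.primeIdealOf ⟨y, hyW⟩).asIdeal := (congrArg PrimeSpectrum.asIdeal hPy).symm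
  have hflat : FlatMod.IsFlatOverAt f F y → Module.Flat Γ(S, O) (LocalizedModule P.primeCompl Γ(F, W)) :=
    fun hy => (show ∀ (Q : Ideal Γ(X, W)) [Q.IsPrime], Q = P → Module.Flat Γ(S, O) (LocalizedModule Q.primeCompl Γ(F, W)) →
        Module.Flat Γ(S, O) (LocalizedModule P.primeCompl Γ(F, W)) from fun Q _ e' h' => by subst e'; exact h') _
      hPy'.symm ((Groth.FlatMorOne.isFlatOverAt_iff_localized f F hW hO e ⟨y, hyW⟩).mp hy)
  refine hflat (h y hyx hfy ?_)
  rw [hcomap x hxW, ← hpy] at ht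
  obtain ⟨ht1, ht2⟩ := ht
  have hmem : ∀ s : Γ(F, W), (Submodule.Quotient.mk (Groth.QCohMod.germ F y hyW s) :
      F.presheaf.stalk y ⧸ Ideal.map (f.stalkMap y).hom (maximalIdeal (S.presheaf.stalk (f y))) •
        (⊤ : Submodule (X.presheaf.stalk y) (F.presheaf.stalk y))) = 0 ↔ ∃ c ∉ P, c • s ∈
      (hO.primeIdealOf ⟨f y, e hyW⟩).asIdeal.map (algebraMap Γ(S, O) Γ(X, W)) •
            (⊤ : Submodule Γ(X, W) Γ(F, W)) := fun s => by
    rw [Submodule.Quotient.mk_eq_zero, germ_mem_iff f F hO hW e y hyW s, ← hPy']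
  refine ⟨(IsLocalRing.maximalIdeal.isMaximal _).isPrime,
    Submodule.Quotient.mk (Groth.QCohMod.germ F y hyW t), le_antisymm ?_ ?_⟩
  · letI : Algebra Γ(X, W) (X.presheaf.stalk y) := TopCat.Presheaf.algebra_section_stalk X.presheaf ⟨y, hyW⟩
    haveI : IsLocalization.AtPrime (X.presheaf.stalk y) (hW.primeIdealOf ⟨y, hyW⟩).asIdeal :=
      hW.isLocalization_stalk ⟨y, hyW⟩
    rw [← IsLocalization.AtPrime.map_eq_maximalIdeal (hW.primeIdealOf ⟨y, hyW⟩).asIdeal (X.presheaf.stalk y),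
      Ideal.map_le_iff_le_comap, ← hPy']
    intro r hr
    obtain ⟨n, c, hc, hcn⟩ := ht2 r hr
    refine ⟨n, ?_⟩
    rw [Submodule.mem_colon_singleton, Submodule.mem_bot, ← Submodule.Quotient.mk_smul, ← map_pow]
    show Submodule.Quotient.mk (X.presheaf.germ W y hyW (r ^ n) • Groth.QCohMod.germ F y hyW t) = 0
    rw [← Groth.QCohMod.germ_smul, hmem]
    exact ⟨c, hc, by rwa [← mul_smul]⟩
  · refine IsLocalRing.le_maximalIdeal fun h1 => ?_
    rw [Ideal.radical_eq_top, Ideal.eq_top_iff_one, Submodule.mem_colon_singleton, Submodule.mem_bot, one_smul,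
      hmem] at h1
    obtain ⟨c, hc, hct⟩ := h1
    exact ht1 c hc hct

/-- Flatness over the base passes to generizations. -/
theorem isFlatOverAt_of_specializes [F.IsQuasicoherent] {x y : X} (hyx : y ⤳ x) (hx : FlatMod.IsFlatOverAt f F x) :
    FlatMod.IsFlatOverAt f F y := by
  obtain ⟨O, hO, hsO, -⟩ := exists_isAffineOpen_mem_and_subset (U := (⊤ : S.Opens)) (x := f x) trivial
  obtain ⟨W, hW, hxW, hWO⟩ := exists_isAffineOpen_mem_and_subset (U := f ⁻¹ᵁ O) (x := x) hsO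
  have e : W ≤ f ⁻¹ᵁ O := hWO
  have hyW : y ∈ W := hyx.mem_open W.isOpen hxW
  letI : Algebra Γ(S, O) Γ(X, W) := (f.appLE O W e).hom.toAlgebra
  letI := Groth.Flatmor4.sectionModule f F e
  haveI : IsScalarTower Γ(S, O) Γ(X, W) Γ(F, W) := .of_algebraMap_smul fun _ _ => rfl
  refine (Groth.FlatMorOne.isFlatOverAt_iff_localized f F hW hO e ⟨y, hyW⟩).mpr ?_
  have h1 := (Groth.FlatMorOne.isFlatOverAt_iff_localized f F hW hO e ⟨x, hxW⟩).mp hx
  refine (FlatPred.flat_iff _).mpr (((FlatPred.flat_iff _).mp h1).mono fun b hb hby => ?_)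
  exact (Groth.QCohMod.mem_basicOpen_iff_notMem_primeIdealOf hW b y hyW).mp
    (hyx.mem_open (X.basicOpen b).isOpen ((Groth.QCohMod.mem_basicOpen_iff_notMem_primeIdealOf hW b x hxW).mpr hb)) hby

end Groth.RaynaudGruson.FlatFibreAss
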