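import Groth.Agent.RaynaudGruson.FlatClosureAss
import Groth.Agent.RaynaudGruson.FlatFibreAssScheme
import Groth.Agent.FlatMor2.StalkTrdeg
import Groth.Agent.FibreDim.DimensionFormulaScheme
import Mathlib

/-!
The relative assassin read off affine charts.
-/

set_option autoImplicit false
set_option linter.style.haveILetI false
universe u

open TensorProduct CategoryTheory AlgebraicGeometry IsLocalRing

namespace Groth.RaynaudGruson.RelAssWitness

attribute [local instance] Algebra.TensorProduct.rightAlgebra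

section Ring

variable {A B : Type u} [CommRing A] [CommRing B] [Algebra A B] [Algebra.FiniteType A B]
  (N : Type u) [AddCommGroup N] [Module B N] [Module A N] [IsScalarTower A B N] [Module.Finite B N]
  (p : Ideal A) [p.IsPrime] (P : Ideal B) [P.IsPrime] [P.LiesOver p]

omit [Algebra.FiniteType A B] [Module.Finite B N] [P.IsPrime] [P.LiesOver p] [p.IsPrime] in
theorem mem_map_smul_iff (x : N) :
    x ∈ p.map (algebraMap A B) • (⊤ : Submodule B N) ↔ x ∈ p • (⊤ : Submodule A N) := by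
  rw [← Submodule.restrictScalars_mem A, Ideal.smul_restrictScalars, Submodule.restrictScalars_top]

omit [Algebra.FiniteType A B] [Module.Finite B N] [P.IsPrime] [P.LiesOver p] in
theorem tmul_one_eq_zero_iff (x : N) :
    x ⊗ₜ[A] (1 : p.ResidueField) = 0 ↔ ∃ a : A, a ∉ p ∧ a • x ∈ p • (⊤ : Submodule A N) := by
  constructor
  · exact fun h => Groth.SchDom.exists_smul_mem_of_tmul_one_eq_zero p x h
  · rintro ⟨a, ha, hax⟩
    have h0 : ∀ y ∈ p • (⊤ : Submodule A N), y ⊗ₜ[A] (1 : p.ResidueField) = 0 := fun y hy => by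
      refine Submodule.smul_induction_on hy (fun r hr m _ => ?_) fun u v hu hv => by
        rw [add_tmul, hu, hv, add_zero]
      rw [smul_tmul, Algebra.smul_def, Ideal.algebraMap_residueField_eq_zero.mpr hr, zero_mul, tmul_zero]
    have h1 := h0 _ hax
    rw [smul_tmul, Algebra.smul_def, mul_one] at h1
    have hu : IsUnit (algebraMap A p.ResidueField a) :=
      isUnit_iff_ne_zero.mpr fun h => ha (Ideal.algebraMap_residueField_eq_zero.mp h)
    obtain ⟨w, hw⟩ := hu
    have h2 := congrArg (LinearMap.lTensor N (LinearMap.mulLeft A (↑w⁻¹ : p.ResidueField))) h1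
    rwa [LinearMap.lTensor_tmul, map_zero, LinearMap.mulLeft_apply, ← hw, Units.inv_mul] at h2

theorem isWitness_iff :
    (∃ t : N, FlatFibreAss.IsWitness N p P t) ↔
      FlatCA.fiberIdeal p P ∈ associatedPrimes (p.Fiber B) (FlatCA.fiberMod p B N) := by
  have hPa : ∀ a : A, a ∉ p → algebraMap A B a ∉ P := fun a ha h => ha (by
    rw [Ideal.LiesOver.over (p := p) (P := P)]; exact h)
  constructor
  · rintro ⟨t, h1, h2⟩
    rw [WeakAssFlatAt.fiberIdeal_mem_associatedPrimes_iff N p P, Calg5.mem_weakAss_iff]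
    refine ⟨inferInstance, t ⊗ₜ[A] (1 : p.ResidueField), fun s hs => ?_, fun s hs => ?_⟩
    · rw [smul_tmul', tmul_one_eq_zero_iff N p] at hs
      obtain ⟨a, ha, hax⟩ := hs
      by_contra hsP
      refine h1 (algebraMap A B a * s) (Ideal.IsPrime.mul_notMem ‹_› (hPa a ha) hsP) ?_
      rw [mem_map_smul_iff N p, mul_smul, algebraMap_smul]
      exact hax
    · obtain ⟨n, c, hc, hcn⟩ := h2 s hs
      refine ⟨c, hc, n, ?_⟩
      rw [smul_tmul', tmul_one_eq_zero_iff N p]
      exact ⟨1, p.primeCompl.one_mem, by rw [one_smul, ← mem_map_smul_iff (B := B) N p]; exact hcn⟩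
  · intro hP
    obtain ⟨z, hz⟩ := FlatClosureAss.exists_ann_eq N p P hP
    obtain ⟨a, ha, t, ht⟩ : ∃ a : A, a ∉ p ∧ ∃ t : N, algebraMap A B a • z = t ⊗ₜ[A] (1 : p.ResidueField) := by
      clear hz
      induction z with
      | zero => exact ⟨1, p.primeCompl.one_mem, 0, by rw [smul_zero, zero_tmul]⟩
      | add x y hx hy =>
        obtain ⟨a, ha, u, hu⟩ := hx
        obtain ⟨b, hb, v, hv⟩ := hy
        refine ⟨a * b, Ideal.IsPrime.mul_notMem ‹_› ha hb, b • u + a • v, ?_⟩
        rw [add_tmul, map_mul, smul_add]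
        conv_lhs => rw [mul_smul (algebraMap A B a), mul_smul (algebraMap A B a), smul_comm, hu, hv]
        rw [algebraMap_smul, algebraMap_smul, smul_tmul', smul_tmul']
      | tmul n k =>
        obtain ⟨k, rfl⟩ := IsLocalRing.residue_surjective (R := Localization.AtPrime p) k
        obtain ⟨a, s, rfl⟩ := IsLocalization.exists_mk'_eq p.primeCompl k
        refine ⟨s, s.2, a • n, ?_⟩
        rw [algebraMap_smul, smul_tmul', smul_tmul, smul_tmul (R' := A) a n]
        congr 1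
        rw [Algebra.smul_def, Algebra.smul_def, mul_one, IsScalarTower.algebraMap_apply A (Localization.AtPrime p)
          p.ResidueField, IsScalarTower.algebraMap_apply A (Localization.AtPrime p) p.ResidueField]
        show IsLocalRing.residue _ (algebraMap A _ (s : A)) * IsLocalRing.residue _ _ = IsLocalRing.residue _ _
        rw [← map_mul, IsLocalization.mk'_spec']
    have hz' : ∀ s : B, s • (t ⊗ₜ[A] (1 : p.ResidueField)) = 0 ↔ s ∈ P := fun s => by
      rw [← ht, ← mul_smul, hz]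
      exact ⟨fun h => (Ideal.IsPrime.mem_or_mem ‹_› h).resolve_right (hPa a ha), fun h => P.mul_mem_right _ h⟩
    refine ⟨t, fun c hc hct => hc ((hz' c).mp ?_), fun r hr => ?_⟩
    · rw [smul_tmul', tmul_one_eq_zero_iff N p]
      exact ⟨1, p.primeCompl.one_mem, by rw [one_smul]; exact (mem_map_smul_iff N p _).mp hct⟩
    · have h := (hz' r).mpr hr
      rw [smul_tmul', tmul_one_eq_zero_iff N p] at h
      obtain ⟨b, hb, hbr⟩ := h
      refine ⟨1, algebraMap A B b, hPa b hb, ?_⟩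
      rw [pow_one, mul_smul, algebraMap_smul, mem_map_smul_iff N p]
      exact hbr

end Ring

variable {X S : Scheme.{u}} (f : X ⟶ S) (F : X.Modules)

/-- The relative assassin on an affine chart. -/
theorem mem_relAss_iff_witness [F.IsQuasicoherent] {O : S.Opens} (hO : IsAffineOpen O) {W : X.Opens}
    (hW : IsAffineOpen W) (e : W ≤ f ⁻¹ᵁ O) (x : X) (hx : x ∈ W) :
    letI := (f.appLE O W e).hom.toAlgebra
    x ∈ MoreMor.relAss f F ↔ ∃ t : Γ(F, W),
      FlatFibreAss.IsWitness Γ(F, W) (hO.primeIdealOf ⟨f x, e hx⟩).asIdeal (hW.primeIdealOf ⟨x, hx⟩).asIdeal t := by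
  letI := (f.appLE O W e).hom.toAlgebra
  letI := Groth.QCohMod.stalkModule F x hx
  letI : Algebra Γ(X, W) (X.presheaf.stalk x) := TopCat.Presheaf.algebra_section_stalk X.presheaf ⟨x, hx⟩
  haveI : IsLocalization.AtPrime (X.presheaf.stalk x) (hW.primeIdealOf ⟨x, hx⟩).asIdeal :=
    hW.isLocalization_stalk ⟨x, hx⟩
  haveI : IsScalarTower Γ(X, W) (X.presheaf.stalk x) (F.presheaf.stalk x) := .of_algebraMap_smul fun _ _ => rfl
  haveI := Groth.QCohMod.isLocalizedModule_germ F hW x hx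
  set P := (hW.primeIdealOf ⟨x, hx⟩).asIdeal
  set p := (hO.primeIdealOf ⟨f x, e hx⟩).asIdeal
  let J : Submodule (X.presheaf.stalk x) (F.presheaf.stalk x) :=
    Ideal.map (f.stalkMap x).hom (maximalIdeal (S.presheaf.stalk (f x))) • ⊤
  let g := Groth.QCohMod.germₗ F x hx
  have hg : ∀ t : Γ(F, W), g t ∈ J ↔ ∃ c ∉ P, c • t ∈ p.map (algebraMap Γ(S, O) Γ(X, W)) •
      (⊤ : Submodule Γ(X, W) Γ(F, W)) := fun t => FlatFibreAss.germ_mem_iff f F hO hW e x hx t
  constructor
  · rintro ⟨-, u, hu⟩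
    obtain ⟨u, rfl⟩ := Submodule.Quotient.mk_surjective _ u
    obtain ⟨⟨t, s⟩, hs⟩ := IsLocalizedModule.surj P.primeCompl g u
    have hc : ∀ b : Γ(X, W), algebraMap Γ(X, W) (X.presheaf.stalk x) b ∈
        (⊥ : Submodule (X.presheaf.stalk x) _).colon {(Submodule.Quotient.mk u : F.presheaf.stalk x ⧸ J)} ↔
        g (b • t) ∈ J := fun b => by
      rw [Submodule.mem_colon_singleton, Submodule.mem_bot, ← Submodule.Quotient.mk_smul, Submodule.Quotient.mk_eq_zero,
        map_smul, ← hs, Submonoid.smul_def, ← algebraMap_smul (X.presheaf.stalk x) (s : Γ(X, W)) u,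
        ← algebraMap_smul (X.presheaf.stalk x) b, smul_comm,
        Submodule.smul_mem_iff_of_isUnit _ (IsLocalization.map_units (X.presheaf.stalk x) s)]
    refine ⟨t, fun c hcP hct => ?_, fun r hr => ?_⟩
    · refine hcP ((IsLocalization.AtPrime.to_map_mem_maximal_iff (X.presheaf.stalk x) P c).mp ?_)
      rw [hu]
      exact Ideal.le_radical ((hc c).mpr ((hg _).mpr ⟨1, P.primeCompl.one_mem, by rwa [one_smul]⟩))
    · have h1 : algebraMap Γ(X, W) (X.presheaf.stalk x) r ∈ maximalIdeal (X.presheaf.stalk x) :=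
        (IsLocalization.AtPrime.to_map_mem_maximal_iff (X.presheaf.stalk x) P r).mpr hr
      rw [hu] at h1
      obtain ⟨n, hn⟩ := h1
      rw [← map_pow, hc, hg] at hn
      obtain ⟨c, hc', hct⟩ := hn
      exact ⟨n, c, hc', by rwa [mul_smul]⟩
  · rintro ⟨t, ht1, ht2⟩
    refine ⟨(maximalIdeal.isMaximal _).isPrime, Submodule.Quotient.mk (g t), le_antisymm ?_ ?_⟩
    · rw [← IsLocalization.AtPrime.map_eq_maximalIdeal P (X.presheaf.stalk x), Ideal.map_le_iff_le_comap]
      intro r hr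
      obtain ⟨n, c, hc, hcn⟩ := ht2 r hr
      refine ⟨n, ?_⟩
      rw [← map_pow, Submodule.mem_colon_singleton, Submodule.mem_bot, ← Submodule.Quotient.mk_smul,
        Submodule.Quotient.mk_eq_zero, algebraMap_smul, ← map_smul, hg]
      exact ⟨c, hc, by rwa [← mul_smul]⟩
    · refine le_maximalIdeal fun h1 => ?_
      rw [Ideal.radical_eq_top, Ideal.eq_top_iff_one, Submodule.mem_colon_singleton, Submodule.mem_bot, one_smul,
        Submodule.Quotient.mk_eq_zero, hg] at h1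
      obtain ⟨c, hc, hct⟩ := h1
      exact ht1 c hc hct

/-- The relative assassin and associated primes of the fibre modules of a chart. -/
theorem mem_relAss_iff_fiberIdeal [LocallyOfFiniteType f] [F.IsQuasicoherent] (hF : CohB1.IsFT F) {O : S.Opens}
    (hO : IsAffineOpen O) {W : X.Opens} (hW : IsAffineOpen W) (e : W ≤ f ⁻¹ᵁ O) (x : X) (hx : x ∈ W) :
    letI := (f.appLE O W e).hom.toAlgebra
    letI := Groth.Flatmor4.sectionModule f F e
    x ∈ MoreMor.relAss f F ↔ FlatCA.fiberIdeal (hO.primeIdealOf ⟨f x, e hx⟩).asIdeal (hW.primeIdealOf ⟨x, hx⟩).asIdeal ∈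
      associatedPrimes ((hO.primeIdealOf ⟨f x, e hx⟩).asIdeal.Fiber Γ(X, W))
        (FlatCA.fiberMod (hO.primeIdealOf ⟨f x, e hx⟩).asIdeal Γ(X, W) Γ(F, W)) := by
  letI := (f.appLE O W e).hom.toAlgebra
  letI := Groth.Flatmor4.sectionModule f F e
  haveI : Algebra.FiniteType Γ(S, O) Γ(X, W) := f.finiteType_appLE hO hW e
  haveI : Module.Finite Γ(X, W) Γ(F, W) := Groth.QCohMod.finite_sections F hF hW
  haveI : IsScalarTower Γ(S, O) Γ(X, W) Γ(F, W) := .of_algebraMap_smul fun _ _ => rfl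
  haveI : (hW.primeIdealOf ⟨x, hx⟩).asIdeal.LiesOver (hO.primeIdealOf ⟨f x, e hx⟩).asIdeal :=
    ⟨(congrArg PrimeSpectrum.asIdeal (IsAffineOpen.comap_primeIdealOf_appLE O hO W hW e hx)).symm⟩
  rw [mem_relAss_iff_witness f F hO hW e x hx, isWitness_iff]

/-- Bounds on residue field transcendence degree through polynomial relations. -/
theorem resTrdeg_le_of_indep {x y : X} [LocallyOfFiniteType f] {O : S.Opens}
    (hO : IsAffineOpen O) {W : X.Opens} (hW : IsAffineOpen W) (e : W ≤ f ⁻¹ᵁ O) (hx : x ∈ W) (hy : y ∈ W)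
    (h : letI := (f.appLE O W e).hom.toAlgebra
      ∀ (ι : Type u) [Finite ι] (t : ι → Γ(X, W)),
        (∀ g : MvPolynomial ι Γ(S, O), MvPolynomial.aeval t g ∈ (hW.primeIdealOf ⟨x, hx⟩).asIdeal →
          g ∈ (hO.primeIdealOf ⟨f x, e hx⟩).asIdeal.map MvPolynomial.C) →
        ∀ g : MvPolynomial ι Γ(S, O), MvPolynomial.aeval t g ∈ (hW.primeIdealOf ⟨y, hy⟩).asIdeal →
          g ∈ (hO.primeIdealOf ⟨f y, e hy⟩).asIdeal.map MvPolynomial.C) :
    Dual3.resTrdeg f x ≤ Dual3.resTrdeg f y := by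
  classical
  letI := (f.appLE O W e).hom.toAlgebra
  have hover : ∀ (z : X) (hz : z ∈ W),
      (hW.primeIdealOf ⟨z, hz⟩).asIdeal.LiesOver (hO.primeIdealOf ⟨f z, e hz⟩).asIdeal :=
    fun z hz => ⟨(congrArg PrimeSpectrum.asIdeal (IsAffineOpen.comap_primeIdealOf_appLE O hO W hW e hz)).symm⟩
  haveI := hover x hx
  haveI := hover y hy
  set q := (hW.primeIdealOf ⟨x, hx⟩).asIdeal
  set P := (hW.primeIdealOf ⟨y, hy⟩).asIdeal
  set p := (hO.primeIdealOf ⟨f x, e hx⟩).asIdeal
  set p₀ := (hO.primeIdealOf ⟨f y, e hy⟩).asIdeal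
  have hgoal : Groth.Variety2.Dim.relTrdeg f x ≤ Groth.Variety2.Dim.relTrdeg f y := by
    obtain ⟨n, hn, -⟩ := Groth.FibreDim.exists_relTrdeg_eq_height f x
    rw [← Groth.FibreDim.relTrdeg_eq_trdeg_quotient f hO hW e hx] at hn ⊢
    rw [← Groth.FibreDim.relTrdeg_eq_trdeg_quotient f hO hW e hy]
    obtain ⟨ι, x', hx'⟩ := exists_isTranscendenceBasis' (Γ(S, O) ⧸ p) (Γ(X, W) ⧸ q)
    have hc := hx'.cardinalMk_eq_trdeg
    haveI : Finite ι := Cardinal.lt_aleph0_iff_finite.mp (by rw [hc, hn]; exact Cardinal.natCast_lt_aleph0)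
    choose t ht using fun i => Ideal.Quotient.mk_surjective (x' i)
    have key : ∀ (Q : Ideal Γ(X, W)) (r : Ideal Γ(S, O)) [Q.LiesOver r] (g : MvPolynomial ι Γ(S, O)),
        MvPolynomial.aeval (fun i => Ideal.Quotient.mk Q (t i)) (MvPolynomial.map (Ideal.Quotient.mk r) g) =
          Ideal.Quotient.mk Q (MvPolynomial.aeval t g) := fun Q r _ g => by
      rw [MvPolynomial.aeval_def, MvPolynomial.eval₂_map, MvPolynomial.aeval_def,
        MvPolynomial.hom_eval₂]
      rfl
    have hind : AlgebraicIndependent (Γ(S, O) ⧸ p₀) (fun i => Ideal.Quotient.mk P (t i)) := by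
      rw [algebraicIndependent_iff]
      intro g' hg'
      obtain ⟨g, rfl⟩ := MvPolynomial.map_surjective (Ideal.Quotient.mk p₀) Ideal.Quotient.mk_surjective g'
      rw [key, Ideal.Quotient.eq_zero_iff_mem] at hg'
      have h1 := h ι t (fun g hgq => ?_) g hg'
      · rw [MvPolynomial.mem_map_C_iff] at h1
        ext d
        rw [MvPolynomial.coeff_map, MvPolynomial.coeff_zero, Ideal.Quotient.eq_zero_iff_mem]
        exact h1 d
      · have h2 := algebraicIndependent_iff.mp hx'.1 (MvPolynomial.map (Ideal.Quotient.mk p) g) (by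
          rw [show x' = fun i => Ideal.Quotient.mk q (t i) from funext fun i => (ht i).symm, key,
            Ideal.Quotient.eq_zero_iff_mem]
          exact hgq)
        rw [MvPolynomial.mem_map_C_iff]
        intro d
        have h3 := congrArg (MvPolynomial.coeff d) h2
        rwa [MvPolynomial.coeff_map, MvPolynomial.coeff_zero, Ideal.Quotient.eq_zero_iff_mem] at h3
    have := hind.cardinalMk_le_trdeg
    rwa [hc] at this
  exact hgoal

/-- **Transcendence degrees do not go up from an associated point to a point of flatness in its closure.** -/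
theorem resTrdeg_le_of_flat [LocallyOfFiniteType f] [F.IsQuasicoherent] (hF : CohB1.IsFT F) {x y : X}
    (hy : y ∈ MoreMor.relAss f F) (hyx : y ⤳ x) (hfl : FlatMod.IsFlatOverAt f F x) :
    Dual3.resTrdeg f x ≤ Dual3.resTrdeg f y := by
  obtain ⟨O, hO, hsO, -⟩ := exists_isAffineOpen_mem_and_subset (U := (⊤ : S.Opens)) (x := f x) trivial
  obtain ⟨W, hW, hxW, hWO⟩ := exists_isAffineOpen_mem_and_subset (U := f ⁻¹ᵁ O) (x := x) hsO
  have e : W ≤ f ⁻¹ᵁ O := hWO
  have hyW : y ∈ W := hyx.mem_open W.isOpen hxW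
  letI := (f.appLE O W e).hom.toAlgebra
  letI := Groth.Flatmor4.sectionModule f F e
  haveI : Algebra.FiniteType Γ(S, O) Γ(X, W) := f.finiteType_appLE hO hW e
  haveI : Module.Finite Γ(X, W) Γ(F, W) := Groth.QCohMod.finite_sections F hF hW
  haveI : IsScalarTower Γ(S, O) Γ(X, W) Γ(F, W) := .of_algebraMap_smul fun _ _ => rfl
  have hover : ∀ (z : X) (hz : z ∈ W),
      (hW.primeIdealOf ⟨z, hz⟩).asIdeal.LiesOver (hO.primeIdealOf ⟨f z, e hz⟩).asIdeal :=
    fun z hz => ⟨(congrArg PrimeSpectrum.asIdeal (IsAffineOpen.comap_primeIdealOf_appLE O hO W hW e hz)).symm⟩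
  haveI := hover x hxW
  haveI := hover y hyW
  have hle : (hW.primeIdealOf ⟨y, hyW⟩).asIdeal ≤ (hW.primeIdealOf ⟨x, hxW⟩).asIdeal :=
    (PrimeSpectrum.le_iff_specializes _ _).mpr (hW.fromSpec.isEmbedding.toIsInducing.specializes_iff.1
      (by rw [hW.fromSpec_primeIdealOf, hW.fromSpec_primeIdealOf]; exact hyx))
  refine resTrdeg_le_of_indep f hO hW e hxW hyW fun ι _ t hind g hg => ?_
  exact FlatClosureAss.mem_map_C_of_indep Γ(F, W) (hO.primeIdealOf ⟨f y, e hyW⟩).asIdeal
    (hW.primeIdealOf ⟨y, hyW⟩).asIdeal ((mem_relAss_iff_fiberIdeal f F hF hO hW e y hyW).mp hy)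
    (hO.primeIdealOf ⟨f x, e hxW⟩).asIdeal (hW.primeIdealOf ⟨x, hxW⟩).asIdeal hle
    ((Groth.FlatMorOne.isFlatOverAt_iff_localized f F hW hO e ⟨x, hxW⟩).mp hfl) t hind g hg

/-- **Generic points of fibres of the closure of an associated point are associated where flat.** -/
theorem mem_relAss_of_minimal [LocallyOfFiniteType f] [F.IsQuasicoherent] (hF : CohB1.IsFT F) {x y : X}
    (hy : y ∈ MoreMor.relAss f F) (hyx : y ⤳ x) (hfl : FlatMod.IsFlatOverAt f F x)
    (hmin : ∀ z : X, y ⤳ z → z ⤳ x → f z = f x → z = x) : x ∈ MoreMor.relAss f F := by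
  obtain ⟨O, hO, hsO, -⟩ := exists_isAffineOpen_mem_and_subset (U := (⊤ : S.Opens)) (x := f x) trivial
  obtain ⟨W, hW, hxW, hWO⟩ := exists_isAffineOpen_mem_and_subset (U := f ⁻¹ᵁ O) (x := x) hsO
  have e : W ≤ f ⁻¹ᵁ O := hWO
  have hyW : y ∈ W := hyx.mem_open W.isOpen hxW
  letI := (f.appLE O W e).hom.toAlgebra
  letI := Groth.Flatmor4.sectionModule f F e
  haveI : Algebra.FiniteType Γ(S, O) Γ(X, W) := f.finiteType_appLE hO hW e
  haveI : Module.Finite Γ(X, W) Γ(F, W) := Groth.QCohMod.finite_sections F hF hW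
  haveI : IsScalarTower Γ(S, O) Γ(X, W) Γ(F, W) := .of_algebraMap_smul fun _ _ => rfl
  have hover : ∀ (z : X) (hz : z ∈ W),
      (hW.primeIdealOf ⟨z, hz⟩).asIdeal.LiesOver (hO.primeIdealOf ⟨f z, e hz⟩).asIdeal :=
    fun z hz => ⟨(congrArg PrimeSpectrum.asIdeal (IsAffineOpen.comap_primeIdealOf_appLE O hO W hW e hz)).symm⟩
  haveI := hover x hxW
  haveI := hover y hyW
  have hle : (hW.primeIdealOf ⟨y, hyW⟩).asIdeal ≤ (hW.primeIdealOf ⟨x, hxW⟩).asIdeal :=
    (PrimeSpectrum.le_iff_specializes _ _).mpr (hW.fromSpec.isEmbedding.toIsInducing.specializes_iff.1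
      (by rw [hW.fromSpec_primeIdealOf, hW.fromSpec_primeIdealOf]; exact hyx))
  refine (mem_relAss_iff_fiberIdeal f F hF hO hW e x hxW).mpr
    (FlatClosureAss.fiberIdeal_mem_of_minimal Γ(F, W) (hO.primeIdealOf ⟨f y, e hyW⟩).asIdeal
    (hW.primeIdealOf ⟨y, hyW⟩).asIdeal ((mem_relAss_iff_fiberIdeal f F hF hO hW e y hyW).mp hy)
    (hO.primeIdealOf ⟨f x, e hxW⟩).asIdeal (hW.primeIdealOf ⟨x, hxW⟩).asIdeal hle
    ((Groth.FlatMorOne.isFlatOverAt_iff_localized f F hW hO e ⟨x, hxW⟩).mp hfl) fun Q _ h1 h2 h3 => ?_)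
  let z : X := hW.fromSpec ⟨Q, inferInstance⟩
  have hzx : z ⤳ x := by
    have := ((PrimeSpectrum.le_iff_specializes ⟨Q, inferInstance⟩ (hW.primeIdealOf ⟨x, hxW⟩)).mp h2).map
      hW.fromSpec.continuous
    rwa [hW.fromSpec_primeIdealOf] at this
  have hyz : y ⤳ z := by
    have := ((PrimeSpectrum.le_iff_specializes (hW.primeIdealOf ⟨y, hyW⟩) ⟨Q, inferInstance⟩).mp h1).map
      hW.fromSpec.continuous
    rwa [hW.fromSpec_primeIdealOf] at this
  have hzW : z ∈ W := hzx.mem_open W.isOpen hxW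
  have hQz : hW.primeIdealOf ⟨z, hzW⟩ = ⟨Q, inferInstance⟩ :=
    hW.fromSpec.isOpenEmbedding.injective (hW.fromSpec_primeIdealOf ⟨z, hzW⟩)
  have hfz : f z = f x := by
    have h4 : hO.primeIdealOf ⟨f z, e hzW⟩ = hO.primeIdealOf ⟨f x, e hxW⟩ := PrimeSpectrum.ext (by
      rw [(hover z hzW).over, h3.over, hQz])
    have h5 := congrArg hO.fromSpec h4
    rwa [hO.fromSpec_primeIdealOf, hO.fromSpec_primeIdealOf] at h5
  have hzeq := hmin z hyz hzx hfz
  have h6 : hW.primeIdealOf ⟨z, hzW⟩ = hW.primeIdealOf ⟨x, hxW⟩ := congrArg hW.primeIdealOf (Subtype.ext hzeq)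
  rw [hQz] at h6
  exact congrArg PrimeSpectrum.asIdeal h6

end Groth.RaynaudGruson.RelAssWitness
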