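import Mathlib

/-!
Finitely many relations for a finitely presented localisation.
-/

set_option autoImplicit false
universe u

namespace Groth.RaynaudGruson.RelationsLoc

variable {S M : Type u} [CommRing S] [AddCommGroup M] [Module S M]

/-- A finitely presented localisation needs finitely many relations. -/
theorem exists_relations {m : ℕ} (π : (Fin m → S) →ₗ[S] M) (hπ : Function.Surjective π)
    (Q : Submonoid S) [Module.FinitePresentation (Localization Q) (LocalizedModule Q M)] :
    ∃ U : Submodule S (Fin m → S), U.FG ∧ U ≤ LinearMap.ker π ∧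
      ∀ u ∈ LinearMap.ker π, ∃ t ∈ Q, t • u ∈ U := by
  classical
  let Sq := Localization Q
  let πq := LocalizedModule.map Q π
  have hπq : Function.Surjective πq := LocalizedModule.map_surjective Q π hπ
  obtain ⟨G, hG⟩ := Module.FinitePresentation.fg_ker πq hπq
  have hz : ∀ z ∈ G, ∃ u ∈ LinearMap.ker π, ∃ s : Q, z = LocalizedModule.mk u s := by
    intro z hz
    have hzk : πq z = 0 := LinearMap.mem_ker.mp (hG ▸ Submodule.subset_span hz)
    induction z using LocalizedModule.induction_on with
    | h x s =>
      rw [LocalizedModule.map_mk, ← LocalizedModule.zero_mk s, LocalizedModule.mk_eq] at hzk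
      obtain ⟨w, hw⟩ := hzk
      refine ⟨((w : S) * s) • x, ?_, w * s * s, ?_⟩
      · rw [LinearMap.mem_ker, map_smul, mul_smul]
        simpa [Submonoid.smul_def] using hw
      · rw [LocalizedModule.mk_eq]
        exact ⟨1, by simp [Submonoid.smul_def, smul_smul, mul_comm, mul_left_comm]⟩
  choose! uz huz sz hsz using hz
  let U : Submodule S (Fin m → S) := Submodule.span S ↑(G.image uz)
  have hUle : U ≤ LinearMap.ker π := Submodule.span_le.mpr fun x hx => by
    obtain ⟨z, hz, rfl⟩ := Finset.mem_image.mp hx
    exact huz z hz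
  have hUfg : U.FG := Submodule.fg_span (Finset.finite_toSet _)
  have hkq : ∀ u ∈ LinearMap.ker π, ∃ t ∈ Q, t • u ∈ U := by
    intro u hu
    have h1 : LocalizedModule.mk u (1 : Q) ∈ Submodule.localized' Sq Q (LocalizedModule.mkLinearMap Q _) U := by
      have h2 : LocalizedModule.mk u (1 : Q) ∈ LinearMap.ker πq := by
        rw [LinearMap.mem_ker, LocalizedModule.map_mk, show π u = 0 from hu, LocalizedModule.zero_mk]
      refine Submodule.span_le.mpr ?_ (hG.symm ▸ h2)
      intro z hz
      exact ⟨uz z, Submodule.subset_span (Finset.mem_image_of_mem _ hz), sz z,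
        (IsLocalizedModule.mk_eq_mk' _ _).symm.trans (hsz z hz).symm⟩
    obtain ⟨v, hv, s, hvs⟩ := h1
    rw [← IsLocalizedModule.mk_eq_mk', LocalizedModule.mk_eq] at hvs
    obtain ⟨c, hc⟩ := hvs
    refine ⟨((c * s : Q) : S), (c * s).2, ?_⟩
    simp only [one_smul, Submonoid.smul_def, smul_smul] at hc
    rw [Submonoid.coe_mul, ← hc]
    exact U.smul_mem _ hv
  exact ⟨U, hUfg, hUle, hkq⟩

end Groth.RaynaudGruson.RelationsLoc
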