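import Groth.Agent.RaynaudGruson.FlatDimRep
import Groth.Agent.Pi1FPDesc.Basic
import Mathlib

/-!
The functor of flatness in dimensions `≥ n` of a module on a scheme over a base scheme: stability, base change,
reduction to affine pieces.
-/

set_option autoImplicit false
set_option linter.style.haveILetI false
universe u

open TensorProduct CategoryTheory CategoryTheory.Limits AlgebraicGeometry Opposite

namespace Groth.RaynaudGruson.FlatDimScheme

open FlatDimTransfer SubtermRep

attribute [local instance] TensorAction.tModule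

variable {X S : Scheme.{u}}

/-- Flatness in dimensions `≥ n` of the base change to a test scheme. -/
def P (f : X ⟶ S) (F : X.Modules) (n : ℕ) (T : Over S) : Prop :=
  FlatFun.DimFibresLT n (PicF.XTproj f T) {x | ¬ FlatMod.IsFlatOverAt (PicF.XTproj f T) (FGA.ET f F T) x}

theorem isQuasicoherent_of_isFP {F : X.Modules} (hF : CohB1.IsFP F) : F.IsQuasicoherent :=
  let ⟨σ, _⟩ := hF.exists_quasicoherentData
  { nonempty_quasicoherentData := ⟨σ⟩ }

theorem P.mono {f : X ⟶ S} {F : X.Modules} {n m : ℕ} (h : n ≤ m) {T : Over S} (hT : P f F n T) : P f F m T :=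
  fun x hx => lt_of_lt_of_le (hT x hx) (by exact_mod_cast h)

theorem P_congr {f g : X ⟶ S} (hfg : f = g) {F G : X.Modules} (e : F ≅ G) (n : ℕ) (T : Over S) :
    P f F n T ↔ P g G n T :=
  FlatDimAffine.dimFibresLT_congr hfg e n T

theorem P_zero_iff (f : X ⟶ S) (F : X.Modules) (T : Over S) :
    P f F 0 T ↔ FlatMod.IsFlatOver (PicF.XTproj f T) (FGA.ET f F T) := by
  refine ⟨fun h x => by_contra fun hx => ?_, fun h x hx => absurd (h x) hx⟩
  have h1 := h x hx
  rw [Nat.cast_zero] at h1
  exact absurd h1 not_lt_zero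

section

variable (f : X ⟶ S) [LocallyOfFiniteType f] (F : X.Modules) [F.IsQuasicoherent]

theorem stable (n : ℕ) ⦃T T₀ : Over S⦄ (g : T ⟶ T₀) (h : P f F n T₀) : P f F n T := by
  intro x hx
  have h1 := h _ (fun hf => hx (Groth.FlatMorOne.isFlatOverAt_of_square _ (Groth.Flatmor4.isPullback_XTmap f g)
    (FGA.XTmap_fst f g) x hf))
  exact lt_of_le_of_lt (Groth.Flatmor4.resTrdeg_baseChange_le (Groth.Flatmor4.isPullback_XTmap f g) x) h1

omit [F.IsQuasicoherent] in
theorem of_local (n : ℕ) (T : Over S)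
    (hT : ∀ t : T.left, ∃ (T' : Over S) (g : T' ⟶ T) (t' : T'.left), Flat g.left ∧ g.left t' = t ∧ P f F n T') :
    P f F n T := by
  intro x hx
  obtain ⟨T', g, t', hg, ht, hP⟩ := hT (PicF.XTproj f T x)
  haveI := hg
  obtain ⟨x', hx1, hx2, hx3⟩ := Groth.Flatmor4.exists_resTrdeg_eq (Groth.Flatmor4.isPullback_XTmap f g) x t' ht.symm
  subst hx1
  have hn : ¬ FlatMod.IsFlatOverAt (PicF.XTproj f T') (FGA.ET f F T') x' := fun h =>
    hx (Groth.Flatmor4.isFlatOverAt_of_flat_baseChange (Groth.Flatmor4.isPullback_XTmap f g) _ x'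
      ((Groth.Flatmor4.isFlatOverAt_ET f g F x').mpr h))
  have h1 : Dual3.resTrdeg (PicF.XTproj f T') x' < (n : Cardinal) := hP x' hn
  rw [hx3] at h1
  exact h1

/-- Only affine test schemes matter. -/
theorem of_affine_local (n : ℕ) (T : Over S)
    (hT : ∀ (R : Type u) [CommRing R] (j : Spec (CommRingCat.of R) ⟶ T.left), IsOpenImmersion j →
      P f F n (Over.mk (j ≫ T.hom))) : P f F n T := by
  refine of_local f F n T fun t => ?_
  obtain ⟨_, ⟨U, hU, rfl⟩, htU, -⟩ := T.left.isBasis_affineOpens.exists_subset_of_mem_open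
    (Set.mem_univ t) isOpen_univ
  obtain ⟨t', ht'⟩ := hU.range_fromSpec.ge htU
  haveI := hU.isOpenImmersion_fromSpec
  exact ⟨Over.mk (hU.fromSpec ≫ T.hom), Over.homMk hU.fromSpec rfl, t', inferInstanceAs (Flat hU.fromSpec), ht',
    hT Γ(T.left, U) hU.fromSpec inferInstance⟩

theorem isSheaf (hF : CohB1.IsFT F) (n : ℕ) :
    Presheaf.IsSheaf (QuotSh.J Scheme.fpqcPrecoverage S) (FlatFun.genPSp S (P f F n)) :=
  haveI : Coh.IsQCoh F := ‹F.IsQuasicoherent›
  Groth.Agent.S9023.result f F hF n

end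

/-- The condition commutes with base change. -/
theorem P_baseChange {X₀ X' S' : Scheme.{u}} {q : X ⟶ S} [LocallyOfFiniteType q] {q' : X' ⟶ S'} {g : S' ⟶ S}
    {g' : X' ⟶ X} (H : IsPullback g' q' q g) (y : X ⟶ X₀) (F : X₀.Modules) [F.IsQuasicoherent] (n : ℕ) (T : Over S') :
    P q' ((Scheme.Modules.pullback (g' ≫ y)).obj F) n T ↔
      P q ((Scheme.Modules.pullback y).obj F) n (Over.mk (T.hom ≫ g)) := by
  let T₁ : Over S := Over.mk (T.hom ≫ g)
  haveI : LocallyOfFiniteType q' := MorphismProperty.of_isPullback H inferInstance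
  let m : PicF.XT q' T ⟶ PicF.XT q T₁ := pullback.lift (pullback.fst q' T.hom ≫ g') (pullback.snd q' T.hom) (by
    rw [Category.assoc, H.w, pullback.condition_assoc]; rfl)
  have hm : m ≫ PicF.XTproj q T₁ = PicF.XTproj q' T := pullback.lift_snd _ _ _
  have hmf : m ≫ pullback.fst q T₁.hom = pullback.fst q' T.hom ≫ g' := pullback.lift_fst _ _ _
  have H' : IsPullback (pullback.fst q' T.hom ≫ g') (pullback.snd q' T.hom) q (T.hom ≫ g) :=
    (IsPullback.of_hasPullback q' T.hom).paste_horiz H
  haveI : IsIso m := by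
    have : m = H'.isoPullback.hom := pullback.hom_ext
      (hmf.trans (H'.isoPullback_hom_fst).symm) (hm.trans (H'.isoPullback_hom_snd).symm)
    rw [this]; infer_instance
  have Hm : IsPullback m (PicF.XTproj q' T) (PicF.XTproj q T₁) (𝟙 T.left) :=
    IsPullback.of_horiz_isIso ⟨by rw [hm]; exact (Category.comp_id _).symm⟩
  haveI : LocallyOfFiniteType (PicF.XTproj q T₁) := MorphismProperty.pullback_snd q T₁.hom inferInstance
  let G := (Scheme.Modules.pullback y).obj F
  let e : (Scheme.Modules.pullback m).obj (FGA.ET q G T₁) ≅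
      FGA.ET q' ((Scheme.Modules.pullback (g' ≫ y)).obj F) T :=
    (Scheme.Modules.pullbackComp m (pullback.fst q T₁.hom)).app G ≪≫
      (Scheme.Modules.pullbackCongr hmf).app G ≪≫
      ((Scheme.Modules.pullbackComp (pullback.fst q' T.hom) g').app G).symm ≪≫
      (Scheme.Modules.pullback (pullback.fst q' T.hom)).mapIso ((Scheme.Modules.pullbackComp g' y).app F)
  haveI : G.IsQuasicoherent := inferInstance
  haveI hGT : (FGA.ET q G T₁).IsQuasicoherent :=
    inferInstanceAs ((Scheme.Modules.pullback (pullback.fst q T₁.hom)).obj G).IsQuasicoherent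
  constructor
  · intro h x hx
    obtain ⟨x', hx1, -, hx3⟩ := Groth.Flatmor4.exists_resTrdeg_eq Hm x (PicF.XTproj q T₁ x) rfl
    subst hx1
    have h1 : Dual3.resTrdeg (PicF.XTproj q' T) x' < (n : Cardinal) := h x' fun hf =>
      hx (Groth.Flatmor4.isFlatOverAt_of_flat_baseChange Hm _ x' ((Groth.FlatMorOne.isFlatOverAt_congr _ e x').mpr hf))
    rw [hx3] at h1
    exact h1
  · intro h x hx
    refine lt_of_le_of_lt (Groth.Flatmor4.resTrdeg_baseChange_le Hm x) (h (m x) fun hf => hx ?_)
    exact (Groth.FlatMorOne.isFlatOverAt_congr _ e x).mp (Groth.FlatMorOne.isFlatOverAt_baseChange Hm _ x hf)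

/-- The condition for a scheme over the base and a base change of the module along the identity. -/
theorem P_baseChange_self {X₀ : Scheme.{u}} {X' S' : Scheme.{u}} {q : X₀ ⟶ S} [LocallyOfFiniteType q] {q' : X' ⟶ S'}
    {g : S' ⟶ S} {g' : X' ⟶ X₀} (H : IsPullback g' q' q g) (F : X₀.Modules) [F.IsQuasicoherent] (n : ℕ) (T : Over S') :
    P q' ((Scheme.Modules.pullback g').obj F) n T ↔ P q F n (Over.mk (T.hom ≫ g)) := by
  refine (P_congr rfl ((Scheme.Modules.pullbackCongr (Category.comp_id g').symm).app F) n T).trans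
    ((P_baseChange H (𝟙 X₀) F n T).trans ?_)
  exact P_congr rfl ((Scheme.Modules.pullbackId X₀).app F) n _

/-- The condition passes to étale pieces. -/
theorem P_piece {X' : Scheme.{u}} (f : X ⟶ S) [LocallyOfFiniteType f] (F : X.Modules) [F.IsQuasicoherent]
    (hF : CohB1.IsFT F) (h : X' ⟶ X) [Etale h] (n : ℕ) {T : Over S} (hT : P f F n T) :
    P (h ≫ f) ((Scheme.Modules.pullback h).obj F) n T :=
  haveI : Coh.IsQCoh F := ‹F.IsQuasicoherent›
  Groth.Agent.S9027.result f F hF h n T hT

/-- The condition may be tested on étale pieces covering the points over the image of the test scheme. -/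
theorem P_of_pieces {ι : Type*} {X' : ι → Scheme.{u}} (f : X ⟶ S) [LocallyOfFiniteType f] (F : X.Modules)
    [F.IsQuasicoherent] (hF : CohB1.IsFT F) (h : ∀ i, X' i ⟶ X) (hh : ∀ i, Etale (h i)) (n : ℕ) (T : Over S)
    (hcov : ∀ y, f y ∈ Set.range T.hom → ∃ i, y ∈ Set.range (h i))
    (hT : ∀ i, P (h i ≫ f) ((Scheme.Modules.pullback (h i)).obj F) n T) : P f F n T :=
  haveI : Coh.IsQCoh F := ‹F.IsQuasicoherent›
  FlatDimAffine.dimFibresLT_of_cover f F hF X' h hh n T (fun y _ hy => hcov y hy) hT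

/-- The condition for an affine piece, in ring form. -/
theorem P_affine_iff {X₀ : Scheme.{u}} {A B N A' : Type u} [CommRing A] [CommRing B] [Algebra A B] [AddCommGroup N]
    [Module B N] [Module A N] [IsScalarTower A B N] [CommRing A'] [Algebra A A']
    {q : Spec (CommRingCat.of B) ⟶ Spec (CommRingCat.of A)} (hq : q = Spec.map (CommRingCat.ofHom (algebraMap A B)))
    {y : Spec (CommRingCat.of B) ⟶ X₀} {F : X₀.Modules}
    (e : (Scheme.Modules.pullback y).obj F ≅ tilde (R := CommRingCat.of B) (ModuleCat.of B N)) (n : ℕ) :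
    P q ((Scheme.Modules.pullback y).obj F) n (Over.mk (Spec.map (CommRingCat.ofHom (algebraMap A A')))) ↔
      FDOn (fun _ : Ideal A' => True) n (A' ⊗[A] B) (A' ⊗[A] N) :=
  (P_congr hq e n _).trans (FlatDimBridge.dimFibresLT_iff n)

/-- Pulling back a module that is associated to a module on an affine piece. -/
theorem exists_iso_tilde_baseChange {X₀ : Scheme.{u}} {B C N Nc : Type u} [CommRing B] [CommRing C] [Algebra B C]
    [AddCommGroup N] [Module B N] [AddCommGroup Nc] [Module C Nc] [Module B Nc] [IsScalarTower B C Nc]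
    (g : N →ₗ[B] Nc) (hg : IsBaseChange C g) {y : Spec (CommRingCat.of B) ⟶ X₀} {F : X₀.Modules}
    (e : (Scheme.Modules.pullback y).obj F ≅ tilde (R := CommRingCat.of B) (ModuleCat.of B N)) :
    Nonempty ((Scheme.Modules.pullback (Spec.map (CommRingCat.ofHom (algebraMap B C)) ≫ y)).obj F ≅
      tilde (R := CommRingCat.of C) (ModuleCat.of C Nc)) := by
  obtain ⟨e'⟩ := Groth.Agent.S2265.result B C N
  exact ⟨((Scheme.Modules.pullbackComp _ y).app F).symm ≪≫ (Scheme.Modules.pullback _).mapIso e ≪≫ e' ≪≫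
    (tilde.functor (CommRingCat.of C)).mapIso hg.equiv.toModuleIso⟩

/-- Restricting to an affine piece gives a module of finite presentation. -/
theorem exists_iso_tilde {X₀ : Scheme.{u}} {B : Type u} [CommRing B] (y : Spec (CommRingCat.of B) ⟶ X₀)
    (F : X₀.Modules) (hF : CohB1.IsFP F) :
    ∃ (N : Type u) (_ : AddCommGroup N) (_ : Module B N), Module.FinitePresentation B N ∧
      Nonempty ((Scheme.Modules.pullback y).obj F ≅ tilde (R := CommRingCat.of B) (ModuleCat.of B N)) := by
  let G := (Scheme.Modules.pullback y).obj F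
  have hG : CohB1.IsFP G := Groth.QCohMod.isFP_pullback y F hF
  haveI := isQuasicoherent_of_isFP hG
  let M := (moduleSpecΓFunctor (R := CommRingCat.of B)).obj G
  let i : tilde M ≅ G := @asIso _ _ _ _ (Scheme.Modules.fromTildeΓ (R := CommRingCat.of B) G)
    (Scheme.Modules.isIso_fromTildeΓ_of_isQuasicoherent (R := CommRingCat.of B) G)
  exact ⟨M, inferInstance, inferInstance,
    (Groth.PropsBasic.FPSections.isFP_tilde_iff M).1 (Groth.Pi1FPDesc.isFP_of_iso i.symm hG), ⟨i.symm⟩⟩

end Groth.RaynaudGruson.FlatDimScheme
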