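import Groth.Agent.RaynaudGruson.FlatDimProper
import Mathlib

/-!
Flatness of the base change of a finitely presented module on a proper scheme of finite presentation is represented
by a surjective monomorphism of finite presentation.
-/

set_option autoImplicit false
set_option linter.style.haveILetI false
universe u

open CategoryTheory CategoryTheory.Limits AlgebraicGeometry Opposite

namespace Groth.RaynaudGruson.FlatMonoProper

open SubtermRep FlatDimScheme FlatDimProper

set_option maxHeartbeats 2000000 in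
/-- Representability by descending induction. -/
theorem exists_monoRep {X : Scheme.{u}} {A : Type u} [CommRing A] (f : X ⟶ Spec (CommRingCat.of A)) [IsProper f]
    [LocallyOfFinitePresentation f] (F : X.Modules) [F.IsQuasicoherent] (hF : CohB1.IsFP F) :
    ∀ (m n : ℕ), (∀ T, P f F (n + m) T) → MonoRep (P f F n) (Over.mk (𝟙 (Spec (CommRingCat.of A)))) := by
  have hFT : CohB1.IsFT F := Groth.PropsBasic.LocFree.isFT_of_isFP F hF
  intro m
  induction m with
  | zero =>
    intro n h
    exact monoRep_of_affine f F n (V := Over.mk (𝟙 _)) (𝟙 (Spec (CommRingCat.of A))) fun R _ x =>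
      iff_of_true (h _) ⟨x, Category.comp_id x⟩
  | succ m ih =>
    intro n h
    obtain ⟨W, w, hw1, hw2, hw3, hW⟩ := ih (n + 1) fun T => by
      have h' := h T
      rwa [show n + (m + 1) = n + 1 + m by omega] at h'
    haveI := hw1; haveI := hw2; haveI := hw3
    have hWhom : W.hom = w.left := (Over.w w).symm.trans (Category.comp_id _)
    haveI : Mono W.hom := hWhom ▸ hw1
    haveI : LocallyOfFinitePresentation W.hom := hWhom ▸ hw2
    haveI : QuasiCompact W.hom := hWhom ▸ hw3
    have hZ : ∀ T, P f F n T → Nonempty (T ⟶ W) := fun T hT => by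
      obtain ⟨k, -⟩ := (hW (T := T) (Over.homMk T.hom (Category.comp_id _))).1 (hT.mono n.le_succ)
      exact ⟨k⟩
    refine let ⟨Z, z, hz1, hz2, hz3, hZr⟩ := monoRep_of_etale_local (P f F n) (stable f F n) (isSheaf f F hFT n) W hZ ?_
      ⟨Z, z ≫ w, mono_comp z.left w.left, inferInstanceAs (LocallyOfFinitePresentation (z.left ≫ w.left)),
        inferInstanceAs (QuasiCompact (z.left ≫ w.left)), fun T hT => ?_⟩
    rotate_left
    · constructor
      · intro hP
        obtain ⟨l⟩ := hZ T hP
        obtain ⟨k, -⟩ := (hZr l).1 hP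
        exact ⟨k, Over.OverMorphism.ext (((Category.comp_id _).symm.trans (Over.w (k ≫ z ≫ w))).trans
          ((Over.w hT).symm.trans (Category.comp_id _)))⟩
      · rintro ⟨k, -⟩
        exact (hZr (k ≫ z)).2 ⟨k, rfl⟩
    intro z
    obtain ⟨_, ⟨U, hU, rfl⟩, hzU, -⟩ := W.left.isBasis_affineOpens.exists_subset_of_mem_open
      (Set.mem_univ z) isOpen_univ
    let Az : Type u := Γ(W.left, U)
    haveI := hU.isOpenImmersion_fromSpec
    let v : Spec (CommRingCat.of Az) ⟶ Spec (CommRingCat.of A) := hU.fromSpec ≫ W.hom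
    let fz := pullback.snd f v
    let Fz := (Scheme.Modules.pullback (pullback.fst f v)).obj F
    haveI : LocallyOfFinitePresentation fz := inferInstanceAs (LocallyOfFinitePresentation (pullback.snd f v))
    haveI : IsProper fz := inferInstanceAs (IsProper (pullback.snd f v))
    have hdz : ∀ T, P fz Fz (n + 1) T := fun T => by
      refine (P_baseChange_self (IsPullback.of_hasPullback f v) F (n + 1) T).2 ?_
      let k : Over.mk (T.hom ≫ v) ⟶ W := Over.homMk (T.hom ≫ hU.fromSpec) (Category.assoc _ _ _)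
      exact (hW (k ≫ w)).2 ⟨k, rfl⟩
    haveI := (hU.primeIdealOf ⟨z, hzU⟩).isPrime
    obtain ⟨R, _, _, het, ⟨r, hr, hrp⟩, hrep⟩ := exists_local_rep fz Fz (Groth.QCohMod.isFP_pullback _ F hF) n hdz
      (hU.primeIdealOf ⟨z, hzU⟩).asIdeal
    haveI : Etale (Spec.map (CommRingCat.ofHom (algebraMap Az R))) :=
      (HasRingHomProperty.Spec_iff (P := @Etale)).mpr (RingHom.etale_algebraMap.mpr het)
    refine ⟨_, Over.homMk (Spec.map (CommRingCat.ofHom (algebraMap Az R)) ≫ hU.fromSpec) (Category.assoc _ _ _), ?_,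
      ⟨(⟨r, hr⟩ : PrimeSpectrum R), ?_⟩, monoRep_baseChange (IsPullback.of_hasPullback f v) F n hrep⟩
    · show Etale (Spec.map (CommRingCat.ofHom (algebraMap Az R)) ≫ hU.fromSpec)
      infer_instance
    · show hU.fromSpec (PrimeSpectrum.comap (algebraMap Az R) ⟨r, hr⟩) = z
      rw [show PrimeSpectrum.comap (algebraMap Az R) ⟨r, hr⟩ = hU.primeIdealOf ⟨z, hzU⟩ from PrimeSpectrum.ext hrp]
      exact hU.fromSpec_primeIdealOf ⟨z, hzU⟩

/-- Flatness is represented by a monomorphism of finite presentation over any base. -/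
theorem exists_monoRep_flat {X S : Scheme.{u}} (f : X ⟶ S) [IsProper f] [LocallyOfFinitePresentation f]
    (F : X.Modules) [F.IsQuasicoherent] (hF : CohB1.IsFP F) : MonoRep (P f F 0) (Over.mk (𝟙 S)) := by
  have hFT : CohB1.IsFT F := Groth.PropsBasic.LocFree.isFT_of_isFP F hF
  haveI : Mono (Over.mk (𝟙 S)).hom := inferInstanceAs (Mono (𝟙 S))
  refine monoRep_of_etale_local (P f F 0) (stable f F 0) (isSheaf f F hFT 0) (Over.mk (𝟙 S))
    (fun T _ => ⟨Over.mkIdTerminal.from T⟩) fun z => ?_
  obtain ⟨_, ⟨U, hU, rfl⟩, hzU, -⟩ := S.isBasis_affineOpens.exists_subset_of_mem_open (Set.mem_univ z) isOpen_univ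
  haveI := hU.isOpenImmersion_fromSpec
  let g : Spec (CommRingCat.of Γ(S, U)) ⟶ S := hU.fromSpec
  haveI : LocallyOfFinitePresentation (pullback.snd f g) := inferInstance
  obtain ⟨m, hm⟩ := exists_bound (pullback.snd f g) _ (Groth.QCohMod.isFP_pullback (pullback.fst f g) F hF)
  have hrep := exists_monoRep (pullback.snd f g) _ (Groth.QCohMod.isFP_pullback (pullback.fst f g) F hF) m 0
    (by simpa using hm)
  refine ⟨_, Over.homMk (𝟙 _ ≫ g) (by simp), ?_, ?_, monoRep_baseChange (IsPullback.of_hasPullback f g) F 0 hrep⟩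
  · show Etale (𝟙 _ ≫ g)
    infer_instance
  · obtain ⟨x, hx⟩ := hU.range_fromSpec.ge hzU
    exact ⟨x, (congr($(Category.id_comp g) x)).trans hx⟩

/-- Over a field everything is flat. -/
theorem isFlatOver_field {Y : Scheme.{u}} {K : Type u} [Field K] (f : Y ⟶ Spec (CommRingCat.of K)) (M : Y.Modules) :
    FlatMod.IsFlatOver f M := by
  intro y
  show @Module.Flat _ _ _ _ (FlatMod.moduleStalkOver f M y)
  letI : Algebra K ((Spec (CommRingCat.of K)).presheaf.stalk (f y)) :=
    StructureSheaf.stalkAlgebra (R := CommRingCat.of K) (f y)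
  haveI : IsLocalization.AtPrime ((Spec (CommRingCat.of K)).presheaf.stalk (f y)) (f y).asIdeal :=
    StructureSheaf.IsLocalization.to_stalk (R := CommRingCat.of K) (f y)
  have hbot : (f y).asIdeal = ⊥ :=
    (Ideal.eq_bot_or_top (f y).asIdeal).resolve_right (f y).isPrime.ne_top
  have hu : (f y).asIdeal.primeCompl ≤ IsUnit.submonoid K := fun x hx => by
    refine isUnit_iff_ne_zero.mpr fun h0 => hx ?_
    rw [h0]
    exact zero_mem _
  let e := IsLocalization.atUnits K (f y).asIdeal.primeCompl hu (S := (Spec (CommRingCat.of K)).presheaf.stalk (f y))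
  letI := (MulEquiv.isField (Field.toIsField K) e.toMulEquiv.symm).toField
  letI := FlatMod.moduleStalkOver f M y
  exact Module.Flat.of_free

end Groth.RaynaudGruson.FlatMonoProper
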