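import Groth.Agent.RaynaudGruson.SmoothProjective
import Groth.Agent.Calg2.Uniform.FibresScheme
import Groth.Agent.FlatMorOne.FlatLocusModelFlat
import Mathlib

/-!
Flat finitely presented algebras with geometrically integral fibres are projective modules over the base.
-/

set_option autoImplicit false
universe u

namespace Groth.RaynaudGruson.IntegralProjective

open CategoryTheory AlgebraicGeometry TensorProduct Limits Groth.RaynaudGruson

variable {R S : Type u} [CommRing R] [CommRing S] [Algebra R S]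

instance : ObjectProperty.IsClosedUnderIsomorphisms AlgebraicGeometry.IsIntegral.{u} :=
  ⟨fun {X Y} e hX => by
    haveI := hX
    haveI : Nonempty Y := ⟨e.hom (Nonempty.some inferInstance)⟩
    exact isIntegral_of_isOpenImmersion e.inv⟩

/-- Geometric integrality in terms of tensor products. -/
theorem geomIntegralFibres_iff : FlatCA.GeomIntegralFibres R S ↔
    ∀ (K : Type u) [Field K] [Algebra R K], IsDomain (K ⊗[R] S) := by
  unfold FlatCA.GeomIntegralFibres
  rw [GeometricallyIntegral.eq_geometrically,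
    geometrically_iff_of_commRing_of_isClosedUnderIsomorphisms]
  refine forall₃_congr fun K _ _ => ?_
  let e := pullbackSpecIso R S K
  let c := (Algebra.TensorProduct.comm R S K).toRingEquiv
  constructor
  · intro h
    haveI := h
    haveI : IsIntegral (Spec (CommRingCat.of (S ⊗[R] K))) := by
      haveI : Nonempty (Spec (CommRingCat.of (S ⊗[R] K))) := ⟨e.hom (Nonempty.some inferInstance)⟩
      exact isIntegral_of_isOpenImmersion e.inv
    haveI : IsDomain (S ⊗[R] K) := affine_isIntegral_iff (CommRingCat.of (S ⊗[R] K)) |>.mp inferInstance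
    exact c.symm.toMulEquiv.isDomain _
  · intro h
    haveI : IsDomain (S ⊗[R] K) := c.toMulEquiv.isDomain _
    haveI : IsIntegral (Spec (CommRingCat.of (S ⊗[R] K))) := inferInstance
    haveI : Nonempty (Spec (CommRingCat.of (S ⊗[R] K))) := inferInstance
    haveI : Nonempty ↥(pullback (Spec.map (CommRingCat.ofHom (algebraMap R S)))
        (Spec.map (CommRingCat.ofHom (algebraMap R K)))) := ⟨e.inv (Nonempty.some inferInstance)⟩
    exact isIntegral_of_isOpenImmersion e.hom

theorem isDomain_of_isReduced {B : Type u} [CommRing B] [_root_.IsReduced B] (h : (nilradical B).IsPrime) :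
    IsDomain B := by
  rw [nilradical_eq_zero] at h
  haveI : (⊥ : Ideal B).IsPrime := h
  exact IsDomain.of_bot_isPrime B

theorem exists_generic_red {R₀ S₀ A Ω : Type u} [CommRing R₀] [IsNoetherianRing R₀] [CommRing S₀]
    [Algebra R₀ S₀] [Algebra.FiniteType R₀ S₀] [CommRing A] [IsDomain A] [IsNoetherianRing A]
    [Algebra R₀ A] [Field Ω] [IsAlgClosed Ω] [Algebra R₀ Ω] [Algebra A Ω] [IsScalarTower R₀ A Ω]
    (hinj : Function.Injective (algebraMap A Ω)) [_root_.IsReduced (Ω ⊗[R₀] S₀)] :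
    ∃ r : A, r ≠ 0 ∧ ∀ (K : Type u) [Field K] [Algebra R₀ K] [Algebra A K] [IsScalarTower R₀ A K],
      algebraMap A K r ≠ 0 → _root_.IsReduced (K ⊗[R₀] S₀) := by
  obtain ⟨N, π, hπ⟩ := Algebra.FiniteType.iff_quotient_mvPolynomial''.mp ‹Algebra.FiniteType R₀ S₀›
  obtain ⟨c, F₀, hF₀⟩ := Submodule.fg_iff_exists_fin_generating_family.mp
    (IsNoetherian.noetherian (RingHom.ker π.toRingHom))
  have hspan : (RingHom.ker π.toRingHom).map (MvPolynomial.map (algebraMap R₀ A)) =
      Ideal.span (Set.range fun j => MvPolynomial.map (algebraMap R₀ A) (F₀ j)) := by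
    rw [← hF₀]
    exact Calg2.Uniform.map_span_range _ _
  let L := AlgebraicClosure (FractionRing A)
  haveI : Algebra.IsAlgebraic A L := by
    haveI : Algebra.IsAlgebraic A (FractionRing A) := IsLocalization.isAlgebraic _ (nonZeroDivisors A)
    exact Algebra.IsAlgebraic.trans A (FractionRing A) L
  have hAL : Function.Injective (algebraMap A L) := by
    rw [IsScalarTower.algebraMap_eq A (FractionRing A) L, RingHom.coe_comp]
    exact (RingHom.injective _).comp (IsFractionRing.injective A (FractionRing A))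
  haveI : Module.IsTorsionFree A Ω := by
    rw [Module.isTorsionFree_iff_algebraMap_injective]
    exact hinj
  haveI : Module.IsTorsionFree A L := by
    rw [Module.isTorsionFree_iff_algebraMap_injective]
    exact hAL
  let j : L →ₐ[A] Ω := IsAlgClosed.lift
  have hΩ : Calg2.Uniform.Red (RingHom.ker π.toRingHom) (algebraMap R₀ Ω) :=
    (Calg2.Uniform.isReduced_tensor_iff (K := Ω) π hπ).mp
      (isReduced_of_injective (Algebra.TensorProduct.comm R₀ S₀ Ω).toRingEquiv.toRingHom
        (Algebra.TensorProduct.comm R₀ S₀ Ω).injective)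
  have hL : Calg2.Uniform.Red (RingHom.ker π.toRingHom) ((algebraMap A L).comp (algebraMap R₀ A)) := by
    refine Calg2.Uniform.red_of_comp j.toRingHom _ ?_
    rw [← RingHom.comp_assoc, show j.toRingHom.comp (algebraMap A L) = algebraMap A Ω from j.comp_algebraMap,
      ← IsScalarTower.algebraMap_eq]
    exact hΩ
  rw [← Calg2.Uniform.red_comp, hspan] at hL
  obtain ⟨f, hf, hgood⟩ := Calg2.Uniform.exists_red_of_generic.{u, u} hAL _ hL
  refine ⟨f, hf, fun K _ _ _ _ hK => ?_⟩
  have h1 := hgood K (algebraMap A K) hK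
  rw [← hspan, Calg2.Uniform.red_comp, ← IsScalarTower.algebraMap_eq] at h1
  haveI := (Calg2.Uniform.isReduced_tensor_iff (K := K) π hπ).mpr h1
  exact isReduced_of_injective (Algebra.TensorProduct.comm R₀ K S₀).toRingEquiv.toRingHom
    (Algebra.TensorProduct.comm R₀ K S₀).injective

/-- The stage condition: all field-valued points of the subalgebra generated by `F` lying in `V(I)` have
geometrically integral fibres. -/
def GoodStage (R₀ : Type u) {R : Type u} (S₀ : Type u) [CommRing R₀] [CommRing R] [CommRing S₀] [Algebra R₀ R]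
    [Algebra R₀ S₀] (I : Ideal R₀) (F : Set R) : Prop :=
  ∀ (K : Type u) [Field K] [Algebra R₀ K], (Algebra.adjoin R₀ F →ₐ[R₀] K) →
    (∀ a ∈ I, algebraMap R₀ K a = 0) → IsDomain (K ⊗[R₀] S₀)

theorem GoodStage.mono {R₀ R S₀ : Type u} [CommRing R₀] [CommRing R] [CommRing S₀] [Algebra R₀ R]
    [Algebra R₀ S₀] {I : Ideal R₀} {F G : Set R} (hFG : F ⊆ G) (h : GoodStage R₀ S₀ I F) :
    GoodStage R₀ S₀ I G :=
  fun K _ _ φ hI => h K (φ.comp (Subalgebra.inclusion (Algebra.adjoin_mono hFG))) hI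

/-- Near a point of `V(I)` in the image, the fibres are geometrically integral. -/
theorem exists_generic {R₀ R S₀ : Type u} [CommRing R₀] [IsNoetherianRing R₀] [CommRing R] [CommRing S₀]
    [Algebra R₀ R] [Algebra R₀ S₀] [Algebra.FiniteType R₀ S₀]
    (h : ∀ (K : Type u) [Field K] [Algebra R₀ K], (R →ₐ[R₀] K) → IsDomain (K ⊗[R₀] S₀))
    (I : Ideal R₀) [I.IsPrime] (P : Ideal R) [P.IsPrime] (hPI : P.comap (algebraMap R₀ R) = I) :
    ∃ g : R₀, g ∉ I ∧ ∀ (K : Type u) [Field K] [Algebra R₀ K], (∀ a ∈ I, algebraMap R₀ K a = 0) →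
      algebraMap R₀ K g ≠ 0 → IsDomain (K ⊗[R₀] S₀) := by
  obtain ⟨Ω, _, _, f, hf⟩ : ∃ (Ω : Type u) (_ : Field Ω) (_ : IsAlgClosed Ω) (f : R →+* Ω),
      ∀ x, f x = 0 ↔ x ∈ P :=
    ⟨AlgebraicClosure P.ResidueField, inferInstance, inferInstance,
      (algebraMap P.ResidueField (AlgebraicClosure P.ResidueField)).comp (algebraMap R P.ResidueField),
      fun x => (map_eq_zero_iff _ (algebraMap P.ResidueField (AlgebraicClosure P.ResidueField)).injective).trans
        Ideal.algebraMap_residueField_eq_zero⟩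
  letI : Algebra R₀ Ω := (f.comp (algebraMap R₀ R)).toAlgebra
  let φ : R →ₐ[R₀] Ω := { f with commutes' := fun _ => rfl }
  have hker : ∀ a, algebraMap R₀ Ω a = 0 ↔ a ∈ I := fun a => by
    rw [← hPI]
    exact hf (algebraMap R₀ R a)
  letI : Algebra (R₀ ⧸ I) Ω := (Ideal.Quotient.lift I (algebraMap R₀ Ω) fun a ha => (hker a).mpr ha).toAlgebra
  haveI : IsScalarTower R₀ (R₀ ⧸ I) Ω := .of_algebraMap_eq fun _ => rfl
  have hinj : Function.Injective (algebraMap (R₀ ⧸ I) Ω) :=
    RingHom.lift_injective_of_ker_le_ideal _ _ fun a ha => (hker a).mp ha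
  haveI := h Ω φ
  haveI : (nilradical (Ω ⊗[R₀] S₀)).IsPrime := by
    rw [nilradical_eq_zero]; exact Ideal.isPrime_bot
  obtain ⟨r, hr, hirr⟩ := SmoothProjective.exists_generic_aux (R₀ := R₀) (S₀ := S₀) hinj
  obtain ⟨r', hr', hred⟩ := exists_generic_red (R₀ := R₀) (S₀ := S₀) hinj
  obtain ⟨g, hgr⟩ := Ideal.Quotient.mk_surjective (r * r')
  refine ⟨g, fun hg => mul_ne_zero hr hr' (hgr ▸ Ideal.Quotient.eq_zero_iff_mem.mpr hg), fun K _ _ hK hg => ?_⟩
  letI : Algebra (R₀ ⧸ I) K := (Ideal.Quotient.lift I (algebraMap R₀ K) hK).toAlgebra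
  haveI : IsScalarTower R₀ (R₀ ⧸ I) K := .of_algebraMap_eq fun _ => rfl
  have hg' : algebraMap (R₀ ⧸ I) K (r * r') ≠ 0 := hgr ▸ hg
  rw [map_mul, mul_ne_zero_iff] at hg'
  haveI := hred K hg'.2
  exact isDomain_of_isReduced (hirr K hg'.1)

/-- Some finitely generated stage has geometrically integral fibres. -/
theorem exists_goodStage {R₀ R S₀ : Type u} [CommRing R₀] [IsNoetherianRing R₀] [CommRing R] [CommRing S₀]
    [Algebra R₀ R] [Algebra R₀ S₀] [Algebra.FiniteType R₀ S₀]
    (h : ∀ (K : Type u) [Field K] [Algebra R₀ K], (R →ₐ[R₀] K) → IsDomain (K ⊗[R₀] S₀))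
    (I : Ideal R₀) : ∃ F : Set R, F.Finite ∧ GoodStage R₀ S₀ I F := by
  refine IsNoetherian.induction (P := fun J : Submodule R₀ R₀ => ∃ F : Set R, F.Finite ∧ GoodStage R₀ S₀ (J : Ideal R₀) F)
    (fun I' ih => ?_) I
  obtain ⟨I, rfl⟩ : ∃ I : Ideal R₀, I = I' := ⟨I', rfl⟩
  by_cases hI : I = ⊤
  · exact ⟨∅, Set.finite_empty, fun K _ _ _ hK => absurd (hK 1 (hI ▸ Submodule.mem_top)) (by simp)⟩
  by_cases hprime : I.IsPrime
  swap
  · obtain ⟨a, ha, b, hb, hab⟩ := (Ideal.not_isPrime_iff.mp hprime).resolve_left hI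
    obtain ⟨F₁, hF₁, h₁⟩ := ih (I ⊔ Ideal.span {a})
      (lt_of_le_of_ne le_sup_left fun e => ha (e ▸ Ideal.mem_sup_right (Ideal.mem_span_singleton_self a)))
    obtain ⟨F₂, hF₂, h₂⟩ := ih (I ⊔ Ideal.span {b})
      (lt_of_le_of_ne le_sup_left fun e => hb (e ▸ Ideal.mem_sup_right (Ideal.mem_span_singleton_self b)))
    refine ⟨F₁ ∪ F₂, hF₁.union hF₂, fun K _ _ φ hK => ?_⟩
    have hker : ∀ x : R₀, algebraMap R₀ K x = 0 → I ⊔ Ideal.span {x} ≤ RingHom.ker (algebraMap R₀ K) :=
      fun x hx => sup_le hK ((Ideal.span_singleton_le_iff_mem _).mpr hx)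
    rcases mul_eq_zero.mp ((map_mul _ a b).symm.trans (hK _ hab)) with h0 | h0
    · exact h₁.mono Set.subset_union_left K φ fun x hx => hker a h0 hx
    · exact h₂.mono Set.subset_union_right K φ fun x hx => hker b h0 hx
  haveI := hprime
  by_cases hover : (I.map (algebraMap R₀ R)).comap (algebraMap R₀ R) = I
  · obtain ⟨P, hP, hPI⟩ := (Ideal.comap_map_eq_self_iff_of_isPrime I).mp hover
    obtain ⟨g, hr, hgood⟩ := exists_generic h I P hPI
    obtain ⟨F, hF, hF'⟩ := ih (I ⊔ Ideal.span {g})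
      (lt_of_le_of_ne le_sup_left fun e => hr (e ▸ Ideal.mem_sup_right (Ideal.mem_span_singleton_self g)))
    refine ⟨F, hF, fun K _ _ φ hK => ?_⟩
    by_cases hg : algebraMap R₀ K g = 0
    · exact hF' K φ fun x hx => sup_le (c := RingHom.ker (algebraMap R₀ K)) hK
        ((Ideal.span_singleton_le_iff_mem _).mpr hg) hx
    exact hgood K hK hg
  · obtain ⟨g, hg, hgI⟩ := SetLike.exists_of_lt (lt_of_le_of_ne Ideal.le_comap_map (Ne.symm hover))
    obtain ⟨F, hF, hF'⟩ := ih (I ⊔ Ideal.span {g})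
      (lt_of_le_of_ne le_sup_left fun e => hgI (e ▸ Ideal.mem_sup_right (Ideal.mem_span_singleton_self g)))
    obtain ⟨n, c, a, hca⟩ : ∃ (n : ℕ) (c : Fin n → R) (a : Fin n → I),
        ∑ i, c i * algebraMap R₀ R (a i) = algebraMap R₀ R g := by
      obtain ⟨n, c, v, hv⟩ := Submodule.mem_span_set'.mp (Ideal.mem_comap.mp hg)
      choose a ha haI using fun i => (v i).2
      refine ⟨n, c, fun i => ⟨a i, ha i⟩, ?_⟩
      rw [← hv]
      exact Finset.sum_congr rfl fun i _ => by rw [haI i, smul_eq_mul]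
    refine ⟨F ∪ Set.range c, hF.union (Set.finite_range c), fun K _ _ φ hK => ?_⟩
    have hgK : algebraMap R₀ K g = 0 := by
      have hc : ∀ i, c i ∈ Algebra.adjoin R₀ (F ∪ Set.range c) := fun i =>
        Algebra.subset_adjoin (Or.inr ⟨i, rfl⟩)
      have : algebraMap R₀ (Algebra.adjoin R₀ (F ∪ Set.range c)) g =
          ∑ i, ⟨c i, hc i⟩ * algebraMap R₀ (Algebra.adjoin R₀ (F ∪ Set.range c)) (a i) := Subtype.ext (by
        rw [AddSubmonoidClass.coe_finset_sum]
        exact hca.symm)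
      rw [← φ.commutes g, this, map_sum]
      exact Finset.sum_eq_zero fun i _ => by rw [map_mul, φ.commutes, hK _ (a i).2, mul_zero]
    exact hF'.mono Set.subset_union_left K φ fun x hx => sup_le (c := RingHom.ker (algebraMap R₀ K)) hK
      ((Ideal.span_singleton_le_iff_mem _).mpr hgK) hx

theorem projective_of_model (R₀ S₀ : Type u) [CommRing R₀] [IsNoetherianRing R₀] [CommRing S₀]
    [Algebra R₀ R] [Algebra R₀ S₀] [Algebra.FiniteType R₀ S₀] [Module.Flat R₀ S₀] (e : S ≃ₐ[R] R ⊗[R₀] S₀)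
    (h : FlatCA.GeomIntegralFibres R S) : Module.Projective R S := by
  have hgood : ∀ (K : Type u) [Field K] [Algebra R₀ K], (R →ₐ[R₀] K) → IsDomain (K ⊗[R₀] S₀) := by
    intro K _ _ φ
    letI : Algebra R K := φ.toRingHom.toAlgebra
    haveI : IsScalarTower R₀ R K := .of_algebraMap_eq fun r => (φ.commutes r).symm
    haveI := geomIntegralFibres_iff.mp h K
    let e' : K ⊗[R₀] S₀ ≃ₐ[K] K ⊗[R] S := (Algebra.TensorProduct.cancelBaseChange R₀ R K K S₀).symm.trans
      (Algebra.TensorProduct.congr AlgEquiv.refl e.symm)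
    exact e'.toMulEquiv.isDomain _
  obtain ⟨F, hF, hF'⟩ := exists_goodStage hgood (⊥ : Ideal R₀)
  let R₁ := Algebra.adjoin R₀ F
  haveI : Algebra.FiniteType R₀ R₁ :=
    (Subalgebra.fg_iff_finiteType _).mp (Subalgebra.fg_def.mpr ⟨F, hF, rfl⟩)
  haveI : IsNoetherianRing R₁ := Algebra.FiniteType.isNoetherianRing R₀ R₁
  let S₁ := R₁ ⊗[R₀] S₀
  haveI : Module.Flat R₁ S₁ := inferInstance
  have hgi : FlatCA.GeomIntegralFibres R₁ S₁ := geomIntegralFibres_iff.mpr fun K _ _ => by
    letI : Algebra R₀ K := ((algebraMap R₁ K).comp (algebraMap R₀ R₁)).toAlgebra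
    haveI : IsScalarTower R₀ R₁ K := .of_algebraMap_eq fun r => rfl
    haveI := hF' K (IsScalarTower.toAlgHom R₀ R₁ K) (fun a ha => by rw [Ideal.mem_bot.mp ha, map_zero])
    let e' : K ⊗[R₁] S₁ ≃ₐ[K] K ⊗[R₀] S₀ := Algebra.TensorProduct.cancelBaseChange R₀ R₁ K K S₀
    exact e'.toMulEquiv.isDomain _
  haveI : Module.Projective R₁ S₁ := projective_of_geomIntegralFibres hgi
  exact Module.Projective.of_equiv (e.trans (Algebra.TensorProduct.cancelBaseChange R₀ R₁ R R S₀).symm).symm.toLinearEquiv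

/-- **Flat finitely presented algebras with geometrically integral fibres are projective.** -/
theorem projective_of_flat (R S : Type u) [CommRing R] [CommRing S] [Algebra R S]
    [Algebra.FinitePresentation R S] [Module.Flat R S] (h : FlatCA.GeomIntegralFibres R S) :
    Module.Projective R S := by
  obtain ⟨R₁, _, _, S₁, _, _, _, _, _, _, hfg, hft, hflat, hpush⟩ := FlatMorOne.exists_flat_model_algebra R S
  haveI := hft
  haveI := hflat
  haveI := hpush
  haveI : IsNoetherianRing R₁ := Algebra.FiniteType.isNoetherianRing ℤ R₁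
  exact projective_of_model R₁ S₁ (Algebra.IsPushout.equiv R₁ R S₁ S).symm h

end Groth.RaynaudGruson.IntegralProjective
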