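import Groth.Agent.RaynaudGruson.ContentBlowUp
import Groth.Agent.RaynaudGruson.IntegralProjective
import Groth.Agent.RefRank.StrictSheaf
import Groth.Agent.RefRank.AdmBlowUp
import Groth.Agent.RefRank.FTIdealExtendOn
import Groth.Agent.Ega2Proj.AffineBC
import Groth.Agent.FlatMorOne.FlatLocusScheme
import Groth.Agent.Flatmor4.FreeFibre
import Groth.Agent.Flatmor4.FPSections
import Groth.Agent.QCohMod.ExtendFP
import Groth.Agent.RelFP.Scheme
import Groth.Agent.LocFree.Affine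
import Groth.Agent.Divisors.EffCartierMore
import Mathlib.AlgebraicGeometry.Geometrically.Integral
import Mathlib.AlgebraicGeometry.Fiber

/-!
An admissible blow-up after which the strict transform of a module is finite locally free on an open
meeting every fibre.
-/

set_option autoImplicit false
set_option linter.style.haveILetI false
universe u

open CategoryTheory CategoryTheory.Limits AlgebraicGeometry TopologicalSpace

namespace Groth.RaynaudGruson.ContentBlowUp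

section Algebra

variable {R A M : Type u} [CommRing R] [CommRing A] [Algebra R A] [AddCommGroup M] [Module A M]

open TensorProduct in
/-- A module which is finitely presented near the generic point of a fibre and flat there is free there. -/
theorem free_localized [Module R M] [IsScalarTower R A M] (p : Ideal R) [p.IsPrime]
    [hq : (p.map (algebraMap R A)).IsPrime] (hc : (p.map (algebraMap R A)).comap (algebraMap R A) = p)
    {f : R} (hf : f ∉ p)
    (hfp : Module.FinitePresentation (Localization.Away (algebraMap R A f))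
      (LocalizedModule (Submonoid.powers (algebraMap R A f)) M))
    (hfl : Module.Flat R (LocalizedModule (p.map (algebraMap R A)).primeCompl M)) :
    Module.Free (Localization.AtPrime (p.map (algebraMap R A)))
      (LocalizedModule (p.map (algebraMap R A)).primeCompl M) := by
  set q := p.map (algebraMap R A) with hqdef
  let Rp := Localization.AtPrime p
  let Aq := Localization.AtPrime q
  let Mq := LocalizedModule q.primeCompl M
  let Af := Localization.Away (algebraMap R A f)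
  letI algpq : Algebra Rp Aq := (Localization.localRingHom p q (algebraMap R A) hc.symm).toAlgebra
  haveI : IsScalarTower R Rp Aq := IsScalarTower.of_algebraMap_eq fun r => by
    show algebraMap R Aq r = Localization.localRingHom p q (algebraMap R A) hc.symm (algebraMap R Rp r)
    rw [Localization.localRingHom_to_map, ← IsScalarTower.algebraMap_apply]
  haveI : IsLocalHom (algebraMap Rp Aq) :=
    Localization.isLocalHom_localRingHom p q (algebraMap R A) hc.symm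
  letI : Module Rp Mq := Module.compHom Mq (algebraMap Rp Aq)
  haveI : IsScalarTower Rp Aq Mq := IsScalarTower.of_algebraMap_smul fun _ _ => rfl
  haveI : IsScalarTower R Rp Mq := IsScalarTower.of_algebraMap_smul fun r m => by
    show algebraMap Rp Aq (algebraMap R Rp r) • m = r • m
    rw [← IsScalarTower.algebraMap_apply, IsScalarTower.algebraMap_apply R A Aq, algebraMap_smul, algebraMap_smul]
  haveI : Module.Flat Rp Mq :=
    (Module.flat_iff_of_isLocalization Rp p.primeCompl Mq).mpr hfl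
  have hfq : IsUnit (algebraMap A Aq (algebraMap R A f)) :=
    IsLocalization.map_units Aq (⟨_, fun h => hf (hc.le (Ideal.mem_comap.mpr h))⟩ : q.primeCompl)
  letI : Algebra Af Aq := (IsLocalization.Away.lift (algebraMap R A f) hfq).toAlgebra
  haveI : IsScalarTower A Af Aq := IsScalarTower.of_algebraMap_eq fun a =>
    (IsLocalization.Away.lift_eq (algebraMap R A f) hfq a).symm
  haveI : Module.FinitePresentation Af (Af ⊗[A] M) := Module.FinitePresentation.of_equiv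
    ((IsLocalizedModule.isBaseChange (Submonoid.powers (algebraMap R A f)) Af
      (LocalizedModule.mkLinearMap (Submonoid.powers (algebraMap R A f)) M)).equiv).symm
  haveI : Module.FinitePresentation Aq Mq := Module.FinitePresentation.of_equiv
    ((AlgebraTensorModule.cancelBaseChange A Af Aq Aq M).trans
      (IsLocalizedModule.isBaseChange q.primeCompl Aq (LocalizedModule.mkLinearMap q.primeCompl M)).equiv)
  refine Flatmor4.free_of_flat_of_free_fibre (A := Rp) ?_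
  have hm : (IsLocalRing.maximalIdeal Rp).map (algebraMap Rp Aq) = IsLocalRing.maximalIdeal Aq := by
    rw [← Localization.AtPrime.map_eq_maximalIdeal (I := p), Ideal.map_map, ← IsScalarTower.algebraMap_eq,
      IsScalarTower.algebraMap_eq R A Aq, ← Ideal.map_map, Localization.AtPrime.map_eq_maximalIdeal]
  haveI : ((IsLocalRing.maximalIdeal Rp).map (algebraMap Rp Aq)).IsMaximal := by
    rw [hm]; infer_instance
  letI := Ideal.Quotient.field ((IsLocalRing.maximalIdeal Rp).map (algebraMap Rp Aq))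
  exact Module.Free.of_divisionRing _ _

theorem isBasisAway_equiv {N N' : Type u} [AddCommGroup N] [Module A N] [AddCommGroup N'] [Module A N']
    (e : N ≃ₗ[A] N') {g : A} {n : ℕ} {v : Fin n → N} (h : Groth.LocFree.IsBasisAway g v) :
    Groth.LocFree.IsBasisAway g (fun i => e (v i)) := by
  refine ⟨fun c hc => h.1 c (e.injective ?_), fun x => ?_⟩
  · rw [map_zero, map_sum]
    simpa only [map_smul] using hc
  · obtain ⟨k, c, hk⟩ := h.2 (e.symm x)
    refine ⟨k, c, ?_⟩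
    have := congrArg e hk
    rw [map_smul, e.apply_symm_apply, map_sum] at this
    simpa only [map_smul] using this

end Algebra

variable {X S : Scheme.{u}} (f : X ⟶ S) [IsAffineHom f]

theorem geomIntegralFibres_app [GeometricallyIntegral f] {W : S.Opens} (hW : IsAffineOpen W) :
    letI := (f.app W).hom.toAlgebra
    FlatCA.GeomIntegralFibres Γ(S, W) Γ(X, f ⁻¹ᵁ W) := by
  letI := (f.app W).hom.toAlgebra
  have hA := hW.preimage f
  have hsq : Spec.map (f.app W) ≫ hW.fromSpec = hA.fromSpec ≫ f := by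
    rw [Scheme.Hom.app_eq_appLE]
    exact IsAffineOpen.SpecMap_appLE_fromSpec f hW hA le_rfl
  have hpb : IsPullback (Spec.map (f.app W)) hA.fromSpec hW.fromSpec f := by
    refine IsOpenImmersion.isPullback _ _ _ _ hsq.symm ?_
    simp [IsAffineOpen.opensRange_fromSpec]
  exact MorphismProperty.of_isPullback hpb.flip (inferInstanceAs (GeometricallyIntegral f))

/-- The centre over an affine open of the base. -/
theorem exists_centre_affine [LocallyOfFinitePresentation f] [Flat f] [GeometricallyIntegral f]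
    (U : S.Opens) (F : X.Modules) [F.IsQuasicoherent] (hft : CohB1.IsFT F)
    (hfpU : CohB1.IsFP ((Scheme.Modules.pullback (f ⁻¹ᵁ U).ι).obj F))
    (hflU : ∀ x : X, f.base x ∈ U → closure ({f.asFiber x} : Set (f.fiber (f.base x))) = Set.univ →
      FlatMod.IsFlatOverAt f F x)
    (W : S.affineOpens) (Fs : Finset Γ(S, W.1)) (hFs : ∀ g ∈ Fs, S.basicOpen g ≤ U)
    [Algebra Γ(S, W.1) Γ(X, f ⁻¹ᵁ W.1)]
    (halg : algebraMap Γ(S, W.1) Γ(X, f ⁻¹ᵁ W.1) = (f.app W.1).hom)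
    (σ : Γ(X, f ⁻¹ᵁ W.1) →ₗ[Γ(S, W.1)] (Γ(X, f ⁻¹ᵁ W.1) →₀ Γ(S, W.1)))
    (hσ : ∀ x, Finsupp.linearCombination Γ(S, W.1) id (σ x) = x) :
    Nonempty (Centre Γ(S, W.1) Γ(X, f ⁻¹ᵁ W.1) Γ(F, f ⁻¹ᵁ W.1) σ Fs) := by
  have hA := W.2.preimage f
  have halg' : (inferInstance : Algebra Γ(S, W.1) Γ(X, f ⁻¹ᵁ W.1)) =
      (f.appLE W.1 (f ⁻¹ᵁ W.1) le_rfl).hom.toAlgebra := by
    refine Algebra.algebra_ext _ _ fun r => ?_
    rw [← Scheme.Hom.app_eq_appLE]
    exact RingHom.congr_fun halg r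
  have hgi : FlatCA.GeomIntegralFibres Γ(S, W.1) Γ(X, f ⁻¹ᵁ W.1) := by
    have := geomIntegralFibres_app f W.2
    unfold FlatCA.GeomIntegralFibres at this ⊢
    rw [halg]; exact this
  haveI := QCohMod.finite_sections F hft hA
  have hfpD : ∀ g ∈ Fs, Module.FinitePresentation
      (Localization.Away (algebraMap Γ(S, W.1) Γ(X, f ⁻¹ᵁ W.1) g))
      (LocalizedModule (Submonoid.powers (algebraMap Γ(S, W.1) Γ(X, f ⁻¹ᵁ W.1) g)) Γ(F, f ⁻¹ᵁ W.1)) := by
    intro g hg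
    set a := algebraMap Γ(S, W.1) Γ(X, f ⁻¹ᵁ W.1) g with ha
    have hD : X.basicOpen a ≤ f ⁻¹ᵁ U := by
      rw [ha, halg, ← Scheme.preimage_basicOpen]
      exact f.preimage_mono (hFs g hg)
    have hB : IsAffineOpen ((f ⁻¹ᵁ U).ι ⁻¹ᵁ X.basicOpen a) :=
      (hA.basicOpen a).preimage_of_isOpenImmersion (f ⁻¹ᵁ U).ι (by rwa [Scheme.Opens.opensRange_ι])
    haveI : ((Scheme.Modules.pullback (f ⁻¹ᵁ U).ι).obj F).IsQuasicoherent := Groth.QCohMod.isQCoh_pullback_obj _ F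
    have h1 : Module.FinitePresentation Γ(X, (f ⁻¹ᵁ U).ι ''ᵁ (f ⁻¹ᵁ U).ι ⁻¹ᵁ X.basicOpen a)
        Γ(F, (f ⁻¹ᵁ U).ι ''ᵁ (f ⁻¹ᵁ U).ι ⁻¹ᵁ X.basicOpen a) :=
      (QCohMod.fp_image_iff F _).1 (QCohMod.fp_of_iso ((Scheme.Modules.restrictFunctorIsoPullback _).app F)
        (Groth.PropsBasic.FPSections.finitePresentation_sections _ hfpU hB))
    rw [Scheme.Hom.image_preimage_eq_opensRange_inf, Scheme.Opens.opensRange_ι, inf_eq_right.mpr hD] at h1
    letI := RelFP.basicModule F a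
    haveI : IsScalarTower Γ(X, f ⁻¹ᵁ W.1) Γ(X, X.basicOpen a) Γ(F, X.basicOpen a) :=
      .of_algebraMap_smul fun _ _ => rfl
    haveI := hA.isLocalization_basicOpen a
    haveI := RelFP.isLocalizedModule_basicRes (F := F) hA a
    refine QCohMod.finitePresentation_of_semilinear (R := Γ(X, X.basicOpen a)) (M := Γ(F, X.basicOpen a))
      (IsLocalization.algEquiv (Submonoid.powers a) Γ(X, X.basicOpen a) (Localization.Away a)).toRingEquiv
      (IsLocalizedModule.iso (Submonoid.powers a) (RelFP.basicRes F a)).symm.toAddEquiv ?_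
    intro r m
    obtain ⟨x, s, rfl⟩ := IsLocalization.exists_mk'_eq (Submonoid.powers a) r
    let e := (IsLocalizedModule.iso (Submonoid.powers a) (RelFP.basicRes F a)).symm
    let τ := IsLocalization.algEquiv (Submonoid.powers a) Γ(X, X.basicOpen a) (Localization.Away a)
    show e (IsLocalization.mk' _ x s • m) = τ (IsLocalization.mk' _ x s) • e m
    have hu : IsUnit (algebraMap Γ(X, f ⁻¹ᵁ W.1) (Localization.Away a) s.1) :=
      IsLocalization.map_units _ s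
    refine hu.smul_left_cancel.mp ?_
    rw [← mul_smul, ← τ.commutes s.1, ← map_mul, IsLocalization.mk'_spec'_mk, τ.commutes, τ.commutes,
      algebraMap_smul, algebraMap_smul, ← map_smul, ← algebraMap_smul Γ(X, X.basicOpen a) s.1, ← mul_smul,
      IsLocalization.mk'_spec'_mk, algebraMap_smul, map_smul]
  refine exists_centre hσ hgi Fs hfpD fun p _ hq hex => ?_
  obtain ⟨g, hg, hgp⟩ := hex
  set q := p.map (algebraMap Γ(S, W.1) Γ(X, f ⁻¹ᵁ W.1)) with hqdef
  have hc : q.comap (algebraMap Γ(S, W.1) Γ(X, f ⁻¹ᵁ W.1)) = p := by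
    obtain ⟨Q, hQ, hQp⟩ := exists_prime_over hgi p
    refine le_antisymm ?_ Ideal.le_comap_map
    refine le_trans (Ideal.comap_mono (Ideal.map_le_iff_le_comap.2 hQp.over.le)) hQp.over.ge
  let q' : PrimeSpectrum Γ(X, f ⁻¹ᵁ W.1) := ⟨q, hq⟩
  let p' : PrimeSpectrum Γ(S, W.1) := ⟨p, inferInstance⟩
  have hover : ∀ z : PrimeSpectrum Γ(X, f ⁻¹ᵁ W.1), f (hA.fromSpec z) =
      W.2.fromSpec (z.comap (algebraMap Γ(S, W.1) Γ(X, f ⁻¹ᵁ W.1))) := by
    intro z
    have h1 := IsAffineOpen.SpecMap_appLE_fromSpec f W.2 hA le_rfl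
    rw [← Scheme.Hom.app_eq_appLE] at h1
    rw [halg]
    exact (congr(($h1).base z)).symm
  set x := hA.fromSpec q' with hx
  have hxW : x ∈ f ⁻¹ᵁ W.1 := by
    have : x ∈ Set.range hA.fromSpec := ⟨q', rfl⟩
    rwa [hA.range_fromSpec] at this
  have hfx : f x = W.2.fromSpec p' := by
    rw [hx, hover]
    exact congrArg _ (PrimeSpectrum.ext hc)
  have hxU : f x ∈ U := by
    refine hFs g hg ?_
    rw [hfx]
    have : p' ∈ W.2.fromSpec ⁻¹ᵁ S.basicOpen g := by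
      rw [IsAffineOpen.fromSpec_preimage_basicOpen]; exact hgp
    exact this
  have hgen : closure ({f.asFiber x} : Set (f.fiber (f x))) = Set.univ := by
    refine Set.eq_univ_of_forall fun w => specializes_iff_mem_closure.mp ?_
    rw [← (f.fiberHomeo (f x)).isInducing.specializes_iff, subtype_specializes_iff]
    show ((f.fiberHomeo (f x)) ((f.fiberHomeo (f x)).symm ⟨x, rfl⟩)).1 ⤳ _
    rw [Homeomorph.apply_symm_apply]
    set z := (f.fiberHomeo (f x)) w
    have hz : f z.1 = f x := z.2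
    have hzW : z.1 ∈ f ⁻¹ᵁ W.1 := by
      show f z.1 ∈ W.1
      rw [hz]; exact hxW
    show x ⤳ _
    rw [← hA.fromSpec_primeIdealOf ⟨z.1, hzW⟩]
    refine Specializes.map ?_ hA.fromSpec.continuous
    refine (PrimeSpectrum.le_iff_specializes q' _).mp ?_
    refine Ideal.map_le_iff_le_comap.2 (le_of_eq ?_)
    have h1 := hover (hA.primeIdealOf ⟨z.1, hzW⟩)
    rw [hA.fromSpec_primeIdealOf, hz] at h1
    exact congrArg PrimeSpectrum.asIdeal (W.2.fromSpec.isOpenEmbedding.injective (hfx.symm.trans h1))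
  have hfl := (FlatMorOne.isFlatOverAt_iff_localized f F hA W.2 le_rfl ⟨x, hxW⟩).1 (hflU x hxU hgen)
  have hpi : hA.primeIdealOf ⟨x, hxW⟩ = q' :=
    hA.fromSpec.isOpenEmbedding.injective (hA.fromSpec_primeIdealOf _)
  rw [hpi] at hfl
  letI : Module Γ(S, W.1) Γ(F, f ⁻¹ᵁ W.1) := Module.compHom _ (algebraMap Γ(S, W.1) Γ(X, f ⁻¹ᵁ W.1))
  haveI : IsScalarTower Γ(S, W.1) Γ(X, f ⁻¹ᵁ W.1) Γ(F, f ⁻¹ᵁ W.1) := .of_algebraMap_smul fun _ _ => rfl
  refine free_localized p hc hgp (hfpD g hg) ?_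
  subst halg'
  exact hfl

variable {f}

/-- Over a point of the blow-up the strict transform is free near some point above it. -/
theorem exists_free_point [LocallyOfFinitePresentation f] [Flat f] [GeometricallyIntegral f]
    {X' S' : Scheme.{u}} {b : S' ⟶ S} {p₁ : X' ⟶ X} {p₂ : X' ⟶ S'} (hpb : IsPullback p₁ p₂ f b)
    (F : X.Modules) [F.IsQuasicoherent] (hft : CohB1.IsFT F) (W : S.affineOpens) {Fs : Set Γ(S, W.1)}
    [Algebra Γ(S, W.1) Γ(X, f ⁻¹ᵁ W.1)]
    (halg : algebraMap Γ(S, W.1) Γ(X, f ⁻¹ᵁ W.1) = (f.app W.1).hom)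
    {σ : Γ(X, f ⁻¹ᵁ W.1) →ₗ[Γ(S, W.1)] (Γ(X, f ⁻¹ᵁ W.1) →₀ Γ(S, W.1))}
    (hσ : ∀ x, Finsupp.linearCombination Γ(S, W.1) id (σ x) = x)
    (c : Centre Γ(S, W.1) Γ(X, f ⁻¹ᵁ W.1) Γ(F, f ⁻¹ᵁ W.1) σ Fs)
    (𝓘 : S.IdealSheafData) (hE : BlowUp.IsEffCartierIdeal (𝓘.comap b))
    {G : X'.Modules} {π : (Scheme.Modules.pullback p₁).obj F ⟶ G}
    (hG : BlowUp.IsStrictTransform p₁ (𝓘.comap f) F G π)
    (W' : S'.affineOpens) (e : W'.1 ≤ b ⁻¹ᵁ W.1) {t τ : Γ(S', W'.1)}
    (ht : t ∈ nonZeroDivisors Γ(S', W'.1)) (hI : c.ideal.map (b.appLE W.1 W'.1 e).hom = Ideal.span {t})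
    (hτ : τ ∈ nonZeroDivisors Γ(S', W'.1)) (hdvd : t ∣ τ) (hIτ : (𝓘.comap b).ideal W' = Ideal.span {τ})
    {s : S'} (hs : s ∈ W'.1) :
    ∃ (V : X'.Opens) (x : X') (n : ℕ), x ∈ V ∧ p₂ x = s ∧
      Nonempty (G.restrict V.ι ≅ FlatMod.freeMod (↑V) n) := by
  haveI : IsAffineHom p₂ := MorphismProperty.of_isPullback hpb inferInstance
  haveI : Flat p₂ := MorphismProperty.of_isPullback hpb inferInstance
  have hA := W.2.preimage f
  let P : X'.affineOpens := ⟨p₂ ⁻¹ᵁ W'.1, W'.2.preimage p₂⟩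
  have e' : p₂ ⁻¹ᵁ W'.1 ≤ p₁ ⁻¹ᵁ (f ⁻¹ᵁ W.1) := by
    rw [← Scheme.Hom.comp_preimage, hpb.w, Scheme.Hom.comp_preimage]
    exact p₂.preimage_mono e
  have hpo := Groth.Ega2Proj.AffBC.isPushout_appLE f b p₁ p₂ hpb W.2 W'.2 e e'
  letI algRR' : Algebra Γ(S, W.1) Γ(S', W'.1) := QCohMod.sectionsAlg b e
  letI algAA' : Algebra Γ(X, f ⁻¹ᵁ W.1) Γ(X', p₂ ⁻¹ᵁ W'.1) := QCohMod.sectionsAlg p₁ e'
  letI algR'A' : Algebra Γ(S', W'.1) Γ(X', p₂ ⁻¹ᵁ W'.1) := (p₂.app W'.1).hom.toAlgebra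
  letI algRA' : Algebra Γ(S, W.1) Γ(X', p₂ ⁻¹ᵁ W'.1) := (b.appLE W.1 W'.1 e ≫ p₂.app W'.1).hom.toAlgebra
  haveI : IsScalarTower Γ(S, W.1) Γ(S', W'.1) Γ(X', p₂ ⁻¹ᵁ W'.1) := IsScalarTower.of_algebraMap_eq fun _ => rfl
  haveI : IsScalarTower Γ(S, W.1) Γ(X, f ⁻¹ᵁ W.1) Γ(X', p₂ ⁻¹ᵁ W'.1) := IsScalarTower.of_algebraMap_eq fun r => by
    rw [halg]
    exact congr(($(hpo.w)).hom r)
  haveI : Algebra.IsPushout Γ(S, W.1) Γ(S', W'.1) Γ(X, f ⁻¹ᵁ W.1) Γ(X', p₂ ⁻¹ᵁ W'.1) := by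
    refine CommRingCat.isPushout_iff_isPushout.1 ?_
    rw [halg]
    exact hpo
  haveI : Algebra.IsPushout Γ(S, W.1) Γ(X, f ⁻¹ᵁ W.1) Γ(S', W'.1) Γ(X', p₂ ⁻¹ᵁ W'.1) :=
    Algebra.IsPushout.symm inferInstance
  have hgi : FlatCA.GeomIntegralFibres Γ(S, W.1) Γ(X, f ⁻¹ᵁ W.1) := by
    have := geomIntegralFibres_app f W.2
    unfold FlatCA.GeomIntegralFibres at this ⊢
    rw [halg]; exact this
  haveI : Module.Flat Γ(S, W.1) Γ(X, f ⁻¹ᵁ W.1) := by
    rw [← RingHom.flat_algebraMap_iff, halg, Scheme.Hom.app_eq_appLE]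
    exact f.flat_appLE W.2 hA le_rfl
  haveI := QCohMod.finite_sections F hft hA
  haveI : ((Scheme.Modules.pullback p₁).obj F).IsQuasicoherent := Groth.QCohMod.isQCoh_pullback_obj p₁ F
  have hexc : (𝓘.comap f).comap p₁ = (𝓘.comap b).comap p₂ := by
    rw [← Scheme.IdealSheafData.comap_comp, hpb.w, Scheme.IdealSheafData.comap_comp]
  haveI := RefRank.StrictSheaf.isQCoh_of_isStrictTransform
    (hexc ▸ Divisors.isEffCartierIdeal_comap_flat hE p₂) hG
  haveI := hG.1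
  letI : Module Γ(X, f ⁻¹ᵁ W.1) Γ((Scheme.Modules.pullback p₁).obj F, p₂ ⁻¹ᵁ W'.1) :=
    Module.compHom _ (p₁.appLE (f ⁻¹ᵁ W.1) (p₂ ⁻¹ᵁ W'.1) e').hom
  haveI : IsScalarTower Γ(X, f ⁻¹ᵁ W.1) Γ(X', p₂ ⁻¹ᵁ W'.1) Γ((Scheme.Modules.pullback p₁).obj F, p₂ ⁻¹ᵁ W'.1) :=
    IsScalarTower.of_algebraMap_smul fun _ _ => rfl
  have hEP : ((𝓘.comap f).comap p₁).ideal P = Ideal.span {algebraMap Γ(S', W'.1) Γ(X', p₂ ⁻¹ᵁ W'.1) τ} := by
    rw [hexc, Divisors.ideal_comap_affine _ p₂ W' P le_rfl, hIτ, Ideal.map_span, Set.image_singleton,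
      ← Scheme.Hom.app_eq_appLE]
    rfl
  let T := LinearMap.ker (QCohMod.appₗ π (p₂ ⁻¹ᵁ W'.1))
  obtain ⟨g, Q, r, v, hQ, hQs, hgQ, hv⟩ := c.chart hσ hgi ht hI hτ hdvd _
    (Groth.LocFree.isBaseChange_pullSecₗ p₁ F e' hA P.2) T
    (fun m => (hG.2 P m).trans (RefRank.StrictSheaf.killedByPowerNear_iff hEP m))
    (W'.2.primeIdealOf ⟨s, hs⟩).asIdeal
  have hsurj : Function.Surjective (QCohMod.appₗ π (p₂ ⁻¹ᵁ W'.1)) := QCohMod.app_surjective_of_epi π P.2
  have hB := isBasisAway_equiv ((QCohMod.appₗ π (p₂ ⁻¹ᵁ W'.1)).quotKerEquivOfSurjective hsurj) hv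
  refine ⟨X'.basicOpen g, P.2.fromSpec ⟨Q, hQ⟩, r, ?_, ?_,
    LocFree.nonempty_iso_of_basis (LocFree.basis'_of_isBasisAway P.2 g hB)⟩
  · have : (⟨Q, hQ⟩ : PrimeSpectrum _) ∈ P.2.fromSpec ⁻¹ᵁ X'.basicOpen g := by
      rw [IsAffineOpen.fromSpec_preimage_basicOpen]; exact hgQ
    exact this
  · have h1 := IsAffineOpen.SpecMap_appLE_fromSpec p₂ W'.2 P.2 le_rfl
    rw [← Scheme.Hom.app_eq_appLE] at h1
    refine (congr(($h1).base ⟨Q, hQ⟩)).symm.trans ?_
    rw [Scheme.Hom.comp_base]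
    refine Eq.trans ?_ (W'.2.fromSpec_primeIdealOf ⟨s, hs⟩)
    exact congrArg W'.2.fromSpec (PrimeSpectrum.ext hQs)

theorem notMem_support {I : S.IdealSheafData} {W : S.affineOpens} {z : S} {a : Γ(S, W.1)}
    (ha : a ∈ I.ideal W) (hz : z ∈ S.basicOpen a) : z ∉ I.support := fun h => by
  rw [Scheme.IdealSheafData.mem_support_iff_of_mem (S.basicOpen_le a hz), Scheme.mem_zeroLocus_iff] at h
  exact h a ha hz

/-- A finitely generated ideal on an affine open, trivial on `U`, extends to an admissible ideal sheaf. -/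
theorem exists_admissible [CompactSpace S] [QuasiSeparatedSpace S] {U : S.Opens} (hU : IsCompact (U : Set S))
    (W : S.affineOpens) (I : Ideal Γ(S, W.1)) (hI : I.FG)
    (hIU : ∀ x ∈ W.1, x ∈ U → ∃ a ∈ I, x ∈ S.basicOpen a) :
    ∃ L : S.IdealSheafData, BlowUp.IsAdmissibleFor U L ∧ L.ideal W = I := by
  classical
  obtain ⟨J, hJW, hJext⟩ := FlatMorOne.exists_idealSheaf_of_ideal W I
  haveI := Groth.FlatMorOne.quasiCompact_ι W.2.isCompact
  obtain ⟨t, ht⟩ := hU.elim_finite_subcover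
    (fun V : {V : S.affineOpens // V.1 ≤ U} => (V.1.1 : Set S)) (fun V => V.1.1.2) (fun x hx => by
      obtain ⟨V, hxV, hVU⟩ := Divisors.exists_affine_le x U hx
      exact Set.mem_iUnion.mpr ⟨⟨V, hVU⟩, hxV⟩)
  have htop : ∀ V : S.affineOpens, V.1 ≤ U → J.ideal V = ⊤ := by
    intro V hV
    rw [Ideal.eq_top_iff_one, ← hJext, FlatMorOne.mem_extendFrom_iff]
    intro B hBV hBW
    rw [RefRank.StrictSheaf.ideal_eq_top_of_notMem_support J B fun z hz => ?_]
    · exact Submodule.mem_top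
    obtain ⟨a, ha, hza⟩ := hIU z (hBW hz) (hV (hBV hz))
    exact notMem_support (hJW ▸ ha) hza
  let t₀ : Finset S.affineOpens := insert W (t.image Subtype.val)
  obtain ⟨K, -, hKfg, hK⟩ := RefRank.exists_ftIdeal_eq_on J t₀ fun A hA => by
    rcases Finset.mem_insert.mp hA with rfl | hA
    · rw [hJW]; exact hI
    · obtain ⟨V, -, rfl⟩ := Finset.mem_image.mp hA
      rw [htop V.1 V.2]; exact Module.Finite.fg_top
  refine ⟨K, ⟨hKfg, Set.disjoint_right.mpr fun x hx hxs => ?_⟩, (hK W (Finset.mem_insert_self _ _)).trans hJW⟩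
  obtain ⟨V, hVt, hxV⟩ := Set.mem_iUnion₂.mp (ht hx)
  have h1 : K.ideal V.1 = ⊤ := by
    rw [hK V.1 (Finset.mem_insert_of_mem (Finset.mem_image.mpr ⟨V, hVt, rfl⟩)), htop V.1 V.2]
  refine notMem_support (W := V.1) (a := 1) (h1 ▸ Submodule.mem_top) ?_ hxs
  rw [Scheme.basicOpen_of_isUnit _ isUnit_one]
  exact hxV

theorem comap_prod {S' : Scheme.{u}} (b : S' ⟶ S) {ι : Type*} (s : Finset ι) (I : ι → S.IdealSheafData) :
    (∏ i ∈ s, I i).comap b = ∏ i ∈ s, (I i).comap b := by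
  classical
  induction s using Finset.induction with
  | empty => simp [Scheme.IdealSheafData.one_eq_top]
  | insert a s ha ih => rw [Finset.prod_insert ha, Finset.prod_insert ha, Divisors.comap_mul, ih]

/-- Finite basic cover of the trace of `U` on an affine open. -/
theorem exists_basic_cover [QuasiSeparatedSpace S] {U : S.Opens} (hU : IsCompact (U : Set S)) (W : S.affineOpens) :
    ∃ Fs : Finset Γ(S, W.1), (∀ g ∈ Fs, S.basicOpen g ≤ U) ∧
      ∀ x ∈ W.1, x ∈ U → ∃ g ∈ Fs, x ∈ S.basicOpen g := by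
  classical
  have hc : IsCompact ((U : Set S) ∩ (W.1 : Set S)) :=
    QuasiSeparatedSpace.inter_isCompact _ _ U.2 hU W.1.2 W.2.isCompact
  obtain ⟨G, hG⟩ := hc.elim_finite_subcover
    (fun g : {g : Γ(S, W.1) // S.basicOpen g ≤ U} => (S.basicOpen g.1 : Set S))
    (fun g => (S.basicOpen g.1).2) (by
      rintro x ⟨hxU, hxW⟩
      obtain ⟨g, hgU, hxg⟩ := W.2.exists_basicOpen_le ⟨x, hxU⟩ hxW
      exact Set.mem_iUnion.mpr ⟨⟨g, hgU⟩, hxg⟩)
  refine ⟨G.image Subtype.val, fun g hg => ?_, fun x hxW hxU => ?_⟩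
  · obtain ⟨g, -, rfl⟩ := Finset.mem_image.mp hg
    exact g.2
  · obtain ⟨g, hg, hxg⟩ := Set.mem_iUnion₂.mp (hG ⟨hxU, hxW⟩)
    exact ⟨g.1, Finset.mem_image.mpr ⟨g, hg, rfl⟩, hxg⟩

variable (f)

/-- **An admissible blow-up makes the strict transform finite locally free on an open surjecting to the base.** -/
theorem exists_blowUp [CompactSpace S] [QuasiSeparatedSpace S] [LocallyOfFinitePresentation f] [Flat f]
    [GeometricallyIntegral f] (U : S.Opens) (hU : IsCompact (U : Set S))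
    (F : X.Modules) [F.IsQuasicoherent] (hft : CohB1.IsFT F)
    (hfpU : CohB1.IsFP ((Scheme.Modules.pullback (f ⁻¹ᵁ U).ι).obj F))
    (hflU : ∀ x : X, f.base x ∈ U → closure ({f.asFiber x} : Set (f.fiber (f.base x))) = Set.univ →
      FlatMod.IsFlatOverAt f F x) :
    ∃ (𝓘 : S.IdealSheafData) (S' : Scheme.{u}) (b : S' ⟶ S), BlowUp.IsBlowUp b 𝓘 ∧ BlowUp.IsAdmissibleFor U 𝓘 ∧
      ∀ (X' : Scheme.{u}) (p₁ : X' ⟶ X) (p₂ : X' ⟶ S'), IsPullback p₁ p₂ f b →
      ∀ (G : X'.Modules) (π : (Scheme.Modules.pullback p₁).obj F ⟶ G), BlowUp.IsStrictTransform p₁ (𝓘.comap f) F G π →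
        ∃ V : X'.Opens, FlatMod.IsFinLocFree ((Scheme.Modules.pullback V.ι).obj G) ∧
          Function.Surjective (V.ι ≫ p₂).base := by
  classical
  have hloc : ∀ W : S.affineOpens, ∃ L : S.IdealSheafData, BlowUp.IsAdmissibleFor U L ∧
      ∀ (S' : Scheme.{u}) (b : S' ⟶ S) (X' : Scheme.{u}) (p₁ : X' ⟶ X) (p₂ : X' ⟶ S'), IsPullback p₁ p₂ f b →
      ∀ (G : X'.Modules) (π : (Scheme.Modules.pullback p₁).obj F ⟶ G) (𝓘 : S.IdealSheafData),
        BlowUp.IsEffCartierIdeal (𝓘.comap b) → BlowUp.IsStrictTransform p₁ (𝓘.comap f) F G π →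
      ∀ (W' : S'.affineOpens) (_ : W'.1 ≤ b ⁻¹ᵁ W.1) (t τ : Γ(S', W'.1)),
        t ∈ nonZeroDivisors Γ(S', W'.1) → (L.comap b).ideal W' = Ideal.span {t} →
        τ ∈ nonZeroDivisors Γ(S', W'.1) → t ∣ τ → (𝓘.comap b).ideal W' = Ideal.span {τ} →
      ∀ s ∈ W'.1, ∃ (V : X'.Opens) (x : X') (n : ℕ), x ∈ V ∧ p₂ x = s ∧
        Nonempty (G.restrict V.ι ≅ FlatMod.freeMod (↑V) n) := by
    intro W
    obtain ⟨Fs, hFs, hcov⟩ := exists_basic_cover hU W
    have hA := W.2.preimage f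
    letI : Algebra Γ(S, W.1) Γ(X, f ⁻¹ᵁ W.1) := (f.app W.1).hom.toAlgebra
    have hgi : FlatCA.GeomIntegralFibres Γ(S, W.1) Γ(X, f ⁻¹ᵁ W.1) := geomIntegralFibres_app f W.2
    haveI : Module.Flat Γ(S, W.1) Γ(X, f ⁻¹ᵁ W.1) := by
      rw [← RingHom.flat_algebraMap_iff, RingHom.algebraMap_toAlgebra, Scheme.Hom.app_eq_appLE]
      exact f.flat_appLE W.2 hA le_rfl
    haveI : Algebra.FinitePresentation Γ(S, W.1) Γ(X, f ⁻¹ᵁ W.1) := by
      rw [← RingHom.finitePresentation_algebraMap, RingHom.algebraMap_toAlgebra, Scheme.Hom.app_eq_appLE]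
      exact f.finitePresentation_appLE W.2 hA le_rfl
    haveI := IntegralProjective.projective_of_flat Γ(S, W.1) Γ(X, f ⁻¹ᵁ W.1) hgi
    obtain ⟨σ, hσ⟩ := ContentFitting.exists_coord (R := Γ(S, W.1)) (S := Γ(X, f ⁻¹ᵁ W.1))
    obtain ⟨c⟩ := exists_centre_affine f U F hft hfpU hflU W Fs hFs rfl σ hσ
    obtain ⟨L, hL, hLW⟩ := exists_admissible hU W c.ideal (c.ideal_fg Fs.finite_toSet) fun x hxW hxU => by
      obtain ⟨g, hg, hxg⟩ := hcov x hxW hxU
      obtain ⟨n, hn⟩ := c.mem_radical hg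
      refine ⟨g ^ (n + 1), pow_succ g n ▸ Ideal.mul_mem_right _ _ hn, ?_⟩
      rwa [Scheme.basicOpen_pow _ _ n.succ_pos]
    refine ⟨L, hL, fun S' b X' p₁ p₂ hpb G π 𝓘 hE hG W' e t τ ht hI hτ hdvd hIτ s hs => ?_⟩
    rw [Divisors.ideal_comap_affine L b W W' e, hLW] at hI
    exact exists_free_point hpb F hft W rfl hσ c 𝓘 hE hG W' e ht hI hτ hdvd hIτ hs
  choose L hL hchart using hloc
  obtain ⟨cv, hcv⟩ := isCompact_univ.elim_finite_subcover (fun V : S.affineOpens => (V.1 : Set S))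
    (fun V => V.1.isOpen) (fun x _ => by
      obtain ⟨V, hxV, -⟩ := Divisors.exists_affine_le x ⊤ trivial
      exact Set.mem_iUnion.mpr ⟨V, hxV⟩)
  let 𝓘 := ∏ W ∈ cv, L W
  obtain ⟨S', b, hb⟩ := BlowUpBasics.exists_isBlowUp S 𝓘
  refine ⟨𝓘, S', b, hb, RefRank.isAdmissibleFor_prod cv L fun W _ => hL W, fun X' p₁ p₂ hpb G π hG => ?_⟩
  refine ⟨sSup {V : X'.Opens | ∃ n : ℕ, Nonempty (G.restrict V.ι ≅ FlatMod.freeMod (↑V) n)}, ?_, fun s => ?_⟩
  · rw [KTheory.LocFree.isFinLocFree_iff]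
    intro y
    obtain ⟨V, ⟨n, ⟨iso⟩⟩, hyV⟩ := Opens.mem_sSup.mp y.2
    obtain ⟨σ, hσ⟩ := LocFree.exists_basis_of_iso iso
    exact ⟨_, n, _, hyV, hσ.pull _⟩
  obtain ⟨W, hW, hsW⟩ := Set.mem_iUnion₂.mp (hcv (Set.mem_univ (b s)))
  have hprod : (L W).comap b * (∏ i ∈ cv.erase W, L i).comap b = 𝓘.comap b := by
    rw [← Divisors.comap_mul, Finset.mul_prod_erase _ _ hW]
  have hfac := Divisors.isEffCartierIdeal_factors (hprod.symm ▸ hb.1)
  obtain ⟨W₁, hsW₁, hW₁, t, ht, hLt⟩ := Divisors.exists_generator hfac.1 s (b ⁻¹ᵁ W.1) hsW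
  obtain ⟨W', hsW', hW', r, hr, hrest⟩ := Divisors.exists_generator hfac.2 s W₁.1 hsW₁
  set t' := S'.presheaf.map (homOfLE hW').op t with ht'
  have hI : ((L W).comap b).ideal W' = Ideal.span {t'} := by
    rw [← ((L W).comap b).map_ideal (U := W') (V := W₁) hW', hLt, Ideal.map_span, Set.image_singleton]
    rfl
  have hIτ : (𝓘.comap b).ideal W' = Ideal.span {t' * r} := by
    rw [← hprod, Scheme.IdealSheafData.ideal_mul, Pi.mul_apply, hI, hrest, Ideal.span_singleton_mul_span_singleton]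
  obtain ⟨V, x, n, hxV, hxs, hiso⟩ := hchart W S' b X' p₁ p₂ hpb G π 𝓘 hb.1 hG W' (hW'.trans hW₁) t' (t' * r)
    (ht.res hW').mem_nonZeroDivisors hI ((ht.res hW').mul hr).mem_nonZeroDivisors (dvd_mul_right _ _) hIτ s hsW'
  exact ⟨⟨x, Opens.mem_sSup.mpr ⟨V, ⟨n, hiso⟩, hxV⟩⟩, hxs⟩

end Groth.RaynaudGruson.ContentBlowUp
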