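import Groth.Agent.RaynaudGruson.CompletionFree
import Mathlib

/-!
The completion of a flat module which is projective modulo `I` is a direct summand of the
completion of a free module.
-/

set_option autoImplicit false
universe u

namespace Groth.RaynaudGruson

open TensorProduct

variable {R : Type u} [CommRing R]

/-- A flat module, projective modulo a nilpotent ideal, is projective (tensor form). -/
theorem projective_of_flat_of_tensor_mod_nilpotent (I : Ideal R) (hI : IsNilpotent I) (M : Type u)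
    [AddCommGroup M] [Module R M] [Module.Flat R M]
    (hproj : Module.Projective (R ⧸ I) ((R ⧸ I) ⊗[R] M)) : Module.Projective R M := by
  haveI : Module.Projective (R ⧸ I) (M ⧸ (I • ⊤ : Submodule R M)) :=
    Module.Projective.of_equiv ((TensorProduct.quotTensorEquivQuotSMul M I).extendScalarsOfSurjective
      Ideal.Quotient.mk_surjective)
  exact projective_of_flat_of_mod_nilpotent I hI

theorem projective_quot_pow (I : Ideal R) (M : Type u) [AddCommGroup M] [Module R M] [Module.Flat R M]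
    [Module.Projective (R ⧸ I) (M ⧸ (I • ⊤ : Submodule R M))] {n : ℕ} (hn : 1 ≤ n) :
    Module.Projective (R ⧸ I ^ n) (M ⧸ (I ^ n • ⊤ : Submodule R M)) := by
  have hle : I ^ n ≤ I := Ideal.pow_le_self (by omega)
  let J : Ideal (R ⧸ I ^ n) := I.map (Ideal.Quotient.mk (I ^ n))
  have hJ : IsNilpotent J := ⟨n, by simp [J, ← Ideal.map_pow]⟩
  letI : Algebra (R ⧸ I) ((R ⧸ I ^ n) ⧸ J) := (Ideal.Quotient.lift I (algebraMap R _) (fun a ha => by
    rw [IsScalarTower.algebraMap_apply R (R ⧸ I ^ n) ((R ⧸ I ^ n) ⧸ J)]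
    exact Ideal.Quotient.eq_zero_iff_mem.mpr (Ideal.mem_map_of_mem _ ha))).toAlgebra
  haveI : IsScalarTower R (R ⧸ I) ((R ⧸ I ^ n) ⧸ J) := .of_algebraMap_eq fun a => rfl
  haveI : Module.Projective (R ⧸ I) ((R ⧸ I) ⊗[R] M) :=
    Module.Projective.of_equiv ((TensorProduct.quotTensorEquivQuotSMul M I).extendScalarsOfSurjective
      Ideal.Quotient.mk_surjective).symm
  have h1 : Module.Projective ((R ⧸ I ^ n) ⧸ J) (((R ⧸ I ^ n) ⧸ J) ⊗[R ⧸ I ^ n] ((R ⧸ I ^ n) ⊗[R] M)) :=
    Module.Projective.of_equiv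
      ((AlgebraTensorModule.cancelBaseChange R (R ⧸ I) ((R ⧸ I ^ n) ⧸ J) ((R ⧸ I ^ n) ⧸ J) M).trans
        (AlgebraTensorModule.cancelBaseChange R (R ⧸ I ^ n) ((R ⧸ I ^ n) ⧸ J) ((R ⧸ I ^ n) ⧸ J) M).symm)
  haveI := projective_of_flat_of_tensor_mod_nilpotent J hJ _ h1
  exact Module.Projective.of_equiv ((TensorProduct.quotTensorEquivQuotSMul M (I ^ n)).extendScalarsOfSurjective
    Ideal.Quotient.mk_surjective)

/-- `M / IⁿM` lifts along surjections of modules killed by `Iⁿ`. -/
theorem lift_of_torsion (I : Ideal R) (M : Type u) [AddCommGroup M] [Module R M] [Module.Flat R M]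
    [Module.Projective (R ⧸ I) (M ⧸ (I • ⊤ : Submodule R M))] {n : ℕ}
    {X Y : Type u} [AddCommGroup X] [Module R X] [AddCommGroup Y] [Module R Y]
    (hX : Module.IsTorsionBySet R X ((I ^ n : Ideal R) : Set R)) (g : X →ₗ[R] Y) (hg : Function.Surjective g)
    (h : (M ⧸ (I ^ n • ⊤ : Submodule R M)) →ₗ[R] Y) :
    ∃ h' : (M ⧸ (I ^ n • ⊤ : Submodule R M)) →ₗ[R] X, g ∘ₗ h' = h := by
  rcases Nat.eq_zero_or_pos n with hn | hn
  · refine ⟨0, LinearMap.ext fun x => ?_⟩
    haveI : Subsingleton (M ⧸ (I ^ n • ⊤ : Submodule R M)) :=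
      Submodule.Quotient.subsingleton_iff.mpr (by simp [hn])
    simp [Subsingleton.elim x 0]
  haveI := projective_quot_pow I M (n := n) hn
  have hY : Module.IsTorsionBySet R Y ((I ^ n : Ideal R) : Set R) := fun y a => by
    obtain ⟨x, rfl⟩ := hg y
    rw [← map_smul, @hX x a, map_zero]
  letI := hX.module
  letI := hY.module
  obtain ⟨h', hh'⟩ := Module.projective_lifting_property
    (g.extendScalarsOfSurjective (S := R ⧸ I ^ n) Ideal.Quotient.mk_surjective)
    (h.extendScalarsOfSurjective (S := R ⧸ I ^ n) Ideal.Quotient.mk_surjective) hg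
  exact ⟨h'.restrictScalars R, LinearMap.ext fun x => LinearMap.congr_fun hh' x⟩

variable {I : Ideal R} {M F : Type u} [AddCommGroup M] [Module R M] [AddCommGroup F] [Module R F]

/-- Compatible sections of a surjection modulo all powers of `I`. -/
theorem exists_compatible_sections [Module.Flat R M]
    [Module.Projective (R ⧸ I) (M ⧸ (I • ⊤ : Submodule R M))] (π : F →ₗ[R] M) (hπ : Function.Surjective π) :
    ∃ s : ∀ n, (M ⧸ (I ^ n • ⊤ : Submodule R M)) →ₗ[R] F ⧸ (I ^ n • ⊤ : Submodule R F),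
      (∀ n x, π.reduceModIdeal (I ^ n) (s n x) = x) ∧
      ∀ n x, Submodule.factorPow I F (Nat.le_succ n) (s (n + 1) x) = s n (Submodule.factorPow I M (Nat.le_succ n) x) := by
  classical
  let πn : ∀ n, (F ⧸ (I ^ n • ⊤ : Submodule R F)) →ₗ[R] M ⧸ (I ^ n • ⊤ : Submodule R M) :=
    fun n => (π.reduceModIdeal (I ^ n)).restrictScalars R
  have hsurj : ∀ n, Function.Surjective (πn n) := fun n y => by
    obtain ⟨m, rfl⟩ := Submodule.Quotient.mk_surjective _ y
    obtain ⟨x, rfl⟩ := hπ m
    exact ⟨Submodule.Quotient.mk x, rfl⟩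
  have htor : ∀ n, Module.IsTorsionBySet R (F ⧸ (I ^ n • ⊤ : Submodule R F)) ((I ^ n : Ideal R) : Set R) :=
    fun n x a => by
      obtain ⟨x, rfl⟩ := Submodule.Quotient.mk_surjective _ x
      rw [← Submodule.Quotient.mk_smul, Submodule.Quotient.mk_eq_zero]
      exact Submodule.smul_mem_smul a.2 trivial
  have hstep : ∀ n (s : (M ⧸ (I ^ n • ⊤ : Submodule R M)) →ₗ[R] F ⧸ (I ^ n • ⊤ : Submodule R F)),
      (∀ x, πn n (s x) = x) →
      ∃ s' : (M ⧸ (I ^ (n + 1) • ⊤ : Submodule R M)) →ₗ[R] F ⧸ (I ^ (n + 1) • ⊤ : Submodule R F),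
        (∀ x, πn (n + 1) (s' x) = x) ∧
        ∀ x, Submodule.factorPow I F (Nat.le_succ n) (s' x) = s (Submodule.factorPow I M (Nat.le_succ n) x) := by
    intro n s hs
    obtain ⟨s₁, hs₁⟩ := lift_of_torsion I M (htor (n + 1)) (πn (n + 1)) (hsurj _) LinearMap.id
    have hs₁' : ∀ x, πn (n + 1) (s₁ x) = x := fun x => LinearMap.congr_fun hs₁ x
    let τ := Submodule.factorPow I F (Nat.le_succ n)
    let τM := Submodule.factorPow I M (Nat.le_succ n)
    have hnat : ∀ z, πn n (τ z) = τM (πn (n + 1) z) := fun z => by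
      obtain ⟨z, rfl⟩ := Submodule.Quotient.mk_surjective _ z
      rfl
    let δ : (M ⧸ (I ^ (n + 1) • ⊤ : Submodule R M)) →ₗ[R] LinearMap.ker (πn n) :=
      (τ ∘ₗ s₁ - s ∘ₗ τM).codRestrict _ fun x => by
        simp [hnat, hs, hs₁']
    let ρ : LinearMap.ker (πn (n + 1)) →ₗ[R] LinearMap.ker (πn n) :=
      τ.restrict fun z hz => by rw [LinearMap.mem_ker, hnat, LinearMap.mem_ker.mp hz, map_zero]
    have hρ : Function.Surjective ρ := fun z => by
      obtain ⟨x, hx⟩ := Submodule.Quotient.mk_surjective _ z.1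
      have hxz : πn n (Submodule.Quotient.mk x) = 0 := by rw [hx]; exact z.2
      have hxI : π x ∈ (I ^ n • ⊤ : Submodule R M) := (Submodule.Quotient.mk_eq_zero _).mp hxz
      rw [← LinearMap.range_eq_top.mpr hπ, ← Submodule.map_top, ← Submodule.map_smul''] at hxI
      obtain ⟨y, hy, hyx⟩ := hxI
      refine ⟨⟨Submodule.Quotient.mk (x - y), ?_⟩, Subtype.ext ?_⟩
      · rw [LinearMap.mem_ker]
        show Submodule.Quotient.mk (π (x - y)) = 0
        rw [map_sub, hyx, sub_self, Submodule.Quotient.mk_zero]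
      · show Submodule.Quotient.mk (x - y) = z.1
        rw [← hx, Submodule.Quotient.eq]
        simpa using neg_mem hy
    obtain ⟨δ', hδ'⟩ := lift_of_torsion I M
      (fun x a => Subtype.ext (@htor (n + 1) x.1 a)) ρ hρ δ
    refine ⟨s₁ - (LinearMap.ker (πn (n + 1))).subtype ∘ₗ δ', fun x => ?_, fun x => ?_⟩
    · rw [LinearMap.sub_apply, map_sub, hs₁', LinearMap.comp_apply, Submodule.coe_subtype,
        LinearMap.mem_ker.mp (δ' x).2, sub_zero]
    · have h := congrArg Subtype.val (LinearMap.congr_fun hδ' x)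
      change τ (δ' x).1 = τ (s₁ x) - s (τM x) at h
      show τ (s₁ x - (δ' x).1) = s (τM x)
      rw [map_sub, h, sub_sub_cancel]
  let S : ∀ n, {s : (M ⧸ (I ^ n • ⊤ : Submodule R M)) →ₗ[R] F ⧸ (I ^ n • ⊤ : Submodule R F) //
      ∀ x, πn n (s x) = x} := fun n => Nat.rec ⟨0, fun x => by
        haveI : Subsingleton (M ⧸ (I ^ 0 • ⊤ : Submodule R M)) :=
          Submodule.Quotient.subsingleton_iff.mpr (by simp)
        exact Subsingleton.elim _ _⟩
    (fun n s => ⟨(hstep n s.1 s.2).choose, (hstep n s.1 s.2).choose_spec.1⟩) n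
  exact ⟨fun n => (S n).1, fun n => (S n).2, fun n x => (hstep n (S n).1 (S n).2).choose_spec.2 x⟩

/-- The completion of a flat module projective modulo `I` is flat and Mittag-Leffler. -/
theorem flat_and_mittagLeffler_completion [IsNoetherianRing R] [IsAdicComplete I R] [Module.Flat R M]
    [Module.Projective (R ⧸ I) (M ⧸ (I • ⊤ : Submodule R M))] :
    Module.Flat R (AdicCompletion I M) ∧ CAlg.IsMittagLeffler R (AdicCompletion I M) := by
  classical
  let π : (M →₀ R) →ₗ[R] M := Finsupp.linearCombination R id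
  have hπ : Function.Surjective π := fun m => ⟨Finsupp.single m 1, by
    show Finsupp.linearCombination R id _ = m
    rw [Finsupp.linearCombination_single, id_eq, one_smul]⟩
  obtain ⟨s, hs, hcomp⟩ := exists_compatible_sections (I := I) π hπ
  have hcomp' : ∀ {m n : ℕ} (h : m ≤ n) x,
      Submodule.factorPow I (M →₀ R) h (s n x) = s m (Submodule.factorPow I M h x) := by
    intro m n h
    induction n, h using Nat.le_induction with
    | base => intro x; simp [Submodule.factorPow]
    | succ n h ih =>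
      intro x
      obtain ⟨y, rfl⟩ := Submodule.Quotient.mk_surjective _ x
      obtain ⟨w, hw⟩ := Submodule.Quotient.mk_surjective _ (s (n + 1) (Submodule.Quotient.mk y))
      have h1 := hcomp n (Submodule.Quotient.mk y)
      rw [← hw] at h1 ⊢
      exact (congrArg (Submodule.factorPow I (M →₀ R) h) h1).trans (ih _)
  let ψ : AdicCompletion I M →ₗ[R] AdicCompletion I (M →₀ R) :=
    { toFun := fun x => ⟨fun n => s n (x.val n), fun {m n} h => (hcomp' h _).trans (congrArg (s m) (x.2 h))⟩
      map_add' := fun x y => AdicCompletion.ext fun n => map_add (s n) _ _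
      map_smul' := fun c x => AdicCompletion.ext fun n => map_smul (s n) c _ }
  let r : AdicCompletion I (M →₀ R) →ₗ[R] AdicCompletion I M := (AdicCompletion.map I π).restrictScalars R
  have hr : r ∘ₗ ψ = LinearMap.id := LinearMap.ext fun x => AdicCompletion.ext fun n => hs n _
  obtain ⟨hflat, hML⟩ := flat_and_mittagLeffler_completionFree (I := I) (α := M)
  refine ⟨Module.Flat.of_retract (f := hflat) ψ r hr, Groth.Agent.S6338.result R ψ (fun Q _ _ => ?_) hML⟩
  refine Function.LeftInverse.injective (g := r.rTensor Q) fun z => ?_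
  rw [← LinearMap.comp_apply, ← LinearMap.rTensor_comp, hr, LinearMap.rTensor_id, LinearMap.id_apply]

end Groth.RaynaudGruson
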