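import Groth.Agent.RaynaudGruson.KrullUnivInj
import Groth.Agent.RaynaudGruson.FiberAssBridge
import Groth.Agent.RaynaudGruson.CompletionSummand
import Groth.Agent.Calg1.ProjDescent
import Mathlib

/-!
Flat finite modules over finite type algebras over complete Noetherian rings: projectivity from
associated points of the fibres meeting `V(I)`.
-/

set_option autoImplicit false
universe u

namespace Groth.RaynaudGruson

open TensorProduct

variable {R S N : Type u} [CommRing R] [CommRing S] [Algebra R S] [AddCommGroup N] [Module S N]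
  [Module R N] [IsScalarTower R S N]

theorem isCountablyGenerated_of_finiteType [Algebra.FiniteType R S] [Module.Finite S N] :
    CAlg.IsCountablyGenerated R N := by
  classical
  obtain ⟨k, φ, hφ⟩ := Algebra.FiniteType.iff_quotient_mvPolynomial''.mp ‹Algebra.FiniteType R S›
  obtain ⟨s, hs⟩ := Module.finite_def.mp (inferInstance : Module.Finite S N)
  let g : (Fin k →₀ ℕ) × s → N := fun p => φ (MvPolynomial.monomial p.1 1) • (p.2 : N)
  refine ⟨Set.range g, Set.countable_range g, eq_top_iff.mpr fun x _ => ?_⟩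
  have hx : x ∈ Submodule.span S (s : Set N) := hs ▸ trivial
  obtain ⟨f, -, hf⟩ := Submodule.mem_span_finset.mp hx
  rw [← hf]
  refine Submodule.sum_mem _ fun a ha => ?_
  obtain ⟨P, hP⟩ := hφ (f a)
  rw [← hP, MvPolynomial.as_sum P, map_sum, Finset.sum_smul]
  refine Submodule.sum_mem _ fun m _ => ?_
  have : MvPolynomial.monomial m (P.coeff m) = P.coeff m • MvPolynomial.monomial m (1 : R) := by
    rw [MvPolynomial.smul_monomial, smul_eq_mul, mul_one]
  rw [this, map_smul, smul_assoc]
  exact Submodule.smul_mem _ _ (Submodule.subset_span ⟨(m, ⟨a, ha⟩), rfl⟩)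

/-- No associated prime of `N ⊗ Q` is comaximal with `J` when all associated points of the fibres
meet `V(J)`. -/
theorem assoc_tensor_meet_of_fibers [IsNoetherianRing R] [IsNoetherianRing S] [Module.Flat R N] (J : Ideal S)
    (h : ∀ (p : Ideal R) (q : Ideal S) [p.IsPrime] [q.IsPrime] [q.LiesOver p],
      FlatCA.fiberIdeal p q ∈ associatedPrimes (p.Fiber S) (FlatCA.fiberMod p S N) → J ⊔ q ≠ ⊤)
    (Q : Type u) [AddCommGroup Q] [Module R Q] [Module.Finite R Q] {q : Ideal S}
    (hq : q ∈ associatedPrimes S (N ⊗[R] Q)) : J ⊔ q ≠ ⊤ := by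
  obtain ⟨p, hp, hqp, hover, hass⟩ := exists_assoc_fiber_of_mem_ass_tensor Q hq
  exact h p q hass

theorem pow_smul_top_le (I : Ideal R) (n : ℕ) :
    (I ^ n • ⊤ : Submodule R N) ≤ ((I.map (algebraMap R S)) ^ n • ⊤ : Submodule S N).restrictScalars R := by
  refine Submodule.smul_le.mpr fun r hr x _ => ?_
  rw [Submodule.restrictScalars_mem, ← algebraMap_smul S r x]
  refine Submodule.smul_mem_smul ?_ trivial
  rw [← Ideal.map_pow]
  exact Ideal.mem_map_of_mem _ hr

theorem univInj_of_completion [IsNoetherianRing R] [IsNoetherianRing S] [Module.Finite S N] (I : Ideal R)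
    (h : ∀ (Q : Type u) [AddCommGroup Q] [Module R Q], Module.Finite R Q →
      ∀ q ∈ associatedPrimes S (N ⊗[R] Q), I.map (algebraMap R S) ⊔ q ≠ ⊤) :
    FlatCA.UnivInj R (AdicCompletion.of I N) :=
  univInj_of_detects (I.map (algebraMap R S)) h _ fun n =>
    ⟨(I ^ n • ⊤ : Submodule R N), AdicCompletion.eval I N n, pow_smul_top_le I n, LinearMap.ext fun _ => rfl⟩

theorem projective_of_complete [IsNoetherianRing R] (I : Ideal R) [IsAdicComplete I R]
    [Algebra.FiniteType R S] [Module.Finite S N] [Module.Flat R N]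
    [Module.Projective (R ⧸ I) (N ⧸ (I • ⊤ : Submodule R N))]
    (h : ∀ (p : Ideal R) (q : Ideal S) [p.IsPrime] [q.IsPrime] [q.LiesOver p],
      FlatCA.fiberIdeal p q ∈ associatedPrimes (p.Fiber S) (FlatCA.fiberMod p S N) →
        I.map (algebraMap R S) ⊔ q ≠ ⊤) :
    Module.Projective R N := by
  classical
  haveI : IsNoetherianRing S := Algebra.FiniteType.isNoetherianRing R S
  have hinj : FlatCA.UnivInj R (AdicCompletion.of I N) := univInj_of_completion I
    fun Q _ _ _ q hq => assoc_tensor_meet_of_fibers _ h Q hq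
  have hML : CAlg.IsMittagLeffler R N := Groth.Agent.S6338.result R _
    (rTensor_injective_of_univInj hinj) (flat_and_mittagLeffler_completion (I := I) (M := N)).2
  exact Groth.Calg1.projective_of_flat_mittagLeffler hML (isCountablyGenerated_of_finiteType (S := S))

end Groth.RaynaudGruson
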