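import Groth.Agent.RaynaudGruson.ProjNilpotent
import Groth.Agent.S1227
import Mathlib

/-!
The flattening ideal of a module over an Artinian ring.
-/

set_option autoImplicit false
universe u

namespace Groth.RaynaudGruson

open TensorProduct

/-- Over an Artinian ring the flatness of base changes of any module is governed by an ideal. -/
theorem exists_flattening_ideal_artinian {A : Type u} [CommRing A] [IsArtinianRing A] (N : Type u)
    [AddCommGroup N] [Module A N] :
    ∃ I : Ideal A, ∀ (A' : Type u) [CommRing A'] [Algebra A A'],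
      Module.Flat A' (A' ⊗[A] N) ↔ I.map (algebraMap A A') = ⊥ := by
  classical
  haveI : IsReduced (A ⧸ nilradical A) :=
    (Ideal.isRadical_iff_quotient_reduced _).mp (Ideal.radical_isRadical _)
  haveI : IsArtinianRing (A ⧸ nilradical A) := inferInstance
  haveI : IsSemisimpleRing (A ⧸ nilradical A) := IsArtinianRing.isSemisimpleRing_of_isReduced _
  haveI : Module.Projective (A ⧸ nilradical A) (N ⧸ (nilradical A • ⊤ : Submodule A N)) :=
    Module.projective_of_isSemisimpleRing _ _
  have hnil : IsNilpotent (nilradical A) := IsNoetherianRing.isNilpotent_nilradical A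
  obtain ⟨P, _, _, q, hP, hq, hker⟩ := exists_projective_cover_mod (M := N) (nilradical A) hnil
  obtain ⟨I, hI⟩ := Groth.Agent.S1227.result q hq
  refine ⟨I, fun A' _ _ => ⟨fun hflat => (hI A').mp ?_, fun h => ?_⟩⟩
  · let J := (nilradical A).map (algebraMap A A')
    have hJ : IsNilpotent J := by
      obtain ⟨n, hn⟩ := hnil
      exact ⟨n, by rw [← Ideal.map_pow, hn]; exact Ideal.map_bot⟩
    have hsurj : Function.Surjective (q.baseChange A') := LinearMap.lTensor_surjective A' hq
    refine ⟨injective_of_flat_of_ker_le J hJ (q.baseChange A') hsurj ?_, hsurj⟩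
    intro z hz
    obtain ⟨w, rfl⟩ := (lTensor_exact A' (LinearMap.exact_subtype_ker_map q) hq z).mp hz
    have key : ∀ k ∈ (nilradical A • ⊤ : Submodule A P), ∀ c : A',
        c ⊗ₜ[A] k ∈ (J • ⊤ : Submodule A' (A' ⊗[A] P)) := fun k hk => by
      refine Submodule.smul_induction_on hk (fun r hr m _ c => ?_) (fun x y hx hy c => ?_)
      · rw [tmul_smul, ← algebraMap_smul A' r (c ⊗ₜ[A] m)]
        exact Submodule.smul_mem_smul (Ideal.mem_map_of_mem _ hr) trivial
      · rw [tmul_add]; exact add_mem (hx c) (hy c)
    induction w with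
    | zero => simp
    | add x y hx hy =>
      rw [map_add]
      exact add_mem (hx ((lTensor_exact A' (LinearMap.exact_subtype_ker_map q) hq _).mpr ⟨x, rfl⟩))
        (hy ((lTensor_exact A' (LinearMap.exact_subtype_ker_map q) hq _).mpr ⟨y, rfl⟩))
    | tmul c k => exact key _ (hker k.2) c
  · exact Module.Flat.of_linearEquiv (LinearEquiv.ofBijective (q.baseChange A') ((hI A').mpr h)).symm

end Groth.RaynaudGruson
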