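import Groth.Agent.RaynaudGruson.DevissageFlat
import Groth.Agent.Calg1.Kaplansky
import Mathlib

/-!
The key lemma at a prime of an arbitrary base ring.
-/

set_option autoImplicit false
universe u

namespace Groth.RaynaudGruson.DevissageLocal

open TensorProduct

section localization

variable {R : Type u} [CommRing R] (p : Ideal R) [p.IsPrime] {X Y : Type u} [AddCommGroup X] [Module R X]
  [AddCommGroup Y] [Module R Y] [Module (Localization.AtPrime p) Y] [IsScalarTower R (Localization.AtPrime p) Y]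

omit [p.IsPrime] in
theorem isUnit_of_notMem [p.IsPrime] {s : R} (hs : s ∉ p) : IsUnit (algebraMap R (Localization.AtPrime p) s) :=
  IsLocalization.map_units _ (⟨s, hs⟩ : p.primeCompl)

/-- Membership in `J•⊤` descends from a localised module up to a denominator. -/
theorem exists_smul_mem_of_mem_map (ι : X →ₗ[R] Y) [IsLocalizedModule p.primeCompl ι] (J : Ideal R) {y : Y}
    (hy : y ∈ J.map (algebraMap R (Localization.AtPrime p)) • (⊤ : Submodule (Localization.AtPrime p) Y)) :
    ∃ s, s ∉ p ∧ ∃ x ∈ J • (⊤ : Submodule R X), s • y = ι x := by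
  refine Submodule.smul_induction_on hy (fun a ha w _ => ?_) fun v w hv hw => ?_
  · obtain ⟨⟨⟨j, hj⟩, t⟩, hjt⟩ := (IsLocalization.mem_map_algebraMap_iff p.primeCompl _).mp ha
    obtain ⟨⟨x, s⟩, hx⟩ := IsLocalizedModule.surj p.primeCompl ι w
    refine ⟨(t : R) * s, mul_mem (s := p.primeCompl) t.2 s.2, j • x, Submodule.smul_mem_smul hj trivial, ?_⟩
    rw [map_smul, ← hx, Submonoid.smul_def, ← algebraMap_smul (Localization.AtPrime p) ((t : R) * s), map_mul, ← algebraMap_smul (Localization.AtPrime p) j,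
      ← algebraMap_smul (Localization.AtPrime p) (s : R), smul_smul, smul_smul, ← hjt]
    congr 1
    ring
  · obtain ⟨s, hs, x, hx, hsx⟩ := hv
    obtain ⟨t, ht, z, hz, htz⟩ := hw
    refine ⟨s * t, mul_mem (s := p.primeCompl) hs ht, t • x + s • z,
      Submodule.add_mem _ (Submodule.smul_mem _ _ hx) (Submodule.smul_mem _ _ hz), ?_⟩
    rw [map_add, map_smul, map_smul, ← hsx, ← htz, smul_add, smul_smul, smul_smul, mul_comm t s]

theorem mem_map_smul_of_mem {J : Ideal R} {y : Y} (hy : y ∈ J • (⊤ : Submodule R Y)) :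
    y ∈ J.map (algebraMap R (Localization.AtPrime p)) • (⊤ : Submodule (Localization.AtPrime p) Y) := by
  refine Submodule.smul_induction_on hy (fun a ha w _ => ?_) fun v w hv hw => Submodule.add_mem _ hv hw
  rw [← algebraMap_smul (Localization.AtPrime p) a w]
  exact Submodule.smul_mem_smul (Ideal.mem_map_of_mem _ ha) trivial

end localization

variable {R : Type u} [CommRing R] {B : Type u} [CommRing B] [Algebra R B] [Module.Projective R B]
  {M : Type u} [AddCommGroup M] [Module B M] [Module R M] [IsScalarTower R B M] {r : ℕ}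
  (p : Ideal R) [p.IsPrime] (P : Ideal B) [P.IsPrime] (α : (Fin r → B) →ₗ[B] M)

omit [Module.Projective R B] [p.IsPrime] [P.IsPrime] in
theorem mem_smul_top_pi (J : Ideal R) (f : Fin r → B) :
    f ∈ J • (⊤ : Submodule R (Fin r → B)) ↔ ∀ i, f i ∈ J.map (algebraMap R B) := by
  constructor
  · intro h i
    have h1 := Submodule.mem_map_of_mem (f := LinearMap.proj (R := R) (φ := fun _ => B) i) h
    rw [Submodule.map_smul''] at h1
    have h2 := Submodule.smul_mono (le_refl J) le_top h1
    rwa [Ideal.smul_top_eq_map, Submodule.restrictScalars_mem] at h2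
  · intro h
    rw [← Finset.univ_sum_single f]
    refine Submodule.sum_mem _ fun i _ => ?_
    have h1 : (f i) ∈ J • (⊤ : Submodule R B) := by
      rw [Ideal.smul_top_eq_map, Submodule.restrictScalars_mem]; exact h i
    have h2 := Submodule.mem_map_of_mem (f := LinearMap.single R (fun _ : Fin r => B) i) h1
    rw [Submodule.map_smul''] at h2
    exact Submodule.smul_mono (le_refl J) le_top h2

set_option maxHeartbeats 800000 in
/-- **The key lemma over an arbitrary base**, at the prime `P = pB`. -/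
theorem mem_smul_top_of_smul_apply_mem (hP : P = p.map (algebraMap R B)) (hPp : P.LiesOver p)
    (hsurj : ∀ m : M, ∃ t, t ∉ P ∧ ∃ g, t • m = α g)
    (hker : ∀ (f : Fin r → B) (t : B), t ∉ P → t • α f = 0 → ∀ i, f i ∈ P)
    (hflat : FlatPred.Pred R P.primeCompl M) {J : Ideal R} (hJ : J.FG) {x : Fin r → B} {t : B} (ht : t ∉ P)
    (h : t • α x ∈ J • (⊤ : Submodule R M)) : ∃ s, s ∉ p ∧ s • x ∈ J • (⊤ : Submodule R (Fin r → B)) := by
  haveI := hPp
  haveI hfl : Module.Flat R (LocalizedModule P.primeCompl M) := (FlatPred.flat_iff _).mpr hflat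
  let Rp := Localization.AtPrime p
  let B' := Rp ⊗[R] B
  let ι₁ : B →ₗ[R] B' := TensorProduct.mk R Rp B 1
  haveI : IsLocalizedModule p.primeCompl ι₁ :=
    (isLocalizedModule_iff_isBaseChange p.primeCompl Rp ι₁).mpr (TensorProduct.isBaseChange R B Rp)
  let ι : (Fin r → B) →ₗ[R] (Fin r → B') := LinearMap.pi fun i => ι₁ ∘ₗ LinearMap.proj i
  haveI : IsLocalizedModule p.primeCompl ι := IsLocalizedModule.pi p.primeCompl (fun _ : Fin r => ι₁)
  haveI : Module.Free Rp B' := Groth.Calg1.free_of_projective B'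
  let φ₀ : Rp →ₐ[R] Localization.AtPrime P := IsLocalization.liftAlgHom (M := p.primeCompl)
    (f := IsScalarTower.toAlgHom R B (Localization.AtPrime P) |>.comp (Algebra.ofId R B)) fun y =>
      IsLocalization.map_units _ (⟨algebraMap R B y, fun hy => y.2 ((Ideal.over_def P p).symm ▸ hy)⟩ : P.primeCompl)
  let φ : B' →ₐ[R] Localization.AtPrime P :=
    Algebra.TensorProduct.lift φ₀ (IsScalarTower.toAlgHom R B (Localization.AtPrime P)) fun _ _ => Commute.all _ _
  letI : Module B' (LocalizedModule P.primeCompl M) := Module.compHom _ φ.toRingHom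
  letI : Module Rp (LocalizedModule P.primeCompl M) := Module.compHom _ φ₀.toRingHom
  haveI : IsScalarTower Rp B' (LocalizedModule P.primeCompl M) := ⟨fun a b m => by
    show φ (a • b) • m = φ₀ a • φ b • m
    have h : a • b = (a ⊗ₜ[R] (1 : B)) * b := Algebra.smul_def a b
    rw [h, map_mul, smul_smul, Algebra.TensorProduct.lift_tmul, map_one, mul_one]⟩
  haveI : IsScalarTower R B' (LocalizedModule P.primeCompl M) := ⟨fun a b m => by
    show φ (a • b) • m = a • φ b • m
    rw [show φ (a • b) = a • φ b from map_smul φ a b, smul_assoc]⟩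
  haveI : IsScalarTower R Rp (LocalizedModule P.primeCompl M) := IsScalarTower.of_algebraMap_smul fun a m => by
    show φ₀ (algebraMap R Rp a) • m = a • m
    rw [φ₀.commutes, algebraMap_smul]
  haveI : SMulCommClass B' Rp (LocalizedModule P.primeCompl M) := ⟨fun a b m => smul_comm (φ a) (φ₀ b) m⟩
  haveI : Module.Flat Rp (LocalizedModule P.primeCompl M) :=
    (Module.flat_iff_of_isLocalization Rp p.primeCompl (M := LocalizedModule P.primeCompl M)).mpr hfl
  have hφι : ∀ (b : B) (m : LocalizedModule P.primeCompl M), ι₁ b • m = b • m := fun b m => by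
    show φ (1 ⊗ₜ[R] b) • m = b • m
    rw [Algebra.TensorProduct.lift_tmul, map_one, one_mul, IsScalarTower.coe_toAlgHom', algebraMap_smul]
  let β₀ : (Fin r → B') →ₗ[B'] LocalizedModule P.primeCompl M :=
    Fintype.linearCombination B' fun i => LocalizedModule.mkLinearMap P.primeCompl M (α (Pi.single i 1))
  have hβι : ∀ g, β₀ (ι g) = LocalizedModule.mkLinearMap P.primeCompl M (α g) := fun g => by
    rw [Fintype.linearCombination_apply, pi_eq_sum_univ' g, map_sum α, map_sum (LocalizedModule.mkLinearMap P.primeCompl M)]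
    refine Finset.sum_congr rfl fun i _ => ?_
    rw [map_smul, map_smul]
    show ι₁ _ • _ = _
    rw [hφι]
    simp [Finset.sum_apply, Pi.single_apply]
  let U : Submonoid B' := P.primeCompl.map (Algebra.TensorProduct.includeRight (R := R) (A := Rp) (B := B)).toRingHom.toMonoidHom
  have hres : ∀ y : Fin r → B', ∃ s, s ∉ p ∧ ∃ g, s • y = ι g := fun y => by
    obtain ⟨⟨g, s⟩, hg⟩ := IsLocalizedModule.surj p.primeCompl ι y
    exact ⟨s, s.2, g, hg⟩
  have hmem : ∀ g, (∀ i, g i ∈ P) → ι g ∈ IsLocalRing.maximalIdeal Rp • (⊤ : Submodule Rp (Fin r → B')) := fun g hg => by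
    rw [← Localization.AtPrime.map_eq_maximalIdeal]
    refine mem_map_smul_of_mem p ?_
    have h1 := Submodule.mem_map_of_mem (f := ι) ((mem_smul_top_pi p g).mpr (hP ▸ hg))
    rw [Submodule.map_smul''] at h1
    exact Submodule.smul_mono le_rfl le_top h1
  have hdesc : ∀ (s : R) (y : Fin r → B'), s ∉ p →
      s • y ∈ IsLocalRing.maximalIdeal Rp • (⊤ : Submodule Rp (Fin r → B')) →
      y ∈ IsLocalRing.maximalIdeal Rp • (⊤ : Submodule Rp (Fin r → B')) := fun s y hs hy => by
    rw [← algebraMap_smul Rp s y] at hy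
    exact (Submodule.smul_mem_iff_of_isUnit _ (isUnit_of_notMem p hs)).mp hy
  have key := KeyLemma.mem_smul_top_of_map_mem (R := Rp) (F := Fin r → B') (S := B')
    (M := LocalizedModule P.primeCompl M) (Module.Free.chooseBasis Rp (Fin r → B')) U ?_ (β₀.restrictScalars Rp)
    (fun a f => β₀.map_smul a f) ?_ ?_ (J := J.map (algebraMap R Rp)) (Ideal.FG.map hJ _) (x := ι x) ?_
  · obtain ⟨s, hs, z, hz, hsz⟩ := exists_smul_mem_of_mem_map p ι J key
    obtain ⟨u, hu⟩ := IsLocalizedModule.exists_of_eq (S := p.primeCompl) (f := ι) (hsz.symm.trans (map_smul ι s x).symm)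
    refine ⟨(u : R) * s, mul_mem (s := p.primeCompl) u.2 hs, ?_⟩
    rw [mul_smul, ← Submonoid.smul_def, ← hu]
    exact Submodule.smul_mem _ _ hz
  · rintro _ ⟨b, hb, rfl⟩ f hf
    obtain ⟨s, hs, g, hg⟩ := hres f
    refine hdesc s f hs (hg ▸ hmem g fun i => ?_)
    obtain ⟨s', hs', z, hz, hsz⟩ := exists_smul_mem_of_mem_map p ι p
      ((Localization.AtPrime.map_eq_maximalIdeal (I := p)).symm ▸ hf)
    have h1 : ι ((s' * s) • b • g) = ι (s • s • z) := by
      rw [map_smul ι, map_smul ι, map_smul ι, ← hsz]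
      have : ι (b • g) = (ι₁ b : B') • ι g := funext fun i => by
        show (1 : Rp) ⊗ₜ[R] (b * g i) = ((1 : Rp) ⊗ₜ[R] b) * ((1 : Rp) ⊗ₜ[R] g i)
        rw [Algebra.TensorProduct.tmul_mul_tmul, one_mul]
      rw [this, ← hg, show (ι₁ b : B') • s • f = s • (ι₁ b : B') • f from funext fun i => mul_smul_comm s (ι₁ b) (f i),
        smul_smul, smul_smul, smul_smul]
      show (s' * s * s) • (ι₁ b : B') • f = (s * s * s') • (ι₁ b : B') • f
      rw [mul_comm (s * s) s', mul_assoc]
    obtain ⟨u, hu⟩ := IsLocalizedModule.exists_of_eq (S := p.primeCompl) (f := ι) h1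
    have h2 : ((u : R) * (s' * s)) • b • g ∈ p • (⊤ : Submodule R (Fin r → B)) := by
      rw [mul_smul, ← Submonoid.smul_def, hu]
      exact Submodule.smul_mem _ _ (Submodule.smul_mem _ _ (Submodule.smul_mem _ _ hz))
    have h3 := (mem_smul_top_pi p _).mp h2 i
    rw [← hP, Pi.smul_apply, Pi.smul_apply, Algebra.smul_def, smul_eq_mul, ← mul_assoc] at h3
    refine (Ideal.IsPrime.mem_or_mem inferInstance h3).resolve_left fun h4 => ?_
    rcases Ideal.IsPrime.mem_or_mem inferInstance h4 with h5 | h5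
    · exact mul_mem (s := p.primeCompl) u.2 (mul_mem (s := p.primeCompl) hs' hs) ((Ideal.over_def P p).symm ▸ h5)
    · exact hb h5
  · intro f hf
    obtain ⟨s, hs, g, hg⟩ := hres f
    refine hdesc s f hs (hg ▸ hmem g ?_)
    have h1 : LocalizedModule.mkLinearMap P.primeCompl M (α g) = 0 := by
      rw [← hβι, ← hg]
      show β₀ (s • f) = 0
      rw [LinearMap.map_smul_of_tower]
      rw [show β₀ f = 0 from hf, smul_zero]
    obtain ⟨u, hu⟩ := (IsLocalizedModule.eq_zero_iff P.primeCompl (LocalizedModule.mkLinearMap P.primeCompl M)).mp h1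
    exact hker g u u.2 hu
  · intro y
    induction y using LocalizedModule.induction_on with
    | h m u =>
      obtain ⟨v, hv, g, hg⟩ := hsurj m
      refine ⟨_, Submonoid.mem_map_of_mem _ (mul_mem (s := P.primeCompl) hv u.2), ι g, ?_⟩
      show ι₁ (v * u) • LocalizedModule.mk m u = β₀ (ι g)
      rw [hφι, hβι, LocalizedModule.mkLinearMap_apply, LocalizedModule.smul'_mk, mul_comm, mul_smul, hg]
      simpa [Submonoid.smul_def] using LocalizedModule.mk_cancel u (α g)
  · show β₀ (ι x) ∈ _
    rw [hβι]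
    have h2 := Submodule.mem_map_of_mem (f := (LocalizedModule.mkLinearMap P.primeCompl M).restrictScalars R) h
    rw [Submodule.map_smul''] at h2
    have h3 := mem_map_smul_of_mem p (Submodule.smul_mono (le_refl J) le_top h2)
    have h4 : ∀ (a : Localization.AtPrime P) (z : LocalizedModule P.primeCompl M),
        z ∈ J.map (algebraMap R Rp) • (⊤ : Submodule Rp (LocalizedModule P.primeCompl M)) →
        a • z ∈ J.map (algebraMap R Rp) • (⊤ : Submodule Rp (LocalizedModule P.primeCompl M)) := by
      intro a z hz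
      refine Submodule.smul_induction_on hz (fun c hc w _ => ?_) fun v w hv hw => ?_
      · rw [show a • c • w = c • a • w from smul_comm a (φ₀ c) w]; exact Submodule.smul_mem_smul hc trivial
      · rw [smul_add]; exact Submodule.add_mem _ hv hw
    have h5 := h4 (IsLocalization.mk' _ 1 (⟨t, ht⟩ : P.primeCompl)) _ h3
    rwa [LinearMap.coe_restrictScalars, map_smul, ← algebraMap_smul (Localization.AtPrime P) t, smul_smul,
      IsLocalization.mk'_spec, map_one, one_smul] at h5

variable (hP : P = p.map (algebraMap R B)) (hPp : P.LiesOver p)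
  (hsurj : ∀ m : M, ∃ t, t ∉ P ∧ ∃ g, t • m = α g)
  (hker : ∀ (f : Fin r → B) (t : B), t ∉ P → t • α f = 0 → ∀ i, f i ∈ P)
  (hflat : FlatPred.Pred R P.primeCompl M)

include hP hPp hsurj hker hflat

theorem exists_smul_eq_zero {x : Fin r → B} (hx : α x = 0) : ∃ s, s ∉ p ∧ s • x = 0 := by
  obtain ⟨s, hs, h⟩ := mem_smul_top_of_smul_apply_mem p P α hP hPp hsurj hker hflat Submodule.fg_bot (x := x)
    (t := 1) (fun h => ‹P.IsPrime›.ne_top ((Ideal.eq_top_iff_one _).mpr h)) (by rw [hx, smul_zero]; exact zero_mem _)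
  exact ⟨s, hs, by simpa using h⟩

/-- The cokernel is flat wherever the target is, above `p`. -/
theorem pred_coker {L : Type u} [AddCommGroup L] [Module B L] [Module R L] [IsScalarTower R B L] (π : M →ₗ[B] L)
    (hπ : Function.Surjective π) (hπker : LinearMap.ker π = LinearMap.range α) {U : Submonoid B}
    (hU : ∀ s, s ∉ p → algebraMap R B s ∈ U) (hM : FlatPred.Pred R U M) : FlatPred.Pred R U L := by
  intro l f a ⟨u, hu, hua⟩
  choose m hm using fun i => hπ (a i)
  obtain ⟨g, hg⟩ : u • ∑ i, f i • m i ∈ LinearMap.range α := hπker ▸ LinearMap.mem_ker.mpr (by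
    rw [map_smul, map_sum, ← hua]
    exact congrArg _ (Finset.sum_congr rfl fun i _ => by rw [LinearMap.map_smul_of_tower, hm]))
  obtain ⟨s, hs, hgJ⟩ := mem_smul_top_of_smul_apply_mem p P α hP hPp hsurj hker hflat
    (J := Ideal.span (Set.range f))
    (Submodule.fg_span (Set.finite_range f)) (x := g) (t := 1)
    (fun h => ‹P.IsPrime›.ne_top ((Ideal.eq_top_iff_one _).mpr h)) (by
    rw [one_smul, hg, Finset.smul_sum]
    exact Submodule.sum_mem _ fun i _ => by
      rw [smul_comm]; exact Submodule.smul_mem_smul (Ideal.subset_span ⟨i, rfl⟩) trivial)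
  obtain ⟨c, -, hc⟩ := KeyLemma.exists_sum_of_mem_span_smul f _ hgJ
  obtain ⟨v, hv, k, d, y, hy, hd⟩ := hM l f (fun i => (algebraMap R B s * u) • m i - α (c i)) ⟨1, one_mem U, by
    simp only [one_smul, smul_sub, Finset.sum_sub_distrib]
    rw [sub_eq_zero]
    calc ∑ i, f i • (algebraMap R B s * u) • m i = s • u • ∑ i, f i • m i := by
          rw [Finset.smul_sum, Finset.smul_sum]
          exact Finset.sum_congr rfl fun i _ => by rw [mul_smul, algebraMap_smul, smul_comm u (f i), smul_comm s (f i)]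
      _ = α (s • g) := by rw [LinearMap.map_smul_of_tower, hg]
      _ = ∑ i, f i • α (c i) := by rw [hc, map_sum]; simp only [LinearMap.map_smul_of_tower]⟩
  refine ⟨v * (algebraMap R B s * u), mul_mem hv (mul_mem (hU s hs) hu), k, d, fun j => π (y j), fun i => ?_, hd⟩
  have h0 : π (α (c i)) = 0 := LinearMap.mem_ker.mp (hπker.symm ▸ LinearMap.mem_range_self α (c i))
  have h1 := congrArg π (hy i)
  rw [map_smul, map_sub, map_smul, hm, h0, sub_zero, smul_smul, map_sum] at h1
  simpa only [LinearMap.map_smul_of_tower] using h1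

end Groth.RaynaudGruson.DevissageLocal
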