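import Groth.Agent.RaynaudGruson.WeakAssFP
import Mathlib

/-!
Weakly associated primes of `N ⊗ M` at a point where the finite module `N` is flat.
-/

set_option autoImplicit false
universe u

open scoped TensorProduct

attribute [local instance] Algebra.TensorProduct.rightAlgebra

namespace Groth.RaynaudGruson.WeakAssFlatAt

/-- Weakly associated primes only depend on the localisation. -/
theorem mem_weakAss_iff_of_local {S Z Z' : Type*} [CommRing S] [AddCommGroup Z] [Module S Z] [AddCommGroup Z']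
    [Module S Z'] (φ : Z →ₗ[S] Z') (q : Ideal S) [q.IsPrime]
    (hker : ∀ x, φ x = 0 → ∃ t ∉ q, t • x = 0) (hcoker : ∀ y, ∃ t ∉ q, ∃ x, φ x = t • y) :
    q ∈ FlatCA.weakAss S Z ↔ q ∈ FlatCA.weakAss S Z' := by
  rw [Calg5.mem_weakAss_iff, Calg5.mem_weakAss_iff]
  refine and_congr_right fun hq => ⟨?_, ?_⟩
  · rintro ⟨x, h1, h2⟩
    refine ⟨φ x, fun s hs => ?_, fun a ha => ?_⟩
    · obtain ⟨t, ht, htx⟩ := hker (s • x) (by rw [map_smul, hs])
      rw [smul_smul] at htx
      exact (hq.mem_or_mem (h1 _ htx)).resolve_left ht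
    · obtain ⟨s, hs, n, hn⟩ := h2 a ha
      exact ⟨s, hs, n, by rw [← map_smul, hn, map_zero]⟩
  · rintro ⟨y, h1, h2⟩
    obtain ⟨t, ht, x, hx⟩ := hcoker y
    refine ⟨x, fun s hs => ?_, fun a ha => ?_⟩
    · have : (s * t) • y = 0 := by rw [mul_smul, ← hx, ← map_smul, hs, map_zero]
      exact (hq.mem_or_mem (h1 _ this)).resolve_right ht
    · obtain ⟨s, hs, n, hn⟩ := h2 a ha
      obtain ⟨t', ht', htx⟩ := hker ((s * a ^ n) • x) (by
        rw [map_smul, hx, smul_comm, hn, smul_zero])
      exact ⟨t' * s, hq.mul_notMem ht' hs, n, by rw [mul_assoc, mul_smul, htx]⟩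

section Fibre

variable {R S : Type u} [CommRing R] [CommRing S] [Algebra R S] [Algebra.FiniteType R S]
  (N : Type u) [AddCommGroup N] [Module S N] [Module R N] [IsScalarTower R S N] [Module.Finite S N]
  (p : Ideal R) [p.IsPrime] (q : Ideal S) [q.IsPrime] [q.LiesOver p]

/-- Associated points of the fibre as weakly associated primes of `N ⊗ κ(p)`. -/
theorem fiberIdeal_mem_associatedPrimes_iff :
    FlatCA.fiberIdeal p q ∈ associatedPrimes (p.Fiber S) (FlatCA.fiberMod p S N) ↔
      q ∈ FlatCA.weakAss S (N ⊗[R] p.ResidueField) := by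
  classical
  let F := p.Fiber S
  let fm := FlatCA.fiberMod p S N
  haveI : IsNoetherianRing F := Algebra.FiniteType.isNoetherianRing p.ResidueField _
  haveI : Module.Finite F fm := inferInstanceAs (Module.Finite F (F ⊗[S] N))
  let Q := FlatCA.fiberIdeal p q
  have hQc : Q.comap (algebraMap S F) = q := Calg3.WeakAssTensor.comap_fiberIdeal p q
  obtain ⟨Q₀, hQ₀⟩ : ∃ Q₀ : PrimeSpectrum F, Q₀.asIdeal.comap (algebraMap S F) = q :=
    ⟨PrimeSpectrum.preimageEquivFiber R S ⟨p, inferInstance⟩ ⟨⟨q, inferInstance⟩,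
        PrimeSpectrum.ext (Ideal.LiesOver.over (p := p) (P := q)).symm⟩,
      congrArg (fun z => z.1.asIdeal) ((PrimeSpectrum.preimageEquivFiber R S ⟨p, inferInstance⟩).symm_apply_apply _)⟩
  haveI : Q.IsPrime := by
    have : Q = Q₀.asIdeal := by
      show FlatCA.fiberIdeal p q = _
      simp only [← hQ₀]
      exact Groth.RaynaudGruson.fiberIdeal_comap ..
    rw [this]
    exact Q₀.isPrime
  have hmem : ∀ s : S, algebraMap S F s ∈ Q ↔ s ∈ q := fun s => by rw [← Ideal.mem_comap, hQc]
  have hdiv : ∀ a : F, ∃ d : S, IsUnit (algebraMap S F d) ∧ ∃ s : S, algebraMap S F s = algebraMap S F d * a := by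
    intro a
    obtain ⟨d, hd, s, hs⟩ := Groth.Calg5.exists_smul_eq_algebraMap p a
    refine ⟨algebraMap R S d, Groth.Calg5.isUnit_algebraMap_fiber (S := S) p hd, s, ?_⟩
    rw [← hs, ← Algebra.smul_def, algebraMap_smul]
  have h1 : Q ∈ associatedPrimes F fm ↔ Q ∈ FlatCA.weakAss F fm := by
    constructor
    · intro h
      exact Calg5.ass_subset_weakAss (Groth.RaynaudGruson.mem_ass_of_mem_associatedPrimes h)
    · intro h
      obtain ⟨hp, m, hm⟩ := Calg5.mem_ass_of_fg_of_mem_weakAss (IsNoetherian.noetherian Q) h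
      refine ⟨hp, m, ?_⟩
      rw [hm, Submodule.bot_colon']
      rw [← hm]
      exact hp.radical.symm
  have h2 : Q ∈ FlatCA.weakAss F fm ↔ q ∈ FlatCA.weakAss S fm := by
    rw [Calg5.mem_weakAss_iff, Calg5.mem_weakAss_iff]
    constructor
    · rintro ⟨-, m, h1, h2⟩
      refine ⟨inferInstance, m, fun s hs => (hmem s).mp (h1 _ (by rwa [algebraMap_smul])), fun a ha => ?_⟩
      obtain ⟨t, ht, n, hn⟩ := h2 _ ((hmem a).mpr ha)
      obtain ⟨d, hd, s, hs⟩ := hdiv t
      refine ⟨s, fun h => ht ?_, n, ?_⟩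
      · have h' := (hmem s).mpr h
        rw [hs] at h'
        exact (Ideal.unit_mul_mem_iff_mem Q hd).mp h'
      · rw [← algebraMap_smul F, map_mul, map_pow, hs, mul_assoc, mul_smul, hn, smul_zero]
    · rintro ⟨-, m, h1, h2⟩
      refine ⟨inferInstance, m, fun t ht => ?_, fun t ht => ?_⟩
      · obtain ⟨d, hd, s, hs⟩ := hdiv t
        have : s • m = 0 := by rw [← algebraMap_smul F, hs, mul_smul, ht, smul_zero]
        have h' := (hmem s).mpr (h1 s this)
        rw [hs] at h'
        exact (Ideal.unit_mul_mem_iff_mem Q hd).mp h'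
      · obtain ⟨d, hd, s, hs⟩ := hdiv t
        obtain ⟨w, hw, n, hn⟩ := h2 s ((hmem s).mp (hs ▸ Ideal.mul_mem_left _ _ ht))
        refine ⟨algebraMap S F w, fun h => hw ((hmem w).mp h), n, ?_⟩
        rw [← algebraMap_smul F, map_mul, map_pow, hs, mul_pow, mul_left_comm, mul_smul] at hn
        exact ((hd.pow n).smul_eq_zero).mp hn
  refine h1.trans (h2.trans ?_)
  obtain ⟨ρ, hρ⟩ := Calg3.WeakAssTensor.exists_fiberMod_equiv (S := S) N p
  exact mem_weakAss_iff_of_local ({ ρ with map_smul' := hρ } : fm →ₗ[S] N ⊗[R] p.ResidueField) q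
    (fun x hx => ⟨1, fun h => ‹q.IsPrime›.ne_top ((Ideal.eq_top_iff_one q).mpr h), by
      rw [one_smul]
      exact ρ.injective (hx.trans (map_zero ρ).symm)⟩)
    (fun y => ⟨1, fun h => ‹q.IsPrime›.ne_top ((Ideal.eq_top_iff_one q).mpr h), ρ.symm y, by
      rw [one_smul]
      exact ρ.apply_symm_apply y⟩)

end Fibre

/-- `(θ ⊗ M)` inherits local bijectivity. -/
theorem mem_weakAss_tensor_iff_of_local {R S : Type u} [CommRing R] [CommRing S] [Algebra R S]
    {N N' : Type u} [AddCommGroup N] [Module S N] [Module R N] [IsScalarTower R S N]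
    [AddCommGroup N'] [Module S N'] [Module R N'] [IsScalarTower R S N']
    (θ : N' →ₗ[S] N) (q : Ideal S) [q.IsPrime] (hθ : Function.Surjective θ)
    (hb : Function.Bijective (LocalizedModule.map q.primeCompl θ)) (M : Type u) [AddCommGroup M] [Module R M] :
    q ∈ FlatCA.weakAss S (N' ⊗[R] M) ↔ q ∈ FlatCA.weakAss S (N ⊗[R] M) := by
  let T := q.primeCompl
  haveI : IsScalarTower R S (LocalizedModule T N') := inferInstance
  let g : N' →ₗ[S] LocalizedModule T N' := LocalizedModule.mkLinearMap T N'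
  let e := LinearEquiv.ofBijective (LocalizedModule.map T θ) hb
  let ψ : N →ₗ[S] LocalizedModule T N' := (e.symm.toLinearMap.restrictScalars S).comp (LocalizedModule.mkLinearMap T N)
  have hg : g = ψ.comp θ := by
    ext x
    refine e.injective (Eq.trans ?_ (e.apply_symm_apply _).symm)
    show LocalizedModule.map T θ (LocalizedModule.mk x 1) = LocalizedModule.mk (θ x) 1
    rw [LocalizedModule.map_mk]
  let φ : N' ⊗[R] M →ₗ[S] N ⊗[R] M := TensorProduct.AlgebraTensorModule.rTensor R M θ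
  refine mem_weakAss_iff_of_local φ q (fun w hw => ?_) (fun y => ?_)
  · have h1 : TensorProduct.AlgebraTensorModule.rTensor R M g w = 0 := by
      rw [hg]
      have : ∀ w, TensorProduct.AlgebraTensorModule.rTensor R M (ψ.comp θ) w =
          TensorProduct.AlgebraTensorModule.rTensor R M ψ (φ w) := fun w => by
        induction w using TensorProduct.induction_on with
        | zero => simp
        | tmul a b => rfl
        | add a b ha hb => simp only [map_add, ha, hb]
      rw [this, hw, map_zero]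
    obtain ⟨⟨t, ht⟩, htw⟩ := (IsLocalizedModule.eq_zero_iff T (TensorProduct.AlgebraTensorModule.rTensor R M g)).mp h1
    exact ⟨t, ht, htw⟩
  · refine ⟨1, fun h => ‹q.IsPrime›.ne_top ((Ideal.eq_top_iff_one q).mpr h), ?_⟩
    rw [one_smul]
    exact LinearMap.rTensor_surjective M (g := θ.restrictScalars R) hθ y

/-- Weakly associated primes of `N ⊗ M` at a flat point are computed by a flat finitely presented model. -/
theorem exists_model {R S : Type u} [CommRing R] [CommRing S] [Algebra R S] [Algebra.FiniteType R S]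
    (N : Type u) [AddCommGroup N] [Module S N] [Module R N] [IsScalarTower R S N] [Module.Finite S N]
    (q : Ideal S) [q.IsPrime] (hflat : FlatCA.FlatAt R q N) :
    ∃ (S₁ N₁ : Type u) (_ : CommRing S₁) (_ : Algebra R S₁) (_ : AddCommGroup N₁) (_ : Module S₁ N₁)
      (_ : Module R N₁) (_ : IsScalarTower R S₁ N₁) (q₁ : Ideal S₁) (_ : q₁.IsPrime),
      Algebra.FinitePresentation R S₁ ∧ Module.FinitePresentation S₁ N₁ ∧ Module.Flat R N₁ ∧
      q₁.comap (algebraMap R S₁) = q.comap (algebraMap R S) ∧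
      ∀ (M : Type u) [AddCommGroup M] [Module R M],
        q ∈ FlatCA.weakAss S (N ⊗[R] M) ↔ q₁ ∈ FlatCA.weakAss S₁ (N₁ ⊗[R] M) := by
  classical
  obtain ⟨n, π, hπ⟩ := Algebra.FiniteType.iff_quotient_mvPolynomial''.mp ‹Algebra.FiniteType R S›
  let P := MvPolynomial (Fin n) R
  letI : Algebra P S := π.toRingHom.toAlgebra
  haveI : IsScalarTower R P S := IsScalarTower.of_algebraMap_eq fun r => (π.commutes r).symm
  letI : Module P N := Module.compHom N π.toRingHom
  haveI : IsScalarTower P S N := IsScalarTower.of_algebraMap_smul fun _ _ => rfl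
  haveI : IsScalarTower R P N := IsScalarTower.of_algebraMap_smul fun r x => by
    show π (algebraMap R P r) • x = r • x
    rw [AlgHom.commutes, algebraMap_smul]
  haveI : Module.Finite P S := Module.Finite.of_surjective (Algebra.linearMap P S) hπ
  haveI : Module.Finite P N := Module.Finite.trans S N
  let q' : Ideal P := q.comap π.toRingHom
  haveI : q'.IsPrime := Ideal.IsPrime.comap _
  have hq' : Module.Flat R (LocalizedModule q'.primeCompl N) :=
    (FlatPred.flatAt_iff q').mpr (((FlatPred.flatAt_iff q).mp hflat).of_dvd fun u hu => by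
      obtain ⟨w, rfl⟩ := hπ u
      exact ⟨w, 1, hu, fun m => one_smul _ _⟩)
  obtain ⟨m, ρ, hρ⟩ := Module.Finite.exists_fin' P N
  obtain ⟨U, hUfg, hUle, hk⟩ := DomainFP.exists_relations_at ρ hρ ⟨q', inferInstance⟩ hq'
  let N' := (Fin m → P) ⧸ U
  haveI : Module.FinitePresentation P N' :=
    Module.finitePresentation_of_surjective _ U.mkQ_surjective (by rwa [Submodule.ker_mkQ])
  let θ : N' →ₗ[P] N := U.liftQ ρ hUle
  have hθ : Function.Surjective θ := fun x => ⟨Submodule.Quotient.mk (hρ x).choose, (hρ x).choose_spec⟩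
  have hb := DomainFP.bijective_localized ρ hρ U hUle ⟨q', inferInstance⟩ hk
  haveI := hq'
  have hqW : (⟨q', inferInstance⟩ : PrimeSpectrum P) ∈
      {b : PrimeSpectrum P | Module.Flat R (LocalizedModule b.asIdeal.primeCompl N')} :=
    Module.Flat.of_linearEquiv ((LinearEquiv.ofBijective (LocalizedModule.map q'.primeCompl θ) hb).restrictScalars R)
  obtain ⟨_, ⟨g, rfl⟩, hgq, hgW⟩ := PrimeSpectrum.isTopologicalBasis_basic_opens.exists_subset_of_mem_open
    hqW (FlatMorOne.isOpen_flatLocus R P N')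
  let S₁ := Localization (Submonoid.powers g)
  let N₁ := LocalizedModule (Submonoid.powers g) N'
  haveI : IsLocalization.Away g S₁ := inferInstanceAs (IsLocalization (Submonoid.powers g) S₁)
  haveI : Algebra.FinitePresentation P S₁ := IsLocalization.Away.finitePresentation g
  haveI : Algebra.FinitePresentation R S₁ := Algebra.FinitePresentation.trans R P S₁
  haveI : Module.Flat R N₁ :=
    WeakAssFP.flat_localized_powers g fun b _ hb => hgW (show (⟨b, ‹_›⟩ : PrimeSpectrum P) ∈ _ from hb)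
  haveI : IsScalarTower R S₁ N₁ := IsScalarTower.of_algebraMap_smul fun r x => by
    rw [IsScalarTower.algebraMap_apply R P S₁, algebraMap_smul, algebraMap_smul]
  haveI : Module.FinitePresentation S₁ N₁ :=
    inferInstanceAs (Module.FinitePresentation (Localization (Submonoid.powers g)) (LocalizedModule (Submonoid.powers g) N'))
  have hdisj : Disjoint (Submonoid.powers g : Set P) q' :=
    Set.disjoint_left.mpr fun s ⟨k, hk⟩ hs => hgq (Ideal.IsPrime.mem_of_pow_mem inferInstance k
      ((show g ^ k = s from hk) ▸ hs : g ^ k ∈ q'))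
  let q₁ := q'.map (algebraMap P S₁)
  haveI hq₁ : q₁.IsPrime := IsLocalization.isPrime_of_isPrime_disjoint (Submonoid.powers g) S₁ _ inferInstance hdisj
  have hq₁c : q₁.comap (algebraMap P S₁) = q' :=
    IsLocalization.comap_map_of_isPrime_disjoint (Submonoid.powers g) S₁ inferInstance hdisj
  refine ⟨S₁, N₁, inferInstance, inferInstance, inferInstance, inferInstance, inferInstance, inferInstance,
    q₁, hq₁, inferInstance, inferInstance, inferInstance, ?_, fun M _ _ => ?_⟩
  · rw [IsScalarTower.algebraMap_eq R P S₁, ← Ideal.comap_comap, hq₁c, IsScalarTower.algebraMap_eq R P S,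
      ← Ideal.comap_comap]
    rfl
  have hA : q ∈ FlatCA.weakAss S (N ⊗[R] M) ↔ q' ∈ FlatCA.weakAss P (N ⊗[R] M) := by
    rw [Calg5.weakAss_eq_image_of_surjective (S := S) (show Function.Surjective (algebraMap P S) from hπ)]
    refine ⟨fun h => ⟨q, h, rfl⟩, fun ⟨b, hb, hbq⟩ => ?_⟩
    exact Ideal.comap_injective_of_surjective _ hπ hbq ▸ hb
  let φ : N' ⊗[R] M →ₗ[P] N₁ ⊗[R] M :=
    TensorProduct.AlgebraTensorModule.rTensor R M (LocalizedModule.mkLinearMap (Submonoid.powers g) N')
  have hB : q' ∈ FlatCA.weakAss P (N' ⊗[R] M) ↔ q' ∈ FlatCA.weakAss P (N₁ ⊗[R] M) :=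
    Calg5.mem_weakAss_localized_iff (Submonoid.powers g) φ hdisj
  have hC : q' ∈ FlatCA.weakAss P (N₁ ⊗[R] M) ↔ q₁ ∈ FlatCA.weakAss S₁ (N₁ ⊗[R] M) := by
    rw [Calg5.weakAss_eq_image_of_isLocalization (S := S₁) (Submonoid.powers g)]
    refine ⟨fun ⟨b, hb, hbq⟩ => ?_, fun h => ⟨q₁, h, hq₁c⟩⟩
    have : b = q₁ := by
      rw [← IsLocalization.map_under (Submonoid.powers g) S₁ b]
      exact congrArg (Ideal.map (algebraMap P S₁)) hbq
    exact this ▸ hb
  exact hA.trans ((mem_weakAss_tensor_iff_of_local θ q' hθ hb M).symm.trans (hB.trans hC))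

/-- Weakly associated primes of `N ⊗ M` where `N` is flat. -/
theorem mem_weakAss_tensor_iff {R S : Type u} [CommRing R] [CommRing S] [Algebra R S] [Algebra.FiniteType R S]
    (N : Type u) [AddCommGroup N] [Module S N] [Module R N] [IsScalarTower R S N] [Module.Finite S N]
    (M : Type u) [AddCommGroup M] [Module R M]
    (p : Ideal R) [p.IsPrime] (q : Ideal S) [q.IsPrime] [q.LiesOver p] (hflat : FlatCA.FlatAt R q N) :
    q ∈ FlatCA.weakAss S (N ⊗[R] M) ↔
      (p ∈ FlatCA.weakAss R M ∧ FlatCA.fiberIdeal p q ∈ associatedPrimes (p.Fiber S) (FlatCA.fiberMod p S N)) := by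
  obtain ⟨S₁, N₁, _, _, _, _, _, _, q₁, _, hfp, hfpN, hfl, hc, hiff⟩ := exists_model N q hflat
  haveI := hfp
  haveI := hfpN
  haveI := hfl
  haveI : q₁.LiesOver p := ⟨(Ideal.LiesOver.over (p := p) (P := q)).trans hc.symm⟩
  have key : ∀ (M' : Type u) [AddCommGroup M'] [Module R M'], q₁ ∈ FlatCA.weakAss S₁ (N₁ ⊗[R] M') ↔
      (p ∈ FlatCA.weakAss R M' ∧ FlatCA.fiberIdeal p q₁ ∈ associatedPrimes (p.Fiber S₁) (FlatCA.fiberMod p S₁ N₁)) :=
    fun M' _ _ => by
      open Groth.Calg3.WeakAssTensor in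
      exact ⟨fun h => ⟨mem_weakAss_of_mem_weakAss_tensor N₁ M' p q₁ h, fiberIdeal_mem_associatedPrimes N₁ M' p q₁ h⟩,
        fun ⟨hp, hQ⟩ => mem_weakAss_tensor N₁ M' p q₁ hp hQ⟩
  rw [hiff M, key M, fiberIdeal_mem_associatedPrimes_iff, fiberIdeal_mem_associatedPrimes_iff, hiff]

end Groth.RaynaudGruson.WeakAssFlatAt
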