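import Groth.Agent.RaynaudGruson.AssFlatDescent
import Groth.Agent.RaynaudGruson.WeakAssFlatAt
import Groth.Agent.RaynaudGruson.DomainFP
import Groth.Agent.RaynaudGruson.DevissageLocal
import Groth.Agent.Calg3.FibreAssTorsion
import Mathlib

/-!
Flatness at a point from flatness at the associated points of the fibre generalising it.
-/

set_option autoImplicit false
set_option linter.style.haveILetI false
universe u

open TensorProduct

attribute [local instance] Algebra.TensorProduct.rightAlgebra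

namespace Groth.RaynaudGruson.AssFlat

section basic

variable {R S : Type u} [CommRing R] [CommRing S] [Algebra R S]
  {N : Type u} [AddCommGroup N] [Module S N] [Module R N] [IsScalarTower R S N] (p : Ideal R) [p.IsPrime]

theorem eq_zero_of_smul_eq_zero {s : R} (hs : s ∉ p) {z : N ⊗[R] p.ResidueField} (h : s • z = 0) : z = 0 := by
  have h' : s • TensorProduct.comm R N p.ResidueField z = 0 := by rw [← map_smul, h, map_zero]
  rw [← algebraMap_smul p.ResidueField s] at h'
  have h0 := ((IsUnit.mk0 _ fun h0 => hs (Ideal.algebraMap_residueField_eq_zero.mp h0)).smul_eq_zero).mp h'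
  exact (TensorProduct.comm R N p.ResidueField).injective (h0.trans (map_zero _).symm)

/-- The weakly associated primes of a fibre module lie over the prime. -/
theorem liesOver_of_mem_weakAss {b : Ideal S} (hb : b ∈ FlatCA.weakAss S (N ⊗[R] p.ResidueField)) : b.LiesOver p := by
  obtain ⟨hp, w, h1, h2⟩ := Calg5.mem_weakAss_iff.mp hb
  refine ⟨Ideal.ext fun a => ⟨fun ha => ?_, fun ha => by_contra fun hap => ?_⟩⟩
  · refine h1 _ ?_
    rw [algebraMap_smul]
    clear h1 h2
    induction w with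
    | zero => exact smul_zero a
    | add x y hx hy => rw [smul_add, hx, hy, add_zero]
    | tmul m c => rw [← tmul_smul, Algebra.smul_def, Ideal.algebraMap_residueField_eq_zero.mpr ha, zero_mul, tmul_zero]
  · obtain ⟨u, hu, n, hn⟩ := h2 _ ha
    rw [mul_comm, mul_smul, ← map_pow, algebraMap_smul] at hn
    exact hu (h1 u (eq_zero_of_smul_eq_zero p (fun h => hap (‹p.IsPrime›.mem_of_pow_mem n h)) hn))

/-- An element outside the associated points of the fibre below `q` is regular on the fibre at `q`. -/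
theorem regAt_of_notMem {q : Ideal S} [q.IsPrime] {x : S}
    (hx : ∀ b ∈ FlatCA.weakAss S (N ⊗[R] p.ResidueField), b ≤ q → x ∉ b) : AssFlatNoeth.RegAt N p q x := by
  intro w hw
  by_contra! hcon
  have hI : (Submodule.span S {w}).annihilator ≤ q := fun a ha => by_contra fun haq =>
    hcon a haq ((Submodule.mem_annihilator_span_singleton w a).mp ha)
  obtain ⟨b, hb, hbq⟩ := Ideal.exists_minimalPrimes_le hI
  exact hx b ⟨w, hb⟩ hbq (hb.1.2 ((Submodule.mem_annihilator_span_singleton w x).mpr hw))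

/-- There are finitely many associated points of a fibre. -/
theorem finite_weakAss [Algebra.FiniteType R S] [Module.Finite S N] :
    (FlatCA.weakAss S (N ⊗[R] p.ResidueField)).Finite := by
  haveI : IsNoetherianRing (p.Fiber S) := Algebra.FiniteType.isNoetherianRing p.ResidueField _
  haveI : Module.Finite (p.Fiber S) (FlatCA.fiberMod p S N) :=
    inferInstanceAs (Module.Finite (p.Fiber S) (p.Fiber S ⊗[S] N))
  refine Set.Finite.of_finite_image (f := fun b : Ideal S => FlatCA.fiberIdeal p b)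
    ((associatedPrimes.finite (p.Fiber S) (FlatCA.fiberMod p S N)).subset ?_) ?_
  · rintro _ ⟨b, hb, rfl⟩
    haveI := (Calg5.mem_weakAss_iff.mp hb).1
    haveI := liesOver_of_mem_weakAss p hb
    exact (WeakAssFlatAt.fiberIdeal_mem_associatedPrimes_iff N p b).mpr hb
  · intro b hb b' hb' h
    haveI := (Calg5.mem_weakAss_iff.mp hb).1
    haveI := liesOver_of_mem_weakAss p hb
    haveI := (Calg5.mem_weakAss_iff.mp hb').1
    haveI := liesOver_of_mem_weakAss p hb'
    rw [← Calg3.WeakAssTensor.comap_fiberIdeal p b, ← Calg3.WeakAssTensor.comap_fiberIdeal p b']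
    exact congrArg _ h

/-- The finitely presented case. -/
theorem flatAt_of_fp [Algebra.FinitePresentation R S] [Module.FinitePresentation S N] (q : Ideal S) [q.IsPrime]
    [q.LiesOver p]
    (h : ∀ (b : Ideal S) [b.IsPrime], b ∈ FlatCA.weakAss S (N ⊗[R] p.ResidueField) → b ≤ q → FlatCA.FlatAt R b N) :
    FlatCA.FlatAt R q N := by
  classical
  obtain ⟨J, hJ⟩ := (PrimeSpectrum.isClosed_iff_zeroLocus_ideal _).mp (FlatMorOne.isOpen_flatLocus R S N).isClosed_compl
  let A : Set (Ideal S) := {b | b ∈ FlatCA.weakAss S (N ⊗[R] p.ResidueField) ∧ b ≤ q}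
  have hAJ : ∀ b ∈ A, ¬ J ≤ b := by
    rintro b ⟨hb, hbq⟩ hle
    haveI := (Calg5.mem_weakAss_iff.mp hb).1
    have h1 : (⟨b, inferInstance⟩ : PrimeSpectrum S) ∈ PrimeSpectrum.zeroLocus (J : Set S) := hle
    rw [← hJ] at h1
    exact h1 (h b hb hbq)
  obtain ⟨x, hxJ, hx⟩ : ∃ x ∈ J, ∀ b ∈ A, x ∉ b := by
    by_contra! hcon
    have hcover : (J : Set S) ⊆ ⋃ b ∈ A, (b : Set S) := fun i hi => by
      obtain ⟨b, hb, hib⟩ := hcon i hi
      exact Set.mem_biUnion hb hib
    obtain ⟨b, hb, hle⟩ := (J.subset_union_prime_finite ((finite_weakAss (N := N) p).subset fun b hb => hb.1 : A.Finite)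
      (f := fun b => b) ⊥ ⊥ fun b hb _ _ => (Calg5.mem_weakAss_iff.mp hb.1).1).1 hcover
    exact hAJ b hb hle
  refine AssFlatDescent.flatAt N p q x (fun b _ hxb => ?_) (regAt_of_notMem p fun b hb hbq => hx b ⟨hb, hbq⟩)
  by_contra hnf
  have h1 : (⟨b, inferInstance⟩ : PrimeSpectrum S) ∈ PrimeSpectrum.zeroLocus (J : Set S) := by
    rw [← hJ]; exact hnf
  exact hxb (h1 hxJ)

end basic

section model

variable {R P : Type u} [CommRing R] [CommRing P] [Algebra R P] (p : Ideal R) [p.IsPrime]

/-- Finitely many elements of a submodule of a free module span it on the fibre. -/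
theorem exists_fibre_relations [Algebra.FiniteType R P] {m : ℕ} (K : Submodule P (Fin m → P)) :
    ∃ U : Submodule P (Fin m → P), U.FG ∧ U ≤ K ∧ ∀ u ∈ K, ∃ r : R, r ∉ p ∧ ∃ y ∈ U,
      r • u - y ∈ p • (⊤ : Submodule R (Fin m → P)) := by
  classical
  have h1p : (1 : R) ∉ p := fun h => ‹p.IsPrime›.ne_top ((Ideal.eq_top_iff_one p).mpr h)
  let F := p.Fiber P
  haveI : IsNoetherianRing F := Algebra.FiniteType.isNoetherianRing p.ResidueField _
  let φ : (Fin m → P) →ₗ[P] (Fin m → F) := LinearMap.pi fun i => (Algebra.linearMap P F) ∘ₗ LinearMap.proj i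
  obtain ⟨G, hGsub, hG⟩ := Submodule.fg_span_iff_fg_span_finset_subset (φ '' (K : Set (Fin m → P))) |>.mp
    (IsNoetherian.noetherian (Submodule.span F (φ '' (K : Set (Fin m → P)))))
  have hGsub' : ∀ g ∈ G, ∃ y ∈ (K : Set (Fin m → P)), φ y = g := fun g hg => hGsub hg
  choose! gK hgK hgφ using hGsub'
  let U : Submodule P (Fin m → P) := Submodule.span P ↑(G.image gK)
  refine ⟨U, Submodule.fg_span (Finset.finite_toSet _), Submodule.span_le.mpr fun y hy => by
    obtain ⟨g, hg, rfl⟩ := Finset.mem_image.mp hy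
    exact hgK g hg, fun u hu => ?_⟩
  obtain ⟨r, hr, y, hy, hry⟩ : ∃ r : R, r ∉ p ∧ ∃ y ∈ U, r • φ u = φ y := by
    have hmem : φ u ∈ Submodule.span F (G : Set (Fin m → F)) := hG ▸ Submodule.subset_span ⟨u, hu, rfl⟩
    generalize φ u = z at hmem ⊢
    induction hmem using Submodule.span_induction with
    | mem v hv =>
      exact ⟨1, h1p, gK v, Submodule.subset_span (Finset.mem_image_of_mem _ hv), by rw [one_smul, hgφ v hv]⟩
    | zero => exact ⟨1, h1p, 0, zero_mem _, by simp⟩
    | add v w _ _ hv hw =>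
      obtain ⟨r, hr, y, hy, h⟩ := hv
      obtain ⟨r', hr', y', hy', h'⟩ := hw
      refine ⟨r * r', fun h => (‹p.IsPrime›.mem_or_mem h).elim hr hr', algebraMap R P r' • y + algebraMap R P r • y',
        add_mem (U.smul_mem _ hy) (U.smul_mem _ hy'), ?_⟩
      rw [map_add, map_smul, map_smul, algebraMap_smul, algebraMap_smul, ← h, ← h', smul_smul, smul_smul, smul_add,
        mul_comm r' r]
    | smul c v _ hv =>
      obtain ⟨r, hr, y, hy, h⟩ := hv
      obtain ⟨d, hd, s, hs⟩ := Groth.Calg5.exists_smul_eq_algebraMap p c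
      refine ⟨d * r, fun h => (‹p.IsPrime›.mem_or_mem h).elim hd hr, s • y, U.smul_mem _ hy, ?_⟩
      rw [map_smul, ← h, ← algebraMap_smul F s (r • v), ← hs, smul_assoc, mul_smul, smul_comm c r v, algebraMap_smul]
  have hcoord : ∀ i, ∃ r' : R, r' ∉ p ∧ r' • (r • u - y) i ∈ p • (⊤ : Submodule R P) := by
    intro i
    refine Groth.SchDom.exists_smul_mem_of_tmul_one_eq_zero p ((r • u - y) i) ?_
    have h0 : φ (r • u - y) i = 0 := by
      rw [map_sub, LinearMap.map_smul_of_tower, hry, sub_self]; rfl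
    have h1 : ((1 : p.ResidueField) ⊗ₜ[R] (r • u - y) i : p.ResidueField ⊗[R] P) = 0 := h0
    simpa using congrArg (TensorProduct.comm R p.ResidueField P) h1
  choose r' hr' hmem using hcoord
  refine ⟨(∏ i, r' i) * r, fun h => (‹p.IsPrime›.mem_or_mem h).elim (fun h => ?_) hr,
    algebraMap R P (∏ i, r' i) • y, U.smul_mem _ hy, ?_⟩
  · obtain ⟨i, -, hi⟩ := Ideal.IsPrime.prod_mem_iff.mp h
    exact hr' i hi
  rw [algebraMap_smul, mul_smul, ← smul_sub, DevissageLocal.mem_smul_top_pi]
  intro i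
  have h2 := Submodule.smul_mem (p • (⊤ : Submodule R P)) (∏ j ∈ Finset.univ.erase i, r' j) (hmem i)
  rw [smul_smul, Finset.prod_erase_mul _ _ (Finset.mem_univ i), Ideal.smul_top_eq_map,
    Submodule.restrictScalars_mem] at h2
  exact h2

variable {N : Type u} [AddCommGroup N] [Module P N] [Module R N] [IsScalarTower R P N]
  {m : ℕ} (ρ : (Fin m → P) →ₗ[P] N) (hρ : Function.Surjective ρ) (U : Submodule P (Fin m → P))
  (hle : U ≤ LinearMap.ker ρ)
  (hU : ∀ u ∈ LinearMap.ker ρ, ∃ r : R, r ∉ p ∧ ∃ y ∈ U, r • u - y ∈ p • (⊤ : Submodule R (Fin m → P)))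

include hρ hU in
/-- With enough relations the fibre of the model maps isomorphically. -/
theorem bijective_fibre :
    Function.Bijective (AlgebraTensorModule.rTensor R p.ResidueField (U.liftQ ρ hle)) := by
  set θ := U.liftQ ρ hle with hθdef
  have hθ : Function.Surjective θ := fun x => ⟨Submodule.Quotient.mk (hρ x).choose, (hρ x).choose_spec⟩
  refine ⟨(injective_iff_map_eq_zero _).mpr fun z hz => ?_, LinearMap.rTensor_surjective _ (g := θ.restrictScalars R) hθ⟩
  let k := p.ResidueField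
  obtain ⟨a, y, ha, hay⟩ := Groth.FlatmorThree.exists_smul_eq_one_tmul p (TensorProduct.comm R _ k z)
  rw [algebraMap_smul, ← map_smul] at hay
  have hz' : a • z = y ⊗ₜ[R] (1 : k) := (TensorProduct.comm R _ k).injective (hay.trans (by simp))
  obtain ⟨y, rfl⟩ := Submodule.Quotient.mk_surjective U y
  have h1 : (ρ y) ⊗ₜ[R] (1 : k) = 0 := by
    show (θ (Submodule.Quotient.mk y)) ⊗ₜ[R] (1 : k) = 0
    have := congrArg (AlgebraTensorModule.rTensor R k θ) hz'
    rw [LinearMap.map_smul_of_tower, hz, smul_zero] at this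
    exact this.symm
  obtain ⟨r, hr, hry⟩ := Groth.SchDom.exists_smul_mem_of_tmul_one_eq_zero p (ρ y) h1
  obtain ⟨v, hv, hvy⟩ : ∃ v ∈ p • (⊤ : Submodule R (Fin m → P)), ρ v = r • ρ y := by
    have h2 : p • (⊤ : Submodule R N) = (p • (⊤ : Submodule R (Fin m → P))).map (ρ.restrictScalars R) := by
      rw [Submodule.map_smul'', Submodule.map_top,
        LinearMap.range_eq_top.mpr (show Function.Surjective (ρ.restrictScalars R) from hρ)]
    rw [h2] at hry
    obtain ⟨v, hv, hvy⟩ := Submodule.mem_map.mp hry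
    exact ⟨v, hv, hvy⟩
  obtain ⟨r', hr', y₁, hy₁, hmem⟩ := hU (r • y - v) (by
    rw [LinearMap.mem_ker, map_sub, LinearMap.map_smul_of_tower, hvy, sub_self])
  refine eq_zero_of_smul_eq_zero p hr' (eq_zero_of_smul_eq_zero p hr (eq_zero_of_smul_eq_zero p ha ?_))
  rw [smul_comm a r, smul_comm a r', hz', smul_tmul', smul_tmul']
  let mkR : (Fin m → P) →ₗ[R] (Fin m → P) ⧸ U := U.mkQ.restrictScalars R
  have h3 : r • r' • (Submodule.Quotient.mk y : (Fin m → P) ⧸ U) =
      mkR ((r' • (r • y - v) - y₁) + r' • v) := by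
    rw [map_add, map_sub, map_smul, map_smul, map_sub, map_smul,
      show mkR y₁ = 0 from (Submodule.Quotient.mk_eq_zero U).mpr hy₁, sub_zero, smul_sub, sub_add_cancel, smul_comm]
    rfl
  rw [h3]
  have h4 : ∀ w ∈ p • (⊤ : Submodule R (Fin m → P)), mkR w ⊗ₜ[R] (1 : k) = 0 := fun w hw => by
    refine Submodule.smul_induction_on hw (fun c hc x _ => ?_) fun x x' h h' => by rw [map_add, add_tmul, h, h', add_zero]
    rw [map_smul, smul_tmul, ← Algebra.algebraMap_eq_smul_one, Ideal.algebraMap_residueField_eq_zero.mpr hc, tmul_zero]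
  exact h4 _ (add_mem hmem (Submodule.smul_mem _ _ hv))

variable [Algebra.FinitePresentation R P] [Module.Finite P N] (q : Ideal P) [q.IsPrime] [q.LiesOver p]
  (h : ∀ (b : Ideal P) [b.IsPrime], b ∈ FlatCA.weakAss P (N ⊗[R] p.ResidueField) → b ≤ q → FlatCA.FlatAt R b N)

include hρ hle hU h in
/-- A finitely presented model with enough relations is flat at the point. -/
theorem flatAt_model (hfg : U.FG)
    (hloc : ∀ (b : Ideal P) [b.IsPrime], b ∈ FlatCA.weakAss P (N ⊗[R] p.ResidueField) → b ≤ q →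
      ∀ u ∈ LinearMap.ker ρ, ∃ t ∉ b, t • u ∈ U) :
    FlatCA.FlatAt R q ((Fin m → P) ⧸ U) := by
  haveI : Module.FinitePresentation P ((Fin m → P) ⧸ U) :=
    Module.finitePresentation_of_surjective _ U.mkQ_surjective (by rwa [Submodule.ker_mkQ])
  refine flatAt_of_fp p q fun b hbp hb hbq => ?_
  have hbij := bijective_fibre p ρ hρ U hle hU
  have h1q : (1 : P) ∉ b := fun h => hbp.ne_top ((Ideal.eq_top_iff_one b).mpr h)
  have hb' : b ∈ FlatCA.weakAss P (N ⊗[R] p.ResidueField) :=
    (WeakAssFlatAt.mem_weakAss_iff_of_local _ b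
      (fun x hx => ⟨1, h1q, by rw [one_smul]; exact hbij.1 (hx.trans (map_zero _).symm)⟩)
      (fun y => ⟨1, h1q, by rw [one_smul]; exact hbij.2 y⟩)).mp hb
  haveI : Module.Flat R (LocalizedModule b.primeCompl N) := h b hb' hbq
  exact Module.Flat.of_linearEquiv ((LinearEquiv.ofBijective _
    (DomainFP.bijective_localized ρ hρ U hle ⟨b, hbp⟩ (hloc b hb' hbq))).restrictScalars R)

omit hρ hle hU in
include h in
/-- The case of a finitely presented algebra. -/
theorem flatAt_of_fp_algebra : FlatCA.FlatAt R q N := by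
  classical
  obtain ⟨m, ρ, hρ⟩ := Module.Finite.exists_fin' P N
  let A : Set (Ideal P) := {b | b ∈ FlatCA.weakAss P (N ⊗[R] p.ResidueField) ∧ b ≤ q}
  have hA : A.Finite := (finite_weakAss (N := N) p).subset fun b hb => hb.1
  have hex : ∀ b ∈ A, ∃ V : Submodule P (Fin m → P), V.FG ∧ V ≤ LinearMap.ker ρ ∧
      ∀ u ∈ LinearMap.ker ρ, ∃ t ∉ b, t • u ∈ V := by
    rintro b ⟨hb, hbq⟩
    haveI := (Calg5.mem_weakAss_iff.mp hb).1
    exact DomainFP.exists_relations_at ρ hρ ⟨b, inferInstance⟩ (h b hb hbq)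
  choose! V hVfg hVle hV using hex
  obtain ⟨U₁, hU₁fg, hU₁le, hU₁⟩ := exists_fibre_relations p (LinearMap.ker ρ)
  let U₀ := U₁ ⊔ hA.toFinset.sup V
  have hU₀fg : U₀.FG := hU₁fg.sup (Submodule.fg_finset_sup _ _ fun b hb => hVfg b (hA.mem_toFinset.mp hb))
  have hU₀le : U₀ ≤ LinearMap.ker ρ := sup_le hU₁le (Finset.sup_le fun b hb => hVle b (hA.mem_toFinset.mp hb))
  have hflat : ∀ (U : Submodule P (Fin m → P)), U.FG → U₀ ≤ U → U ≤ LinearMap.ker ρ →
      FlatCA.FlatAt R q ((Fin m → P) ⧸ U) := fun U hfg hU₀U hle =>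
    flatAt_model p ρ hρ U hle (fun u hu => by
      obtain ⟨r, hr, y, hy, hmem⟩ := hU₁ u hu
      exact ⟨r, hr, y, hU₀U (le_sup_left (b := hA.toFinset.sup V) hy), hmem⟩) q h hfg
      fun b _ hb hbq u hu => by
        obtain ⟨t, ht, htu⟩ := hV b ⟨hb, hbq⟩ u hu
        exact ⟨t, ht, hU₀U ((le_sup_of_le_right (Finset.le_sup (f := V) (hA.mem_toFinset.mpr ⟨hb, hbq⟩))) htu)⟩
  have hker : ∀ u ∈ LinearMap.ker ρ, ∃ t ∉ q, t • u ∈ U₀ := by
    intro u hu
    let U := U₀ ⊔ Submodule.span P {u}
    have hfl := (FlatPred.flatAt_iff q).mp (hflat U (hU₀fg.sup (Submodule.fg_span_singleton u)) le_sup_left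
      (sup_le hU₀le ((Submodule.span_singleton_le_iff_mem u _).mpr hu)))
    obtain ⟨r, hr, y, hy, hmem⟩ := hU₁ u hu
    obtain ⟨l, f, hf, a, hsum⟩ : ∃ (l : ℕ) (f : Fin l → R) (_ : ∀ i, f i ∈ p) (a : Fin l → (Fin m → P)),
        r • u - y = ∑ i, f i • a i := by
      refine Submodule.smul_induction_on hmem
        (fun c hc x _ => ⟨1, fun _ => c, fun _ => hc, fun _ => x, by simp⟩) ?_
      rintro z w ⟨l, f, hf, a, rfl⟩ ⟨l', f', hf', a', rfl⟩
      refine ⟨l + l', Fin.append f f', fun i => ?_, Fin.append a a', ?_⟩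
      · refine Fin.addCases (fun i => ?_) (fun i => ?_) i
        · simpa using hf i
        · simpa using hf' i
      · rw [Fin.sum_univ_add]; simp
    let mkR : (Fin m → P) →ₗ[R] (Fin m → P) ⧸ U := U.mkQ.restrictScalars R
    have hyU : y ∈ U := Submodule.mem_sup_left (le_sup_left (b := hA.toFinset.sup V) hy)
    obtain ⟨v, hv, k, d, z, hz, hd⟩ := hfl l f (fun i => mkR (a i)) ⟨1, one_mem _, by
      rw [one_smul]
      calc ∑ i, f i • mkR (a i) = mkR (r • u - y) := by rw [hsum, map_sum]; simp only [map_smul]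
        _ = 0 := by
          refine (Submodule.Quotient.mk_eq_zero U).mpr (sub_mem ?_ hyU)
          rw [← algebraMap_smul P r u]
          exact U.smul_mem _ (Submodule.mem_sup_right (Submodule.mem_span_singleton_self u))⟩
    choose z₀ hz₀ using fun j => Submodule.Quotient.mk_surjective U (z j)
    have hmi : ∀ i, ∃ yi ∈ U₀, ∃ c : P, v • a i - ∑ j, d i j • z₀ j = yi + c • u := by
      intro i
      have h0 : v • a i - ∑ j, d i j • z₀ j ∈ U := by
        refine (Submodule.Quotient.mk_eq_zero U).mp ?_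
        show mkR (v • a i - ∑ j, d i j • z₀ j) = 0
        rw [map_sub, map_sum, sub_eq_zero]
        refine Eq.trans ?_ ((hz i).trans (Finset.sum_congr rfl fun j _ => ?_))
        · exact LinearMap.map_smul U.mkQ v (a i)
        · rw [map_smul]; exact congrArg _ (hz₀ j).symm
      obtain ⟨yi, hyi, w, hw, hyw⟩ := Submodule.mem_sup.mp h0
      obtain ⟨c, rfl⟩ := Submodule.mem_span_singleton.mp hw
      exact ⟨yi, hyi, c, hyw.symm⟩
    choose yi hyi c hc using hmi
    refine ⟨v * algebraMap R P r - ∑ i, algebraMap R P (f i) * c i, fun hq => ?_, ?_⟩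
    · have h1 : ∑ i, algebraMap R P (f i) * c i ∈ q :=
        Submodule.sum_mem _ fun i _ => q.mul_mem_right _ ((Ideal.mem_of_liesOver q p (f i)).mp (hf i))
      have h2 : v * algebraMap R P r ∈ q := by simpa using add_mem hq h1
      exact (‹q.IsPrime›.mem_or_mem h2).elim hv fun h' => hr ((Ideal.mem_of_liesOver q p r).mpr h')
    · have h2 : ∑ i, f i • ∑ j, d i j • z₀ j = 0 := by
        simp only [Finset.smul_sum, smul_smul]
        rw [Finset.sum_comm]
        exact Finset.sum_eq_zero fun j _ => by rw [← Finset.sum_smul, hd j, zero_smul]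
      have h3 : v • (r • u) = v • y + ∑ i, f i • yi i + (∑ i, algebraMap R P (f i) * c i) • u := by
        rw [show r • u = y + ∑ i, f i • a i by rw [← hsum]; abel, smul_add, Finset.smul_sum, add_assoc, Finset.sum_smul,
          ← Finset.sum_add_distrib]
        refine congrArg _ ?_
        calc ∑ i, v • f i • a i = ∑ i, f i • (v • a i - ∑ j, d i j • z₀ j) := by
              simp only [smul_sub, Finset.sum_sub_distrib, h2, sub_zero]
              exact Finset.sum_congr rfl fun i _ => smul_comm v (f i) (a i)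
          _ = _ := Finset.sum_congr rfl fun i _ => by rw [hc, smul_add, mul_smul, algebraMap_smul]
      rw [sub_smul, mul_smul, algebraMap_smul, h3, add_sub_cancel_right]
      refine add_mem (U₀.smul_mem _ (le_sup_left (b := hA.toFinset.sup V) hy)) (U₀.sum_mem fun i _ => ?_)
      rw [← algebraMap_smul P (f i)]
      exact U₀.smul_mem _ (hyi i)
  haveI : Module.Flat R (LocalizedModule q.primeCompl ((Fin m → P) ⧸ U₀)) := hflat U₀ hU₀fg le_rfl hU₀le
  exact Module.Flat.of_linearEquiv ((LinearEquiv.ofBijective _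
    (DomainFP.bijective_localized ρ hρ U₀ hU₀le ⟨q, inferInstance⟩ hker)).restrictScalars R).symm

end model

/-- **Flatness at a point is detected at the associated points of the fibre generalising it.** -/
theorem flatAt {R S : Type u} [CommRing R] [CommRing S] [Algebra R S] [Algebra.FiniteType R S]
    (N : Type u) [AddCommGroup N] [Module S N] [Module R N] [IsScalarTower R S N] [Module.Finite S N]
    (p : Ideal R) [p.IsPrime] (q : Ideal S) [q.IsPrime] [q.LiesOver p]
    (h : ∀ (b : Ideal S) [b.IsPrime], b ∈ FlatCA.weakAss S (N ⊗[R] p.ResidueField) → b ≤ q → FlatCA.FlatAt R b N) :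
    FlatCA.FlatAt R q N := by
  classical
  obtain ⟨n, π, hπ⟩ := Algebra.FiniteType.iff_quotient_mvPolynomial''.mp ‹Algebra.FiniteType R S›
  let P := MvPolynomial (Fin n) R
  letI : Algebra P S := π.toRingHom.toAlgebra
  haveI : IsScalarTower R P S := IsScalarTower.of_algebraMap_eq fun r => (π.commutes r).symm
  letI : Module P N := Module.compHom N π.toRingHom
  haveI : IsScalarTower P S N := IsScalarTower.of_algebraMap_smul fun _ _ => rfl
  haveI : IsScalarTower R P N := IsScalarTower.of_algebraMap_smul fun r x => by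
    show π (algebraMap R P r) • x = r • x
    rw [AlgHom.commutes, algebraMap_smul]
  haveI : Module.Finite P S := Module.Finite.of_surjective (Algebra.linearMap P S) hπ
  haveI : Module.Finite P N := Module.Finite.trans S N
  let q' : Ideal P := q.comap π.toRingHom
  haveI : q'.IsPrime := Ideal.IsPrime.comap _
  haveI : q'.LiesOver p := ⟨by
    ext a
    show a ∈ p ↔ π (algebraMap R P a) ∈ q
    rw [AlgHom.commutes, Ideal.mem_of_liesOver q p]⟩
  have hq' : FlatCA.FlatAt R q' N := by
    refine flatAt_of_fp_algebra p q' fun b _ hb hbq => ?_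
    rw [Calg5.weakAss_eq_image_of_surjective (S := S) (show Function.Surjective (algebraMap P S) from hπ)] at hb
    obtain ⟨b₀, hb₀, hbb⟩ := hb
    subst hbb
    haveI := (Calg5.mem_weakAss_iff.mp hb₀).1
    have hle : b₀ ≤ q := fun s hs => by
      obtain ⟨a, rfl⟩ := hπ s
      exact hbq (show a ∈ b₀.comap (algebraMap P S) from hs)
    exact (FlatPred.flatAt_iff _).mpr (((FlatPred.flatAt_iff b₀).mp (h b₀ hb₀ hle)).of_dvd fun u hu => by
      obtain ⟨w, rfl⟩ := hπ u
      exact ⟨w, 1, hu, fun m => one_smul _ _⟩)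
  exact (FlatPred.flatAt_iff q).mpr (((FlatPred.flatAt_iff q').mp hq').of_dvd fun (u : P) (hu : u ∈ q'.primeCompl) =>
    ⟨π u, 1, hu, fun m => one_smul _ _⟩)

end Groth.RaynaudGruson.AssFlat
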