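import Groth.Agent.FlatMorOne.FlatLocusDescent
import Groth.Agent.FlatMorOne.FlatLocusCriterion
import Groth.Agent.SchDom.BaseChange
import Groth.Prelude.Def_FlatCA
import Mathlib

/-!
Over a Noetherian base: flatness at a prime from flatness away from an element regular on the fibre.
-/

set_option autoImplicit false
set_option linter.style.haveILetI false
universe u

open TensorProduct

namespace Groth.RaynaudGruson.AssFlatNoeth

variable {R S M : Type u} [CommRing R] [CommRing S] [Algebra R S] [AddCommGroup M] [Module R M] [Module S M]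
  [IsScalarTower R S M]

/-- Elements of `M ⊗ κ(p)` killed by `x` are killed outside `q`. -/
def RegAt (M : Type u) [AddCommGroup M] [Module R M] [Module S M] [IsScalarTower R S M]
    (p : Ideal R) [p.IsPrime] (q : Ideal S) (x : S) : Prop :=
  ∀ w : M ⊗[R] p.ResidueField, x • w = 0 → ∃ u, u ∉ q ∧ u • w = 0

theorem exact_rTensor_ker {k : Type u} [Field k] {T T' : Type u} [AddCommGroup T] [Module k T] [AddCommGroup T']
    [Module k T'] (X : T →ₗ[k] T') (V : Type u) [AddCommGroup V] [Module k V] :
    Function.Exact ((LinearMap.ker X).subtype.rTensor V) (X.rTensor V) :=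
  Module.Flat.rTensor_exact V (LinearMap.exact_subtype_ker_map X)

/-- Regularity on the fibre passes to the modules over the base killed by `p`. -/
theorem killed_of_smul_eq_bot {p : Ideal R} [p.IsPrime] {q : Ideal S} [q.IsPrime] [q.LiesOver p] {x : S}
    (hreg : RegAt M p q x) {Q : Type u} [AddCommGroup Q] [Module R Q] (hQ : ∀ a ∈ p, ∀ y : Q, a • y = 0)
    (w : M ⊗[R] Q) (hw : x • w = 0) : ∃ u, u ∉ q ∧ u • w = 0 := by
  let k := p.ResidueField
  let T := k ⊗[R] M
  let V := k ⊗[R] Q
  let X : T →ₗ[k] T := ((LinearMap.lsmul S M x).restrictScalars R).baseChange k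
  let ψ : M →ₗ[R] T := TensorProduct.mk R k M 1
  let c := AlgebraTensorModule.cancelBaseChange R k k T Q
  let K := LinearMap.ker X
  have hex : Function.Exact (K.subtype.rTensor V) (X.rTensor V) :=
    exact_rTensor_ker X V
  have hc : ∀ (Z : T →ₗ[k] T) (v : T ⊗[k] V), c (Z.rTensor V v) = (Z.restrictScalars R).rTensor Q (c v) := by
    intro Z v
    induction v with
    | zero => simp
    | add a b ha hb => simp only [map_add, ha, hb]
    | tmul t v =>
      induction v using TensorProduct.induction_on with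
      | zero => simp
      | add a b ha hb => simp only [tmul_add, map_add, ha, hb]
      | tmul a y =>
        show (a • Z t) ⊗ₜ[R] y = Z (a • t) ⊗ₜ[R] y
        rw [map_smul]
  let L : S → (T →ₗ[k] T) := fun s => ((LinearMap.lsmul S M s).restrictScalars R).baseChange k
  have hψ : ∀ (s : S) (z : M ⊗[R] Q), ψ.rTensor Q (s • z) = ((L s).restrictScalars R).rTensor Q (ψ.rTensor Q z) := by
    intro s z
    induction z with
    | zero => simp
    | add a b ha hb => simp only [smul_add, map_add, ha, hb]
    | tmul m y =>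
      rw [smul_tmul', LinearMap.rTensor_tmul, LinearMap.rTensor_tmul, LinearMap.rTensor_tmul]
      rfl
  obtain ⟨v, hv⟩ := c.surjective (ψ.rTensor Q w)
  obtain ⟨y, hy⟩ := (hex v).mp (c.injective (by
    rw [map_zero]
    refine (hc X v).trans ?_
    rw [hv]
    exact (hψ x w).symm.trans (by rw [hw, map_zero])))
  have hLmul : ∀ (a b : S) (t : T), L (a * b) t = L a (L b t) := by
    intro a b t
    induction t using TensorProduct.induction_on with
    | zero => simp
    | add a b ha hb => simp only [map_add, ha, hb]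
    | tmul a' m =>
      show a' ⊗ₜ[R] ((a * b) • m) = a' ⊗ₜ[R] (a • b • m)
      rw [mul_smul]
  have hLcomm : ∀ (a b : S) (t : T), L a (L b t) = L b (L a t) := fun a b t => by
    rw [← hLmul, ← hLmul, mul_comm]
  have hK : ∀ t ∈ K, ∃ u, u ∉ q ∧ L u t = 0 := by
    intro t ht
    have hcomm : ∀ (s : S) (t : T), TensorProduct.comm R k M (L s t) = s • TensorProduct.comm R k M t := by
      intro s t
      induction t using TensorProduct.induction_on with
      | zero => simp
      | add a b ha hb => simp only [map_add, smul_add, ha, hb]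
      | tmul a m => rfl
    obtain ⟨u, hu, hu0⟩ := hreg (TensorProduct.comm R k M t) (by
      rw [← hcomm, show L x t = 0 from ht, map_zero])
    exact ⟨u, hu, (TensorProduct.comm R k M).injective (by rw [hcomm, hu0, map_zero])⟩
  obtain ⟨u, hu, hu0⟩ : ∃ u, u ∉ q ∧ (L u).rTensor V (K.subtype.rTensor V y) = 0 := by
    clear hy
    induction y with
    | zero => exact ⟨1, fun h => ‹q.IsPrime›.ne_top ((Ideal.eq_top_iff_one q).mpr h), by simp⟩
    | tmul t z =>
      obtain ⟨u, hu, h⟩ := hK t t.2
      exact ⟨u, hu, by rw [LinearMap.rTensor_tmul, LinearMap.rTensor_tmul, Submodule.subtype_apply, h, zero_tmul]⟩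
    | add a b ha hb =>
      obtain ⟨u, hu, h⟩ := ha
      obtain ⟨u', hu', h'⟩ := hb
      refine ⟨u * u', fun h => (‹q.IsPrime›.mem_or_mem h).elim hu hu', ?_⟩
      have hmul : ∀ (a b : S) (z : T ⊗[k] V), (L (a * b)).rTensor V z = (L a).rTensor V ((L b).rTensor V z) := by
        intro a b z
        rw [← LinearMap.comp_apply, ← LinearMap.rTensor_comp,
          show L (a * b) = (L a) ∘ₗ (L b) from LinearMap.ext fun t => hLmul a b t]
      rw [map_add, map_add]
      nth_rw 1 [mul_comm u u']
      rw [hmul, hmul, h, h', map_zero, map_zero, add_zero]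
  have h1 : ψ.rTensor Q (u • w) = 0 := by
    rw [hψ, ← hv, ← hy, ← hc, hu0, map_zero]
  have hp : p • (⊤ : Submodule R (M ⊗[R] Q)) = ⊥ := by
    refine le_bot_iff.mp (Submodule.smul_le.mpr fun a ha z _ => ?_)
    induction z with
    | zero => simp
    | add z z' hz hz' => rw [smul_add]; exact add_mem (hz trivial) (hz' trivial)
    | tmul m y => rw [← tmul_smul, hQ a ha, tmul_zero]; exact zero_mem _
  have h2 : ∀ z : M ⊗[R] Q, TensorProduct.assoc R k M Q (ψ.rTensor Q z) = (1 : k) ⊗ₜ[R] z := by
    intro z
    induction z with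
    | zero => simp
    | add a b ha hb => simp only [map_add, tmul_add, ha, hb]
    | tmul m y => rfl
  have h3 : (u • w) ⊗ₜ[R] (1 : k) = 0 := by
    have := congrArg (TensorProduct.comm R k (M ⊗[R] Q)) ((h2 (u • w)).symm.trans (by rw [h1, map_zero]))
    simpa using this
  obtain ⟨r, hr, hru⟩ := Groth.SchDom.exists_smul_mem_of_tmul_one_eq_zero p (u • w) h3
  rw [hp, Submodule.mem_bot] at hru
  refine ⟨algebraMap R S r * u, fun h => ?_, by rw [mul_smul, algebraMap_smul]; exact hru⟩
  exact (‹q.IsPrime›.mem_or_mem h).elim (fun h' => hr ((Ideal.mem_of_liesOver q p r).mpr h')) hu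

/-- Where `M` is flat away from `x` the kernel of an injection is killed by a power of `x`. -/
theorem exists_pow_smul_eq_zero {x : S} (hflat : ∀ (b : Ideal S) [b.IsPrime], x ∉ b → FlatCA.FlatAt R b M)
    {A B : Type u} [AddCommGroup A] [Module R A] [AddCommGroup B] [Module R B] (f : A →ₗ[R] B)
    (hf : Function.Injective f) (z : M ⊗[R] A) (hz : f.lTensor M z = 0) : ∃ k : ℕ, x ^ k • z = 0 := by
  let I : Ideal S := LinearMap.ker (LinearMap.toSpanSingleton S (M ⊗[R] A) z)
  suffices x ∈ I.radical from this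
  rw [Ideal.radical_eq_sInf]
  refine Submodule.mem_sInf.mpr fun (b : Ideal S) hb => by_contra fun hxb => ?_
  obtain ⟨hIb, hbp⟩ := hb
  haveI : b.IsPrime := hbp
  haveI : Module.Flat R (LocalizedModule b.primeCompl M) := hflat b hxb
  obtain ⟨s, hs, hsz⟩ := FlatMorOne.exists_smul_eq_zero_of_flat_localized b f hf z hz
  exact hs (hIb hsz)

variable {p : Ideal R} [p.IsPrime] {q : Ideal S} [q.IsPrime] [q.LiesOver p] {x : S}
  (hflat : ∀ (b : Ideal S) [b.IsPrime], x ∉ b → FlatCA.FlatAt R b M) (hreg : RegAt M p q x)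

include hflat hreg

/-- Regularity on the fibre passes to the modules killed by a power of `p`. -/
theorem killed_of_pow : ∀ (n : ℕ) (Q : Type u) [AddCommGroup Q] [Module R Q],
    (∀ a ∈ p ^ n, ∀ y : Q, a • y = 0) → ∀ (k : ℕ) (w : M ⊗[R] Q), x ^ k • w = 0 → ∃ u, u ∉ q ∧ u • w = 0 := by
  have h1q : (1 : S) ∉ q := fun h => ‹q.IsPrime›.ne_top ((Ideal.eq_top_iff_one q).mpr h)
  intro n
  induction n with
  | zero =>
    intro Q _ _ hQ k w _
    haveI : Subsingleton Q := subsingleton_of_forall_eq 0 fun y => by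
      simpa using hQ 1 (by simp) y
    exact ⟨1, h1q, by rw [one_smul]; exact Subsingleton.elim _ _⟩
  | succ n ih =>
    intro Q _ _ hQ k
    have one_step : ∀ w : M ⊗[R] Q, x • w = 0 → ∃ u, u ∉ q ∧ u • w = 0 := by
      intro w hw
      let Q₁ : Submodule R Q := p • ⊤
      let gS := AlgebraTensorModule.lTensor (R := R) S M Q₁.mkQ
      obtain ⟨u, hu, hu0⟩ := killed_of_smul_eq_bot hreg (Q := Q ⧸ Q₁) (fun a ha y => by
        obtain ⟨y, rfl⟩ := Submodule.Quotient.mk_surjective Q₁ y
        rw [← Submodule.Quotient.mk_smul, Submodule.Quotient.mk_eq_zero]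
        exact Submodule.smul_mem_smul ha trivial) (gS w) (by rw [← map_smul, hw, map_zero])
      rw [← map_smul] at hu0
      obtain ⟨w₁, hw₁⟩ := (lTensor_exact M (LinearMap.exact_subtype_mkQ Q₁) Q₁.mkQ_surjective (u • w)).mp hu0
      let jS := AlgebraTensorModule.lTensor (R := R) S M Q₁.subtype
      have hj : jS w₁ = u • w := hw₁
      obtain ⟨k, hk⟩ := exists_pow_smul_eq_zero hflat Q₁.subtype Q₁.injective_subtype (x • w₁) (by
        show jS (x • w₁) = 0
        rw [map_smul, hj, smul_comm, hw, smul_zero])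
      obtain ⟨u', hu', hu'0⟩ := ih Q₁ (fun a ha y => Subtype.ext (by
        show a • (y : Q) = 0
        have key : ∀ y ∈ Q₁, a • y = 0 := fun y hy => by
          refine Submodule.smul_induction_on hy (fun b hb z _ => ?_) fun y y' h h' => by rw [smul_add, h, h', add_zero]
          rw [smul_smul]
          exact hQ _ (pow_succ p n ▸ Ideal.mul_mem_mul ha hb) z
        exact key y y.2)) (k + 1) w₁ (by rw [pow_succ, mul_smul, hk])
      refine ⟨u' * u, fun h => (‹q.IsPrime›.mem_or_mem h).elim hu' hu, ?_⟩
      rw [mul_smul, ← hj, ← map_smul, hu'0, map_zero]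
    induction k with
    | zero => intro w hw; exact ⟨1, h1q, by simpa using hw⟩
    | succ k ihk =>
      intro w hw
      obtain ⟨u, hu, h⟩ := ihk (x • w) (by rw [smul_smul, ← pow_succ, hw])
      obtain ⟨u', hu', h'⟩ := one_step (u • w) (by rw [smul_comm, h])
      exact ⟨u' * u, fun h => (‹q.IsPrime›.mem_or_mem h).elim hu' hu, by rw [mul_smul, h']⟩

omit hflat hreg in
/-- `M ⊗ Q` is finite over `S`. -/
theorem finite_tensor [Module.Finite S M] (Q : Type u) [AddCommGroup Q] [Module R Q] [Module.Finite R Q] :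
    Module.Finite S (M ⊗[R] Q) := by
  obtain ⟨n, π, hπ⟩ := Module.Finite.exists_fin' R Q
  exact Module.Finite.of_surjective
    ((AlgebraTensorModule.lTensor (R := R) S M π).comp (TensorProduct.piScalarRight R S M (Fin n)).symm.toLinearMap)
    ((LinearMap.lTensor_surjective M hπ).comp (TensorProduct.piScalarRight R S M (Fin n)).symm.surjective)

set_option maxHeartbeats 800000 in
/-- **Flatness from flatness away from an element regular on the fibre**, over Noetherian rings. -/
theorem flatAt [IsNoetherianRing R] [IsNoetherianRing S] [Module.Finite S M] : FlatCA.FlatAt R q M := by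
  show Module.Flat R (LocalizedModule q.primeCompl M)
  rw [Module.Flat.iff_lTensor_injective']
  intro J
  refine FlatMorOne.lTensor_localized_injective_of_killed q.primeCompl J.subtype fun z hz => ?_
  obtain ⟨k, hk⟩ := exists_pow_smul_eq_zero hflat J.subtype J.injective_subtype z hz
  haveI : Module.Finite S (M ⊗[R] J) := finite_tensor J
  let Sq := Localization q.primeCompl
  let X := LocalizedModule q.primeCompl (M ⊗[R] J)
  let f := LocalizedModule.mkLinearMap q.primeCompl (M ⊗[R] J)
  let I : Ideal Sq := p.map (algebraMap R Sq)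
  have hpS : ∀ a ∈ p, algebraMap R S a ∈ q := fun a ha => (Ideal.mem_of_liesOver q p a).mp ha
  have hI : I ≠ ⊤ := by
    intro h
    have h1 : I ≤ IsLocalRing.maximalIdeal (Localization.AtPrime q) := Ideal.map_le_iff_le_comap.mpr fun a ha => by
      rw [Ideal.mem_comap, IsScalarTower.algebraMap_apply R S (Localization.AtPrime q)]
      exact (IsLocalization.AtPrime.to_map_mem_maximal_iff (Localization.AtPrime q) q _).mpr (hpS a ha)
    exact (IsLocalRing.maximalIdeal.isMaximal (Localization.AtPrime q)).ne_top (top_le_iff.mp (h ▸ h1))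
  have hmem : ∀ n : ℕ, f z ∈ I ^ n • (⊤ : Submodule Sq X) := by
    intro n
    let Q₁ : Submodule R J := p ^ n • ⊤
    let gS := AlgebraTensorModule.lTensor (R := R) S M Q₁.mkQ
    obtain ⟨u, hu, hu0⟩ := killed_of_pow hflat hreg n (J ⧸ Q₁) (fun a ha y => by
      obtain ⟨y, rfl⟩ := Submodule.Quotient.mk_surjective Q₁ y
      rw [← Submodule.Quotient.mk_smul, Submodule.Quotient.mk_eq_zero]
      exact Submodule.smul_mem_smul ha trivial) k (gS z) (by rw [← map_smul, hk, map_zero])
    rw [← map_smul] at hu0
    obtain ⟨w₁, hw₁⟩ := (lTensor_exact M (LinearMap.exact_subtype_mkQ Q₁) Q₁.mkQ_surjective (u • z)).mp hu0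
    have h1 : u • z ∈ p ^ n • (⊤ : Submodule R (M ⊗[R] J)) := by
      rw [← hw₁]
      clear hw₁
      induction w₁ with
      | zero => rw [map_zero]; exact zero_mem _
      | add a b ha hb => rw [map_add]; exact add_mem ha hb
      | tmul m y =>
        have key : ∀ y ∈ Q₁, m ⊗ₜ[R] y ∈ p ^ n • (⊤ : Submodule R (M ⊗[R] J)) := fun y hy => by
          refine Submodule.smul_induction_on hy (fun a ha w _ => ?_) fun a b ha hb => by rw [tmul_add]; exact add_mem ha hb
          rw [tmul_smul]
          exact Submodule.smul_mem_smul ha trivial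
        exact key y y.2
    have h2 : f (u • z) ∈ I ^ n • (⊤ : Submodule Sq X) := by
      refine Submodule.smul_induction_on h1 (fun a ha w _ => ?_) fun a b ha hb => by rw [map_add]; exact add_mem ha hb
      rw [LinearMap.map_smul_of_tower, ← algebraMap_smul Sq a (f w), ← Ideal.map_pow]
      exact Submodule.smul_mem_smul (Ideal.mem_map_of_mem _ ha) trivial
    rw [map_smul, ← algebraMap_smul Sq u (f z)] at h2
    exact (Submodule.smul_mem_iff_of_isUnit _ (IsLocalization.map_units (M := q.primeCompl) Sq ⟨u, hu⟩)).mp h2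
  have h0 : f z = 0 := by
    haveI : IsLocalRing Sq := inferInstanceAs (IsLocalRing (Localization.AtPrime q))
    haveI : IsNoetherianRing Sq := IsLocalization.isNoetherianRing q.primeCompl Sq inferInstance
    have := Submodule.mem_iInf _ |>.mpr hmem
    rwa [Ideal.iInf_pow_smul_eq_bot_of_isLocalRing I hI, Submodule.mem_bot] at this
  obtain ⟨⟨s, hs⟩, hsz⟩ := (IsLocalizedModule.eq_zero_iff q.primeCompl f).mp h0
  exact ⟨s, hs, hsz⟩

end Groth.RaynaudGruson.AssFlatNoeth
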