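import Groth.Agent.FlatMorOne.FlatLocusModelFlat
import Groth.Agent.Calg1.InjModMaximalEssFP
import Groth.Agent.RaynaudGruson.AssFlatNoeth
import Groth.Agent.FlatmorThree.PureProjective
import Mathlib

/-!
Flatness at a prime from flatness away from an element regular on the fibre, over any base.
-/

set_option autoImplicit false
set_option linter.style.haveILetI false
universe u

open TensorProduct Groth.FlatMorOne

namespace Groth.RaynaudGruson.AssFlatDescent

attribute [local instance] Algebra.TensorProduct.rightAlgebra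

section Global

variable {R₀ R S₀ S M₀ M : Type u} [CommRing R₀] [CommRing R] [Algebra R₀ R] [CommRing S₀]
  [Algebra R₀ S₀] [CommRing S] [Algebra R S] [Algebra S₀ S] [Algebra R₀ S] [IsScalarTower R₀ R S]
  [IsScalarTower R₀ S₀ S] [hpush : Algebra.IsPushout R₀ R S₀ S]
  [AddCommGroup M₀] [Module R₀ M₀] [Module S₀ M₀] [IsScalarTower R₀ S₀ M₀]
  [AddCommGroup M] [Module S M] [Module R M] [IsScalarTower R S M] [Module S₀ M] [IsScalarTower S₀ S M]
  {f₀ : M₀ →ₗ[S₀] M} (hf₀ : IsBaseChange S f₀)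
  [IsNoetherianRing R₀] [Algebra.FiniteType R₀ S₀] [Module.Finite S₀ M₀]

set_option synthInstance.maxHeartbeats 200000 in
set_option maxHeartbeats 2000000 in
include hpush hf₀ in
/-- Flatness away from an element descends to a finitely generated stage and persists to larger ones. -/
theorem exists_stage_flat_away {Ax : Subalgebra R₀ R} (hAx : Ax.FG) (xA : SOf R₀ S₀ Ax) {x : S}
    (hxA : stageAlgHom R₀ R S₀ S Ax xA = x)
    (hflat₀ : ∀ (q : Ideal S) [q.IsPrime], x ∉ q → Module.Flat R (LocalizedModule q.primeCompl M)) :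
    ∃ (A : Subalgebra R₀ R) (hle : Ax ≤ A), A.FG ∧ ∀ (B : Subalgebra R₀ R), B.FG → ∀ hAB : A ≤ B,
      ∀ b : PrimeSpectrum (SOf R₀ S₀ B), sMap R₀ S₀ (Subalgebra.inclusion (hle.trans hAB)) xA ∉ b.asIdeal →
        Module.Flat B (LocalizedModule b.asIdeal.primeCompl (MOf R₀ S₀ M₀ B)) := by
  classical
  choose A hA hflat using fun q : {q : PrimeSpectrum S // x ∉ q.asIdeal} =>
    exists_stage_flat_at (R₀ := R₀) (R := R) hf₀ q.1 (hflat₀ q.1.asIdeal q.2)
  have hN : ∀ q, IsNoetherianRing (A q) := fun q => isNoetherianRing_of_fg (hA q)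
  let U : ∀ q, Set (PrimeSpectrum (SOf R₀ S₀ (A q))) := fun q =>
    {b | Module.Flat (A q) (LocalizedModule b.asIdeal.primeCompl (MOf R₀ S₀ M₀ (A q)))}
  let V : {q : PrimeSpectrum S // x ∉ q.asIdeal} → Set (PrimeSpectrum S) := fun q =>
    PrimeSpectrum.comap (stageAlgHom R₀ R S₀ S (A q)).toRingHom ⁻¹' U q
  obtain ⟨t, ht⟩ := (PrimeSpectrum.isCompact_basicOpen x).elim_finite_subcover V (fun q => by
      have := hN q
      exact isOpen_flatLocus_of_isNoetherianRing.preimage (PrimeSpectrum.continuous_comap _))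
    (fun q hq => Set.mem_iUnion.mpr ⟨⟨q, hq⟩, hflat ⟨q, hq⟩ _ (hA _) le_rfl⟩)
  let A₁ := Ax ⊔ t.sup A
  have hA₁ : A₁.FG :=
    hAx.sup (Finset.sup_induction Subalgebra.fg_bot (fun A hA B hB => hA.sup hB) fun q _ => hA q)
  let x₁ : SOf R₀ S₀ A₁ := sMap R₀ S₀ (Subalgebra.inclusion (le_sup_left : Ax ≤ A₁)) xA
  have hx₁ : pushoutAlgEquiv R₀ R S₀ S (sMap R₀ S₀ A₁.val x₁) = x := by
    rw [← hxA]
    show _ = pushoutAlgEquiv R₀ R S₀ S (sMap R₀ S₀ _ xA)
    simp only [x₁, sMap_sMap]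
    rfl
  have : IsNoetherianRing A₁ := isNoetherianRing_of_fg hA₁
  let U₁ := {b : PrimeSpectrum (SOf R₀ S₀ A₁) |
    Module.Flat A₁ (LocalizedModule b.asIdeal.primeCompl (MOf R₀ S₀ M₀ A₁))}
  have hU₁ : ∀ q : PrimeSpectrum S, x ∉ q.asIdeal →
      PrimeSpectrum.comap (stageAlgHom R₀ R S₀ S A₁).toRingHom q ∈ U₁ := by
    intro q hxq
    obtain ⟨i, hi, hqi⟩ := Set.mem_iUnion₂.mp (ht (show q ∈ (PrimeSpectrum.basicOpen x : Set _) from hxq))
    let : Algebra (A i) A₁ :=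
      (Subalgebra.inclusion (le_sup_of_le_right (Finset.le_sup hi) : A i ≤ A₁)).toRingHom.toAlgebra
    have : IsScalarTower R₀ (A i) A₁ := IsScalarTower.of_algebraMap_eq fun r => rfl
    have hcomp : (stageAlgHom R₀ R S₀ S A₁).toRingHom.comp
        (sMap R₀ S₀ (IsScalarTower.toAlgHom R₀ (A i) A₁)).toRingHom =
          (stageAlgHom R₀ R S₀ S (A i)).toRingHom := by
      refine RingHom.ext fun x => ?_
      show pushoutAlgEquiv R₀ R S₀ S (sMap R₀ S₀ _ (sMap R₀ S₀ _ x)) = pushoutAlgEquiv R₀ R S₀ S (sMap R₀ S₀ _ x)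
      rw [sMap_sMap]
      rfl
    have : Module.Flat (A i) (LocalizedModule ((q.asIdeal.comap (stageAlgHom R₀ R S₀ S A₁).toRingHom).comap
        (sMap R₀ S₀ (IsScalarTower.toAlgHom R₀ (A i) A₁)).toRingHom).primeCompl (MOf R₀ S₀ M₀ (A i))) :=
      flat_localized_of_eq (hq := hqi) (by rw [Ideal.comap_comap, hcomp]; rfl)
    show Module.Flat A₁ (LocalizedModule (q.asIdeal.comap (stageAlgHom R₀ R S₀ S A₁).toRingHom).primeCompl _)
    exact flat_localized_stage (A := A i) _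
  obtain ⟨J, hJ⟩ := (PrimeSpectrum.isClosed_iff_zeroLocus_ideal _).mp
    (isOpen_flatLocus_of_isNoetherianRing (R := A₁) (S := SOf R₀ S₀ A₁) (M := MOf R₀ S₀ M₀ A₁)).isClosed_compl
  obtain ⟨N, hN'⟩ : ∃ N : ℕ, sMap R₀ S₀ A₁.val x₁ ^ N ∈ J.map (sMap R₀ S₀ A₁.val).toRingHom := by
    suffices sMap R₀ S₀ A₁.val x₁ ∈ (J.map (sMap R₀ S₀ A₁.val).toRingHom).radical from this
    rw [Ideal.radical_eq_sInf]
    refine Submodule.mem_sInf.mpr fun (m : Ideal (SOf R₀ S₀ R)) hm => by_contra fun hxm => ?_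
    obtain ⟨hle, hmp⟩ := hm
    haveI : m.IsPrime := hmp
    let q : PrimeSpectrum S := ⟨m.comap (pushoutAlgEquiv R₀ R S₀ S).symm.toAlgHom.toRingHom, inferInstance⟩
    have h1 : PrimeSpectrum.comap (stageAlgHom R₀ R S₀ S A₁).toRingHom q ∈ PrimeSpectrum.zeroLocus (J : Set _) := by
      intro x hx
      show (pushoutAlgEquiv R₀ R S₀ S).symm (pushoutAlgEquiv R₀ R S₀ S (sMap R₀ S₀ A₁.val x)) ∈ m
      rw [AlgEquiv.symm_apply_apply]
      exact hle (Ideal.mem_map_of_mem _ hx)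
    rw [← hJ] at h1
    refine h1 (hU₁ q fun hxq => hxm ?_)
    have h2 : (pushoutAlgEquiv R₀ R S₀ S).symm x ∈ m := hxq
    rwa [← hx₁, AlgEquiv.symm_apply_apply] at h2
  obtain ⟨n, c, y, hy⟩ := (Submodule.mem_span_set').mp
    (show sMap R₀ S₀ A₁.val x₁ ^ N ∈ Submodule.span _ ((sMap R₀ S₀ A₁.val) '' (J : Set _)) from hN')
  choose xj hxj hxy using fun i => (y i).2
  choose Ac hAc c' hc' using fun i => exists_sMap_eq R₀ S₀ (c i)
  let A₂ := A₁ ⊔ Finset.univ.sup Ac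
  have hA₂ : A₂.FG := hA₁.sup (Finset.sup_induction Subalgebra.fg_bot (fun A hA B hB => hA.sup hB) fun i _ => hAc i)
  have hle : ∀ i, Ac i ≤ A₂ := fun i => le_sup_of_le_right (Finset.le_sup (Finset.mem_univ i))
  let d : SOf R₀ S₀ A₂ := ∑ i, sMap R₀ S₀ (Subalgebra.inclusion (hle i)) (c' i) *
    sMap R₀ S₀ (Subalgebra.inclusion (le_sup_left : A₁ ≤ A₂)) (xj i) -
    sMap R₀ S₀ (Subalgebra.inclusion (le_sup_left : A₁ ≤ A₂)) x₁ ^ N
  have hd : sMap R₀ S₀ A₂.val d = 0 := by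
    simp only [d, map_sub, map_sum, map_mul, map_pow, sMap_sMap, Subalgebra.val_comp_inclusion, hc', hxy]
    rw [sub_eq_zero]
    simpa only [smul_eq_mul] using hy
  obtain ⟨A₃, h23, hA₃, hd₃⟩ := exists_sMap_eq_zero hA₂ hd
  refine ⟨A₃, le_sup_left.trans (le_sup_left.trans h23), hA₃, fun B hB h3B b hxb => ?_⟩
  have h1B : A₁ ≤ B := le_sup_left.trans (h23.trans h3B)
  let : Algebra A₁ B := (Subalgebra.inclusion h1B).toRingHom.toAlgebra
  have : IsScalarTower R₀ A₁ B := IsScalarTower.of_algebraMap_eq fun r => rfl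
  have hbU : PrimeSpectrum.comap (sMap R₀ S₀ (IsScalarTower.toAlgHom R₀ A₁ B)).toRingHom b ∈ U₁ := by
    by_contra hb
    have hb' : PrimeSpectrum.comap (sMap R₀ S₀ (IsScalarTower.toAlgHom R₀ A₁ B)).toRingHom b ∈
        PrimeSpectrum.zeroLocus (J : Set _) := by
      rw [← hJ]
      exact hb
    have h0 := congrArg (sMap R₀ S₀ (Subalgebra.inclusion h3B)) hd₃
    simp only [d, x₁, map_sub, map_sum, map_mul, map_pow, map_zero, sMap_sMap, sub_eq_zero] at h0
    apply hxb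
    refine b.isPrime.mem_of_pow_mem N ?_
    have hmem : ∀ i, sMap R₀ S₀ (IsScalarTower.toAlgHom R₀ A₁ B) (xj i) ∈ b.asIdeal := fun i => hb' (hxj i)
    have hsum : ∀ (g : Fin n → SOf R₀ S₀ B), ∑ i, g i * sMap R₀ S₀ (IsScalarTower.toAlgHom R₀ A₁ B) (xj i) ∈ b.asIdeal :=
      fun g => Submodule.sum_mem _ fun i _ => Ideal.mul_mem_left _ _ (hmem i)
    exact h0 ▸ hsum _
  have : Module.Flat A₁ (LocalizedModule (b.asIdeal.comap
      (sMap R₀ S₀ (IsScalarTower.toAlgHom R₀ A₁ B)).toRingHom).primeCompl (MOf R₀ S₀ M₀ A₁)) := hbU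
  exact flat_localized_stage (A := A₁) _


end Global

section Descent

variable {R₀ R S₀ S M₀ M : Type u} [CommRing R₀] [CommRing R] [Algebra R₀ R] [CommRing S₀] [Algebra R₀ S₀]
  [CommRing S] [Algebra R S] [AddCommGroup M₀] [Module R₀ M₀] [Module S₀ M₀] [IsScalarTower R₀ S₀ M₀]
  [AddCommGroup M] [Module R M] [Module R₀ M] [IsScalarTower R₀ R M] [Module S M] [IsScalarTower R S M]

set_option maxHeartbeats 1000000 in
/-- Regularity on the fibre descends to a model. -/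
theorem regAt_descend {β : M₀ →ₗ[R₀] M} (hβ : IsBaseChange R β) (σ : S₀ →+* S)
    (hσR : ∀ a, σ (algebraMap R₀ S₀ a) = algebraMap R S (algebraMap R₀ R a))
    (hσ : ∀ s m, β (s • m) = σ s • β m)
    (hgen : ∀ u : S, ∃ (n : ℕ) (r : Fin n → R) (s : Fin n → S₀), u = ∑ i, algebraMap R S (r i) * σ (s i))
    (p : Ideal R) [p.IsPrime] (q : Ideal S) [q.IsPrime] [q.LiesOver p]
    (p₀ : Ideal R₀) [p₀.IsPrime] [p.LiesOver p₀] {x₀ : S₀} {x : S} (hx : σ x₀ = x)
    (hreg : AssFlatNoeth.RegAt M p q x) : AssFlatNoeth.RegAt M₀ p₀ (q.comap σ) x₀ := by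
  classical
  intro w₀ hw₀
  by_contra! hcon
  let k₀ := p₀.ResidueField
  let k := p.ResidueField
  let L := q.ResidueField
  let e₁ : k₀ →+* k := (Ideal.ResidueField.mapₐ p₀ p (Algebra.ofId R₀ R) (Ideal.over_def p p₀)).toRingHom
  let e₂ : k →+* L := (Ideal.ResidueField.mapₐ p q (Algebra.ofId R S) (Ideal.over_def q p)).toRingHom
  have he₁ : ∀ a : R₀, e₁ (algebraMap R₀ k₀ a) = algebraMap R k (algebraMap R₀ R a) := fun a => by
    refine ((Ideal.ResidueField.mapₐ p₀ p (Algebra.ofId R₀ R) (Ideal.over_def p p₀)).commutes a).trans ?_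
    rw [IsScalarTower.algebraMap_apply R₀ R k]
  have he₂ : ∀ a : R, e₂ (algebraMap R k a) = algebraMap S L (algebraMap R S a) := fun a => by
    refine ((Ideal.ResidueField.mapₐ p q (Algebra.ofId R S) (Ideal.over_def q p)).commutes a).trans ?_
    rw [IsScalarTower.algebraMap_apply R S L]
  letI : Algebra k₀ L := (e₂.comp e₁).toAlgebra
  letI : Algebra R₀ L := ((algebraMap k₀ L).comp (algebraMap R₀ k₀)).toAlgebra
  haveI : IsScalarTower R₀ k₀ L := IsScalarTower.of_algebraMap_eq' rfl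
  -- the transition map
  let g : k₀ →ₗ[R₀] k :=
    { toFun := e₁
      map_add' := map_add _
      map_smul' := fun a c => by
        show e₁ (a • c) = a • e₁ c
        rw [Algebra.smul_def, map_mul, he₁, Algebra.smul_def, IsScalarTower.algebraMap_apply R₀ R k] }
  let Ω : k₀ →ₗ[R₀] (M₀ →ₗ[R₀] M ⊗[R] k) :=
    LinearMap.mk₂ R₀ (fun c m => β m ⊗ₜ[R] g c)
      (fun c c' m => by rw [map_add, tmul_add])
      (fun a c m => by rw [map_smul, tmul_smul])
      (fun c m m' => by rw [map_add, add_tmul])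
      (fun a c m => by rw [map_smul, smul_tmul'])
  let μ : M₀ ⊗[R₀] k₀ →ₗ[R₀] M ⊗[R] k := TensorProduct.lift Ω.flip
  have hμt : ∀ m c, μ (m ⊗ₜ[R₀] c) = β m ⊗ₜ[R] g c := fun m c => rfl
  have hμ : ∀ s z, μ (s • z) = σ s • μ z := by
    intro s z
    induction z with
    | zero => simp
    | add a b ha hb => simp only [smul_add, map_add, ha, hb]
    | tmul m c => rw [smul_tmul', hμt, hμt, hσ, smul_tmul']
  obtain ⟨u, huq, huw⟩ := hreg (μ w₀) (by rw [← hx, ← hμ, hw₀, map_zero])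
  -- a functional detecting `q`
  let T := k₀ ⊗[R₀] M₀
  let t₀ : T := TensorProduct.comm R₀ M₀ k₀ w₀
  let Λ : S₀ →ₗ[R₀] T := (TensorProduct.comm R₀ M₀ k₀).toLinearMap ∘ₗ
    (LinearMap.toSpanSingleton S₀ (M₀ ⊗[R₀] k₀) w₀).restrictScalars R₀
  let Φ : k₀ ⊗[R₀] S₀ →ₗ[k₀] T := LinearMap.liftBaseChange k₀ Λ
  let ρ : S₀ →ₗ[R₀] L :=
    { toFun := fun s => algebraMap S L (σ s)
      map_add' := fun a b => by rw [map_add, map_add]
      map_smul' := fun a s => by
        show algebraMap S L (σ (a • s)) = a • algebraMap S L (σ s)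
        rw [Algebra.smul_def, map_mul, map_mul, hσR, ← algebraMap_smul k₀ a (algebraMap S L (σ s)),
          Algebra.smul_def (algebraMap R₀ k₀ a)]
        show _ = e₂ (e₁ (algebraMap R₀ k₀ a)) * _
        rw [he₁, he₂] }
  let Φ' : k₀ ⊗[R₀] S₀ →ₗ[k₀] L := LinearMap.liftBaseChange k₀ ρ
  have hker : LinearMap.ker Φ ≤ LinearMap.ker Φ' := by
    intro z hz
    obtain ⟨a, s, ha, hz'⟩ := Groth.FlatmorThree.exists_smul_eq_one_tmul p₀ z
    have hs : algebraMap R₀ k₀ a ≠ 0 := fun h0 => ha (Ideal.algebraMap_residueField_eq_zero.mp h0)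
    have h0 : s • w₀ = 0 := by
      have h1 : Φ ((1 : k₀) ⊗ₜ[R₀] s) = 0 := by rw [← hz', map_smul, LinearMap.mem_ker.mp hz, smul_zero]
      rw [LinearMap.liftBaseChange_tmul, one_smul] at h1
      exact (TensorProduct.comm R₀ M₀ k₀).injective (h1.trans (map_zero _).symm)
    have h2 : σ s ∈ q := by
      by_contra h
      exact hcon s h h0
    rw [LinearMap.mem_ker]
    refine (IsUnit.mk0 _ hs).smul_eq_zero.mp ?_
    rw [← map_smul, hz', LinearMap.liftBaseChange_tmul, one_smul]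
    exact Ideal.algebraMap_residueField_eq_zero.mpr h2
  let Φ₁ : LinearMap.range Φ →ₗ[k₀] L :=
    ((LinearMap.ker Φ).liftQ Φ' hker) ∘ₗ Φ.quotKerEquivRange.symm.toLinearMap
  obtain ⟨G, hG⟩ := LinearMap.exists_extend Φ₁
  have hGs : ∀ s : S₀, G (Λ s) = algebraMap S L (σ s) := by
    intro s
    have hΦ : Φ ((1 : k₀) ⊗ₜ[R₀] s) = Λ s := by rw [LinearMap.liftBaseChange_tmul, one_smul]
    have h1 := LinearMap.congr_fun hG ⟨Φ ((1 : k₀) ⊗ₜ[R₀] s), LinearMap.mem_range_self Φ _⟩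
    rw [LinearMap.comp_apply, Submodule.subtype_apply] at h1
    rw [← hΦ, h1]
    show ((LinearMap.ker Φ).liftQ Φ' hker) (Φ.quotKerEquivRange.symm _) = _
    rw [LinearMap.quotKerEquivRange_symm_apply_image, Submodule.mkQ_apply, Submodule.liftQ_apply,
      LinearMap.liftBaseChange_tmul, one_smul]
    rfl
  -- extend to the fibre of `M`
  haveI : IsScalarTower R₀ R L := IsScalarTower.of_algebraMap_smul fun a z => by
    rw [← algebraMap_smul k₀ a z, Algebra.smul_def (algebraMap R₀ k₀ a), Algebra.smul_def (algebraMap R₀ R a)]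
    show _ = e₂ (e₁ (algebraMap R₀ k₀ a)) * z
    rw [he₁, he₂, IsScalarTower.algebraMap_apply R S L]
  let g₁ : M₀ →ₗ[R₀] L := (G.restrictScalars R₀) ∘ₗ TensorProduct.mk R₀ k₀ M₀ 1
  let g' : M →ₗ[R] L := hβ.lift g₁
  let Γ₀ : M →ₗ[R] (k →ₗ[R] L) :=
    LinearMap.mk₂ R (fun m c => e₂ c * g' m)
      (fun m m' c => by rw [map_add, mul_add])
      (fun a m c => by rw [map_smul, mul_smul_comm])
      (fun m c c' => by rw [map_add, add_mul])
      (fun a m c => by
        rw [Algebra.smul_def, map_mul, he₂, Algebra.smul_def, IsScalarTower.algebraMap_apply R S L, mul_assoc])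
  let Γ : M ⊗[R] k →ₗ[R] L := TensorProduct.lift Γ₀
  have hμG : ∀ z, Γ (μ z) = G (TensorProduct.comm R₀ M₀ k₀ z) := by
    intro z
    induction z with
    | zero => simp
    | add a b ha hb => simp only [map_add, ha, hb]
    | tmul m c =>
      rw [hμt, TensorProduct.comm_tmul]
      show e₂ (e₁ c) * g' (β m) = G (c ⊗ₜ[R₀] m)
      rw [hβ.lift_eq, show c ⊗ₜ[R₀] m = c • ((1 : k₀) ⊗ₜ[R₀] m) by rw [smul_tmul', smul_eq_mul, mul_one], map_smul,
        Algebra.smul_def]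
      rfl
  obtain ⟨n, r, s, rfl⟩ := hgen u
  apply huq
  rw [← Ideal.algebraMap_residueField_eq_zero (I := q)]
  refine Eq.trans ?_ ((congrArg Γ huw).trans (map_zero Γ))
  rw [Finset.sum_smul, map_sum Γ, map_sum (algebraMap S L)]
  refine Finset.sum_congr rfl fun i _ => ?_
  rw [mul_smul, algebraMap_smul, map_smul, ← hμ, hμG, Algebra.smul_def, map_mul, IsScalarTower.algebraMap_apply R S L]
  exact congrArg _ (hGs (s i)).symm

/-- Elements of `R ⊗ S₀` are finite sums of pure tensors. -/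
theorem exists_finite_sum {R₀ R S₀ : Type u} [CommRing R₀] [CommRing R] [Algebra R₀ R] [CommRing S₀] [Algebra R₀ S₀]
    (z : R ⊗[R₀] S₀) : ∃ (n : ℕ) (r : Fin n → R) (s : Fin n → S₀), z = ∑ i, r i ⊗ₜ[R₀] s i := by
  induction z with
  | zero => exact ⟨0, Fin.elim0, Fin.elim0, by simp⟩
  | tmul a b => exact ⟨1, fun _ => a, fun _ => b, by simp⟩
  | add a b ha hb =>
    obtain ⟨n, r, s, rfl⟩ := ha
    obtain ⟨n', r', s', rfl⟩ := hb
    exact ⟨n + n', Fin.append r r', Fin.append s s', by rw [Fin.sum_univ_add]; simp⟩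

end Descent

set_option synthInstance.maxHeartbeats 200000 in
set_option maxHeartbeats 4000000 in
/-- **Flatness from flatness away from an element regular on the fibre**. -/
theorem flatAt {R S : Type u} [CommRing R] [CommRing S] [Algebra R S] [Algebra.FinitePresentation R S]
    (M : Type u) [AddCommGroup M] [Module S M] [Module R M] [IsScalarTower R S M] [Module.FinitePresentation S M]
    (p : Ideal R) [p.IsPrime] (q : Ideal S) [q.IsPrime] [q.LiesOver p] (x : S)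
    (hflat : ∀ (b : Ideal S) [b.IsPrime], x ∉ b → FlatCA.FlatAt R b M)
    (hreg : AssFlatNoeth.RegAt M p q x) : FlatCA.FlatAt R q M := by
  classical
  obtain ⟨R₀, hR₀, S₀, _, _, _, _, hS₀, hpush, M₀, _, _, _, _, _, _, f₀, hM₀, hf₀⟩ := exists_models R S M
  haveI : IsNoetherianRing R₀ := Algebra.FiniteType.isNoetherianRing ℤ R₀
  let eA := pushoutAlgEquiv R₀ R S₀ S
  obtain ⟨Ax, hAx, xA, hxA⟩ := exists_sMap_eq R₀ S₀ (eA.symm x)
  have hxA' : stageAlgHom R₀ R S₀ S Ax xA = x := by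
    show eA (sMap R₀ S₀ _ xA) = x
    rw [show (IsScalarTower.toAlgHom R₀ Ax R) = Ax.val from AlgHom.ext fun _ => rfl, hxA, AlgEquiv.apply_symm_apply]
  obtain ⟨B, hle, hB, hflatB⟩ := exists_stage_flat_away (R₀ := R₀) (R := R) hf₀ hAx xA hxA' hflat
  haveI : IsNoetherianRing B := isNoetherianRing_of_fg hB
  let SB := SOf R₀ S₀ B
  let σ : SB →+* S := (stageAlgHom R₀ R S₀ S B).toRingHom
  let xB : SB := sMap R₀ S₀ (Subalgebra.inclusion (hle.trans le_rfl)) xA
  haveI : IsNoetherianRing SB := Algebra.FiniteType.isNoetherianRing B SB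
  let pB : Ideal B := p.comap (algebraMap B R)
  haveI : p.LiesOver pB := ⟨rfl⟩
  have hσR : ∀ a : B, σ (algebraMap B SB a) = algebraMap R S (algebraMap B R a) := fun a => by
    show stageAlgHom R₀ R S₀ S B (a ⊗ₜ 1) = _
    simp only [stageAlgHom, AlgHom.comp_apply, sMap_tmul, AlgEquiv.coe_toAlgHom, pushoutAlgEquiv_tmul, map_one,
      mul_one]
    rfl
  haveI : (q.comap σ).IsPrime := Ideal.IsPrime.comap σ
  haveI : (q.comap σ).LiesOver pB := ⟨by
    ext a
    show algebraMap B R a ∈ p ↔ σ (algebraMap B SB a) ∈ q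
    rw [hσR, Ideal.mem_of_liesOver q p]⟩
  have hxB : σ xB = x := by
    refine ((Calg1.stageAlgHom_inclusion (hle.trans le_rfl) xA).trans ?_)
    rw [hxA, AlgEquiv.apply_symm_apply]
  have hgen : ∀ u : S, ∃ (n : ℕ) (r : Fin n → R) (s : Fin n → SB), u = ∑ i, algebraMap R S (r i) * σ (s i) := by
    intro u
    obtain ⟨n, r, s, hrs⟩ := exists_finite_sum (eA.symm u)
    refine ⟨n, r, fun i => (1 : B) ⊗ₜ[R₀] s i, ?_⟩
    rw [← eA.apply_symm_apply u, hrs, map_sum]
    refine Finset.sum_congr rfl fun i _ => ?_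
    show _ = _ * eA (sMap R₀ S₀ _ _)
    rw [sMap_tmul, map_one, pushoutAlgEquiv_tmul, pushoutAlgEquiv_tmul, map_one, one_mul]
  have hreg₀ : AssFlatNoeth.RegAt (MOf R₀ S₀ M₀ B) pB (q.comap σ) xB :=
    regAt_descend (isBaseChange_stageLinearMap (R₀ := R₀) (R := R) hf₀ B) σ hσR (stageLinearMap_smul hf₀ B)
      hgen p q pB hxB hreg
  have hflat₀ : FlatCA.FlatAt B (q.comap σ) (MOf R₀ S₀ M₀ B) :=
    AssFlatNoeth.flatAt (fun b hb hxb => hflatB B hB le_rfl ⟨b, hb⟩ hxb) hreg₀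
  haveI : Module.Flat B (LocalizedModule (q.comap σ).primeCompl (MOf R₀ S₀ M₀ B)) := hflat₀
  exact flat_localized_baseChange σ (isBaseChange_stageLinearMap hf₀ B) (stageLinearMap_smul hf₀ B) q

end Groth.RaynaudGruson.AssFlatDescent
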