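import Groth.Agent.RaynaudGruson.ImpurityWit
import Groth.Agent.Flatmor4.DevissageAt
import Mathlib

/-!
The relative assassin over a point and over a point with the same residue field.
-/

set_option autoImplicit false
universe u

namespace Groth.RaynaudGruson

open TensorProduct

attribute [local instance] Algebra.TensorProduct.rightAlgebra

/-- Over a point with the same residue field the associated points of the fibre contract to associated points. -/
theorem comap_assoc_of_bijective_residue {A B A' BA N NA : Type u} [CommRing A] [CommRing B] [CommRing A'] [CommRing BA]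
    [Algebra A B] [Algebra.FiniteType A B] [Algebra A A'] [Algebra B BA] [Algebra A' BA] [Algebra A BA]
    [IsScalarTower A B BA] [IsScalarTower A A' BA] [Algebra.IsPushout A B A' BA]
    [AddCommGroup N] [Module B N] [Module A N] [IsScalarTower A B N]
    [AddCommGroup NA] [Module BA NA] [Module B NA] [IsScalarTower B BA NA]
    (fA : N →ₗ[B] NA) (hfA : IsBaseChange BA fA) (p : Ideal A) [p.IsPrime] (p' : Ideal A') [p'.IsPrime]
    [hp : p'.LiesOver p] (hκ : Function.Bijective (Ideal.ResidueField.mapₐ p p' (Algebra.ofId A A') hp.over))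
    (P : Ideal BA) [P.IsPrime] (hPp : P.LiesOver p')
    (hass : FlatCA.fiberIdeal p' P ∈ associatedPrimes (p'.Fiber BA) (FlatCA.fiberMod p' BA NA)) :
    (P.comap (algebraMap B BA)).LiesOver p ∧ FlatCA.fiberIdeal p (P.comap (algebraMap B BA)) ∈
      associatedPrimes (p.Fiber B) (FlatCA.fiberMod p B N) := by
  haveI := hPp
  haveI : Algebra.IsPushout A A' B BA := Algebra.IsPushout.symm inferInstance
  haveI : Algebra.FiniteType A' BA := Algebra.FiniteType.equiv (inferInstance : Algebra.FiniteType A' (A' ⊗[A] B))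
    (Algebra.IsPushout.equiv A A' B BA)
  haveI : IsNoetherianRing (p'.Fiber BA) := Algebra.FiniteType.isNoetherianRing p'.ResidueField _
  let q := P.comap (algebraMap B BA)
  have hqp : q.comap (algebraMap A B) = p := by
    rw [Ideal.comap_comap, ← IsScalarTower.algebraMap_eq, IsScalarTower.algebraMap_eq A A' BA, ← Ideal.comap_comap]
    show (P.under A').under A = p
    rw [← hPp.over]
    exact hp.over.symm
  refine ⟨⟨hqp.symm⟩, ?_⟩
  obtain ⟨-, y, hy⟩ := Groth.Calg5.mem_ass_iff.mp (mem_ass_of_mem_associatedPrimes hass)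
  have hyP : ∀ s : BA, algebraMap BA (p'.Fiber BA) s • y = 0 ↔ s ∈ P := fun s => by
    rw [← hy]
    obtain ⟨Q, hQ⟩ := Flatmor4.exists_fiber_prime p' P
    rw [← hQ, fiberIdeal_comap]
    exact Iff.rfl
  have hid : IsBaseChange B (LinearMap.id : N →ₗ[B] N) := IsBaseChange.ofEquiv (LinearEquiv.refl B N)
  obtain ⟨z, rfl⟩ := (bijective_toFiber (A := A) N A' BA NA fA hfA p').2 y
  let e := AlgEquiv.ofBijective _ hκ
  let ψ : p'.ResidueField →ₐ[A] p.ResidueField := e.symm.toAlgHom
  let w : p.ResidueField ⊗[A] N := ψ.toLinearMap.rTensor N z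
  let y2 : p.Fiber B ⊗[B] N := toFiber (A := A) N A B N (LinearMap.id : N →ₗ[B] N) p w
  have hψ : Function.Injective (ψ.toLinearMap.rTensor N) := by
    refine Function.LeftInverse.injective (g := e.toAlgHom.toLinearMap.rTensor N) fun x => ?_
    rw [← LinearMap.rTensor_comp_apply, show e.toAlgHom.toLinearMap ∘ₗ ψ.toLinearMap = LinearMap.id from
      LinearMap.ext fun c => e.apply_symm_apply c, LinearMap.rTensor_id, LinearMap.id_apply]
  have hact : ∀ b : B, act N (resMap A p) ((1 : A) ⊗ₜ[A] b) w =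
      ψ.toLinearMap.rTensor N (act N (resMap A p') ((1 : A') ⊗ₜ[A] b) z) := by
    intro b
    rw [act_natural]
    show act N (resMap A p) ((1 : A) ⊗ₜ[A] b) w = act N (ψ.comp (resMap A p')) ((1 : A') ⊗ₜ[A] b) w
    induction w with
    | zero => simp
    | add u v hu hv => simp only [map_add, hu, hv]
    | tmul c n => simp
  have hiff : ∀ b : B, b • y2 = 0 ↔ b ∈ q := by
    intro b
    have h1 := toFiber_act (A := A) N A B N (LinearMap.id : N →ₗ[B] N) p ((1 : A) ⊗ₜ[A] b) w
    have h1' : b • y2 = toFiber (A := A) N A B N (LinearMap.id : N →ₗ[B] N) p (act N (resMap A p) ((1 : A) ⊗ₜ[A] b) w) := by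
      refine Eq.trans ?_ h1.symm
      simp [toB', y2]
    rw [h1', map_eq_zero_iff _ (bijective_toFiber (A := A) N A B N _ hid p).1, hact, map_eq_zero_iff _ hψ,
      ← map_eq_zero_iff _ (bijective_toFiber (A := A) N A' BA NA fA hfA p').1, toFiber_act]
    show toB' A' BA ((1 : A') ⊗ₜ[A] b) • (_ : p'.Fiber BA ⊗[BA] NA) = 0 ↔ algebraMap B BA b ∈ P
    rw [← hyP, algebraMap_smul]
    simp [toB']
    rfl
  have hqass : q ∈ FlatCA.ass B (FlatCA.fiberMod p B N) :=
    Groth.Calg5.mem_ass_iff.mpr ⟨inferInstance, y2, fun b => (hiff b).symm⟩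
  obtain ⟨Q2, hQ2, hQ2q⟩ := (Groth.Calg5.mem_ass_fiberMod_iff (N := N) (p := p) hqp).mp hqass
  show FlatCA.fiberIdeal p q ∈ _
  rw [← hQ2q, fiberIdeal_comap]
  exact mem_associatedPrimes_of_mem_ass hQ2

end Groth.RaynaudGruson
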