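import Groth.Agent.RaynaudGruson.FreeCover
import Groth.Agent.Calg3.FibreAssTorsion
import Groth.Agent.FlatMorOne.SmulNearOne
import Mathlib

/-!
Torsion near a point of flatness, for finite modules over algebras of finite type.
-/

set_option autoImplicit false
universe u

open TensorProduct IsLocalRing

namespace Groth.RaynaudGruson.AssassinTorsion

attribute [local instance] Algebra.TensorProduct.rightAlgebra

/-- An element avoiding the associated points of the fibre below `q` is regular on the fibre at `q`. -/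
theorem exists_notMem_smul_mem {R S : Type u} [CommRing R] [CommRing S] [Algebra R S] [Algebra.FiniteType R S]
    (N : Type u) [AddCommGroup N] [Module S N] [Module R N] [IsScalarTower R S N]
    (p : Ideal R) [p.IsPrime] (q : Ideal S) [q.IsPrime] [q.LiesOver p] (t : S)
    (ht : ∀ P ∈ associatedPrimes (p.Fiber S) (FlatCA.fiberMod p S N),
      P.comap (algebraMap S (p.Fiber S)) ≤ q → t ∉ P.comap (algebraMap S (p.Fiber S)))
    (n : N) (hn : t • n ∈ p • (⊤ : Submodule R N)) :
    ∃ v : S, v ∉ q ∧ v • n ∈ p • (⊤ : Submodule R N) := by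
  haveI : IsNoetherianRing (p.Fiber S) := Algebra.FiniteType.isNoetherianRing p.ResidueField _
  let fm := FlatCA.fiberMod p S N
  let F := p.Fiber S
  have : IsScalarTower S F fm := inferInstanceAs (IsScalarTower S F (F ⊗[S] N))
  let y : fm := FlatCA.toFiberMod p S N n
  obtain ⟨v, hvq, hvy⟩ : ∃ v : S, v ∉ q ∧ v • y = 0 := by
    by_contra hno
    push Not at hno
    let K : Ideal F := LinearMap.ker (LinearMap.toSpanSingleton F fm y)
    have hK : K.comap (algebraMap S F) ≤ q := fun a ha => by
      by_contra haq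
      refine hno a haq ?_
      rw [← algebraMap_smul F a y]
      exact ha
    obtain ⟨Q, hQ⟩ := Flatmor4.exists_fiber_prime p q
    have hKQ : K ≤ Q.asIdeal := by
      rw [← Groth.RaynaudGruson.map_comap_fiber p K, Ideal.map_le_iff_le_comap, hQ]
      exact hK
    obtain ⟨P, hP, hPQ⟩ := Ideal.exists_minimalPrimes_le hKQ
    have := hP.1.1
    have hPass : P ∈ associatedPrimes F fm := by
      let Y : Submodule F fm := Submodule.span F {y}
      refine associatedPrimes.subset_of_injective (f := Y.subtype) Y.injective_subtype ?_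
      refine Module.associatedPrimes.minimalPrimes_annihilator_subset_associatedPrimes F Y ?_
      have hY : Module.annihilator F Y = K := by
        ext a
        rw [← Submodule.annihilator, Submodule.mem_annihilator_span_singleton]
        rfl
      rw [hY]
      exact hP
    refine ht P hPass (hQ ▸ Ideal.comap_mono hPQ) ?_
    refine hP.1.2 ?_
    change algebraMap S F t • y = 0
    rw [algebraMap_smul]
    exact ((FlatCA.toFiberMod p S N).map_smul t n).symm.trans
      (Calg3.FibreAssTorsion.toFiberMod_eq_zero_of_mem N p hn)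
  have h1 : ((1 : F) ⊗ₜ[S] (v • n) : fm) = (0 : fm) := ((FlatCA.toFiberMod p S N).map_smul v n).trans hvy
  obtain ⟨r, hr, hrn⟩ := Calg3.FibreAssTorsion.exists_smul_mem_of_toFiberMod_eq_zero N p h1
  refine ⟨algebraMap R S r * v, fun h => (Ideal.IsPrime.mem_or_mem ‹q.IsPrime› h).elim (fun h' => hr ?_) hvq, ?_⟩
  · rw [Ideal.LiesOver.over (p := p) (P := q)]
    exact h'
  · rwa [mul_smul, algebraMap_smul]

/-- A tensor killed by a flat algebra is killed outside every prime of it. -/
theorem exists_notMem_of_tmul_eq_zero {S S' : Type u} [CommRing S] [CommRing S'] [Algebra S S'] [Module.Flat S S']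
    {M : Type u} [AddCommGroup M] [Module S M] {z : M} {v : S'} (h : v ⊗ₜ[S] z = 0) (q' : Ideal S') [q'.IsPrime]
    (hv : v ∉ q') : ∃ u, u ∉ q'.comap (algebraMap S S') ∧ u • z = 0 := by
  let I : Ideal S := LinearMap.ker (LinearMap.toSpanSingleton S M z)
  let g : (S ⧸ I) →ₗ[S] M := Submodule.liftQ I (LinearMap.toSpanSingleton S M z) le_rfl
  have hg : Function.Injective g := LinearMap.ker_eq_bot.mp (Submodule.ker_liftQ_eq_bot _ _ _ le_rfl)
  have h1 : v ⊗ₜ[S] (Ideal.Quotient.mk I 1) = 0 := by
    refine Module.Flat.lTensor_preserves_injective_linearMap (M := S') g hg ?_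
    rw [LinearMap.lTensor_tmul, map_zero]
    change v ⊗ₜ[S] ((1 : S) • z) = 0
    rw [one_smul, h]
  have h2 := congrArg (TensorProduct.tensorQuotEquivQuotSMul S' I) h1
  rw [map_zero, TensorProduct.tensorQuotEquivQuotSMul_tmul_mk, one_smul, Submodule.Quotient.mk_eq_zero,
    Ideal.smul_top_eq_map, Submodule.restrictScalars_mem] at h2
  by_contra! hno
  exact hv (Ideal.map_le_iff_le_comap.mpr (fun u hu => not_not.mp fun hn => hno u hn hu) h2)

set_option maxHeartbeats 1000000 in
set_option synthInstance.maxHeartbeats 100000 in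
/-- The finitely presented algebra case. -/
theorem exists_notMem_smul_eq_zero_fp {R S : Type u} [CommRing R] [CommRing S] [Algebra R S]
    [Algebra.FinitePresentation R S] (N : Type u) [AddCommGroup N] [Module S N] [Module R N] [IsScalarTower R S N]
    [Module.Finite S N] (p : Ideal R) [p.IsPrime] (q : Ideal S) [q.IsPrime] [q.LiesOver p]
    (hflat : FlatCA.FlatAt R q N) (t : S)
    (hreg : ∀ n : N, t • n ∈ p • (⊤ : Submodule R N) → ∃ v, v ∉ q ∧ v • n ∈ p • (⊤ : Submodule R N))
    (Q : Type u) [AddCommGroup Q] [Module R Q] (z : N ⊗[R] Q) (hz : t • z = 0) :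
    ∃ u : S, u ∉ q ∧ u • z = 0 := by
  obtain ⟨R', _, _, p', _, hR, hmod⟩ := LocalStructure.exists_nbhd_free N p q hflat
  obtain ⟨het, hp'o, hκ'⟩ := id hR
  haveI := het; haveI := hp'o
  let A := Localization.AtPrime p'
  let m := maximalIdeal A
  obtain ⟨SA, _, _, _, _, _, _, hpush⟩ := EtalePushout.exists_pushout R S A
  haveI := hpush
  haveI hpush' : Algebra.IsPushout R S A SA := Algebra.IsPushout.symm hpush
  obtain ⟨NA, _, _, _, _, f, hf⟩ := EtalePushout.exists_baseChange S SA N
  obtain ⟨C, _, _, _, _, _, _, x, _, hxq, hetC, hfpC, hxm, -, hfpN, hfree⟩ := hmod SA NA f hf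
  haveI := hetC; haveI := hfpC; haveI := hfpN; haveI := hxq
  haveI : Module.FinitePresentation C (C ⊗[S] N) :=
    Module.FinitePresentation.of_equiv (FreeCover.cancelEquiv hf)
  haveI : SMulCommClass S A C := ⟨fun s r x => by simp only [Algebra.smul_def]; ring⟩
  haveI : Module.Free A (C ⊗[S] N) := by
    haveI := FreeCover.free_restrict_congr (FreeCover.cancelEquiv hf) hfree
    exact Module.Free.of_equiv (AddEquiv.toLinearEquiv (RestrictScalars.addEquiv A C (C ⊗[S] N)) fun r z => by
      rw [RestrictScalars.addEquiv_map_smul]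
      exact algebraMap_smul C r _)
  letI : Algebra R C := ((algebraMap S C).comp (algebraMap R S)).toAlgebra
  haveI : IsScalarTower R S C := .of_algebraMap_eq' rfl
  have hRA : ∀ r : R, algebraMap A C (algebraMap R A r) = algebraMap S C (algebraMap R S r) := fun r => by
    rw [IsScalarTower.algebraMap_apply A SA C, ← IsScalarTower.algebraMap_apply R A SA,
      IsScalarTower.algebraMap_apply R S SA, ← IsScalarTower.algebraMap_apply S SA C]
  haveI : IsScalarTower R A C := .of_algebraMap_eq fun r => (hRA r).symm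
  haveI : Module.Flat R A :=
    haveI : Module.Flat R' A := IsLocalization.flat _ p'.primeCompl
    Module.Flat.trans R R' A
  haveI : Module.Flat S SA := Module.Flat.isBaseChange R S A SA hpush'.out
  haveI : Module.Flat S C := Module.Flat.trans S SA C
  have hm : p.map (algebraMap R A) = m :=
    letI : Algebra (Localization.AtPrime p) (Localization.AtPrime p') :=
      (Localization.localRingHom p p' (algebraMap R R') (p'.over_def p)).toAlgebra
    ((Algebra.isUnramifiedAt_iff_map_eq R p p').1 inferInstance).2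
  have hxS : x.comap (algebraMap S C) = q := hxq.over.symm
  let tC := algebraMap S C t
  let L : Submodule S N := p.map (algebraMap R S) • (⊤ : Submodule S N)
  have hL : ∀ n : N, n ∈ L ↔ n ∈ p • (⊤ : Submodule R N) := by
    intro n
    rw [← Submodule.restrictScalars_mem R, Ideal.smul_restrictScalars, Submodule.restrictScalars_top]
  let π : C ⊗[S] N →ₗ[C] C ⊗[S] (N ⧸ L) := L.mkQ.baseChange C
  have hkill : ∀ r ∈ p, ∀ w : C ⊗[S] (N ⧸ L), algebraMap S C (algebraMap R S r) • w = 0 := by
    intro r hr w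
    rw [algebraMap_smul]
    induction w with
    | zero => simp
    | add a b ha hb => rw [smul_add, ha, hb, add_zero]
    | tmul c n =>
      obtain ⟨n, rfl⟩ := L.mkQ_surjective n
      rw [← tmul_smul, ← map_smul, Submodule.mkQ_apply, (Submodule.Quotient.mk_eq_zero L).mpr
        (Submodule.smul_mem_smul (Ideal.mem_map_of_mem _ hr) trivial), tmul_zero]
  have hπ : ∀ y : C ⊗[S] N, π y = 0 ↔ y ∈ m • (⊤ : Submodule A (C ⊗[S] N)) := by
    intro y
    constructor
    · intro hy
      obtain ⟨w, rfl⟩ := (lTensor_exact C (LinearMap.exact_subtype_mkQ L) L.mkQ_surjective y).mp hy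
      clear hy
      induction w with
      | zero => simp
      | add a b ha hb => rw [map_add]; exact add_mem ha hb
      | tmul c l =>
        rw [LinearMap.lTensor_tmul]
        show c ⊗ₜ[S] (l : N) ∈ _
        refine Submodule.smul_induction_on ((hL _).mp l.2) (fun r hr n _ => ?_)
          fun a b ha hb => by rw [tmul_add]; exact add_mem ha hb
        have : c ⊗ₜ[S] (r • n) = algebraMap R A r • (c ⊗ₜ[S] n) := by
          rw [← algebraMap_smul C (algebraMap R A r), hRA, algebraMap_smul, ← tmul_smul, algebraMap_smul]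
        rw [this]
        exact Submodule.smul_mem_smul (hm ▸ Ideal.mem_map_of_mem _ hr) trivial
    · intro hy
      refine Submodule.smul_induction_on hy (fun a ha w _ => ?_) fun a b ha hb => by rw [map_add, ha, hb, add_zero]
      rw [← hm] at ha
      rw [← algebraMap_smul C a w, map_smul]
      induction ha using Submodule.span_induction with
      | mem b hb =>
        obtain ⟨r, hr, rfl⟩ := hb
        rw [hRA]
        exact hkill r hr _
      | zero => simp
      | add b c _ _ hb hc => rw [map_add, add_smul, hb, hc, add_zero]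
      | smul b c _ hc => rw [smul_eq_mul, map_mul, mul_smul, hc, smul_zero]
  have hregC : ∀ y : C ⊗[S] N, tC • y ∈ m • (⊤ : Submodule A (C ⊗[S] N)) →
      ∃ v ∉ x, v • y ∈ m • (⊤ : Submodule A (C ⊗[S] N)) := by
    intro y hy
    let T : (N ⧸ L) →ₗ[S] N ⧸ L := LinearMap.lsmul S (N ⧸ L) t
    have h0 : T.lTensor C (π y) = 0 := by
      have h := (hπ _).mpr hy
      rw [map_smul, algebraMap_smul] at h
      rw [← h]
      induction π y with
      | zero => simp
      | add a b ha hb => rw [map_add, ha, hb, smul_add]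
      | tmul c n => rw [LinearMap.lTensor_tmul, ← tmul_smul]; rfl
    obtain ⟨w, hw⟩ := (Module.Flat.lTensor_exact C (LinearMap.exact_subtype_ker_map T) (π y)).mp h0
    obtain ⟨v, hv, hvw⟩ : ∃ v : S, v ∉ q ∧ v • w = 0 := by
      clear hw
      induction w with
      | zero => exact ⟨1, fun h => Ideal.IsPrime.ne_top ‹_› ((Ideal.eq_top_iff_one q).mpr h), smul_zero _⟩
      | add a b ha hb =>
        obtain ⟨u, hu, hua⟩ := ha
        obtain ⟨v, hv, hvb⟩ := hb
        refine ⟨u * v, Ideal.IsPrime.mul_notMem ‹_› hu hv, ?_⟩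
        rw [smul_add, mul_smul, mul_smul, hvb, smul_zero, add_zero, smul_comm, hua, smul_zero]
      | tmul c k =>
        obtain ⟨k, hk⟩ := k
        obtain ⟨n, rfl⟩ := L.mkQ_surjective k
        have : t • n ∈ L := (Submodule.Quotient.mk_eq_zero L).mp hk
        obtain ⟨v, hv, hvn⟩ := hreg n ((hL _).mp this)
        refine ⟨v, hv, ?_⟩
        rw [← tmul_smul, show v • (⟨L.mkQ n, hk⟩ : LinearMap.ker T) = 0 from
          Subtype.ext ((L.mkQ.map_smul v n).symm.trans ((Submodule.Quotient.mk_eq_zero L).mpr ((hL _).mpr hvn))),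
          tmul_zero]
    refine ⟨algebraMap S C v, fun h => hv (hxS ▸ h), (hπ _).mp ?_⟩
    rw [map_smul, algebraMap_smul, ← hw, ← map_smul, hvw, map_zero]
  haveI : Module.Flat A (LocalizedModule x.primeCompl (C ⊗[S] N)) :=
    Groth.Calg5.RelGCI.flat_localizedModule x.primeCompl
  let e := (AlgebraTensorModule.cancelBaseChange R A C (C ⊗[S] N) Q).trans
    (AlgebraTensorModule.assoc R S C C N Q)
  obtain ⟨v, hv, hv0⟩ := Groth.Calg1.killed_of_fp (LinearMap.lsmul C (C ⊗[S] N) tC) x hxm.over.symm hregC
    (A ⊗[R] Q) (e.symm (1 ⊗ₜ z)) (by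
      rw [← Groth.FlatMorOne.smul_tensor_eq_rTensor, ← map_smul, smul_tmul', smul_eq_mul, mul_one,
        ← mul_one tC, ← Algebra.smul_def, smul_tmul, hz, tmul_zero, map_zero])
  rw [← map_smul, smul_tmul', smul_eq_mul, mul_one, LinearEquiv.map_eq_zero_iff] at hv0
  obtain ⟨u, hu, hu0⟩ := exists_notMem_of_tmul_eq_zero hv0 x hv
  exact ⟨u, hxS ▸ hu, hu0⟩

/-- An element avoiding the associated points of the fibre that generalize `q` is regular on `N ⊗ Q` near `q`. -/
theorem exists_notMem_smul_eq_zero {R S : Type u} [CommRing R] [CommRing S] [Algebra R S] [Algebra.FiniteType R S]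
    (N : Type u) [AddCommGroup N] [Module S N] [Module R N] [IsScalarTower R S N] [Module.Finite S N]
    (p : Ideal R) [p.IsPrime] (q : Ideal S) [q.IsPrime] [q.LiesOver p] (hflat : FlatCA.FlatAt R q N) (t : S)
    (ht : ∀ P ∈ associatedPrimes (p.Fiber S) (FlatCA.fiberMod p S N),
      P.comap (algebraMap S (p.Fiber S)) ≤ q → t ∉ P.comap (algebraMap S (p.Fiber S)))
    (Q : Type u) [AddCommGroup Q] [Module R Q] (z : N ⊗[R] Q) (hz : t • z = 0) :
    ∃ u : S, u ∉ q ∧ u • z = 0 := by
  obtain ⟨n, φ, hφ⟩ := Algebra.FiniteType.iff_quotient_mvPolynomial''.mp (inferInstance : Algebra.FiniteType R S)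
  let P := MvPolynomial (Fin n) R
  letI : Algebra P S := φ.toRingHom.toAlgebra
  haveI : IsScalarTower R P S := .of_algebraMap_eq fun r => (φ.commutes r).symm
  letI : Module P N := Module.compHom N (algebraMap P S)
  haveI : IsScalarTower P S N := IsScalarTower.of_algebraMap_smul fun _ _ => rfl
  haveI : IsScalarTower R P N := IsScalarTower.of_algebraMap_smul fun r x => by
    rw [← algebraMap_smul S (algebraMap R P r), ← IsScalarTower.algebraMap_apply, algebraMap_smul]
  haveI : Module.Finite P S := Module.Finite.of_surjective (Algebra.linearMap P S) hφ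
  haveI : Module.Finite P N := Module.Finite.trans S N
  obtain ⟨tP, htP⟩ := hφ t
  let qP := q.comap (algebraMap P S)
  haveI : q.LiesOver qP := ⟨rfl⟩
  haveI : qP.LiesOver p := ⟨by
    rw [Ideal.under_def, Ideal.comap_comap, ← IsScalarTower.algebraMap_eq]
    exact Ideal.LiesOver.over⟩
  have hflatP : FlatCA.FlatAt R qP N := (FlatPred.flatAt_iff qP).mpr
    (((FlatPred.flatAt_iff q).mp hflat).of_dvd fun u hu => by
      obtain ⟨w, rfl⟩ := hφ u
      exact ⟨w, 1, hu, fun y => by rw [one_smul]; exact (algebraMap_smul S w y).symm.symm⟩)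
  have hregP : ∀ y : N, tP • y ∈ p • (⊤ : Submodule R N) → ∃ v, v ∉ qP ∧ v • y ∈ p • (⊤ : Submodule R N) := by
    intro y hy
    have : t • y ∈ p • (⊤ : Submodule R N) := by rw [← htP]; exact hy
    obtain ⟨v, hv, hvy⟩ := exists_notMem_smul_mem N p q t ht y this
    obtain ⟨w, rfl⟩ := hφ v
    exact ⟨w, hv, hvy⟩
  have hzP : tP • z = 0 := by
    rw [← algebraMap_smul S tP z]
    show φ tP • z = 0
    rw [htP, hz]
  obtain ⟨u, hu, hu0⟩ := exists_notMem_smul_eq_zero_fp N p qP hflatP tP hregP Q z hzP
  exact ⟨algebraMap P S u, hu, (algebraMap_smul S u z).trans hu0⟩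

/-- An element of `N ⊗ Q` supported at a point of flatness is annihilated only inside an associated point of
the fibre below it. -/
theorem exists_assoc_le {R S : Type u} [CommRing R] [CommRing S] [Algebra R S] [Algebra.FiniteType R S]
    (N : Type u) [AddCommGroup N] [Module S N] [Module R N] [IsScalarTower R S N] [Module.Finite S N]
    (p : Ideal R) [p.IsPrime] (q : Ideal S) [q.IsPrime] [q.LiesOver p] (hflat : FlatCA.FlatAt R q N)
    (Q : Type u) [AddCommGroup Q] [Module R Q] (z : N ⊗[R] Q) (hz : ∀ s : S, s • z = 0 → s ∈ q) :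
    ∃ (P : Ideal S) (_ : P.IsPrime), P.LiesOver p ∧ P ≤ q ∧ (∀ s : S, s • z = 0 → s ∈ P) ∧
      FlatCA.fiberIdeal p P ∈ associatedPrimes (p.Fiber S) (FlatCA.fiberMod p S N) := by
  haveI : IsNoetherianRing (p.Fiber S) := Algebra.FiniteType.isNoetherianRing p.ResidueField _
  haveI : Module.Finite (p.Fiber S) (FlatCA.fiberMod p S N) :=
    inferInstanceAs (Module.Finite (p.Fiber S) (p.Fiber S ⊗[S] N))
  let A : Set (Ideal (p.Fiber S)) :=
    {P | P ∈ associatedPrimes (p.Fiber S) (FlatCA.fiberMod p S N) ∧ P.comap (algebraMap S (p.Fiber S)) ≤ q}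
  let I : Ideal S := LinearMap.ker (LinearMap.toSpanSingleton S (N ⊗[R] Q) z)
  by_contra hno
  obtain ⟨t, htI, ht⟩ : ∃ t ∈ I, ∀ P ∈ A, t ∉ P.comap (algebraMap S (p.Fiber S)) := by
    by_contra hcon
    push Not at hcon
    have hcover : (I : Set S) ⊆ ⋃ P ∈ A, ((P.comap (algebraMap S (p.Fiber S)) : Ideal S) : Set S) := fun i hi => by
      obtain ⟨P, hP, hiP⟩ := hcon i hi
      exact Set.mem_biUnion hP hiP
    obtain ⟨P, hP, hle⟩ := (I.subset_union_prime_finite
      ((associatedPrimes.finite (p.Fiber S) (FlatCA.fiberMod p S N)).subset fun P hP => hP.1 : A.Finite)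
      (f := fun P => P.comap (algebraMap S (p.Fiber S))) ⊥ ⊥ fun P hP _ _ => hP.1.isPrime.comap _).1 hcover
    haveI := hP.1.isPrime
    refine hno ⟨P.comap (algebraMap S (p.Fiber S)), inferInstance, ⟨?_⟩, hP.2, fun s hs => hle hs, ?_⟩
    · rw [Ideal.under_def, Ideal.comap_comap, ← IsScalarTower.algebraMap_eq]
      exact Ideal.LiesOver.over (P := P) (p := p)
    · rw [Groth.RaynaudGruson.fiberIdeal_comap]
      exact hP.1
  obtain ⟨u, hu, hu0⟩ :=
    exists_notMem_smul_eq_zero N p q hflat t (fun P hP hPq => ht P ⟨hP, hPq⟩) Q z htI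
  exact hu (hz u hu0)

end Groth.RaynaudGruson.AssassinTorsion
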