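import Groth.Agent.Flatmor4.DimLocus
import Mathlib

/-!
Transcendence degree of residue fields decreases under specialization within a fibre.
-/

set_option autoImplicit false
set_option linter.style.haveILetI false
set_option backward.isDefEq.respectTransparency.types false
universe u

open CategoryTheory AlgebraicGeometry

namespace Groth.RaynaudGruson

theorem resTrdeg_le_of_specializes_of_eq {X Y : Scheme.{u}} (q : X ⟶ Y) [LocallyOfFiniteType q] {y x : X}
    (h : y ⤳ x) (e : q y = q x) : Dual3.resTrdeg q x ≤ Dual3.resTrdeg q y := by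
  obtain ⟨z, hz⟩ : y ∈ Set.range (q.fiberι (q x)) := by
    rw [Scheme.Hom.range_fiberι]; exact e
  have hzx : z ⤳ q.asFiber x := by
    refine (q.fiberι (q x)).isEmbedding.toIsInducing.specializes_iff.1 ?_
    rwa [hz, q.fiberι_asFiber]
  obtain ⟨t, ht, ht'⟩ := Groth.Flatmor4.exists_height_eq_resTrdeg q (q x) z
  obtain ⟨t', hs, hs'⟩ := Groth.Flatmor4.exists_height_eq_resTrdeg q (q x) (q.asFiber x)
  rw [hz] at ht
  rw [q.fiberι_asFiber] at hs
  rw [ht, hs]
  have := Order.height_mono (Scheme.le_iff_specializes.2 hzx)
  rw [ht', hs'] at this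
  exact_mod_cast this

end Groth.RaynaudGruson
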