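import Groth.Agent.RaynaudGruson.RelAssWitness
import Groth.Agent.RaynaudGruson.TrdegFibre
import Groth.Agent.Flatmor4.DimLocus
import Groth.Agent.FibreDim.ComponentCor
import Groth.Agent.FibreDim.Composition
import Groth.Agent.Variety2.DimScheme
import Groth.Agent.SchemeMorphisms.Points
import Mathlib

/-!
Fibre dimensions of the closure of a relative associated point.
-/

set_option autoImplicit false
set_option linter.style.haveILetI false
set_option backward.isDefEq.respectTransparency.types false
universe u

open CategoryTheory CategoryTheory.Limits AlgebraicGeometry Topology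

namespace Groth.RaynaudGruson.ClosureDim

variable {X S : Scheme.{u}} (f : X ⟶ S) (y : X)

/-- The closure of a point with its reduced structure. -/
noncomputable abbrev incl :
    (Scheme.IdealSheafData.vanishingIdeal (TopologicalSpace.Closeds.closure ({y} : Set X))).subscheme ⟶ X :=
  (Scheme.IdealSheafData.vanishingIdeal (TopologicalSpace.Closeds.closure ({y} : Set X))).subschemeι

theorem range_incl : Set.range (incl y) = closure ({y} : Set X) := by
  rw [Scheme.IdealSheafData.range_subschemeι]
  simp

theorem resTrdeg_incl [LocallyOfFiniteType f] (z) :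
    Dual3.resTrdeg (incl y ≫ f) z = Dual3.resTrdeg f (incl y z) := by
  rw [Groth.AlgSp3.resTrdeg_comp, Groth.AlgSp3.resTrdeg_eq_zero_of_quasiFinite (incl y) z, add_zero]

theorem specializes_incl (z) : y ⤳ incl y z :=
  specializes_iff_mem_closure.2 ((range_incl y).le ⟨z, rfl⟩)

variable [LocallyOfFiniteType f]

/-- At a generic point of a fibre of the closure where the module is flat, the dimension is that at the start. -/
theorem resTrdeg_eq_of_minimal (F : X.Modules) [F.IsQuasicoherent] (hF : CohB1.IsFT F) (hy : y ∈ MoreMor.relAss f F)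
    (x : X) (hyx : y ⤳ x) (hfl : FlatMod.IsFlatOverAt f F x)
    (hmin : ∀ z : X, y ⤳ z → z ⤳ x → f z = f x → z = x) :
    Dual3.resTrdeg f x = Dual3.resTrdeg f y := by
  refine le_antisymm (RelAssWitness.resTrdeg_le_of_flat f F hF hy hyx hfl) ?_
  obtain ⟨d, hd, -⟩ := Groth.FibreDim.exists_relTrdeg_eq_height f y
  have hd' : Dual3.resTrdeg f y = d := hd
  obtain ⟨ξ, h1, h2, h3, h4⟩ := hyx.mem_closed
    (Groth.Flatmor4.isClosed_setOf_mem_le_resTrdeg f (isClosed_closure (s := ({y} : Set X))) d)
    ⟨y, specializes_rfl, rfl, subset_closure rfl, hd'.ge⟩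
  rw [hmin ξ (specializes_iff_mem_closure.2 h3) h1 h2] at h4
  rw [hd']
  exact h4

/-- The dimension of the closure's fibre through the point itself. -/
theorem topologicalKrullDim_fibre_self :
    topologicalKrullDim ↥(closure ({y} : Set X) ∩ f ⁻¹' {f y}) = (Order.height (f.asFiber y) : ℕ∞) := by
  rw [← Groth.Variety2.Dim.dim_closure_singleton (f.asFiber y)]
  let φ : ↥(closure ({f.asFiber y} : Set (f.fiber (f y)))) → ↥(closure ({y} : Set X) ∩ f ⁻¹' {f y}) :=
    fun z => ⟨f.fiberι (f y) z.1, by
      refine specializes_iff_mem_closure.1 ?_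
      have := (specializes_iff_mem_closure.2 z.2).map (f.fiberι (f y)).continuous
      rwa [f.fiberι_asFiber] at this, Groth.FibreDim.apply_fiberι f (f y) z.1⟩
  have hi : IsEmbedding φ :=
    ((f.fiberι (f y)).isEmbedding.comp IsEmbedding.subtypeVal).codRestrict _ fun z => (φ z).2
  have hs : Function.Surjective φ := fun x => by
    obtain ⟨w, hw⟩ : x.1 ∈ Set.range (f.fiberι (f y)) := by
      rw [Scheme.Hom.range_fiberι]; exact x.2.2
    refine ⟨⟨w, specializes_iff_mem_closure.1 ((f.fiberι (f y)).isEmbedding.toIsInducing.specializes_iff.1 ?_)⟩,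
      Subtype.ext hw⟩
    rw [hw, f.fiberι_asFiber]
    exact specializes_iff_mem_closure.2 x.2.1
  exact (isHomeomorph_iff_isEmbedding_surjective.2 ⟨hi, hs⟩).topologicalKrullDim_eq.symm

/-- The fibre dimension of the closure is constant where the module is flat at the fibre generic points. -/
theorem fibreDimAt_incl (F : X.Modules) [F.IsQuasicoherent] (hF : CohB1.IsFT F) (hy : y ∈ MoreMor.relAss f F)
    (z : (Scheme.IdealSheafData.vanishingIdeal (TopologicalSpace.Closeds.closure ({y} : Set X))).subscheme)
    (hfl : ∀ w, (incl y ≫ f) w = (incl y ≫ f) z → w ⤳ z → IsMax ((incl y ≫ f).asFiber w) →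
      FlatMod.IsFlatOverAt f F (incl y w)) :
    FlatMor.fibreDimAt (incl y ≫ f) z = (Order.height (f.asFiber y) : ℕ∞) := by
  obtain ⟨w, hw1, hw2, hw3, hw4⟩ := Groth.FibreDim.exists_maximal_fibre_point (incl y ≫ f) z
  rw [← hw4]
  have hmax : IsMax ((incl y ≫ f).asFiber w) := Order.coheight_eq_zero.mp hw3
  have key := resTrdeg_eq_of_minimal f y F hF hy (incl y w) (specializes_incl y w) (hfl w hw1 hw2 hmax)
    fun v hyv hvw hfv => by
      obtain ⟨v', rfl⟩ : v ∈ Set.range (incl y) := (range_incl y).ge (specializes_iff_mem_closure.1 hyv)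
      exact congrArg (incl y) ((Groth.FibreDim.isMax_asFiber_iff (incl y ≫ f) w).mp hmax v' hfv
        ((incl y).isEmbedding.toIsInducing.specializes_iff.1 hvw))
  obtain ⟨n, hn, hn'⟩ := Groth.FibreDim.exists_relTrdeg_eq_height (incl y ≫ f) w
  obtain ⟨m, hm, hm'⟩ := Groth.FibreDim.exists_relTrdeg_eq_height f y
  have hn2 : Dual3.resTrdeg (incl y ≫ f) w = n := hn
  have hm2 : Dual3.resTrdeg f y = m := hm
  rw [resTrdeg_incl f y, key, hm2] at hn2
  rw [hn', hm', show n = m from (Nat.cast_injective hn2).symm]

end Groth.RaynaudGruson.ClosureDim
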