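import Groth.Agent.RaynaudGruson.LocalProjective
import Mathlib

/-!
Common elementary étale neighbourhoods and projectivity along a whole fibre.
-/

set_option autoImplicit false
universe u

open TensorProduct

namespace Groth.RaynaudGruson.CommonNbhd

/-- Two elementary étale neighbourhoods are dominated by a third. -/
theorem exists_common₂ {R R₁ R₂ : Type u} [CommRing R] [CommRing R₁] [CommRing R₂] [Algebra R R₁] [Algebra R R₂]
    (p : Ideal R) [p.IsPrime] (p₁ : Ideal R₁) [p₁.IsPrime] (p₂ : Ideal R₂) [p₂.IsPrime]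
    (h₁ : FlatCA.IsEtaleNhd R R₁ p p₁) (h₂ : FlatCA.IsEtaleNhd R R₂ p p₂) :
    ∃ (R' : Type u) (_ : CommRing R') (_ : Algebra R R') (p' : Ideal R') (_ : p'.IsPrime)
      (φ₁ : R₁ →ₐ[R] R') (φ₂ : R₂ →ₐ[R] R'),
      FlatCA.IsEtaleNhd R R' p p' ∧ p'.comap φ₁.toRingHom = p₁ ∧ p'.comap φ₂.toRingHom = p₂ := by
  obtain ⟨he₁, ho₁, hb₁⟩ := h₁
  obtain ⟨he₂, ho₂, hb₂⟩ := h₂
  haveI := he₁; haveI := he₂; haveI := ho₁; haveI := ho₂
  let a₁ := AlgEquiv.ofBijective _ hb₁
  let a₂ := AlgEquiv.ofBijective _ hb₂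
  obtain ⟨T, _, _, _, _, _, _, hT⟩ := EtalePushout.exists_pushout R R₂ R₁
  haveI := hT
  let ψ₁ : R₁ →ₐ[R] p.ResidueField :=
    (a₁.symm.toAlgHom.restrictScalars R).comp (IsScalarTower.toAlgHom R R₁ p₁.ResidueField)
  let ψ₂ : R₂ →ₐ[R] p.ResidueField :=
    (a₂.symm.toAlgHom.restrictScalars R).comp (IsScalarTower.toAlgHom R R₂ p₂.ResidueField)
  let ψ : T →ₐ[R] p.ResidueField := Algebra.pushoutDesc T ψ₁ ψ₂ fun _ _ => Commute.all _ _
  haveI hker : (RingHom.ker ψ.toRingHom).IsPrime := RingHom.ker_isPrime _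
  haveI hTet : Algebra.Etale R T :=
    haveI : Algebra.Etale R₁ T := EtalePushout.etale_of_isPushout (A := R) (B := R₂)
    Algebra.Etale.comp R R₁ T
  haveI hover : (RingHom.ker ψ.toRingHom).LiesOver p := ⟨by
    ext r
    show r ∈ p ↔ ψ (algebraMap R T r) = 0
    rw [AlgHom.commutes]
    exact Ideal.algebraMap_residueField_eq_zero.symm⟩
  refine ⟨T, inferInstance, inferInstance, RingHom.ker ψ.toRingHom, hker, IsScalarTower.toAlgHom R R₁ T,
    IsScalarTower.toAlgHom R R₂ T, ⟨hTet, hover, ?_⟩, ?_, ?_⟩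
  · let P := RingHom.ker ψ.toRingHom
    let b := Ideal.ResidueField.mapₐ p P (Algebra.ofId R T) hover.over
    let θ : P.ResidueField →+* p.ResidueField := Ideal.ResidueField.lift P ψ.toRingHom le_rfl
      (fun t ht => isUnit_iff_ne_zero.mpr ht)
    have hθ : θ.comp b.toRingHom = RingHom.id _ := Ideal.ResidueField.ringHom_ext (RingHom.ext fun r => by
      show θ (b (algebraMap R _ r)) = algebraMap R p.ResidueField r
      rw [b.commutes, IsScalarTower.algebraMap_apply R T P.ResidueField, Ideal.ResidueField.lift_algebraMap]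
      exact ψ.commutes r)
    exact ⟨b.toRingHom.injective, fun w => ⟨θ w, θ.injective (RingHom.congr_fun hθ (θ w))⟩⟩
  · ext x
    show ψ (algebraMap R₁ T x) = 0 ↔ x ∈ p₁
    rw [Algebra.pushoutDesc_left]
    exact (map_eq_zero_iff _ a₁.symm.injective).trans Ideal.algebraMap_residueField_eq_zero
  · ext x
    show ψ (algebraMap R₂ T x) = 0 ↔ x ∈ p₂
    rw [Algebra.pushoutDesc_right]
    exact (map_eq_zero_iff _ a₂.symm.injective).trans Ideal.algebraMap_residueField_eq_zero

/-- Finitely many elementary étale neighbourhoods are dominated by one. -/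
theorem exists_common {R : Type u} [CommRing R] (p : Ideal R) [p.IsPrime] : ∀ (k : ℕ) (A : Fin k → Type u)
    [∀ i, CommRing (A i)] [∀ i, Algebra R (A i)] (P : ∀ i, Ideal (A i)) (hP : ∀ i, (P i).IsPrime)
    (_ : ∀ i, haveI := hP i; FlatCA.IsEtaleNhd R (A i) p (P i)),
    ∃ (R' : Type u) (_ : CommRing R') (_ : Algebra R R') (p' : Ideal R') (_ : p'.IsPrime) (φ : ∀ i, A i →ₐ[R] R'),
      FlatCA.IsEtaleNhd R R' p p' ∧ ∀ i, p'.comap (φ i).toRingHom = P i := by
  intro k
  induction k with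
  | zero =>
    intro A _ _ P hP h
    exact ⟨R, inferInstance, inferInstance, p, inferInstance, fun i => i.elim0, LocalStructure.isEtaleNhd_refl R p,
      fun i => i.elim0⟩
  | succ k ih =>
    intro A _ _ P hP h
    obtain ⟨R₁, _, _, p₁, _, φ, h₁, hφ⟩ := ih (fun i => A i.succ) (fun i => P i.succ) (fun i => hP i.succ)
      fun i => h i.succ
    haveI := hP 0
    obtain ⟨R', _, _, p', _, ψ₁, ψ₂, h', e₁, e₂⟩ := exists_common₂ p p₁ (P 0) h₁ (h 0)
    refine ⟨R', inferInstance, inferInstance, p', inferInstance, Fin.cases ψ₂ fun i => ψ₁.comp (φ i), h', ?_⟩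
    intro i
    induction i using Fin.cases with
    | zero => exact e₂
    | succ i =>
      show p'.comap (ψ₁.comp (φ i)).toRingHom = P i.succ
      rw [show (ψ₁.comp (φ i)).toRingHom = ψ₁.toRingHom.comp (φ i).toRingHom from rfl, ← Ideal.comap_comap, e₁, hφ]

/-- The image in a fibre of an étale map is open. -/
theorem isOpen_fibre_image {R S S' : Type u} [CommRing R] [CommRing S] [CommRing S'] [Algebra R S] [Algebra S S']
    [Algebra.Etale S S'] (p : Ideal R) [p.IsPrime] (g : S') :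
    IsOpen {y : PrimeSpectrum (p.Fiber S) | ∃ Q : Ideal S', Q.IsPrime ∧ g ∉ Q ∧ Q.comap (algebraMap S S') =
      y.asIdeal.comap (Algebra.TensorProduct.includeRight (R := R) (A := p.ResidueField) (B := S)).toRingHom} := by
  have hopen : IsOpen (PrimeSpectrum.comap (algebraMap S S') '' (PrimeSpectrum.basicOpen g : Set (PrimeSpectrum S'))) :=
    PrimeSpectrum.isOpenMap_comap_of_hasGoingDown_of_finitePresentation _ (PrimeSpectrum.basicOpen g).isOpen
  convert hopen.preimage (PrimeSpectrum.continuous_comap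
    (Algebra.TensorProduct.includeRight (R := R) (A := p.ResidueField) (B := S)).toRingHom) using 1
  ext y
  constructor
  · rintro ⟨Q, hQ, hg, hQy⟩
    exact ⟨⟨Q, hQ⟩, hg, PrimeSpectrum.ext hQy⟩
  · rintro ⟨Q, hg, hQy⟩
    exact ⟨Q.asIdeal, Q.2, hg, congrArg PrimeSpectrum.asIdeal hQy⟩

/-- A projective module stays projective after a change of the étale neighbourhood. -/
theorem projective_baseChange {S R₁ S₁ R' S'' : Type u} [CommRing S] [CommRing R₁] [CommRing S₁]
    [CommRing R'] [CommRing S''] [Algebra S S₁] [Algebra R₁ S₁] [Algebra R₁ R'] [Algebra R' S'']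
    [Algebra S₁ S''] [Algebra R₁ S''] [IsScalarTower R₁ R' S''] [IsScalarTower R₁ S₁ S'']
    [Algebra.IsPushout R₁ R' S₁ S''] [Algebra S S''] [IsScalarTower S S₁ S'']
    (N : Type u) [AddCommGroup N] [Module S N]
    [Module.Projective R₁ (RestrictScalars R₁ S₁ (S₁ ⊗[S] N))] :
    Module.Projective R' (RestrictScalars R' S'' (S'' ⊗[S] N)) := by
  haveI : SMulCommClass S R₁ S₁ := ⟨fun s r x => by simp only [Algebra.smul_def]; ring⟩
  let e₀ : RestrictScalars R₁ S₁ (S₁ ⊗[S] N) ≃ₗ[R₁] S₁ ⊗[S] N :=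
    AddEquiv.toLinearEquiv (RestrictScalars.addEquiv R₁ S₁ (S₁ ⊗[S] N)) fun r z => by
      rw [RestrictScalars.addEquiv_map_smul]
      exact algebraMap_smul S₁ r _
  haveI : Module.Projective R₁ (S₁ ⊗[S] N) := Module.Projective.of_equiv e₀
  let e₁ : S'' ⊗[S₁] (S₁ ⊗[S] N) ≃ₗ[R'] R' ⊗[R₁] (S₁ ⊗[S] N) := Algebra.IsPushout.cancelBaseChange R₁ R' S₁ S'' _
  haveI : Module.Projective R' (S'' ⊗[S₁] (S₁ ⊗[S] N)) := Module.Projective.of_equiv e₁.symm
  let e₂ : S'' ⊗[S₁] (S₁ ⊗[S] N) ≃ₗ[S''] S'' ⊗[S] N := AlgebraTensorModule.cancelBaseChange S S₁ S'' S'' N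
  let e₃ : S'' ⊗[S₁] (S₁ ⊗[S] N) ≃ₗ[R'] RestrictScalars R' S'' (S'' ⊗[S] N) :=
    AddEquiv.toLinearEquiv (e₂.toAddEquiv.trans (RestrictScalars.addEquiv R' S'' _).symm) fun a z => by
      refine (RestrictScalars.addEquiv R' S'' (S'' ⊗[S] N)).injective ?_
      rw [RestrictScalars.addEquiv_map_smul, AddEquiv.trans_apply, AddEquiv.apply_symm_apply, AddEquiv.trans_apply,
        AddEquiv.apply_symm_apply]
      show e₂ (a • z) = algebraMap R' S'' a • e₂ z
      rw [← map_smul]
      exact congrArg e₂ (algebraMap_smul S'' a z).symm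
  exact Module.Projective.of_equiv e₃

/-- Projectivity over the base of a finite product. -/
theorem projective_pi {R' S : Type u} [CommRing R'] [CommRing S] {k : ℕ} (T : Fin k → Type u) [∀ i, CommRing (T i)]
    [∀ i, Algebra R' (T i)] [∀ i, Algebra S (T i)] (N : Type u) [AddCommGroup N] [Module S N]
    [∀ i, Module.Projective R' (RestrictScalars R' (T i) (T i ⊗[S] N))] :
    Module.Projective R' (RestrictScalars R' (∀ i, T i) ((∀ i, T i) ⊗[S] N)) := by
  let π := TensorProduct.piLeft S N T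
  let F := RestrictScalars R' (∀ i, T i) ((∀ i, T i) ⊗[S] N)
  let G := fun i => RestrictScalars R' (T i) (T i ⊗[S] N)
  have hπ : ∀ (a : ∀ i, T i) (z : (∀ i, T i) ⊗[S] N) (i), π (a • z) i = a i • π z i := by
    intro a z i
    induction z using TensorProduct.induction_on with
    | zero => simp
    | tmul t n => simp [π, TensorProduct.smul_tmul']
    | add x y hx hy => simp only [smul_add, map_add, Pi.add_apply, hx, hy]
  let e : F ≃ₗ[R'] (∀ i, G i) :=
    { (RestrictScalars.addEquiv R' (∀ i, T i) _).trans (π.toAddEquiv.trans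
        (AddEquiv.piCongrRight fun i => (RestrictScalars.addEquiv R' (T i) (T i ⊗[S] N)).symm)) with
      map_smul' := fun a z => funext fun i => by
        refine (RestrictScalars.addEquiv R' (T i) (T i ⊗[S] N)).injective ?_
        exact hπ (algebraMap R' (∀ i, T i) a) _ i }
  haveI : Module.Projective R' (∀ i, G i) :=
    Module.Projective.of_equiv (DFinsupp.linearEquivFunOnFintype (R := R') (M := G))
  exact Module.Projective.of_equiv e.symm

set_option maxHeartbeats 1600000 in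
/-- **Projectivity along a fibre after étale localisation.** -/
theorem exists_projective_cover {R S : Type u} [CommRing R] [CommRing S] [Algebra R S] [Algebra.FinitePresentation R S]
    (N : Type u) [AddCommGroup N] [Module S N] [Module R N] [IsScalarTower R S N] [Module.FinitePresentation S N]
    (p : Ideal R) [p.IsPrime] (hflat : ∀ (q : Ideal S) [q.IsPrime], q.LiesOver p → FlatCA.FlatAt R q N) :
    ∃ (R' S' : Type u) (_ : CommRing R') (_ : CommRing S') (_ : Algebra R R') (_ : Algebra S S') (_ : Algebra R' S')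
      (_ : Algebra R S') (_ : IsScalarTower R R' S') (_ : IsScalarTower R S S')
      (p' : Ideal R') (_ : p'.IsPrime),
      FlatCA.IsEtaleNhd R R' p p' ∧ Algebra.Etale S S' ∧
      (∀ (q : Ideal S) [q.IsPrime], q.LiesOver p → ∃ q' : Ideal S', q'.IsPrime ∧ q'.comap (algebraMap S S') = q ∧
        q'.comap (algebraMap R' S') = p') ∧
      Module.Projective R' (RestrictScalars R' S' (S' ⊗[S] N)) := by
  classical
  let incl := (Algebra.TensorProduct.includeRight (R := R) (A := p.ResidueField) (B := S)).toRingHom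
  have hover : ∀ y : PrimeSpectrum (p.Fiber S), (y.asIdeal.comap incl).LiesOver p := fun y =>
    ⟨(congrArg PrimeSpectrum.asIdeal (((PrimeSpectrum.preimageEquivFiber R S ⟨p, inferInstance⟩).symm y).2)).symm⟩
  have hloc : ∀ y : PrimeSpectrum (p.Fiber S), ∃ (R₁ S₁ : Type u) (_ : CommRing R₁) (_ : CommRing S₁)
      (_ : Algebra R R₁) (_ : Algebra S S₁) (_ : Algebra R₁ S₁) (_ : Algebra R S₁) (_ : IsScalarTower R R₁ S₁)
      (_ : IsScalarTower R S S₁) (p₁ : Ideal R₁) (_ : p₁.IsPrime) (g : R₁),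
      FlatCA.IsEtaleNhd R R₁ p p₁ ∧ Algebra.Etale S S₁ ∧
      (∀ (P : Ideal R₁) [P.IsPrime], P.LiesOver p → g ∉ P → P = p₁) ∧
      Module.Projective R₁ (RestrictScalars R₁ S₁ (S₁ ⊗[S] N)) ∧
      ∃ Q : Ideal S₁, Q.IsPrime ∧ algebraMap R₁ S₁ g ∉ Q ∧ Q.comap (algebraMap S S₁) = y.asIdeal.comap incl := by
    intro y
    haveI := hover y
    obtain ⟨R₁, S₁, _, _, _, _, _, _, _, _, p₁, q₁, _, _, hR, hS, hq, hproj⟩ :=
      LocalProjective.exists_nbhd_projective N p (y.asIdeal.comap incl) (hflat _ (hover y))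
    haveI := hR.1; haveI := hR.2.1; haveI := hq
    obtain ⟨g, hg, hguniq⟩ := LocalProjective.exists_isolate p p₁
    exact ⟨R₁, S₁, inferInstance, inferInstance, inferInstance, inferInstance, inferInstance, inferInstance,
      inferInstance, inferInstance, p₁, inferInstance, g, hR, hS.1, hguniq, hproj, q₁, inferInstance,
      fun h => hg ((Ideal.mem_of_liesOver q₁ p₁ g).mpr h), hS.2.1.over.symm⟩
  choose R₁ S₁ iR iS iRR iSS iRS iRS' iT iT' p₁ ip g hR hS huniq hproj Q hQ hgQ hQy using hloc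
  have hopen : ∀ y, IsOpen {z : PrimeSpectrum (p.Fiber S) | ∃ Q : Ideal (S₁ y), Q.IsPrime ∧
      algebraMap (R₁ y) (S₁ y) (g y) ∉ Q ∧ Q.comap (algebraMap S (S₁ y)) = z.asIdeal.comap incl} := fun y =>
    haveI := hS y; isOpen_fibre_image p _
  obtain ⟨t, ht⟩ := isCompact_univ.elim_finite_subcover _ hopen fun y _ => Set.mem_iUnion.mpr ⟨y, Q y, hQ y, hgQ y, hQy y⟩
  let e := t.equivFin.symm
  obtain ⟨R', _, _, p', _, φ, hR', hφ⟩ := exists_common p t.card (fun i => R₁ (e i).1) (fun i => p₁ (e i).1)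
    (fun i => ip (e i).1) fun i => hR (e i).1
  obtain ⟨hR'et, hp'o, hκ⟩ := id hR'
  haveI := hR'et; haveI := hp'o
  letI iA : ∀ i, Algebra (R₁ (e i).1) R' := fun i => (φ i).toRingHom.toAlgebra
  have hT : ∀ i : Fin t.card, ∃ (T : Type u) (_ : CommRing T) (_ : Algebra R' T) (_ : Algebra (S₁ (e i).1) T)
      (_ : Algebra (R₁ (e i).1) T) (_ : IsScalarTower (R₁ (e i).1) R' T) (_ : IsScalarTower (R₁ (e i).1) (S₁ (e i).1) T),
      Algebra.IsPushout (R₁ (e i).1) R' (S₁ (e i).1) T := fun i => EtalePushout.exists_pushout _ _ _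
  choose T iT1 iT2 iT3 iT4 iT5 iT6 hpush using hT
  letI iST : ∀ i, Algebra S (T i) := fun i =>
    ((algebraMap (S₁ (e i).1) (T i)).comp (algebraMap S (S₁ (e i).1))).toAlgebra
  haveI iSST : ∀ i, IsScalarTower S (S₁ (e i).1) (T i) := fun i => .of_algebraMap_eq' rfl
  letI : Algebra R (∀ i, T i) := ((algebraMap R' (∀ i, T i)).comp (algebraMap R R')).toAlgebra
  haveI : IsScalarTower R R' (∀ i, T i) := .of_algebraMap_eq' rfl
  haveI : IsScalarTower R S (∀ i, T i) := .of_algebraMap_eq fun r => funext fun i => by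
    show algebraMap R' (T i) (algebraMap R R' r) = algebraMap (S₁ (e i).1) (T i) (algebraMap S (S₁ (e i).1) (algebraMap R S r))
    rw [← IsScalarTower.algebraMap_apply R S (S₁ (e i).1), IsScalarTower.algebraMap_apply R (R₁ (e i).1) (S₁ (e i).1),
      ← IsScalarTower.algebraMap_apply (R₁ (e i).1) (S₁ (e i).1) (T i),
      IsScalarTower.algebraMap_apply (R₁ (e i).1) R' (T i)]
    exact congrArg _ ((φ i).commutes r).symm
  haveI hTet : ∀ i, Algebra.Etale S (T i) := fun i => by
    haveI := hS (e i).1; haveI := hpush i; haveI := (hR (e i).1).1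
    haveI : IsScalarTower R (R₁ (e i).1) R' := .of_algebraMap_eq fun r => ((φ i).commutes r).symm
    haveI : Algebra.Etale (R₁ (e i).1) R' := Algebra.Etale.of_restrictScalars R _ _
    haveI : Algebra.Etale (S₁ (e i).1) (T i) := EtalePushout.etale_of_isPushout' (A := R₁ (e i).1) (A' := R')
    exact Algebra.Etale.comp S (S₁ (e i).1) (T i)
  refine ⟨R', ∀ i, T i, inferInstance, inferInstance, inferInstance, inferInstance, inferInstance, inferInstance,
    inferInstance, inferInstance, p', inferInstance, hR', inferInstance, fun q _ hq => ?_, ?_⟩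
  · obtain ⟨z, hz⟩ := Flatmor4.exists_fiber_prime p q
    obtain ⟨y, hy, P, hP, hgP, hPz⟩ : ∃ y, y ∈ t ∧ ∃ P : Ideal (S₁ y), P.IsPrime ∧
        algebraMap (R₁ y) (S₁ y) (g y) ∉ P ∧ P.comap (algebraMap S (S₁ y)) = z.asIdeal.comap incl := by
      simpa using ht (Set.mem_univ z)
    obtain ⟨i, hi⟩ : ∃ i, e i = ⟨y, hy⟩ := ⟨t.equivFin ⟨y, hy⟩, Equiv.symm_apply_apply _ _⟩
    obtain rfl : (e i).1 = y := congrArg Subtype.val hi
    haveI := hP
    have hz' : z.asIdeal.comap incl = q := hz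
    have hover' : (P.comap (algebraMap (R₁ (e i).1) (S₁ (e i).1))).LiesOver p := ⟨by
      show p = (P.comap (algebraMap (R₁ (e i).1) (S₁ (e i).1))).comap (algebraMap R (R₁ (e i).1))
      rw [Ideal.comap_comap, ← IsScalarTower.algebraMap_eq, IsScalarTower.algebraMap_eq R S (S₁ (e i).1),
        ← Ideal.comap_comap, hPz, hz']
      exact hq.over⟩
    have hPp : P.comap (algebraMap (R₁ (e i).1) (S₁ (e i).1)) = p₁ (e i).1 := huniq _ _ hover' hgP
    haveI := hpush i
    haveI : Algebra.IsPushout (R₁ (e i).1) (S₁ (e i).1) R' (T i) := Algebra.IsPushout.symm (hpush i)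
    obtain ⟨q', hq'p, hq'P, hq'A⟩ := FlatmorThree.exists_prime_over_both (R := R₁ (e i).1) (S := S₁ (e i).1)
      (R' := R') (S' := T i) P p' ((hφ i).trans hPp.symm)
    haveI := hq'p
    refine ⟨q'.comap (Pi.evalRingHom T i), inferInstance, ?_, ?_⟩
    · show (q'.comap (Pi.evalRingHom T i)).comap (algebraMap S (∀ i, T i)) = q
      rw [← hz', ← hPz, ← hq'P, Ideal.comap_comap, Ideal.comap_comap]
      rfl
    · rw [Ideal.comap_comap]
      exact hq'A
  · haveI : ∀ i, Module.Projective R' (RestrictScalars R' (T i) (T i ⊗[S] N)) := fun i => by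
      haveI := hpush i; haveI := hproj (e i).1
      exact projective_baseChange (R₁ := R₁ (e i).1) (S₁ := S₁ (e i).1) N
    exact projective_pi T N

end Groth.RaynaudGruson.CommonNbhd
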