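import Mathlib

/-!
A flat module which is projective modulo a nilpotent ideal is projective.
-/

set_option autoImplicit false
universe u

namespace Groth.RaynaudGruson

open Submodule

theorem mem_smul_top_finsupp {R α : Type*} [CommRing R] (J : Ideal R) (f : α →₀ R) :
    f ∈ (J • ⊤ : Submodule R (α →₀ R)) ↔ ∀ a, f a ∈ J := by
  classical
  constructor
  · intro h a
    have := Submodule.smul_top_le_comap_smul_top J (Finsupp.lapply a : (α →₀ R) →ₗ[R] R) h
    simpa using this
  · intro h
    rw [← Finsupp.sum_single f]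
    refine Submodule.sum_mem _ fun a _ => ?_
    have : Finsupp.single a (f a) = f a • Finsupp.single a (1 : R) := by simp
    rw [this]
    exact Submodule.smul_mem_smul (h a) trivial

/-- `M = N + I M` with `I` nilpotent forces `N = ⊤`. -/
theorem eq_top_of_sup_nilpotent {R M : Type*} [CommRing R] [AddCommGroup M] [Module R M] {I : Ideal R}
    (hI : IsNilpotent I) (N : Submodule R M) (h : N ⊔ I • ⊤ = ⊤) : N = ⊤ := by
  obtain ⟨n, hn⟩ := hI
  have key : ∀ k : ℕ, N ⊔ I ^ k • ⊤ = ⊤ := fun k => by
    induction k with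
    | zero => simp
    | succ k ih =>
      refine eq_top_iff.mpr ?_
      nth_rewrite 1 [← ih]
      refine sup_le le_sup_left ?_
      conv_lhs => rw [← h, Submodule.smul_sup, ← Submodule.mul_smul, ← pow_succ]
      exact sup_le_sup Submodule.smul_le_right le_rfl
  simpa [hn] using key n

theorem exists_idempotent_lift {R F : Type u} [CommRing R] [AddCommGroup F] [Module R F]
    (I : Ideal R) (hI : IsNilpotent I) (g : F →ₗ[R] F)
    (hg : ∀ x, g (g x) - g x ∈ (I • ⊤ : Submodule R F)) :
    ∃ e : F →ₗ[R] F, (∀ x, e (e x) = e x) ∧ ∀ x, e x - g x ∈ (I • ⊤ : Submodule R F) := by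
  let red : Module.End R F →+* Module.End R (F ⧸ (I • ⊤ : Submodule R F)) :=
    { toFun := fun e => Submodule.mapQ _ _ e (Submodule.smul_top_le_comap_smul_top I e)
      map_one' := Submodule.linearMap_qext _ (LinearMap.ext fun _ => rfl)
      map_mul' := fun _ _ => Submodule.linearMap_qext _ (LinearMap.ext fun _ => rfl)
      map_zero' := Submodule.linearMap_qext _ (LinearMap.ext fun _ => rfl)
      map_add' := fun _ _ => Submodule.linearMap_qext _ (LinearMap.ext fun _ => rfl) }
  have hker : ∀ e ∈ RingHom.ker red, IsNilpotent e := fun e he => by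
    obtain ⟨n, hn⟩ := hI
    refine ⟨n, LinearMap.ext fun x => ?_⟩
    have h1 : ∀ y, e y ∈ (I • ⊤ : Submodule R F) := fun y => (Submodule.Quotient.mk_eq_zero _).mp
      (LinearMap.congr_fun (RingHom.mem_ker.mp he) (Submodule.Quotient.mk y))
    have key : ∀ k : ℕ, ∀ y, (e ^ k) y ∈ (I ^ k • ⊤ : Submodule R F) := fun k => by
      induction k with
      | zero => intro y; simp
      | succ k ih =>
        intro y
        rw [pow_succ' e, Module.End.mul_apply, pow_succ, Submodule.mul_smul]
        refine Submodule.smul_induction_on (ih y) (fun r hr w _ => ?_) (fun a b ha hb => ?_)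
        · rw [map_smul]; exact Submodule.smul_mem_smul hr (h1 w)
        · rw [map_add]; exact add_mem ha hb
    simpa [hn] using key n x
  have hidem : IsIdempotentElem (red g) := Submodule.linearMap_qext _ (LinearMap.ext fun x =>
    (Submodule.Quotient.eq _).mpr (hg x))
  obtain ⟨e, he, hred⟩ := exists_isIdempotentElem_eq_of_ker_isNilpotent red hker (red g) ⟨g, rfl⟩ hidem
  exact ⟨e, fun x => LinearMap.congr_fun he x, fun x => (Submodule.Quotient.eq _).mp
    (LinearMap.congr_fun hred (Submodule.Quotient.mk x))⟩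

theorem exists_projective_cover_mod {R M : Type u} [CommRing R] [AddCommGroup M] [Module R M]
    (I : Ideal R) (hI : IsNilpotent I)
    [Module.Projective (R ⧸ I) (M ⧸ (I • ⊤ : Submodule R M))] :
    ∃ (P : Type u) (_ : AddCommGroup P) (_ : Module R P) (q : P →ₗ[R] M),
      Module.Projective R P ∧ Function.Surjective q ∧ LinearMap.ker q ≤ I • ⊤ := by
  classical
  let π : (M →₀ R) →ₗ[R] M := Finsupp.linearCombination R id
  have hπ : Function.Surjective π := fun m => ⟨Finsupp.single m 1, by
    show Finsupp.linearCombination R id _ = m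
    rw [Finsupp.linearCombination_single, id_eq, one_smul]⟩
  have hπI : (I • ⊤ : Submodule R (M →₀ R)) ≤ (I • ⊤ : Submodule R M).comap π :=
    Submodule.smul_top_le_comap_smul_top I π
  let π₁ : ((M →₀ R) ⧸ (I • ⊤ : Submodule R (M →₀ R))) →ₗ[R ⧸ I] M ⧸ (I • ⊤ : Submodule R M) :=
    { toFun := Submodule.mapQ _ _ π hπI
      map_add' := map_add _
      map_smul' := fun c x => by
        obtain ⟨c, rfl⟩ := Ideal.Quotient.mk_surjective c
        exact map_smul (Submodule.mapQ _ _ π hπI) c x }
  have hπ₁ : Function.Surjective π₁ := fun y => by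
    obtain ⟨m, rfl⟩ := Submodule.Quotient.mk_surjective _ y
    obtain ⟨x, rfl⟩ := hπ m
    exact ⟨Submodule.Quotient.mk x, rfl⟩
  obtain ⟨s, hs⟩ := Module.projective_lifting_property π₁ LinearMap.id hπ₁
  obtain ⟨g, hg⟩ := Module.projective_lifting_property (Submodule.mkQ (I • ⊤ : Submodule R (M →₀ R)))
    (s.restrictScalars R ∘ₗ Submodule.mkQ (I • ⊤ : Submodule R M) ∘ₗ π) (Submodule.mkQ_surjective _)
  have hg' : ∀ x, Submodule.Quotient.mk (g x) = s (Submodule.Quotient.mk (π x)) :=
    fun x => LinearMap.congr_fun hg x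
  have hs' : ∀ y, π₁ (s y) = y := fun y => LinearMap.congr_fun hs y
  have hπg : ∀ x, π (g x) - π x ∈ (I • ⊤ : Submodule R M) := fun x => by
    refine (Submodule.Quotient.eq _).mp ?_
    show π₁ (Submodule.Quotient.mk (g x)) = _
    rw [hg', hs']
  have hidem : ∀ x, g (g x) - g x ∈ (I • ⊤ : Submodule R (M →₀ R)) := fun x => by
    refine (Submodule.Quotient.eq _).mp ?_
    rw [hg', hg' x]
    exact congrArg s ((Submodule.Quotient.eq _).mpr (hπg x))
  obtain ⟨e, hee, heg⟩ := exists_idempotent_lift I hI g hidem
  have hπe : ∀ x, π (e x) - π x ∈ (I • ⊤ : Submodule R M) := fun x => by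
    have h1 : π (e x - g x) ∈ (I • ⊤ : Submodule R M) := hπI (heg x)
    rw [map_sub] at h1
    have := add_mem h1 (hπg x)
    rwa [sub_add_sub_cancel] at this
  have hp : e.rangeRestrict ∘ₗ (LinearMap.range e).subtype = LinearMap.id :=
    LinearMap.ext fun ⟨y, x, hx⟩ => by
      apply Subtype.ext
      show e y = y
      rw [← hx, hee]
  refine ⟨LinearMap.range e, inferInstance, inferInstance, π ∘ₗ (LinearMap.range e).subtype,
    Module.Projective.of_split _ _ hp, ?_, fun k hk => ?_⟩
  · have : LinearMap.range (π ∘ₗ e) = ⊤ :=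
      eq_top_of_sup_nilpotent hI _ (eq_top_iff.mpr fun m _ => by
        obtain ⟨x, rfl⟩ := hπ m
        refine Submodule.mem_sup.mpr ⟨π (e x), ⟨x, rfl⟩, -(π (e x) - π x), neg_mem (hπe x), ?_⟩
        abel)
    intro m
    obtain ⟨x, hx⟩ := LinearMap.range_eq_top.mp this m
    exact ⟨⟨e x, x, rfl⟩, hx⟩
  · obtain ⟨x, hx⟩ := k.2
    have hk0 : π (k : M →₀ R) = 0 := hk
    have h0 : π x ∈ (I • ⊤ : Submodule R M) := by
      have := hπe x
      rwa [hx, hk0, zero_sub, neg_mem_iff] at this
    have hkIF : (k : M →₀ R) ∈ (I • ⊤ : Submodule R (M →₀ R)) := by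
      refine (Submodule.Quotient.mk_eq_zero _).mp ?_
      rw [← hx, (Submodule.Quotient.eq _).mpr (heg x), hg', (Submodule.Quotient.mk_eq_zero _).mpr h0,
        map_zero]
    have := Submodule.smul_top_le_comap_smul_top I e.rangeRestrict hkIF
    rwa [Submodule.mem_comap, show e.rangeRestrict (k : M →₀ R) = k from LinearMap.congr_fun hp k] at this

/-- A surjection onto a flat module with kernel inside a nilpotent multiple of the source is injective. -/
theorem injective_of_flat_of_ker_le {R M P : Type u} [CommRing R] [AddCommGroup M] [Module R M] [Module.Flat R M]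
    [AddCommGroup P] [Module R P] (I : Ideal R) (hI : IsNilpotent I) (q : P →ₗ[R] M) (hq : Function.Surjective q)
    (hker : LinearMap.ker q ≤ I • ⊤) : Function.Injective q := by
  classical
  have hK : LinearMap.ker q ≤ I • LinearMap.ker q := fun k hk => by
    have hkP : k ∈ I • Submodule.span R (Set.range (id : P → P)) := by
      rw [Set.range_id, Submodule.span_univ]; exact hker hk
    rw [Submodule.mem_ideal_smul_span_iff_exists_sum] at hkP
    obtain ⟨a, ha, hsum⟩ := hkP
    simp only [Finsupp.sum, id_eq] at hsum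
    have hrel : ∑ i : a.support, a i.1 • q i.1 = 0 := by
      rw [← show q k = 0 from hk, ← hsum, map_sum, ← Finset.sum_coe_sort a.support]
      simp
    obtain ⟨m, b, y, hb, hb0⟩ := Module.Flat.isTrivialRelation_of_sum_smul_eq_zero hrel
    choose w hw using fun j => hq (y j)
    have hk2 : k = ∑ i : a.support, a i.1 • (i.1 - ∑ j, b i j • w j) := by
      simp only [smul_sub, Finset.smul_sum, smul_smul, Finset.sum_sub_distrib]
      rw [Finset.sum_comm]
      simp only [← Finset.sum_smul, hb0, zero_smul, Finset.sum_const_zero, sub_zero]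
      rw [Finset.sum_coe_sort a.support (fun i => a i • i), hsum]
    rw [hk2]
    refine Submodule.sum_mem _ fun i _ => Submodule.smul_mem_smul (ha i.1) ?_
    rw [LinearMap.mem_ker, map_sub, map_sum]
    simp [hw, ← hb i]
  have hK0 : LinearMap.ker q = ⊥ := by
    obtain ⟨n, hn⟩ := hI
    have key : ∀ j : ℕ, LinearMap.ker q ≤ I ^ j • LinearMap.ker q := fun j => by
      induction j with
      | zero => simp
      | succ j ih =>
        refine ih.trans ?_
        rw [pow_succ, Submodule.mul_smul]
        exact Submodule.smul_mono le_rfl hK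
    simpa [hn] using key n
  exact LinearMap.ker_eq_bot.mp hK0

theorem projective_of_flat_of_mod_nilpotent {R M : Type u} [CommRing R] [AddCommGroup M] [Module R M]
    [Module.Flat R M] (I : Ideal R) (hI : IsNilpotent I)
    [Module.Projective (R ⧸ I) (M ⧸ (I • ⊤ : Submodule R M))] : Module.Projective R M := by
  classical
  obtain ⟨P, _, _, q, hP, hq, hker⟩ := exists_projective_cover_mod (M := M) I hI
  exact Module.Projective.of_equiv (LinearEquiv.ofBijective q ⟨injective_of_flat_of_ker_le I hI q hq hker, hq⟩)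

end Groth.RaynaudGruson
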