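import Groth.Prelude.Def_FlatCA
import Groth.Agent.Calg2.TensorFP
import Groth.Agent.S6347
import Groth.Agent.S6338
import Groth.Agent.RaynaudGruson.ProjNilpotent
import Mathlib

/-!
The completion of a free module over a complete Noetherian ring embeds universally injectively in
the product module, hence is flat and Mittag-Leffler.
-/

set_option autoImplicit false
universe u

namespace Groth.RaynaudGruson

open TensorProduct

variable {R : Type u} [CommRing R] (I : Ideal R) [IsAdicComplete I R] (α : Type u)

/-- The coordinates of an element of the completion of the free module on `α`. -/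
noncomputable def coord : AdicCompletion I (α →₀ R) →ₗ[R] (α → R) :=
  LinearMap.pi fun a => (AdicCompletion.ofLinearEquiv I R).symm.toLinearMap ∘ₗ
    (AdicCompletion.map I (Finsupp.lapply a : (α →₀ R) →ₗ[R] R)).restrictScalars R

variable {I α}

omit [IsAdicComplete I R] in
theorem pow_smul_top_eq (n : ℕ) : (I ^ n • ⊤ : Submodule R R) = I ^ n := by
  rw [smul_eq_mul, Ideal.mul_top]

theorem coord_sub_mem {x : AdicCompletion I (α →₀ R)} {n : ℕ} {f : α →₀ R}
    (hf : x.val n = Submodule.Quotient.mk f) (a : α) : coord I α x a - f a ∈ I ^ n := by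
  have h : AdicCompletion.of I R (coord I α x a) = AdicCompletion.map I (Finsupp.lapply a) x :=
    AdicCompletion.of_ofLinearEquiv_symm I _
  have h' := congrArg (fun y => y.val n) h
  simp only [AdicCompletion.of_apply, AdicCompletion.map_val_apply, hf] at h'
  rw [← pow_smul_top_eq (I := I) n]
  exact (Submodule.Quotient.eq _).mp h'

theorem finite_coord_notMem (x : AdicCompletion I (α →₀ R)) (n : ℕ) :
    {a | coord I α x a ∉ I ^ n}.Finite := by
  obtain ⟨f, hf⟩ := Submodule.Quotient.mk_surjective _ (x.val n)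
  refine f.support.finite_toSet.subset fun a ha => Finset.mem_coe.mpr (Finsupp.mem_support_iff.mpr fun h0 => ha ?_)
  simpa [h0] using coord_sub_mem hf.symm a

theorem coord_injective : Function.Injective (coord I α) := by
  refine (injective_iff_map_eq_zero _).mpr fun x hx => AdicCompletion.ext fun n => ?_
  obtain ⟨f, hf⟩ := Submodule.Quotient.mk_surjective _ (x.val n)
  rw [← hf, AdicCompletion.val_zero_apply, Submodule.Quotient.mk_eq_zero, mem_smul_top_finsupp]
  intro a
  simpa [hx] using coord_sub_mem hf.symm a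

theorem exists_coord_eq (g : α → R) (hg : ∀ n, {a | g a ∉ I ^ n}.Finite) :
    ∃ x : AdicCompletion I (α →₀ R), coord I α x = g := by
  classical
  let s : ℕ → α →₀ R := fun n => Finsupp.onFinset (hg n).toFinset
    (fun a => if g a ∈ I ^ n then 0 else g a) fun a ha => (Set.Finite.mem_toFinset _).mpr fun h => ha (if_pos h)
  have hsg : ∀ n a, s n a - g a ∈ I ^ n := fun n a => by
    simp only [s, Finsupp.onFinset_apply]
    split_ifs with h
    · simpa using neg_mem h
    · simp
  have hs : AdicCompletion.IsAdicCauchy I (α →₀ R) s := fun {m n} hmn => by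
    refine (SModEq.sub_mem).mpr ((mem_smul_top_finsupp _ _).mpr fun a => ?_)
    have := sub_mem (hsg m a) (Ideal.pow_le_pow_right hmn (hsg n a))
    simpa using this
  refine ⟨AdicCompletion.mk I _ ⟨s, hs⟩, funext fun a => ?_⟩
  refine (IsHausdorff.eq_iff_smodEq (I := I)).mpr fun n => SModEq.sub_mem.mpr ?_
  rw [pow_smul_top_eq]
  have h := coord_sub_mem (x := AdicCompletion.mk I _ ⟨s, hs⟩) (f := s n) (n := n) rfl a
  have := add_mem h (hsg n a)
  rwa [sub_add_sub_cancel] at this

theorem exists_sum_tmul {P X : Type u} [AddCommGroup P] [Module R P] [AddCommGroup X] [Module R X]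
    {m : ℕ} (p : Fin m → P) (hp : Submodule.span R (Set.range p) = ⊤) (z : P ⊗[R] X) :
    ∃ x : Fin m → X, z = ∑ j, p j ⊗ₜ x j := by
  induction z with
  | zero => exact ⟨0, by simp⟩
  | tmul q x =>
    have hq : q ∈ Submodule.span R (Set.range p) := hp ▸ trivial
    obtain ⟨c, hc⟩ := (Submodule.mem_span_range_iff_exists_fun R).mp hq
    exact ⟨fun j => c j • x, by simp only [← hc, sum_tmul, smul_tmul]⟩
  | add a b ha hb =>
    obtain ⟨x, rfl⟩ := ha
    obtain ⟨y, rfl⟩ := hb
    exact ⟨x + y, by simp [tmul_add, Finset.sum_add_distrib]⟩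

theorem mem_smul_top_pi {m : ℕ} (J : Ideal R) {f : Fin m → R} (h : ∀ j, f j ∈ J) :
    f ∈ (J • ⊤ : Submodule R (Fin m → R)) := by
  rw [← Finset.univ_sum_single f]
  refine Submodule.sum_mem _ fun j _ => ?_
  have : Pi.single j (f j) = f j • (Pi.single j 1 : Fin m → R) := by ext k; simp [Pi.single_apply]
  rw [this]
  exact Submodule.smul_mem_smul (h j) trivial

variable [IsNoetherianRing R]

theorem exists_controlled_coeff {m t : ℕ} (k : Fin t → Fin m → R) :
    ∃ c : ℕ, ∀ f ∈ Submodule.span R (Set.range k), ∃ g : Fin t → R, (∑ l, g l • k l = f) ∧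
      ∀ n, f ∈ (I ^ (n + c) • ⊤ : Submodule R (Fin m → R)) → ∀ l, g l ∈ I ^ n := by
  classical
  obtain ⟨c, hc⟩ := I.exists_pow_inf_eq_pow_smul (Submodule.span R (Set.range k))
  refine ⟨c, fun f hf => ?_⟩
  by_cases h0 : f = 0
  · exact ⟨0, by simp [h0], fun n _ l => zero_mem _⟩
  obtain ⟨j, hj⟩ : ∃ j, f j ≠ 0 := Function.ne_iff.mp h0
  have hex : ∃ n, f ∉ (I ^ n • ⊤ : Submodule R (Fin m → R)) := by
    by_contra hall
    push Not at hall
    refine hj ((IsHausdorff.eq_iff_smodEq (I := I) (M := R)).mpr fun n => SModEq.sub_mem.mpr ?_)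
    simpa using Submodule.smul_top_le_comap_smul_top (I ^ n) (LinearMap.proj j : (Fin m → R) →ₗ[R] R) (hall n)
  set n₀ := Nat.find hex with hn₀
  have hlt : ∀ n, f ∈ (I ^ (n + c) • ⊤ : Submodule R (Fin m → R)) → n + c < n₀ := fun n hn => by
    by_contra hle
    push Not at hle
    exact Nat.find_spec hex (Submodule.smul_mono_left (Ideal.pow_le_pow_right hle) hn)
  obtain ⟨g₀, hg₀⟩ := (Submodule.mem_span_range_iff_exists_fun R).mp hf
  by_cases hcase : n₀ ≤ c
  · exact ⟨g₀, hg₀, fun n hn => absurd (hlt n hn) (by omega)⟩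
  have hmem : f ∈ (I ^ (n₀ - 1) • ⊤ : Submodule R (Fin m → R)) := by
    by_contra hne
    exact Nat.find_min hex (show n₀ - 1 < n₀ by omega) hne
  have h1 : f ∈ I ^ (n₀ - 1 - c) • Submodule.span R (Set.range k) := by
    have : f ∈ I ^ (n₀ - 1) • ⊤ ⊓ Submodule.span R (Set.range k) := ⟨hmem, hf⟩
    rw [hc _ (by omega)] at this
    exact Submodule.smul_mono le_rfl inf_le_right this
  obtain ⟨a, ha, hsum⟩ := (Submodule.mem_ideal_smul_span_iff_exists_sum _ _ _).mp h1
  refine ⟨fun l => a l, ?_, fun n hn l => Ideal.pow_le_pow_right (by have := hlt n hn; omega) (ha l)⟩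
  rw [← hsum, Finsupp.sum_fintype a (fun i c => c • k i) fun i => zero_smul R (k i)]

/-- The coordinate embedding of the completed free module is universally injective. -/
theorem univInj_coord : FlatCA.UnivInj R (coord I α) := fun Q _ _ => by
  classical
  refine Groth.Calg2.lTensor_injective_of_forall_fp _ fun P _ _ hP => ?_
  haveI : Module.Finite R P := inferInstance
  refine (injective_iff_map_eq_zero _).mpr fun z hz => ?_
  obtain ⟨m, p, hp⟩ := Module.Finite.exists_fin (R := R) (M := P)
  obtain ⟨x, rfl⟩ := exists_sum_tmul p hp z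
  let φ : (Fin m → R) →ₗ[R] P := Fintype.linearCombination R p
  obtain ⟨t, k, hk⟩ := Submodule.fg_iff_exists_fin_generating_family.mp
    (IsNoetherian.noetherian (LinearMap.ker φ))
  obtain ⟨c, hc⟩ := exists_controlled_coeff (I := I) k
  let f : α → Fin m → R := fun a j => coord I α (x j) a
  have hf : ∀ a, f a ∈ Submodule.span R (Set.range k) := fun a => by
    rw [hk, LinearMap.mem_ker]
    have h := congrArg (fun w => TensorProduct.rid R P ((LinearMap.proj a : (α → R) →ₗ[R] R).lTensor P w)) hz
    simpa [φ, f, Fintype.linearCombination_apply] using h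
  choose g hg hgI using fun a => hc (f a) (hf a)
  have hfin : ∀ l n, {a | g a l ∉ I ^ n}.Finite := fun l n => by
    refine (Set.finite_iUnion fun j => finite_coord_notMem (x j) (n + c)).subset fun a ha => ?_
    by_contra hall
    simp only [Set.mem_iUnion, Set.mem_setOf_eq, not_exists, not_not] at hall
    exact ha (hgI a n (mem_smul_top_pi _ hall) l)
  choose y hy using fun l => exists_coord_eq (fun a => g a l) (hfin l)
  have hx : ∀ j, x j = ∑ l, k l j • y l := fun j => coord_injective <| funext fun a => by
    have := congrFun (hg a) j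
    simp only [Finset.sum_apply, Pi.smul_apply, smul_eq_mul, f] at this
    simp [map_sum, hy, ← this, mul_comm]
  simp only [hx, tmul_sum, tmul_smul, smul_tmul', ← sum_tmul]
  rw [Finset.sum_comm]
  simp only [← sum_tmul]
  refine Finset.sum_eq_zero fun l _ => ?_
  have : φ (k l) = 0 := LinearMap.mem_ker.mp (hk ▸ Submodule.subset_span ⟨l, rfl⟩)
  rw [Fintype.linearCombination_apply] at this
  rw [this, zero_tmul]

omit [IsAdicComplete I R] in
theorem rTensor_injective_of_univInj {M N : Type u} [AddCommGroup M] [Module R M] [AddCommGroup N]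
    [Module R N] {f : M →ₗ[R] N} (hf : FlatCA.UnivInj R f) : CAlgX.UniversallyInjective R f := fun Q _ _ => by
  have : f.rTensor Q = (TensorProduct.comm R Q N).toLinearMap ∘ₗ f.lTensor Q ∘ₗ
      (TensorProduct.comm R M Q).toLinearMap := TensorProduct.ext' fun _ _ => rfl
  rw [this]
  exact (TensorProduct.comm R Q N).injective.comp ((hf Q).comp (TensorProduct.comm R M Q).injective)

omit [IsAdicComplete I R] in
/-- A universally injective submodule of a flat module is flat. -/
theorem flat_of_univInj {M N : Type u} [AddCommGroup M] [Module R M] [AddCommGroup N] [Module R N]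
    [Module.Flat R N] {f : M →ₗ[R] N} (hf : FlatCA.UnivInj R f) : Module.Flat R M := by
  refine Module.Flat.iff_lTensor_preserves_injective_linearMap.mpr ?_
  intro X Y _ _ _ _ φ hφ
  have h1 : Function.Injective (φ.lTensor N) := Module.Flat.lTensor_preserves_injective_linearMap φ hφ
  have h2 : Function.Injective (f.rTensor X) := rTensor_injective_of_univInj hf X
  have : f.rTensor Y ∘ₗ φ.lTensor M = φ.lTensor N ∘ₗ f.rTensor X := TensorProduct.ext' fun _ _ => rfl
  exact Function.Injective.of_comp (f := f.rTensor Y) (by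
    rw [← LinearMap.coe_comp, this]; exact h1.comp h2)

theorem flat_and_mittagLeffler_completionFree :
    Module.Flat R (AdicCompletion I (α →₀ R)) ∧ CAlg.IsMittagLeffler R (AdicCompletion I (α →₀ R)) := by
  obtain ⟨h1, h2⟩ := Groth.Agent.S6347.result R α
  exact ⟨flat_of_univInj univInj_coord, Groth.Agent.S6338.result R _ (rTensor_injective_of_univInj univInj_coord) h2⟩

end Groth.RaynaudGruson
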