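import Groth.Agent.RaynaudGruson.ContentFitting
import Groth.Agent.LocFree.Algebra
import Groth.Agent.Divisors.EffCartierMore
import Mathlib

/-!
An ideal of the base whose blow-up makes the strict transform of a module free near the generic points
of the fibres, with ranks allowed to vary.
-/

set_option autoImplicit false
set_option linter.style.haveILetI false
universe u

namespace Groth.RaynaudGruson.ContentBlowUp

open TensorProduct ContentFitting

/-- The centre: `F` cuts out the complement of the open, `C j` is the content of the `j`-th Fitting data. -/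
structure Centre (R S M : Type u) [CommRing R] [CommRing S] [Algebra R S] [AddCommGroup M] [Module S M]
    (σ : S →ₗ[R] (S →₀ R)) (F : Set R) where
  n : ℕ
  A : ℕ → Set S
  Q : ℕ → Ideal R
  finA : ∀ j, (A j).Finite
  memA : ∀ j, ∀ x ∈ A j, ∃ D : Groth.Misc3Fitt.Datum S M j, D.a.det = x ∧ ∀ e ∈ D.elts, e ∈ Ideal.span (A j)
  fgQ : ∀ j, (Q j).FG
  oneA : (1 : S) ∈ A n
  mul_eq_zero : ∀ j, ∀ c ∈ Ideal.span (⋃ x ∈ A j, σ x '' (σ x).support), ∀ q ∈ Q j, c * q = 0
  unit : ∀ j, ∀ f ∈ F, f ∈ (Ideal.span (⋃ x ∈ A j, σ x '' (σ x).support) ⊔ Q j).radical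
  fitt : ∀ j, ∀ x ∈ Fitt.ideal S M j, ∀ f ∈ F, ∃ N : ℕ,
    f ^ N • x ∈ (Ideal.span (⋃ x ∈ A j, σ x '' (σ x).support)).map (algebraMap R S)

section Exists

variable {R S : Type u} [CommRing R] [CommRing S] [Algebra R S] {σ : S →ₗ[R] (S →₀ R)}
  (hσ : ∀ x, Finsupp.linearCombination R id (σ x) = x)
  {M : Type u} [AddCommGroup M] [Module S M] [Module.Finite S M]

include hσ in
theorem mem_map_content {A : Set S} {x : S} (hx : x ∈ A) :
    x ∈ (Ideal.span (⋃ x ∈ A, σ x '' (σ x).support)).map (algebraMap R S) :=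
  mem_map_of_coord hσ fun i => by
    by_cases hi : σ x i = 0
    · rw [hi]; exact zero_mem _
    · exact Ideal.subset_span (Set.mem_biUnion hx ⟨i, Finsupp.mem_support_iff.mpr hi, rfl⟩)

include hσ in
theorem exists_centre (hgi : FlatCA.GeomIntegralFibres R S) (F : Finset R)
    (hfp : ∀ f ∈ F, Module.FinitePresentation (Localization.Away (algebraMap R S f))
      (LocalizedModule (Submonoid.powers (algebraMap R S f)) M))
    (hfree : ∀ (p : Ideal R) [p.IsPrime] [(Ideal.map (algebraMap R S) p).IsPrime], (∃ f ∈ F, f ∉ p) →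
      Module.Free (Localization.AtPrime (Ideal.map (algebraMap R S) p))
        (LocalizedModule (Ideal.map (algebraMap R S) p).primeCompl M)) :
    Nonempty (Centre R S M σ F) := by
  classical
  obtain ⟨n, gen, hgen⟩ := Module.Finite.exists_fin (R := S) (M := M)
  let dets : ℕ → Set S := fun j => {d | ∃ D : Groth.Misc3Fitt.Datum S M j, d = D.a.det}
  have hB : ∀ j, ∀ f ∈ F, ∃ B : Finset S, ↑B ⊆ dets j ∧
      ∀ x ∈ Fitt.ideal S M j, ∃ N : ℕ, f ^ N • x ∈ Ideal.span (↑B : Set S) := by
    intro j f hf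
    let L := Localization.Away (algebraMap R S f)
    haveI := hfp f hf
    have h1 : ((Fitt.ideal S M j).map (algebraMap S L)).FG := by
      rw [← Groth.Misc3Fitt.ideal_localized]; exact Groth.Misc3Fitt.ideal_fg j
    have h2 : (Fitt.ideal S M j).map (algebraMap S L) = Ideal.span (algebraMap S L '' dets j) := by
      rw [← Ideal.map_span]
      refine le_antisymm (Ideal.map_mono Groth.Misc3Fitt.fitt_le_span_det) (Ideal.map_mono (Ideal.span_le.2 ?_))
      rintro _ ⟨D, rfl⟩
      exact D.elts_subset (Or.inl rfl)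
    rw [h2] at h1
    obtain ⟨B', hB'sub, hB'eq⟩ := Submodule.fg_span_iff_fg_span_finset_subset _ |>.mp h1
    obtain ⟨B, hBsub, rfl⟩ : ∃ B : Finset S, ↑B ⊆ dets j ∧ B.image (algebraMap S L) = B' :=
      Finset.subset_set_image_iff.mp hB'sub
    refine ⟨B, hBsub, fun x hx => ?_⟩
    have h3 : algebraMap S L x ∈ (Ideal.span (↑B : Set S)).map (algebraMap S L) := by
      rw [Ideal.map_span, ← Finset.coe_image]
      have h4 : algebraMap S L x ∈ Submodule.span L (algebraMap S L '' dets j) :=
        h2.le (Ideal.mem_map_of_mem _ hx)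
      rw [hB'eq] at h4
      exact h4
    obtain ⟨⟨⟨a, ha⟩, ⟨_, k, rfl⟩⟩, h5⟩ := (IsLocalization.mem_map_algebraMap_iff (Submonoid.powers (algebraMap R S f)) L).mp h3
    rw [← map_mul] at h5
    obtain ⟨⟨_, m, rfl⟩, h6⟩ := (IsLocalization.eq_iff_exists (Submonoid.powers (algebraMap R S f)) L).mp h5
    refine ⟨m + k, ?_⟩
    rw [Algebra.smul_def, map_pow, pow_add, mul_assoc, mul_comm (_ ^ k) x]
    exact (congrArg (· ∈ Ideal.span (↑B : Set S)) h6).mpr (Ideal.mul_mem_left _ _ ha)
  choose B hBsub hB using hB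
  let Dn : Groth.Misc3Fitt.Datum S M n :=
    ⟨n, gen, 1, hgen, fun i hi => absurd hi (by simp)⟩
  choose D hD using fun j (f : F) (d : B j f f.2) => hBsub j f f.2 d.2
  let A₀ : ∀ j, Set S := fun j => ⋃ f : F, ⋃ d : B j f f.2, Set.range fun τ => ((D j f d).member τ).a.det
  let A : ℕ → Set S := fun j => A₀ j ∪ if j = n then ({1} : Set S) else ∅
  have hA : ∀ j, ∀ x ∈ A j, ∃ D : Groth.Misc3Fitt.Datum S M j, D.a.det = x ∧ ∀ e ∈ D.elts, e ∈ Ideal.span (A j) := by
    intro j x hx
    rcases hx with hx | hx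
    · obtain ⟨f, hx⟩ := Set.mem_iUnion.1 hx
      obtain ⟨d, τ, rfl⟩ := Set.mem_iUnion.1 hx
      refine ⟨(D j f d).member τ, rfl, fun e he => Ideal.subset_span (Or.inl ?_)⟩
      obtain ⟨τ', rfl⟩ := (D j f d).elts_member τ he
      exact Set.mem_iUnion.2 ⟨f, Set.mem_iUnion.2 ⟨d, τ', rfl⟩⟩
    · split_ifs at hx with h
      swap
      · exact hx.elim
      subst h
      rw [Set.mem_singleton_iff.1 hx]
      refine ⟨Dn, Matrix.det_one, fun e _ => ?_⟩
      have h1 : Ideal.span (A j) = ⊤ :=
        (Ideal.eq_top_iff_one _).2 (Ideal.subset_span (Or.inr (by rw [if_pos rfl]; rfl)))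
      rw [h1]
      trivial
  have hAfin : ∀ j, (A j).Finite := fun j =>
    (Set.finite_iUnion fun f => Set.finite_iUnion fun d => Set.finite_range _).union
      (by split_ifs <;> simp)
  have hA₀ : ∀ j (f : F), Ideal.span (↑(B j f f.2) : Set S) ≤ Ideal.span (A j) := fun j f =>
    Ideal.span_le.2 fun d hd => by
      have h := (D j f ⟨d, hd⟩).det_mem_span_members
      rw [← hD j f ⟨d, hd⟩] at h
      exact Ideal.span_mono (fun e he => Or.inl (Set.mem_iUnion.2 ⟨f, Set.mem_iUnion.2 ⟨⟨d, hd⟩, he⟩⟩)) h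
  let C : ℕ → Ideal R := fun j => Ideal.span (⋃ x ∈ A j, σ x '' (σ x).support)
  have hfitt : ∀ j, ∀ x ∈ Fitt.ideal S M j, ∀ f ∈ (↑F : Set R), ∃ N : ℕ,
      f ^ N • x ∈ (C j).map (algebraMap R S) := fun j x hx f hf => by
    obtain ⟨N, hN⟩ := hB j f hf x hx
    exact ⟨N, Ideal.span_le.2 (fun y hy => mem_map_content hσ hy) (hA₀ j ⟨f, hf⟩ hN)⟩
  have hunit : ∀ j, ∀ f ∈ F, f ∈ (C j ⊔ (C j).annihilator).radical := by
    intro j f hf
    rw [Ideal.radical_eq_sInf, Submodule.mem_sInf]
    rintro p ⟨hle, hp⟩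
    by_contra hfp
    haveI := hp
    haveI := isPrime_map hσ hgi p
    have hF := hfree p ⟨f, hf, hfp⟩
    haveI := hF
    haveI : Module.Finite (Localization.AtPrime (Ideal.map (algebraMap R S) p))
        (LocalizedModule (Ideal.map (algebraMap R S) p).primeCompl M) :=
      Module.Finite.of_isLocalizedModule (Ideal.map (algebraMap R S) p).primeCompl (LocalizedModule.mkLinearMap _ M)
    have hfpS : algebraMap R S f ∉ Ideal.map (algebraMap R S) p := fun h' => by
      have h1 : algebraMap R S f ∈ RingHom.ker (evalField R S (Ideal.ResidueField p)) := by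
        rw [ker_evalField hσ p]; exact h'
      rw [RingHom.mem_ker] at h1
      haveI := IntegralProjective.geomIntegralFibres_iff.mp hgi (Ideal.ResidueField p)
      have h2 : (algebraMap R (Ideal.ResidueField p) f) ⊗ₜ[R] (1 : S) = 0 := by
        rw [← h1]
        show _ = (1 : (Ideal.ResidueField p)) ⊗ₜ[R] algebraMap R S f
        rw [Algebra.algebraMap_eq_smul_one, TensorProduct.smul_tmul, ← Algebra.algebraMap_eq_smul_one]
      have h3 : algebraMap (Ideal.ResidueField p) ((Ideal.ResidueField p) ⊗[R] S) (algebraMap R (Ideal.ResidueField p) f) = 0 := h2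
      rw [map_eq_zero_iff _ (algebraMap (Ideal.ResidueField p) ((Ideal.ResidueField p) ⊗[R] S)).injective] at h3
      exact hfp (Ideal.algebraMap_residueField_eq_zero.mp h3)
    by_cases hk : Module.finrank (Localization.AtPrime (Ideal.map (algebraMap R S) p))
        (LocalizedModule (Ideal.map (algebraMap R S) p).primeCompl M) ≤ j
    · have h := Groth.Misc3Fitt.ideal_localized (M := M) (Ideal.map (algebraMap R S) p).primeCompl j
      rw [Groth.Misc3Fitt.ideal_of_basis (Module.finBasisOfFinrankEq _ _ rfl), if_pos hk] at h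
      refine (Groth.Misc3Fitt.map_eq_top_iff_of_atPrime _ _).mp h.symm fun x hx => ?_
      obtain ⟨N, hN⟩ := hfitt j x hx f hf
      rw [Algebra.smul_def, map_pow] at hN
      refine (((isPrime_map hσ hgi p).mem_or_mem (Ideal.map_mono (le_sup_left.trans hle) hN)).resolve_left
        fun h' => hfpS ((isPrime_map hσ hgi p).mem_of_pow_mem N h'))
    · have hx : ∀ x ∈ A j, ∃ u ∉ p, u • x = 0 := by
        intro x hx
        obtain ⟨D, hD, -⟩ := hA j x hx
        obtain ⟨s, hs, hsx⟩ := Groth.Misc3Fitt.exists_smul_eq_zero_of_free (lt_of_not_ge hk)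
          (Ideal.map (algebraMap R S) p) hF rfl (hD ▸ D.elts_subset (Or.inl rfl))
        exact exists_smul_eq_zero hσ hgi p hs hsx
      choose! u hu hux using hx
      have hmem : (∏ x ∈ (hAfin j).toFinset, u x) ∈ (C j).annihilator := by
        rw [Submodule.mem_annihilator]
        intro c hc
        induction hc using Submodule.span_induction with
        | mem c hc =>
          obtain ⟨x, hx, i, -, rfl⟩ : ∃ x ∈ A j, ∃ i, i ∈ ((σ x).support : Set S) ∧ σ x i = c := by
            simpa [and_assoc] using hc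
          rw [← Finset.mul_prod_erase _ _ ((hAfin j).mem_toFinset.mpr hx), mul_comm, mul_smul]
          have : u x • σ x i = 0 := by
            rw [← Finsupp.smul_apply, ← map_smul, hux x hx, map_zero, Finsupp.zero_apply]
          rw [this, smul_zero]
        | zero => simp
        | add a b _ _ ha hb => rw [smul_add, ha, hb, add_zero]
        | smul r a _ ha => rw [smul_comm, ha, smul_zero]
      obtain ⟨x, hx, hxp⟩ := (Ideal.IsPrime.prod_mem_iff (hp := hp)).mp ((le_sup_right.trans hle) hmem)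
      exact hu x ((hAfin j).mem_toFinset.mp hx) hxp
  have hq : ∀ j, ∀ f : F, ∃ q ∈ (C j).annihilator, (f : R) ∈ (C j ⊔ Ideal.span {q}).radical := by
    intro j f
    obtain ⟨N, hN⟩ := hunit j f f.2
    obtain ⟨c, hc, q, hq, hcq⟩ := Submodule.mem_sup.mp hN
    exact ⟨q, hq, N, Submodule.mem_sup.mpr ⟨c, hc, q, Ideal.mem_span_singleton_self q, hcq⟩⟩
  choose q hq hfq using hq
  exact ⟨{
    n := n
    A := A
    Q := fun j => Ideal.span (Set.range (q j))
    finA := hAfin
    memA := hA
    fgQ := fun j => Submodule.fg_span (Set.finite_range _)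
    oneA := Or.inr (by rw [if_pos rfl]; rfl)
    mul_eq_zero := fun j c hc y hy => by
      have hle : Ideal.span (Set.range (q j)) ≤ (C j).annihilator :=
        Ideal.span_le.2 fun _ ⟨f, hf⟩ => hf ▸ hq j f
      rw [mul_comm]
      exact Submodule.mem_annihilator.mp (hle hy) c hc
    unit := fun j f hf => Ideal.radical_mono (sup_le_sup_left (Ideal.span_mono (by simp)) _) (hfq j ⟨f, hf⟩)
    fitt := hfitt }⟩

end Exists

/-- The `j`-th content ideal of a centre. -/
def Centre.content {R S M : Type u} [CommRing R] [CommRing S] [Algebra R S] [AddCommGroup M] [Module S M]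
    {σ : S →ₗ[R] (S →₀ R)} {F : Set R} (c : Centre R S M σ F) (j : ℕ) : Ideal R :=
  Ideal.span (⋃ x ∈ c.A j, σ x '' (σ x).support)

/-- The ideal to blow up. -/
noncomputable def Centre.ideal {R S M : Type u} [CommRing R] [CommRing S] [Algebra R S] [AddCommGroup M] [Module S M]
    {σ : S →ₗ[R] (S →₀ R)} {F : Set R} (c : Centre R S M σ F) : Ideal R :=
  Ideal.span F * ∏ j ∈ Finset.range (c.n + 1), (c.content j ⊔ c.Q j)

theorem Centre.ideal_fg {R S M : Type u} [CommRing R] [CommRing S] [Algebra R S] [AddCommGroup M] [Module S M]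
    {σ : S →ₗ[R] (S →₀ R)} {F : Set R} (c : Centre R S M σ F) (hF : F.Finite) : c.ideal.FG := by
  classical
  refine (Submodule.fg_span hF).mul ?_
  refine Finset.prod_induction _ (fun I : Ideal R => I.FG) (fun a b ha hb => ha.mul hb) ?_ fun j _ => ?_
  · rw [Ideal.one_eq_top]; exact Module.Finite.fg_top
  · exact Submodule.FG.sup
      (Submodule.fg_span ((c.finA j).biUnion fun x _ => (σ x).support.finite_toSet.image _)) (c.fgQ j)

theorem Centre.mem_radical {R S M : Type u} [CommRing R] [CommRing S] [Algebra R S] [AddCommGroup M] [Module S M]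
    {σ : S →ₗ[R] (S →₀ R)} {F : Set R} (c : Centre R S M σ F) {f : R} (hf : f ∈ F) : f ∈ c.ideal.radical := by
  rw [Ideal.radical_eq_sInf, Submodule.mem_sInf]
  rintro p ⟨hle, hp⟩
  by_contra hfp
  rcases hp.mul_le.mp hle with h | h
  · exact hfp (h (Ideal.subset_span hf))
  · obtain ⟨j, -, hj⟩ := hp.prod_le.mp h
    exact hfp ((hp.radical_le_iff).mpr hj (c.unit j f hf))

section Algebra

variable {A : Type u} [CommRing A]

theorem exists_split_factor (P : Ideal A) [hP : P.IsPrime] {J J' : Ideal A} {t : A} (h : J * J' = Ideal.span {t})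
    (ht : t ∈ nonZeroDivisors A) :
    ∃ a ∈ J, ∃ h ∉ P, (∀ x ∈ J, ∃ y, h * x = a * y) ∧ (∃ y, h * t = a * y) ∧ ∀ y, a * y = 0 → h * y = 0 := by
  obtain ⟨a, ha, b, hb, r, hab, hr⟩ := Groth.Divisors.exists_split_of_mul_eq_span P h ht
  refine ⟨a, ha, r * r, fun h' => hr ((hP.mem_or_mem h').elim id id), fun x hx => ?_,
    ⟨r * b, by rw [mul_left_comm a, hab]; ring⟩, fun y hy => ?_⟩
  · obtain ⟨u, hu⟩ := Ideal.mem_span_singleton'.mp (h.le (Ideal.mul_mem_mul hx hb))
    refine ⟨r * u, ?_⟩
    have : t * (r * (r * x - u * a)) = 0 := by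
      calc t * (r * (r * x - u * a)) = a * b * (r * x - u * a) := by rw [hab]; ring
        _ = a * (r * (x * b) - u * (a * b)) := by ring
        _ = 0 := by rw [hab, ← hu]; ring
    have := (mem_nonZeroDivisors_iff.mp ht).1 _ this
    rw [mul_sub, sub_eq_zero] at this
    rw [mul_assoc, this]; ring
  · have : t * (r * y) = 0 := by
      rw [← mul_assoc, ← hab, mul_right_comm, hy, zero_mul]
    rw [mul_assoc, (mem_nonZeroDivisors_iff.mp ht).1 _ this, mul_zero]

/-- A datum whose determinant is, up to `h`, a multiple `j * c` with minors multiples of `j`. -/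
theorem exists_span_smul {N : Type u} [AddCommGroup N] [Module A N] {k : ℕ} (D : Groth.Misc3Fitt.Datum A N k)
    (j h c : A) (hc : h * D.a.det = j * c) (hadj : ∀ d ∈ D.elts, h * d ∈ Ideal.span {j}) (T : Submodule A N)
    (hT : ∀ m : N, j • m = 0 → h • m ∈ T) :
    ∃ v : Fin k → N ⧸ T, ∀ l, (h * c) • T.mkQ (D.x l) ∈ Submodule.span A (Set.range v) := by
  classical
  let n := D.n
  refine ⟨fun i => if hi : n - k + (i : ℕ) < n then T.mkQ (∑ l, D.a ⟨n - k + i, hi⟩ l • D.x l) else 0, fun l => ?_⟩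
  have ht : ∀ i : Fin n, ¬(i : ℕ) < n - k → ∃ t, h * Matrix.adjugate D.a l i = t * j := fun i hi =>
    (Ideal.mem_span_singleton'.1 (hadj _ (Or.inr ⟨(l, i), hi, rfl⟩))).imp fun t ht => ht.symm
  choose t ht using ht
  let y : N := ∑ i : Fin n, if hi : (i : ℕ) < n - k then 0 else t i hi • ∑ r, D.a i r • D.x r
  have hy : (h * c) • D.x l - h • y ∈ T := by
    rw [mul_smul, ← smul_sub]
    refine hT _ ?_
    rw [smul_sub, smul_smul, ← hc, mul_smul, Groth.Misc3Fitt.det_smul_eq D.x D.a l, sub_eq_zero, Finset.smul_sum,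
      Finset.smul_sum]
    refine Finset.sum_congr rfl fun i _ => ?_
    split_ifs with hi
    · rw [D.ha i hi, smul_zero, smul_zero, smul_zero]
    · rw [smul_smul, ht i hi, smul_smul j, mul_comm]
  rw [← map_smul, show T.mkQ ((h * c) • D.x l) = T.mkQ (h • y) from (Submodule.Quotient.eq _).2 hy, map_smul]
  refine Submodule.smul_mem _ _ ?_
  rw [map_sum]
  refine Submodule.sum_mem _ fun i _ => ?_
  split_ifs with hi
  · rw [map_zero]; exact zero_mem _
  · rw [map_smul]
    refine Submodule.smul_mem _ _ ?_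
    obtain ⟨d, hd⟩ := Nat.exists_eq_add_of_le (not_lt.1 hi)
    refine Submodule.subset_span ⟨⟨d, by have := i.2; omega⟩, ?_⟩
    simp only
    rw [dif_pos (by have := i.2; omega)]
    have : (⟨n - k + d, by have := i.2; omega⟩ : Fin n) = i := Fin.ext hd.symm
    rw [this]

/-- A quotient by power torsion keeps the annihilators of Fitting ideals. -/
theorem fitt_quotient_mul {N : Type u} [AddCommGroup N] [Module A N] [Module.Finite A N] {t h : A}
    (ht : t ∈ nonZeroDivisors A) (T : Submodule A N) (hT : ∀ m ∈ T, ∃ n : ℕ, t ^ n • m = 0) {j : ℕ}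
    (h0 : ∀ x ∈ Fitt.ideal A N j, h * x = 0) : ∀ x ∈ Fitt.ideal A (N ⧸ T) j, h * x = 0 := by
  let L := Localization.Away t
  have hinj : Function.Injective (algebraMap A L) :=
    IsLocalization.injective (M := Submonoid.powers t) L (Submonoid.powers_le.2 ht)
  have hz : (T.subtype.lTensor L) = 0 := by
    refine TensorProduct.ext' fun s m => ?_
    obtain ⟨n, hn⟩ := hT m m.2
    obtain ⟨u, hu⟩ := (IsLocalization.Away.algebraMap_isUnit (S := L) t).pow n
    have hs : s = (t ^ n) • (s * ↑u⁻¹) := by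
      rw [Algebra.smul_def, map_pow, ← hu, mul_left_comm, Units.mul_inv, mul_one]
    rw [LinearMap.zero_apply, LinearMap.lTensor_tmul, Submodule.subtype_apply, hs,
      TensorProduct.smul_tmul, hn, TensorProduct.tmul_zero]
  have hbij : Function.Bijective (T.mkQ.baseChange L) := by
    refine ⟨(injective_iff_map_eq_zero _).2 fun z hzz => ?_, LinearMap.lTensor_surjective L T.mkQ_surjective⟩
    have hker : z ∈ LinearMap.ker (T.mkQ.lTensor L) := hzz
    rw [lTensor_mkQ, LinearMap.mem_range] at hker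
    obtain ⟨w, rfl⟩ := hker
    rw [hz, LinearMap.zero_apply]
  have hmap : (Fitt.ideal A (N ⧸ T) j).map (algebraMap A L) = (Fitt.ideal A N j).map (algebraMap A L) := by
    rw [← Groth.Misc3Fitt.ideal_baseChange,
      ← Groth.Misc3Fitt.ideal_congr (LinearEquiv.ofBijective (T.mkQ.baseChange L) hbij),
      Groth.Misc3Fitt.ideal_baseChange]
  have key : (Fitt.ideal A N j).map (algebraMap A L) ≤
      LinearMap.ker (LinearMap.mulLeft L (algebraMap A L h)) := by
    rw [Ideal.map_le_iff_le_comap]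
    intro x hx
    rw [Ideal.mem_comap, LinearMap.mem_ker, LinearMap.mulLeft_apply, ← map_mul, h0 x hx, map_zero]
  intro x hx
  refine hinj ?_
  rw [map_zero, map_mul]
  exact key (hmap.le (Ideal.mem_map_of_mem _ hx))

/-- Generators in number `r` near `g` and killed lower Fitting ideals give a basis away from `g`. -/
theorem exists_isBasisAway {N : Type u} [AddCommGroup N] [Module A N] [Module.Finite A N] (g : A) (r : ℕ)
    (h0 : ∀ k, k < r → ∀ x ∈ Fitt.ideal A N k, ∃ n : ℕ, g ^ n * x = 0) (v : Fin r → N)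
    (hv : ∀ m : N, ∃ n : ℕ, g ^ n • m ∈ Submodule.span A (Set.range v)) :
    Groth.LocFree.IsBasisAway g v := by
  let L := Localization.Away g
  let μ := LocalizedModule.mkLinearMap (Submonoid.powers g) N
  have hspan : Submodule.span L (Set.range (μ ∘ v)) = ⊤ := by
    rw [eq_top_iff]
    intro z _
    obtain ⟨⟨m, _, k, rfl⟩, hz⟩ := IsLocalizedModule.surj (Submonoid.powers g) μ z
    obtain ⟨n, hn⟩ := hv m
    have h1 : (g ^ n * g ^ k) • z ∈ Submodule.span L (Set.range (μ ∘ v)) := by
      rw [mul_smul]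
      have hz' : g ^ k • z = μ m := hz
      rw [hz', ← map_smul, Set.range_comp]
      exact Submodule.span_subset_span A _ _ (by
        rw [← Submodule.map_span]; exact Submodule.mem_map_of_mem hn)
    obtain ⟨w, hw⟩ := (IsLocalization.Away.algebraMap_isUnit (S := L) g).pow (n + k)
    rw [← pow_add, ← algebraMap_smul L, map_pow, ← hw] at h1
    have h2 := Submodule.smul_mem _ (↑w⁻¹ : L) h1
    rwa [smul_smul, Units.inv_mul, one_smul] at h2
  haveI : Module.Finite L (LocalizedModule (Submonoid.powers g) N) :=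
    Module.Finite.of_isLocalizedModule (Submonoid.powers g) μ
  refine ⟨fun c hc => ?_, fun m => ?_⟩
  · have hci : ∀ i, ∃ k : ℕ, g ^ k * c i = 0 := by
      intro i
      have hr : 0 < r := Fin.pos i
      have hbot : Groth.Misc3Fitt.fitt (R := L) (μ ∘ v) (r - 1) = ⊥ := by
        rw [← Groth.Misc3Fitt.ideal_eq_fitt _ hspan, Groth.Misc3Fitt.ideal_localized, Ideal.map_eq_bot_iff_le_ker]
        intro x hx
        obtain ⟨n, hn⟩ := h0 _ (by omega) x hx
        rw [RingHom.mem_ker]
        exact (IsLocalization.map_eq_zero_iff (Submonoid.powers g) L x).mpr ⟨⟨g ^ n, n, rfl⟩, hn⟩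
      have hrel : ∑ i, algebraMap A L (c i) • (μ ∘ v) i = 0 := by
        simp only [algebraMap_smul, Function.comp_apply, ← map_smul, ← map_sum, hc, map_zero]
      have h2 : Groth.Misc3Fitt.minor (fun _ : Fin 1 => i) (fun _ => fun l => algebraMap A L (c l)) ∈
          Groth.Misc3Fitt.fitt (R := L) (μ ∘ v) (r - 1) := by
        rw [Groth.Misc3Fitt.fitt, show r - (r - 1) = 1 by omega]
        exact Groth.Misc3Fitt.minor_mem _ fun _ => Groth.Misc3Fitt.mem_rel.2 hrel
      rw [hbot, Ideal.mem_bot] at h2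
      have h3 : algebraMap A L (c i) = 0 := by simpa [Groth.Misc3Fitt.minor] using h2
      obtain ⟨⟨_, k, rfl⟩, hk⟩ := (IsLocalization.map_eq_zero_iff (Submonoid.powers g) L _).1 h3
      exact ⟨k, hk⟩
    choose k hk using hci
    refine ⟨∑ i, k i, fun i => ?_⟩
    rw [← Nat.sub_add_cancel (Finset.single_le_sum (fun j _ => Nat.zero_le (k j)) (Finset.mem_univ i) :
      k i ≤ ∑ i, k i), pow_add, mul_assoc, hk, mul_zero]
  · obtain ⟨n, hn⟩ := hv m
    obtain ⟨c, hc⟩ := (Submodule.mem_span_range_iff_exists_fun A).mp hn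
    exact ⟨n, c, hc.symm⟩

end Algebra

/-- An element whose base-changed coordinate avoids `P` avoids some prime over `P`. -/
theorem exists_prime {R S R' S' : Type u} [CommRing R] [CommRing S] [Algebra R S] [CommRing R'] [Algebra R R']
    [CommRing S'] [Algebra S S'] [Algebra R' S'] [Algebra R S'] [IsScalarTower R S S'] [IsScalarTower R R' S']
    [Algebra.IsPushout R S R' S'] (hgi : FlatCA.GeomIntegralFibres R S) (P : Ideal R') [P.IsPrime] {k : S'}
    (φ : S →ₗ[R] R) (Φ : S' →ₗ[R'] R') (hΦ : ∀ x, Φ (algebraMap S S' x) = algebraMap R R' (φ x))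
    (hk : Φ k ∉ P) : ∃ Q : Ideal S', Q.IsPrime ∧ Q.comap (algebraMap R' S') = P ∧ k ∉ Q := by
  haveI : Algebra.IsPushout R R' S S' := Algebra.IsPushout.symm inferInstance
  haveI := IntegralProjective.geomIntegralFibres_iff.mp hgi P.ResidueField
  let e := Algebra.IsPushout.equiv R R' S S'
  let ψ : R' ⊗[R] S →ₐ[R] P.ResidueField ⊗[R] S :=
    Algebra.TensorProduct.map (IsScalarTower.toAlgHom R R' P.ResidueField) (AlgHom.id R S)
  let χ : S' →+* P.ResidueField ⊗[R] S := ψ.toRingHom.comp e.symm.toAlgHom.toRingHom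
  have key : ∀ t : R' ⊗[R] S, TensorProduct.rid R P.ResidueField (φ.lTensor P.ResidueField (ψ t)) =
      algebraMap R' P.ResidueField (Φ (e t)) := by
    intro t
    induction t with
    | zero => simp
    | add a b ha hb => simp [map_add, ha, hb]
    | tmul a x =>
      have : e (a ⊗ₜ x) = a • algebraMap S S' x := by
        rw [Algebra.smul_def]; exact Algebra.IsPushout.equiv_tmul R R' S S' a x
      rw [this, map_smul, hΦ]
      simp [ψ, Algebra.smul_def, ← IsScalarTower.algebraMap_apply, mul_comm]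
  refine ⟨RingHom.ker χ, RingHom.ker_isPrime _, ?_, fun h0 => hk ?_⟩
  · ext z
    rw [Ideal.mem_comap, RingHom.mem_ker]
    show ψ (e.symm (algebraMap R' S' z)) = 0 ↔ z ∈ P
    rw [AlgEquiv.commutes]
    show (algebraMap R' P.ResidueField z) ⊗ₜ[R] (1 : S) = 0 ↔ z ∈ P
    show algebraMap P.ResidueField (P.ResidueField ⊗[R] S) (algebraMap R' P.ResidueField z) = 0 ↔ z ∈ P
    rw [map_eq_zero_iff _ (algebraMap P.ResidueField (P.ResidueField ⊗[R] S)).injective,
      Ideal.algebraMap_residueField_eq_zero]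
  · rw [RingHom.mem_ker] at h0
    have h1 := key (e.symm k)
    rw [show ψ (e.symm k) = 0 from h0, map_zero, map_zero, e.apply_symm_apply, eq_comm,
      Ideal.algebraMap_residueField_eq_zero] at h1
    exact h1

section Main

variable {R S M : Type u} [CommRing R] [CommRing S] [Algebra R S] [AddCommGroup M] [Module S M] [Module.Finite S M]
  {σ : S →ₗ[R] (S →₀ R)} {F : Set R} {R' S' M' : Type u} [CommRing R'] [Algebra R R'] [CommRing S'] [Algebra S S']
  [Algebra R' S'] [Algebra R S'] [IsScalarTower R S S'] [IsScalarTower R R' S'] [Algebra.IsPushout R S R' S']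
  [AddCommGroup M'] [Module S' M'] [Module S M'] [IsScalarTower S S' M']

/-- **Strict transforms are free near the generic points of the fibres.** -/
theorem Centre.chart (c : Centre R S M σ F) (hσ : ∀ x, Finsupp.linearCombination R id (σ x) = x)
    (hgi : FlatCA.GeomIntegralFibres R S) [Module.Flat R S]
    {t : R'} (ht : t ∈ nonZeroDivisors R') (hI : c.ideal.map (algebraMap R R') = Ideal.span {t})
    {τ : R'} (hτ : τ ∈ nonZeroDivisors R') (hdvd : t ∣ τ) (φ : M →ₗ[S] M') (hφ : IsBaseChange S' φ) (T : Submodule S' M')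
    (hT : ∀ m, m ∈ T ↔ ∃ n : ℕ, algebraMap R' S' τ ^ n • m = 0) (P : Ideal R') [P.IsPrime] :
    ∃ (g : S') (Q : Ideal S') (r : ℕ) (v : Fin r → M' ⧸ T),
      Q.IsPrime ∧ Q.comap (algebraMap R' S') = P ∧ g ∉ Q ∧ Groth.LocFree.IsBasisAway g v := by
  classical
  haveI : Algebra.IsPushout R R' S S' := Algebra.IsPushout.symm inferInstance
  haveI : Module.Flat R' S' := Module.Flat.isBaseChange R R' S S' (Algebra.IsPushout.out)
  obtain ⟨ω, hω⟩ := hdvd
  have htS : algebraMap R' S' τ ∈ nonZeroDivisors S' := by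
    rw [mem_nonZeroDivisors_iff_right]
    intro w hw
    refine Module.Flat.isSMulRegular_of_nonZeroDivisors (M := S') hτ ?_
    show τ • w = τ • (0 : S')
    rw [Algebra.smul_def, mul_comm, hw, smul_zero]
  set ρ := algebraMap R R' with hρ
  let Cj : ℕ → Ideal R' := fun j => (c.content j).map ρ
  -- each content is, near `P`, either zero or invertible
  have hsplit : ∀ j ∈ Finset.range (c.n + 1), (∃ h ∉ P, ∀ x ∈ Cj j, h * x = 0) ∨
      ∃ a h, h ∉ P ∧ (∃ y, h * t = a * y) ∧ (∀ x ∈ Cj j, ∃ y, h * x = a * y) ∧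
        h * a ∈ Cj j ∧ ∀ y, a * y = 0 → h * y = 0 := by
    intro j hj
    have hprod : ((c.content j ⊔ c.Q j).map ρ) * ((Ideal.span F *
        ∏ i ∈ (Finset.range (c.n + 1)).erase j, (c.content i ⊔ c.Q i)).map ρ) = Ideal.span {t} := by
      rw [← Ideal.map_mul, ← hI, Centre.ideal, ← Finset.mul_prod_erase _ _ hj]
      congr 1
      ring
    obtain ⟨a, ha, h, hh, hdiv, ⟨u, hu⟩, hann⟩ := exists_split_factor P hprod ht
    rw [Ideal.map_sup] at ha
    obtain ⟨c₁, hc₁, q₁, hq₁, hcq⟩ := Submodule.mem_sup.mp ha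
    obtain ⟨c', hc'⟩ := hdiv c₁ (Ideal.map_mono le_sup_left hc₁)
    obtain ⟨q', hq'⟩ := hdiv q₁ (Ideal.map_mono le_sup_right hq₁)
    have hzero : ∀ x ∈ Cj j, ∀ q ∈ (c.Q j).map ρ, x * q = 0 := by
      intro x hx q hq
      have h1 : x * q ∈ (c.content j * c.Q j).map ρ := by rw [Ideal.map_mul]; exact Ideal.mul_mem_mul hx hq
      have h2 : c.content j * c.Q j = ⊥ :=
        eq_bot_iff.mpr (Ideal.mul_le.mpr fun x hx q hq => c.mul_eq_zero j x hx q hq)
      rwa [h2, Ideal.map_bot, Ideal.mem_bot] at h1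
    have h4 : h * (h - c' - q') = 0 := by
      refine hann _ ?_
      rw [mul_sub, mul_sub, ← hc', ← hq', ← hcq]; ring
    by_cases hc'P : c' ∈ P
    · refine Or.inl ⟨h * h * q', fun h' => ?_, fun x hx => ?_⟩
      · rcases Ideal.IsPrime.mem_or_mem ‹_› h' with h5 | h5
        · exact hh ((Ideal.IsPrime.mem_or_mem ‹_› h5).elim id id)
        · have : h * (h - c' - q') ∈ P := by rw [h4]; exact zero_mem _
          refine hh ?_
          have h6 := (Ideal.IsPrime.mem_or_mem ‹_› this).resolve_left hh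
          have h7 := add_mem (add_mem h6 hc'P) h5
          rwa [show h - c' - q' + c' + q' = h by ring] at h7
      · have h5 : a * (q' * x) = 0 := by
          rw [← mul_assoc, ← hq', mul_assoc, mul_comm q₁, hzero x hx q₁ hq₁, mul_zero]
        rw [mul_assoc, mul_assoc, hann _ h5, mul_zero]
    · right
      refine ⟨a, h * h * c', fun h' => hc'P ((Ideal.IsPrime.mem_or_mem ‹_› h').resolve_left
        fun h5 => hh ((Ideal.IsPrime.mem_or_mem ‹_› h5).elim id id)), ?_, fun x hx => ?_, ?_, fun y hy => ?_⟩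
      · exact ⟨h * c' * u, by rw [mul_right_comm _ c', mul_assoc h h t, hu]; ring⟩
      · obtain ⟨y, hy⟩ := hdiv x (Ideal.map_mono le_sup_left hx)
        exact ⟨h * c' * y, by rw [mul_right_comm _ c', mul_assoc h h x, hy]; ring⟩
      · have : h * h * c' * a = h * h * (h * c₁) := by rw [hc']; ring
        rw [this]
        exact Ideal.mul_mem_left _ _ (Ideal.mul_mem_left _ _ hc₁)
      · rw [mul_right_comm _ c', mul_assoc h h y, hann y hy, mul_zero, zero_mul]
  -- some content is invertible near `P`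
  have hn : ∃ j, j ∈ Finset.range (c.n + 1) ∧ ∃ a h, h ∉ P ∧ (∃ y, h * t = a * y) ∧
      (∀ x ∈ Cj j, ∃ y, h * x = a * y) ∧ h * a ∈ Cj j ∧ ∀ y, a * y = 0 → h * y = 0 := by
    refine ⟨c.n, Finset.self_mem_range_succ _, (hsplit c.n (Finset.self_mem_range_succ _)).resolve_left ?_⟩
    rintro ⟨h, hh, hzero⟩
    have htop : c.content c.n = ⊤ := by
      by_contra hne
      obtain ⟨p, hp, hle⟩ := Ideal.exists_le_maximal _ hne
      haveI := hp.isPrime
      exact (isPrime_map hσ hgi p).ne_top
        ((Ideal.eq_top_iff_one _).2 (Ideal.map_mono hle (mem_map_content hσ c.oneA)))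
    have := hzero 1 (by show 1 ∈ (c.content c.n).map ρ; rw [htop, Ideal.map_top]; exact Submodule.mem_top)
    rw [mul_one] at this
    exact hh (this ▸ P.zero_mem)
  obtain ⟨hr, a, h, hh, ⟨u, hu⟩, hdiv, hmem, hann⟩ := Nat.find_spec hn
  generalize hrdef : Nat.find hn = r at hr hdiv hmem
  have hlt : ∀ j < r, ∃ h ∉ P, ∀ x ∈ Cj j, h * x = 0 := fun j hj =>
    (hsplit j (Finset.mem_range.mpr (hj.trans (Finset.mem_range.mp hr)))).resolve_right fun hj' =>
      Nat.find_min hn (hrdef.symm ▸ hj) ⟨Finset.mem_range.mpr (hj.trans (Finset.mem_range.mp hr)), hj'⟩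
  choose! H hHP hH using hlt
  let H₀ : R' := ∏ j ∈ Finset.range r, H j
  have hH₀P : H₀ ∉ P := fun h1 => by
    obtain ⟨j, hj, hjP⟩ := (Ideal.IsPrime.prod_mem_iff (hp := ‹P.IsPrime›)).mp h1
    exact hHP j (Finset.mem_range.mp hj) hjP
  have hH₀ : ∀ j < r, ∀ x ∈ Cj j, H₀ * x = 0 := fun j hj x hx => by
    show (∏ i ∈ Finset.range r, H i) * x = 0
    rw [← Finset.mul_prod_erase _ _ (Finset.mem_range.mpr hj), mul_comm (H j), mul_assoc, hH j hj x hx, mul_zero]
  set ι := algebraMap R' S' with hι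
  -- contents and ideals of `S`
  have hmap : ∀ (I : Ideal R) (J : Ideal S'), (∀ d ∈ I, ι (ρ d) ∈ J) → ∀ x ∈ I.map (algebraMap R S),
      algebraMap S S' x ∈ J := by
    intro I J hIJ x hx
    have : I.map (algebraMap R S) ≤ J.comap (algebraMap S S') := Ideal.map_le_iff_le_comap.2 fun d hd => by
      show algebraMap S S' (algebraMap R S d) ∈ J
      rw [← IsScalarTower.algebraMap_apply, IsScalarTower.algebraMap_apply R R' S']
      exact hIJ d hd
    exact this hx
  have hdivS : ∀ x ∈ (c.content r).map (algebraMap R S), ∃ y, ι h * algebraMap S S' x = ι a * y := by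
    intro x hx
    have := hmap (c.content r) (Submodule.colon (Ideal.span {ι a}) {ι h}) (fun d hd => by
      obtain ⟨y, hy⟩ := hdiv (ρ d) (Ideal.mem_map_of_mem _ hd)
      rw [Submodule.mem_colon_singleton, smul_eq_mul, mul_comm, ← map_mul, hy, map_mul]
      exact Ideal.mem_span_singleton'.mpr ⟨ι y, mul_comm _ _⟩) x hx
    rw [Submodule.mem_colon_singleton, smul_eq_mul] at this
    obtain ⟨y, hy⟩ := Ideal.mem_span_singleton'.mp this
    exact ⟨y, by rw [mul_comm _ y, hy, mul_comm]⟩
  have hAC : ∀ x ∈ Ideal.span (c.A r), x ∈ (c.content r).map (algebraMap R S) :=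
    Ideal.span_le.2 fun x hx => mem_map_content hσ hx
  choose k hk using fun x (hx : x ∈ c.A r) => hdivS x (hAC x (Ideal.subset_span hx))
  choose Φ hΦ using fun i => exists_coord_ext (R' := R') (S' := S') ((Finsupp.lapply i).comp σ)
  obtain ⟨x, hx, i, hi⟩ : ∃ x, ∃ hx : x ∈ c.A r, ∃ i, Φ i (k x hx) ∉ P := by
    by_contra hcon
    push Not at hcon
    have h1 : ∀ z ∈ Cj r, h * z ∈ Ideal.span {a} * P := by
      intro z hz
      suffices Cj r ≤ Submodule.colon (Ideal.span {a} * P) {h} by
        have := this hz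
        rwa [Submodule.mem_colon_singleton, smul_eq_mul, mul_comm _ h] at this
      refine Ideal.map_le_iff_le_comap.2 (Ideal.span_le.2 fun d hd => ?_)
      obtain ⟨x, hx, i, -, rfl⟩ : ∃ x ∈ c.A r, ∃ i, i ∈ ((σ x).support : Set S) ∧ σ x i = d := by
        simpa [and_assoc] using hd
      rw [SetLike.mem_coe, Ideal.mem_comap, Submodule.mem_colon_singleton, smul_eq_mul, mul_comm _ h]
      have h2 := hΦ i x
      have h3 : h * Φ i (algebraMap S S' x) = a * Φ i (k x hx) := by
        rw [← smul_eq_mul, ← map_smul, Algebra.smul_def, hk x hx, ← Algebra.smul_def, map_smul, smul_eq_mul]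
      rw [show σ x i = (Finsupp.lapply i).comp σ x from rfl, ← h2, h3]
      exact Ideal.mul_mem_mul (Ideal.mem_span_singleton_self _) (hcon x hx i)
    obtain ⟨t', ht', hte⟩ := Ideal.mem_span_singleton_mul.1 (h1 _ hmem)
    have h2 : h * (h * h - t') = 0 := hann _ (by rw [mul_sub, hte]; ring)
    refine hh ((Ideal.IsPrime.mem_or_mem ‹_› (?_ : h * h ∈ P)).elim id id)
    have h3 := (Ideal.IsPrime.mem_or_mem ‹_› (h2 ▸ P.zero_mem : h * (h * h - t') ∈ P)).resolve_left hh
    simpa using add_mem h3 ht'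
  -- the prime and the element
  let g : S' := ι (H₀ * h) * k x hx
  have hΦg : Φ i g ∉ P := by
    show Φ i (ι (H₀ * h) * k x hx) ∉ P
    rw [← Algebra.smul_def, map_smul, smul_eq_mul]
    exact fun h1 => (Ideal.IsPrime.mem_or_mem ‹_› h1).elim
      (fun h2 => (Ideal.IsPrime.mem_or_mem ‹_› h2).elim hH₀P hh) hi
  obtain ⟨Q, hQ, hQP, hgQ⟩ := exists_prime hgi P _ (Φ i) (hΦ i) hΦg
  haveI : Module.Finite S' M' := Module.Finite.equiv hφ.equiv
  obtain ⟨D, hD, hDA⟩ := c.memA r x hx
  let D' : Groth.Misc3Fitt.Datum S' M' r :=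
    { n := D.n
      x := fun l => φ (D.x l)
      a := D.a.map (algebraMap S S')
      hx := by
        have h := congrArg (Submodule.map hφ.equiv.toLinearMap) (Groth.Misc3Fitt.span_one_tmul (A := S') D.hx)
        rw [Submodule.map_span, ← Set.range_comp, Submodule.map_top, LinearEquiv.range] at h
        convert h using 3
        funext l
        simp [IsBaseChange.equiv_tmul]
      ha := fun l hl => by
        simp only [Matrix.map_apply, algebraMap_smul, ← map_smul, ← map_sum, D.ha l hl, map_zero] }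
  have hdet : ι h * D'.a.det = ι a * k x hx := by
    rw [← hk x hx, ← hD, RingHom.map_det]
    rfl
  have hadj : ∀ d ∈ D'.elts, ι h * d ∈ Ideal.span {ι a} := by
    intro d hd
    have hsub : D'.elts ⊆ algebraMap S S' '' D.elts := by
      rintro _ (rfl | ⟨p, hp, rfl⟩)
      · exact ⟨_, Or.inl rfl, RingHom.map_det (algebraMap S S') D.a⟩
      · exact ⟨_, Or.inr ⟨p, hp, rfl⟩, congrFun (congrFun ((algebraMap S S').map_adjugate D.a) p.1) p.2⟩
    obtain ⟨e, he, rfl⟩ := hsub hd
    obtain ⟨y, hy⟩ := hdivS e (hAC e (hDA e he))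
    exact Ideal.mem_span_singleton'.2 ⟨y, by rw [mul_comm, hy]⟩
  have hTa : ∀ m : M', ι a • m = 0 → ι h • m ∈ T := fun m hm => by
    rw [hT]
    refine ⟨1, ?_⟩
    rw [pow_one, smul_smul, ← map_mul, hω, mul_comm t ω, mul_assoc ω, mul_comm t h, hu, mul_left_comm ω, map_mul,
      mul_comm, mul_smul, hm, smul_zero]
  obtain ⟨v, hv⟩ := exists_span_smul D' (ι a) (ι h) (k x hx) hdet hadj T hTa
  refine ⟨g, Q, r, v, hQ, hQP, hgQ, exists_isBasisAway g r (fun j hj z hz => ?_) v fun m => ⟨1, ?_⟩⟩
  · -- lower Fitting ideals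
    have h0 : ∀ z ∈ Fitt.ideal S' M' j, ι H₀ * z = 0 := by
      suffices Fitt.ideal S' M' j ≤ LinearMap.ker (LinearMap.mulLeft S' (ι H₀)) from fun z hz => this hz
      rw [Groth.Misc3Fitt.ideal_of_isBaseChange hφ, Ideal.map_le_iff_le_comap]
      intro y hy
      rw [Ideal.mem_comap, LinearMap.mem_ker, LinearMap.mulLeft_apply]
      set w := ι H₀ * algebraMap S S' y
      let Ann : Ideal R' := LinearMap.ker (LinearMap.toSpanSingleton R' S' w)
      have hF : (Ideal.span F).map ρ ≤ Ann.radical := by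
        rw [Ideal.map_le_iff_le_comap, Ideal.span_le]
        intro f hf
        obtain ⟨N, hN⟩ := c.fitt j y hy f hf
        refine ⟨N, ?_⟩
        have h1 := hmap (c.content j) (LinearMap.ker (LinearMap.mulLeft S' (ι H₀))) (fun d hd => by
          rw [LinearMap.mem_ker, LinearMap.mulLeft_apply, ← map_mul, hH₀ j hj _ (Ideal.mem_map_of_mem _ hd), map_zero]) _ hN
        rw [LinearMap.mem_ker, LinearMap.mulLeft_apply, Algebra.smul_def, map_mul, ← IsScalarTower.algebraMap_apply,
          IsScalarTower.algebraMap_apply R R' S', map_pow, ← hρ, mul_left_comm] at h1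
        show ρ f ^ N • w = 0
        rw [Algebra.smul_def]
        exact h1
      have htF : t ∈ Ann.radical := by
        have h1 : t ∈ c.ideal.map ρ := by rw [hI]; exact Ideal.mem_span_singleton_self t
        have h2 : c.ideal ≤ Ideal.span F := Ideal.mul_le_left.trans le_rfl
        exact hF (Ideal.map_mono h2 h1)
      obtain ⟨N, hN⟩ : τ ∈ Ann.radical := hω ▸ Ideal.mul_mem_right ω _ htF
      have h2 : ι τ ^ N * w = 0 := by
        rw [← map_pow, ← Algebra.smul_def]; exact hN
      exact (mem_nonZeroDivisors_iff.mp (pow_mem htS N)).1 _ h2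
    refine ⟨1, ?_⟩
    rw [pow_one]
    show ι (H₀ * h) * k x hx * z = 0
    rw [map_mul]
    linear_combination (ι h * k x hx) * fitt_quotient_mul htS T (fun m hm => (hT m).1 hm) h0 z hz
  · rw [pow_one]
    have htop : Submodule.span S' (Set.range (T.mkQ ∘ D'.x)) = ⊤ := by
      rw [Set.range_comp, ← Submodule.map_span, D'.hx, Submodule.map_top, Submodule.range_mkQ]
    have : (⊤ : Submodule S' (M' ⧸ T)) ≤ (Submodule.span S' (Set.range v)).comap (LinearMap.lsmul S' _ g) := by
      rw [← htop, Submodule.span_le]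
      rintro _ ⟨l, rfl⟩
      rw [SetLike.mem_coe, Submodule.mem_comap, LinearMap.lsmul_apply]
      show (ι (H₀ * h) * k x hx) • T.mkQ (D'.x l) ∈ _
      rw [map_mul, mul_assoc, mul_smul]
      exact Submodule.smul_mem _ _ (hv l)
    exact this Submodule.mem_top

end Main

end Groth.RaynaudGruson.ContentBlowUp
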