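import Groth.Agent.RaynaudGruson.IntegralProjective
import Groth.Agent.Misc3Fitt.StrictAffine
import Mathlib

/-!
Contents of Fitting ideals over projective algebras with integral fibres, and strict transforms of modules
along blow-ups in such contents.
-/

set_option autoImplicit false
set_option linter.style.haveILetI false
universe u

namespace Groth.RaynaudGruson.ContentFitting

open TensorProduct

variable {R S : Type u} [CommRing R] [CommRing S] [Algebra R S]

/-- Coordinates for a projective algebra. -/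
theorem exists_coord [Module.Projective R S] :
    ∃ σ : S →ₗ[R] (S →₀ R), ∀ x, Finsupp.linearCombination R id (σ x) = x := by
  obtain ⟨σ, hσ⟩ := Module.projective_def'.mp ‹Module.Projective R S›
  exact ⟨σ, fun x => LinearMap.congr_fun hσ x⟩

variable {σ : S →ₗ[R] (S →₀ R)} (hσ : ∀ x, Finsupp.linearCombination R id (σ x) = x)

include hσ in
theorem mem_map_of_coord {x : S} {I : Ideal R} (h : ∀ i, σ x i ∈ I) : x ∈ I.map (algebraMap R S) := by
  rw [← hσ x, Finsupp.linearCombination_apply, Finsupp.sum]
  refine Ideal.sum_mem _ fun i _ => ?_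
  rw [Algebra.smul_def]
  exact Ideal.mul_mem_right _ _ (Ideal.mem_map_of_mem _ (h i))

theorem apply_mem_of_mem_map {x : S} {I : Ideal R} (h : x ∈ I.map (algebraMap R S)) (φ : S →ₗ[R] R) :
    φ x ∈ I := by
  have h' : x ∈ (I.map (algebraMap R S)).restrictScalars R := h
  rw [← Ideal.smul_top_eq_map] at h'
  clear h
  induction h' using Submodule.smul_induction_on' with
  | smul r hr y _ => rw [map_smul, smul_eq_mul]; exact I.mul_mem_right _ hr
  | add a _ b _ ha hb => rw [map_add]; exact add_mem ha hb

/-- The evaluation at a field-valued point. -/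
noncomputable def evalField (R S K : Type u) [CommRing R] [CommRing S] [Algebra R S] [Field K] [Algebra R K] :
    S →+* K ⊗[R] S :=
  (Algebra.TensorProduct.includeRight : S →ₐ[R] K ⊗[R] S).toRingHom

theorem apply_mem_ker {K : Type u} [Field K] [Algebra R K] {x : S} (h : evalField R S K x = 0) (φ : S →ₗ[R] R) :
    algebraMap R K (φ x) = 0 := by
  have h1 := congrArg (fun t => TensorProduct.rid R K (φ.lTensor K t)) h
  simpa [evalField, Algebra.algebraMap_eq_smul_one] using h1

include hσ in
theorem ker_evalField (p : Ideal R) [p.IsPrime] :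
    RingHom.ker (evalField R S p.ResidueField) = p.map (algebraMap R S) := by
  refine le_antisymm (fun x hx => mem_map_of_coord hσ fun i => ?_) (Ideal.map_le_iff_le_comap.mpr fun r hr => ?_)
  · rw [← Ideal.algebraMap_residueField_eq_zero (I := p)]
    exact apply_mem_ker hx ((Finsupp.lapply i).comp σ)
  · rw [Ideal.mem_comap, RingHom.mem_ker]
    show (1 : p.ResidueField) ⊗ₜ[R] algebraMap R S r = 0
    rw [Algebra.algebraMap_eq_smul_one, ← TensorProduct.smul_tmul, ← Algebra.algebraMap_eq_smul_one,
      Ideal.algebraMap_residueField_eq_zero.mpr hr, zero_tmul]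

include hσ in
theorem isPrime_map (h : FlatCA.GeomIntegralFibres R S) (p : Ideal R) [p.IsPrime] :
    (Ideal.map (algebraMap R S) p).IsPrime := by
  haveI := IntegralProjective.geomIntegralFibres_iff.mp h p.ResidueField
  rw [← ker_evalField hσ p]
  exact RingHom.ker_isPrime _

include hσ in
/-- An element killed by an element not vanishing on the fibre vanishes over the local ring. -/
theorem exists_smul_eq_zero (hgi : FlatCA.GeomIntegralFibres R S) (p : Ideal R) [p.IsPrime] {s : S}
    (hs : s ∉ p.map (algebraMap R S)) {x : S} (hsx : s * x = 0) : ∃ u ∉ p, u • x = 0 := by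
  classical
  let 𝔞 : Ideal R := Ideal.span (σ x '' (σ x).support)
  have hfg : 𝔞.FG := Submodule.fg_span ((σ x).support.finite_toSet.image _)
  have hmem : ∀ i, σ x i ∈ 𝔞 := fun i => by
    by_cases hi : σ x i = 0
    · rw [hi]; exact zero_mem _
    · exact Ideal.subset_span ⟨i, Finsupp.mem_support_iff.mpr hi, rfl⟩
  have key : ∀ m (c : Fin m → R) (y : Fin m → S) (u : R), u ∉ p → (∀ j, c j ∈ 𝔞) → u • x = ∑ j, c j • y j →
      ∃ u ∉ p, ∀ φ : S →ₗ[R] R, u * φ x ∈ p * 𝔞 := by
    intro m
    induction m with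
    | zero =>
      intro c y u hu _ he
      refine ⟨u, hu, fun φ => ?_⟩
      rw [← smul_eq_mul u, ← map_smul, he]
      simp
    | succ m ih =>
      intro c y u hu hc he
      by_cases hy : ∀ j, y j ∈ p.map (algebraMap R S)
      · refine ⟨u, hu, fun φ => ?_⟩
        rw [← smul_eq_mul u, ← map_smul, he, map_sum]
        refine Ideal.sum_mem _ fun j _ => ?_
        rw [map_smul, smul_eq_mul, mul_comm (c j)]
        exact Ideal.mul_mem_mul (apply_mem_of_mem_map (hy j) φ) (hc j)
      push Not at hy
      obtain ⟨j, hj⟩ := hy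
      obtain ⟨i, hi⟩ : ∃ i, σ (s * y j) i ∉ p := by
        by_contra hcon
        push Not at hcon
        exact ((isPrime_map hσ hgi p).mem_or_mem (mem_map_of_coord hσ hcon)).elim hs hj
      let ψ : S → R := fun z => σ (s * z) i
      have h0 : ψ (u • x) = 0 := by simp [ψ, hsx]
      have h1 : ∑ k, c k * ψ (y k) = 0 := by
        rw [he] at h0
        simpa [ψ, Finset.mul_sum, Finsupp.finsetSum_apply] using h0
      have h1' : c j * ψ (y j) + ∑ k : Fin m, c (j.succAbove k) * ψ (y (j.succAbove k)) = 0 := by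
        rw [← Fin.sum_univ_succAbove (fun k => c k * ψ (y k)) j]; exact h1
      refine ih (c ∘ j.succAbove) (fun k => ψ (y j) • y (j.succAbove k) - ψ (y (j.succAbove k)) • y j) (ψ (y j) * u)
        (fun hmul => (Ideal.IsPrime.mem_or_mem ‹_› hmul).elim hi hu) (fun k => hc _) ?_
      rw [mul_smul, he, Fin.sum_univ_succAbove _ j, smul_add, Finset.smul_sum]
      simp only [smul_sub, smul_smul, Function.comp_apply, Finset.sum_sub_distrib, ← Finset.sum_smul]
      rw [show ∑ k : Fin m, c (j.succAbove k) * ψ (y (j.succAbove k)) = -(c j * ψ (y j)) from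
        eq_neg_of_add_eq_zero_right h1', neg_smul, sub_neg_eq_add, add_comm]
      congr 1
      · exact Finset.sum_congr rfl fun k _ => by rw [mul_comm]
      · rw [mul_comm]
  obtain ⟨u, hu, hle⟩ := key _ (fun j => σ x ((σ x).support.equivFin.symm j))
    (fun j => ((σ x).support.equivFin.symm j : S)) 1 (fun h1 => Ideal.IsPrime.ne_top ‹_› ((Ideal.eq_top_iff_one p).mpr h1))
    (fun j => hmem _) (by
      rw [one_smul, Equiv.sum_comp (σ x).support.equivFin.symm (fun i => σ x (i : S) • (i : S)),
        Finset.sum_coe_sort (σ x).support (fun i => σ x i • i)]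
      conv_lhs => rw [← hσ x, Finsupp.linearCombination_apply]
      rfl)
  let L := Localization.AtPrime p
  have hbot : 𝔞.map (algebraMap R L) = ⊥ := by
    refine Submodule.eq_bot_of_le_smul_of_le_jacobson_bot (IsLocalRing.maximalIdeal L) _ (hfg.map _) ?_
      (IsLocalRing.maximalIdeal_le_jacobson ⊥)
    rw [smul_eq_mul, ← Localization.AtPrime.map_eq_maximalIdeal, ← Ideal.map_mul, Ideal.map_le_iff_le_comap,
      Ideal.span_le]
    rintro _ ⟨i, _, rfl⟩
    have h2 := Ideal.mem_map_of_mem (algebraMap R L) (hle ((Finsupp.lapply i).comp σ))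
    rw [map_mul] at h2
    exact (Ideal.unit_mul_mem_iff_mem _ (IsLocalization.map_units L (⟨u, hu⟩ : p.primeCompl))).mp h2
  have hk : ∀ i, ∃ v ∉ p, v * σ x i = 0 := fun i => by
    obtain ⟨⟨v, hv⟩, hvx⟩ := (IsLocalization.map_eq_zero_iff p.primeCompl L _).mp
      ((Submodule.eq_bot_iff _).mp hbot _ (Ideal.mem_map_of_mem _ (hmem i)))
    exact ⟨v, hv, hvx⟩
  choose v hv hvx using hk
  refine ⟨∏ i ∈ (σ x).support, v i, fun h1 => ?_, ?_⟩
  · obtain ⟨i, _, hi⟩ := (Ideal.IsPrime.prod_mem_iff (hp := ‹p.IsPrime›)).mp h1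
    exact hv i hi
  · rw [← hσ ((∏ i ∈ (σ x).support, v i) • x), map_smul σ]
    convert map_zero (Finsupp.linearCombination R (id : S → S)) using 2
    ext i
    by_cases hi : i ∈ (σ x).support
    · rw [Finsupp.smul_apply, smul_eq_mul, ← Finset.mul_prod_erase _ _ hi, mul_comm (v i), mul_assoc, hvx,
        mul_zero, Finsupp.zero_apply]
    · rw [Finsupp.smul_apply, Finsupp.notMem_support_iff.mp hi, smul_zero, Finsupp.zero_apply]

variable {M : Type u} [AddCommGroup M] [Module S M] [Module.Finite S M]

include hσ in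
/-- The lower Fitting ideals are killed by powers of `f`. -/
theorem fitt_killed (hgi : FlatCA.GeomIntegralFibres R S) (f : R) {k r : ℕ} (hk : k < r)
    (hfree : ∀ (p : Ideal R) [p.IsPrime] [(Ideal.map (algebraMap R S) p).IsPrime], f ∉ p →
      Module.Free (Localization.AtPrime (Ideal.map (algebraMap R S) p)) (LocalizedModule (Ideal.map (algebraMap R S) p).primeCompl M) ∧
      Module.rank (Localization.AtPrime (Ideal.map (algebraMap R S) p)) (LocalizedModule (Ideal.map (algebraMap R S) p).primeCompl M) = r)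
    {x : S} (hx : x ∈ Fitt.ideal S M k) : ∃ n : ℕ, f ^ n • x = 0 := by
  let J : Ideal R := LinearMap.ker (LinearMap.toSpanSingleton R S x)
  have hfJ : f ∈ J.radical := by
    rw [Ideal.radical_eq_sInf, Submodule.mem_sInf]
    rintro p ⟨hJp, hp⟩
    by_contra hfp
    haveI := hp
    haveI := isPrime_map hσ hgi p
    obtain ⟨hF, hr⟩ := hfree p hfp
    obtain ⟨s, hs, hsx⟩ := Groth.Misc3Fitt.exists_smul_eq_zero_of_free hk (Ideal.map (algebraMap R S) p) hF
      (Module.finrank_eq_of_rank_eq hr) hx
    obtain ⟨u, hu, hux⟩ := exists_smul_eq_zero hσ hgi p hs hsx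
    exact hu (hJp hux)
  obtain ⟨n, hn⟩ := hfJ
  exact ⟨n, hn⟩

include hσ in
/-- The centre: the content of finitely many generators of the `r`-th Fitting ideal closed under adjugation. -/
theorem exists_center (hgi : FlatCA.GeomIntegralFibres R S) (f : R) (r : ℕ)
    (hfree : ∀ (p : Ideal R) [p.IsPrime] [(Ideal.map (algebraMap R S) p).IsPrime], f ∉ p →
      Module.Free (Localization.AtPrime (Ideal.map (algebraMap R S) p)) (LocalizedModule (Ideal.map (algebraMap R S) p).primeCompl M) ∧
      Module.rank (Localization.AtPrime (Ideal.map (algebraMap R S) p)) (LocalizedModule (Ideal.map (algebraMap R S) p).primeCompl M) = r) :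
    ∃ A : Set S, A.Finite ∧ (∀ x ∈ A, ∃ D : Groth.Misc3Fitt.Datum S M r, D.a.det = x ∧ D.elts ⊆ A) ∧
      ∃ N : ℕ, f ^ N ∈ Ideal.span (⋃ x ∈ A, σ x '' (σ x).support) := by
  classical
  let B : Set R := {b | ∃ (D : Groth.Misc3Fitt.Datum S M r) (i : S), b = σ D.a.det i}
  have hrad : f ∈ (Ideal.span B).radical := by
    rw [Ideal.radical_eq_sInf, Submodule.mem_sInf]
    rintro p ⟨hle, hp⟩
    by_contra hfp
    haveI := hp
    haveI := isPrime_map hσ hgi p
    obtain ⟨hF, hr⟩ := hfree p hfp
    haveI := hF
    haveI : Module.Finite (Localization.AtPrime (Ideal.map (algebraMap R S) p))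
        (LocalizedModule (Ideal.map (algebraMap R S) p).primeCompl M) :=
      Module.Finite.of_isLocalizedModule (Ideal.map (algebraMap R S) p).primeCompl (LocalizedModule.mkLinearMap _ M)
    have h := Groth.Misc3Fitt.ideal_localized (M := M) (Ideal.map (algebraMap R S) p).primeCompl r
    rw [Groth.Misc3Fitt.ideal_of_basis (Module.finBasisOfFinrankEq _ _ (Module.finrank_eq_of_rank_eq hr)),
      if_pos le_rfl] at h
    refine (Groth.Misc3Fitt.map_eq_top_iff_of_atPrime _ _).mp h.symm
      (Groth.Misc3Fitt.fitt_le_span_det.trans (Ideal.span_le.2 ?_))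
    rintro _ ⟨D, rfl⟩
    exact mem_map_of_coord hσ fun i => hle (Ideal.subset_span ⟨D, i, rfl⟩)
  obtain ⟨N, hN⟩ := hrad
  obtain ⟨s, hs, hfs⟩ := Submodule.mem_span_finite_of_mem_span hN
  choose D i hD using fun b : s => hs b.2
  let A : Set S := ⋃ b : s, Set.range fun τ => ((D b).member τ).a.det
  refine ⟨A, Set.finite_iUnion fun b => Set.finite_range _, ?_, N, ?_⟩
  · intro x hx
    obtain ⟨b, τ, rfl⟩ := Set.mem_iUnion.1 hx
    refine ⟨(D b).member τ, rfl, fun e he => ?_⟩
    obtain ⟨τ', rfl⟩ := (D b).elts_member τ he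
    exact Set.mem_iUnion.2 ⟨b, τ', rfl⟩
  · let c : Ideal R := Ideal.span (⋃ x ∈ A, σ x '' (σ x).support)
    have hA : Ideal.span A ≤ c.map (algebraMap R S) := Ideal.span_le.2 fun x hx => mem_map_of_coord hσ fun i => by
      by_cases hi : σ x i = 0
      · rw [hi]; exact zero_mem _
      · exact Ideal.subset_span (Set.mem_biUnion hx ⟨i, Finsupp.mem_support_iff.mpr hi, rfl⟩)
    refine Submodule.span_le.2 (fun b hb => ?_) hfs
    have h1 := hA (Ideal.span_mono (Set.subset_iUnion (fun b : s => Set.range fun τ => ((D b).member τ).a.det) ⟨b, hb⟩)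
      (D ⟨b, hb⟩).det_mem_span_members)
    have h2 := apply_mem_of_mem_map h1 ((Finsupp.lapply (i ⟨b, hb⟩)).comp σ)
    rw [LinearMap.comp_apply, Finsupp.lapply_apply, ← hD ⟨b, hb⟩] at h2
    exact h2

/-- A finite module with generators in number `r` near `g` and vanishing lower Fitting ideals is free near `g`. -/
theorem free_away {T N : Type u} [CommRing T] [AddCommGroup N] [Module T N] [Module.Finite T N] (g : T) (r : ℕ)
    [Nontrivial (Localization.Away g)] (h0 : ∀ k, k < r → Fitt.ideal T N k = ⊥)
    (v : Fin r → LocalizedModule (Submonoid.powers g) N)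
    (hv : Submodule.span (Localization.Away g) (Set.range v) = ⊤) :
    Module.Free (Localization.Away g) (LocalizedModule (Submonoid.powers g) N) ∧
      Module.rank (Localization.Away g) (LocalizedModule (Submonoid.powers g) N) = r := by
  have hli : LinearIndependent (Localization.Away g) v := by
    rw [Fintype.linearIndependent_iff]
    intro c hc i
    have hr : 0 < r := Fin.pos i
    have hbot : Groth.Misc3Fitt.fitt (R := Localization.Away g) v (r - 1) = ⊥ := by
      haveI : Module.Finite (Localization.Away g) (LocalizedModule (Submonoid.powers g) N) :=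
        Module.Finite.of_isLocalizedModule (Submonoid.powers g) (LocalizedModule.mkLinearMap _ N)
      rw [← Groth.Misc3Fitt.ideal_eq_fitt v hv, Groth.Misc3Fitt.ideal_localized, h0 _ (by omega), Ideal.map_bot]
    have h2 : Groth.Misc3Fitt.minor (fun _ : Fin 1 => i) (fun _ => c) ∈
        Groth.Misc3Fitt.fitt (R := Localization.Away g) v (r - 1) := by
      rw [Groth.Misc3Fitt.fitt, show r - (r - 1) = 1 by omega]
      exact Groth.Misc3Fitt.minor_mem _ fun _ => Groth.Misc3Fitt.mem_rel.2 hc
    rw [hbot, Ideal.mem_bot] at h2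
    simpa [Groth.Misc3Fitt.minor] using h2
  let b := Module.Basis.mk hli hv.ge
  exact ⟨Module.Free.of_basis b, by rw [rank_eq_card_basis b, Fintype.card_fin]⟩

section Chart

variable {R' S' M' : Type u} [CommRing R'] [Algebra R R'] [CommRing S'] [Algebra S S'] [Algebra R' S'] [Algebra R S']
  [IsScalarTower R S S'] [IsScalarTower R R' S'] [Algebra.IsPushout R S R' S']
  [AddCommGroup M'] [Module S' M'] [Module S M'] [IsScalarTower S S' M']

/-- Elements whose base-changed coordinates avoid `P` are not nilpotent and lie outside `P S'`. -/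
theorem notMem_of_coord (hgi : FlatCA.GeomIntegralFibres R S) (P : Ideal R') [P.IsPrime] {k : S'}
    (φ : S →ₗ[R] R) (Φ : S' →ₗ[R'] R') (hΦ : ∀ x, Φ (algebraMap S S' x) = algebraMap R R' (φ x))
    (hk : Φ k ∉ P) : k ∉ P.map (algebraMap R' S') ∧ ¬ IsNilpotent k := by
  constructor
  · intro hmem
    exact hk (apply_mem_of_mem_map hmem Φ)
  · haveI : Algebra.IsPushout R R' S S' := Algebra.IsPushout.symm inferInstance
    haveI := IntegralProjective.geomIntegralFibres_iff.mp hgi P.ResidueField
    let e := Algebra.IsPushout.equiv R R' S S'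
    let ψ : R' ⊗[R] S →ₐ[R] P.ResidueField ⊗[R] S :=
      Algebra.TensorProduct.map (IsScalarTower.toAlgHom R R' P.ResidueField) (AlgHom.id R S)
    intro hnil
    have h0 : ψ (e.symm k) = 0 := (hnil.map e.symm |>.map ψ).eq_zero
    have key : ∀ t : R' ⊗[R] S, TensorProduct.rid R P.ResidueField (φ.lTensor P.ResidueField (ψ t)) =
        algebraMap R' P.ResidueField (Φ (e t)) := by
      intro t
      induction t with
      | zero => simp
      | add a b ha hb => simp [map_add, ha, hb]
      | tmul a x =>
        have : e (a ⊗ₜ x) = a • algebraMap S S' x := by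
          rw [Algebra.smul_def]; exact Algebra.IsPushout.equiv_tmul R R' S S' a x
        rw [this, map_smul, hΦ]
        simp [ψ, Algebra.smul_def, ← IsScalarTower.algebraMap_apply, mul_comm]
    have h1 := key (e.symm k)
    rw [h0, map_zero, map_zero, e.apply_symm_apply, eq_comm, Ideal.algebraMap_residueField_eq_zero] at h1
    exact hk h1

theorem exists_coord_ext (φ : S →ₗ[R] R) :
    ∃ Φ : S' →ₗ[R'] R', ∀ x, Φ (algebraMap S S' x) = algebraMap R R' (φ x) := by
  haveI : Algebra.IsPushout R R' S S' := Algebra.IsPushout.symm inferInstance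
  have h : IsBaseChange R' (IsScalarTower.toAlgHom R S S').toLinearMap := Algebra.IsPushout.out
  exact ⟨h.lift ((Algebra.linearMap R R').comp φ), fun x => h.lift_eq _ x⟩

include hσ in
/-- The strict transform is free of rank `r` near every generic point of a fibre. -/
theorem chart (hgi : FlatCA.GeomIntegralFibres R S) [Module.Flat R S] (f : R) (r : ℕ)
    (hkill : ∀ k, k < r → ∀ x ∈ Fitt.ideal S M k, ∃ n : ℕ, f ^ n • x = 0)
    (A : Set S) (hA : ∀ x ∈ A, ∃ D : Groth.Misc3Fitt.Datum S M r, D.a.det = x ∧ D.elts ⊆ A)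
    (a c₀ : R) (hc₀ : c₀ ∈ Ideal.span (⋃ x ∈ A, σ x '' (σ x).support)) (hac : a = f * c₀)
    (ha : algebraMap R R' a ∈ nonZeroDivisors R')
    (hdvd : ∀ d ∈ Ideal.span (⋃ x ∈ A, σ x '' (σ x).support),
      algebraMap R R' (f * d) ∈ Ideal.span {algebraMap R R' a})
    (φ : M →ₗ[S] M') (hφ : IsBaseChange S' φ) (P : Ideal R') [P.IsPrime] :
    ∃ g : S', g ∉ P.map (algebraMap R' S') ∧
      Module.Free (Localization.Away g)
        (LocalizedModule (Submonoid.powers g) (M' ⧸ FlatCA.powTorsion S' (algebraMap R S' a) M')) ∧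
      Module.rank (Localization.Away g)
        (LocalizedModule (Submonoid.powers g) (M' ⧸ FlatCA.powTorsion S' (algebraMap R S' a) M')) = r := by
  classical
  haveI : Algebra.IsPushout R R' S S' := Algebra.IsPushout.symm inferInstance
  haveI : Module.Flat R' S' := Module.Flat.isBaseChange R R' S S' (Algebra.IsPushout.out)
  have hfc : algebraMap R R' f ∈ nonZeroDivisors R' ∧ algebraMap R R' c₀ ∈ nonZeroDivisors R' := by
    rwa [← mul_mem_nonZeroDivisors, ← map_mul, ← hac]
  have hS' : ∀ z : R', z ∈ nonZeroDivisors R' → algebraMap R' S' z ∈ nonZeroDivisors S' := fun z hz => by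
    rw [mem_nonZeroDivisors_iff_right]
    intro w hw
    refine Module.Flat.isSMulRegular_of_nonZeroDivisors (M := S') hz ?_
    show z • w = z • (0 : S')
    rw [Algebra.smul_def, mul_comm, hw, smul_zero]
  let C : Set R := ⋃ x ∈ A, σ x '' (σ x).support
  have hdiv : ∀ d ∈ Ideal.span C, algebraMap R R' d ∈ Ideal.span {algebraMap R R' c₀} := by
    intro d hd
    obtain ⟨t, ht⟩ := Ideal.mem_span_singleton'.1 (hdvd d hd)
    refine Ideal.mem_span_singleton'.2 ⟨t, (mul_cancel_left_mem_nonZeroDivisors hfc.1).1 ?_⟩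
    rw [← map_mul, ← ht, hac, map_mul]
    ring
  let b : S' := algebraMap R' S' (algebraMap R R' c₀)
  have hAS : ∀ x ∈ A, ∃ k, algebraMap S S' x = b * k := by
    intro x hx
    have h1 : x ∈ (Ideal.span C).map (algebraMap R S) := mem_map_of_coord hσ fun i => by
      by_cases hi : σ x i = 0
      · rw [hi]; exact zero_mem _
      · exact Ideal.subset_span (Set.mem_biUnion hx ⟨i, Finsupp.mem_support_iff.mpr hi, rfl⟩)
    have hle : (Ideal.span C).map (algebraMap R S) ≤ (Ideal.span {b}).comap (algebraMap S S') := by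
      refine Ideal.map_le_iff_le_comap.2 fun d hd => ?_
      show algebraMap S S' (algebraMap R S d) ∈ Ideal.span {b}
      rw [← IsScalarTower.algebraMap_apply, IsScalarTower.algebraMap_apply R R' S']
      obtain ⟨t, ht⟩ := Ideal.mem_span_singleton'.1 (hdiv d hd)
      exact Ideal.mem_span_singleton'.2 ⟨algebraMap R' S' t, by rw [← ht, map_mul]⟩
    have h2 : algebraMap S S' x ∈ Ideal.span {b} := hle h1
    obtain ⟨k, hk⟩ := Ideal.mem_span_singleton'.1 h2
    exact ⟨k, by rw [← hk, mul_comm]⟩
  choose k hk using hAS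
  choose Φ hΦ using fun i => exists_coord_ext (R' := R') (S' := S') ((Finsupp.lapply i).comp σ)
  obtain ⟨x, hx, i, hi⟩ : ∃ x, ∃ hx : x ∈ A, ∃ i, Φ i (k x hx) ∉ P := by
    by_contra hcon
    push Not at hcon
    refine Ideal.IsPrime.ne_top ‹_› ((Ideal.eq_top_iff_one P).2 ?_)
    have h1 : Ideal.span C ≤ ((Ideal.span {algebraMap R R' c₀}) * P).comap (algebraMap R R') := by
      rw [Ideal.span_le]
      intro d hd
      obtain ⟨x, hx, i, _, rfl⟩ : ∃ x ∈ A, ∃ i, i ∈ ((σ x).support : Set S) ∧ σ x i = d := by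
        simpa [C, and_assoc] using hd
      rw [SetLike.mem_coe, Ideal.mem_comap]
      have h2 := hΦ i x
      rw [hk x hx, ← Algebra.smul_def, map_smul, smul_eq_mul] at h2
      rw [show σ x i = (Finsupp.lapply i).comp σ x from rfl, ← h2]
      exact Ideal.mul_mem_mul (Ideal.mem_span_singleton_self _) (hcon x hx i)
    obtain ⟨t, ht, hte⟩ := Ideal.mem_span_singleton_mul.1 (h1 hc₀)
    rwa [← (mul_cancel_left_mem_nonZeroDivisors hfc.2).1 (hte.trans (mul_one _).symm)]
  let g := k x hx
  obtain ⟨hgP, hnil⟩ := notMem_of_coord hgi P _ (Φ i) (hΦ i) hi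
  haveI : Nontrivial (Localization.Away g) := by
    refine (subsingleton_or_nontrivial _).resolve_left fun h => hnil ?_
    obtain ⟨n, hn⟩ := (IsLocalization.subsingleton_iff (S := Localization.Away g) (M := Submonoid.powers g)).1 h
    exact ⟨n, hn⟩
  haveI : Module.Finite S' M' := Module.Finite.equiv hφ.equiv
  set T := FlatCA.powTorsion S' (algebraMap R S' a) M' with hT
  have hab : algebraMap R S' a = algebraMap R S' f * b := by
    rw [hac, map_mul, IsScalarTower.algebraMap_apply R R' S' c₀]
  obtain ⟨D, hD, hDA⟩ := hA x hx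
  let D' : Groth.Misc3Fitt.Datum S' M' r :=
    { n := D.n
      x := fun l => φ (D.x l)
      a := D.a.map (algebraMap S S')
      hx := by
        have h := congrArg (Submodule.map hφ.equiv.toLinearMap) (Groth.Misc3Fitt.span_one_tmul (A := S') D.hx)
        rw [Submodule.map_span, ← Set.range_comp, Submodule.map_top, LinearEquiv.range] at h
        convert h using 3
        funext l
        simp [IsBaseChange.equiv_tmul]
      ha := fun l hl => by
        simp only [Matrix.map_apply, algebraMap_smul, ← map_smul, ← map_sum, D.ha l hl, map_zero] }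
  have hdet : D'.a.det = b * g := by
    rw [← hk x hx, ← hD, RingHom.map_det]
    rfl
  have hadj : ∀ d ∈ D'.elts, d ∈ Ideal.span {b} := by
    intro d hd
    have hmap : D'.elts ⊆ algebraMap S S' '' D.elts := by
      rintro _ (rfl | ⟨p, hp, rfl⟩)
      · exact ⟨_, Or.inl rfl, RingHom.map_det (algebraMap S S') D.a⟩
      · exact ⟨_, Or.inr ⟨p, hp, rfl⟩, congrFun (congrFun ((algebraMap S S').map_adjugate D.a) p.1) p.2⟩
    obtain ⟨e, he, rfl⟩ := hmap hd
    exact Ideal.mem_span_singleton'.2 ⟨k e (hDA he), by rw [mul_comm, ← hk]⟩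
  have hTb : ∀ m : M', b • m = 0 → m ∈ T := fun m hm => by
    refine Submodule.mem_iSup_of_mem 1 ?_
    rw [Submodule.mem_torsionBy_iff, pow_one, hab, mul_smul, hm, smul_zero]
  obtain ⟨v, hv⟩ := D'.exists_span_quotient b g hdet hadj T hTb
  let μ := LocalizedModule.mkLinearMap (Submonoid.powers g) (M' ⧸ T)
  have hgen : Submodule.span (Localization.Away g) (Set.range (μ ∘ v)) = ⊤ := by
    have htx : Submodule.span S' (Set.range (T.mkQ ∘ D'.x)) = ⊤ := by
      rw [Set.range_comp, ← Submodule.map_span, D'.hx, Submodule.map_top, Submodule.range_mkQ]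
    have htop := span_eq_top_of_isLocalizedModule (Localization.Away g) (Submonoid.powers g) μ htx
    rw [eq_top_iff, ← htop, Submodule.span_le]
    rintro _ ⟨_, ⟨l, rfl⟩, rfl⟩
    obtain ⟨w, hw⟩ := IsLocalization.Away.algebraMap_isUnit (S := Localization.Away g) g
    have h1 : algebraMap S' (Localization.Away g) g • μ (T.mkQ (D'.x l)) ∈
        Submodule.span (Localization.Away g) (Set.range (μ ∘ v)) := by
      rw [algebraMap_smul, ← map_smul, Set.range_comp]
      exact Submodule.span_subset_span S' _ _ (by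
        rw [← Submodule.map_span]; exact Submodule.mem_map_of_mem (hv l))
    have h2 := Submodule.smul_mem _ (↑w⁻¹ : Localization.Away g) h1
    rwa [← hw, smul_smul, Units.inv_mul, one_smul] at h2
  have hlow : ∀ j, j < r → Fitt.ideal S' (M' ⧸ T) j = ⊥ := by
    intro j hj
    have hanzd : algebraMap S S' (algebraMap R S a) ∈ nonZeroDivisors S' := by
      rw [← IsScalarTower.algebraMap_apply, IsScalarTower.algebraMap_apply R R' S']
      exact hS' _ ha
    have h := Groth.Misc3Fitt.ideal_strict_eq_bot (M := M) (k := j) (algebraMap R S a) S' hanzd (fun q hq haq z hz => by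
      obtain ⟨n, hn⟩ := hkill j hj z hz
      refine ⟨algebraMap R S (f ^ n), fun hmem => haq ?_, by rw [← Algebra.smul_def, hn]⟩
      rw [map_pow] at hmem
      rw [hac, map_mul]
      exact q.mul_mem_right _ (hq.mem_of_pow_mem n hmem))
    rw [← IsScalarTower.algebraMap_apply R S S' a] at h
    have hmap : (FlatCA.powTorsion S' (algebraMap R S' a) (S' ⊗[S] M)).map
        (hφ.equiv : S' ⊗[S] M →ₗ[S'] M') = T := by
      rw [hT, FlatCA.powTorsion, FlatCA.powTorsion, Submodule.map_iSup]
      refine iSup_congr fun n => Submodule.ext fun m => ?_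
      rw [Submodule.mem_map_equiv, Submodule.mem_torsionBy_iff, Submodule.mem_torsionBy_iff, ← map_smul,
        LinearEquiv.map_eq_zero_iff]
    rw [← Groth.Misc3Fitt.ideal_congr (Submodule.Quotient.equiv _ T hφ.equiv hmap)]
    exact h
  obtain ⟨h1, h2⟩ := free_away g r hlow (μ ∘ v) hgen
  exact ⟨g, hgP, h1, h2⟩

end Chart

end Groth.RaynaudGruson.ContentFitting
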