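import Groth.Agent.RaynaudGruson.CompletionFree
import Groth.Agent.S6346
import Mathlib

/-!
Contents of vectors `x ∈ Mⁿ` (smallest `F ⊆ Rⁿ` with `x ∈ F ⊙ M`) prime by prime, and their gluing:
a flat module whose localisations are free and which is generically free on every `V(p)` is
Mittag-Leffler.
-/

set_option autoImplicit false
universe u

namespace Groth.RaynaudGruson

open TensorProduct

variable {R M : Type u} [CommRing R] [AddCommGroup M] [Module R M] {n : ℕ}

/-- `(v, m) ↦ v • m`. -/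
def sv : (Fin n → R) →ₗ[R] M →ₗ[R] (Fin n → M) :=
  LinearMap.mk₂ R (fun v m i => v i • m) (fun v w m => funext fun i => add_smul _ _ _)
    (fun c v m => funext fun i => mul_smul _ _ _) (fun v m m' => funext fun i => smul_add _ _ _)
    (fun c v m => funext fun i => smul_comm _ _ _)

@[simp] theorem sv_apply (v : Fin n → R) (m : M) (i : Fin n) : sv v m i = v i • m := rfl

variable (M) in
/-- `F ⊙ M ⊆ Mⁿ`. -/
def odot (F : Submodule R (Fin n → R)) : Submodule R (Fin n → M) :=
  Submodule.map₂ sv F ⊤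

/-- `F ⊗ M → Mⁿ`. -/
noncomputable def theta (F : Submodule R (Fin n → R)) : F ⊗[R] M →ₗ[R] (Fin n → M) :=
  TensorProduct.lift (sv.comp F.subtype)

theorem range_theta (F : Submodule R (Fin n → R)) : LinearMap.range (theta (M := M) F) = odot M F := by
  refine le_antisymm ?_ (Submodule.map₂_le.mpr fun v hv m _ => ⟨⟨v, hv⟩ ⊗ₜ m, rfl⟩)
  rintro _ ⟨z, rfl⟩
  induction z with
  | zero => simp
  | tmul v m => exact Submodule.apply_mem_map₂ _ v.2 trivial
  | add a b ha hb => rw [map_add]; exact add_mem ha hb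

/-- `Rⁿ ⊗ M ≅ Mⁿ`. -/
noncomputable def piTheta : (Fin n → R) ⊗[R] M ≃ₗ[R] (Fin n → M) :=
  (TensorProduct.comm R _ _).trans (TensorProduct.piScalarRight R R M (Fin n))

theorem piTheta_tmul (v : Fin n → R) (m : M) : piTheta (v ⊗ₜ m) = sv v m := by
  ext i; simp [piTheta]

theorem theta_eq (F : Submodule R (Fin n → R)) (z : F ⊗[R] M) :
    theta F z = piTheta (F.subtype.rTensor M z) := by
  induction z with
  | zero => simp
  | tmul v m => simp [theta, piTheta_tmul]
  | add a b ha hb => simp [map_add, ha, hb]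

theorem theta_injective [Module.Flat R M] (F : Submodule R (Fin n → R)) :
    Function.Injective (theta (M := M) F) := fun a b h => by
  rw [theta_eq, theta_eq] at h
  exact Module.Flat.rTensor_preserves_injective_linearMap F.subtype F.injective_subtype (piTheta.injective h)

theorem mem_range_rTensor_iff (F : Submodule R (Fin n → R)) (z : (Fin n → R) ⊗[R] M) :
    z ∈ LinearMap.range (F.subtype.rTensor M) ↔ piTheta z ∈ odot M F := by
  rw [← range_theta]
  constructor
  · rintro ⟨w, rfl⟩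
    exact ⟨w, theta_eq F w⟩
  · rintro ⟨w, hw⟩
    rw [theta_eq] at hw
    exact ⟨w, piTheta.injective hw⟩

theorem smul_mem_odot {F G : Submodule R (Fin n → R)} {t : R} (h : ∀ v ∈ F, t • v ∈ G)
    {x : Fin n → M} (hx : x ∈ odot M F) : t • x ∈ odot M G := by
  have : odot M F ≤ (odot M G).comap (LinearMap.lsmul R (Fin n → M) t) :=
    Submodule.map₂_le.mpr fun v hv m _ => by
      show t • sv v m ∈ odot M G
      rw [show t • sv v m = sv (t • v) m by simp [map_smul]]
      exact Submodule.apply_mem_map₂ _ (h v hv) trivial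
  exact this hx

/-- If `s x ∈ G ⊙ M` then `x ∈ (G : s) ⊙ M`. -/
theorem mem_odot_colon [Module.Flat R M] (G : Submodule R (Fin n → R)) {s : R} {x : Fin n → M}
    (h : s • x ∈ odot M G) : x ∈ odot M (G.comap (LinearMap.lsmul R (Fin n → R) s)) := by
  set G' := G.comap (LinearMap.lsmul R (Fin n → R) s)
  have hex : Function.Exact G'.subtype (G.mkQ ∘ₗ LinearMap.lsmul R (Fin n → R) s) := fun v => by
    constructor
    · exact fun hv => ⟨⟨v, (Submodule.Quotient.mk_eq_zero G).mp hv⟩, rfl⟩
    · rintro ⟨w, rfl⟩; exact (Submodule.Quotient.mk_eq_zero G).mpr w.2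
  obtain ⟨z, rfl⟩ := (piTheta (R := R) (M := M) (n := n)).surjective x
  refine (mem_range_rTensor_iff G' z).mp ((Module.Flat.rTensor_exact M hex z).mp ?_)
  have hz : s • z ∈ LinearMap.range (G.subtype.rTensor M) := (mem_range_rTensor_iff G _).mpr (by rwa [map_smul])
  obtain ⟨w, hw⟩ := hz
  have : (G.mkQ ∘ₗ LinearMap.lsmul R (Fin n → R) s).rTensor M z = G.mkQ.rTensor M (s • z) := by
    rw [LinearMap.rTensor_comp, LinearMap.comp_apply]
    congr 1
  rw [this, ← hw, ← LinearMap.comp_apply, ← LinearMap.rTensor_comp,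
    show G.mkQ ∘ₗ G.subtype = 0 from LinearMap.ext fun w => (Submodule.Quotient.mk_eq_zero G).mpr w.2]
  simp

/-- Membership after inverting elements outside `p`. -/
def Mem (p : Ideal R) (F : Submodule R (Fin n → R)) (x : Fin n → M) : Prop :=
  ∃ s ∉ p, s • x ∈ odot M F

/-- Inclusion after inverting elements outside `p`. -/
def Le (p : Ideal R) (F G : Submodule R (Fin n → R)) : Prop :=
  ∀ v ∈ F, ∃ s ∉ p, s • v ∈ G

/-- `F` is the content of `x` at `p`. -/
def Min (p : Ideal R) (F : Submodule R (Fin n → R)) (x : Fin n → M) : Prop :=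
  Mem p F x ∧ ∀ G, Mem p G x → Le p F G

theorem Le.trans {p : Ideal R} [p.IsPrime] {F G H : Submodule R (Fin n → R)} (h₁ : Le p F G) (h₂ : Le p G H) :
    Le p F H := fun v hv => by
  obtain ⟨s, hs, hsv⟩ := h₁ v hv
  obtain ⟨t, ht, htv⟩ := h₂ _ hsv
  exact ⟨t * s, p.primeCompl.mul_mem ht hs, by rwa [mul_smul]⟩

theorem Le.of_le {p : Ideal R} [p.IsPrime] {F G : Submodule R (Fin n → R)} (h : F ≤ G) : Le p F G :=
  fun v hv => ⟨1, p.primeCompl.one_mem, by rw [one_smul]; exact h hv⟩

theorem Le.exists_uniform [IsNoetherianRing R] {p : Ideal R} [p.IsPrime] {F G : Submodule R (Fin n → R)}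
    (h : Le p F G) : ∃ t ∉ p, ∀ v ∈ F, t • v ∈ G := by
  classical
  obtain ⟨s, hs⟩ := (IsNoetherian.noetherian F : F.FG)
  have hmem : ∀ v ∈ s, v ∈ F := fun v hv => hs ▸ Submodule.subset_span hv
  choose! c hc hcv using fun v (hv : v ∈ s) => h v (hmem v hv)
  refine ⟨∏ v ∈ s, c v, fun hp => ?_, fun v hv => ?_⟩
  · obtain ⟨v, hv, hvp⟩ := (Ideal.IsPrime.prod_mem_iff).mp hp
    exact hc v hv hvp
  · rw [← hs] at hv
    induction hv using Submodule.span_induction with
    | zero => simp
    | add a b _ _ ha hb => rw [smul_add]; exact add_mem ha hb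
    | smul r a _ ha => rw [smul_comm]; exact G.smul_mem r ha
    | mem a ha =>
      obtain ⟨d, hd⟩ := Finset.dvd_prod_of_mem c ha
      rw [hd, mul_comm, mul_smul]
      exact G.smul_mem d (hcv a ha)

theorem Mem.mono [IsNoetherianRing R] {p : Ideal R} [p.IsPrime] {F G : Submodule R (Fin n → R)}
    {x : Fin n → M} (h : Mem p F x) (hle : Le p F G) : Mem p G x := by
  obtain ⟨s, hs, hsx⟩ := h
  obtain ⟨t, ht, htF⟩ := hle.exists_uniform
  exact ⟨t * s, p.primeCompl.mul_mem ht hs, by rw [mul_smul]; exact smul_mem_odot htF hsx⟩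

/-- Contents specialise. -/
theorem Min.generalize [Module.Flat R M] {p q : Ideal R} [p.IsPrime] [q.IsPrime] (hqp : q ≤ p)
    {F : Submodule R (Fin n → R)} {x : Fin n → M} (h : Min p F x) : Min q F x := by
  obtain ⟨⟨s, hs, hsx⟩, hmin⟩ := h
  refine ⟨⟨s, fun h => hs (hqp h), hsx⟩, fun G ⟨s', hs', hG⟩ v hv => ?_⟩
  obtain ⟨t, ht, htv⟩ := hmin _ ⟨1, p.primeCompl.one_mem, by rw [one_smul]; exact mem_odot_colon G hG⟩ v hv
  exact ⟨s' * t, q.primeCompl.mul_mem hs' (fun h => ht (hqp h)), by rw [mul_smul]; exact htv⟩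

/-- Nakayama at `q`: inclusion is detected by functionals to the residue field. -/
theorem le_of_functionals [IsNoetherianRing R] (q : Ideal R) [q.IsPrime] (F G : Submodule R (Fin n → R))
    (h : ∀ l : F →ₗ[R] q.ResidueField, (∀ v : F, (v : Fin n → R) ∈ G → l v = 0) → l = 0) : Le q F G := by
  let G' : Submodule R F := G.comap F.subtype
  have hsupp : (⟨q, inferInstance⟩ : PrimeSpectrum R) ∉ Module.support R (F ⧸ G') := fun hmem => by
    have hnt := (Module.mem_support_iff_nontrivial_residueField_tensorProduct ⟨q, inferInstance⟩).mp hmem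
    change Nontrivial (q.ResidueField ⊗[R] (F ⧸ G')) at hnt
    obtain ⟨z, hz⟩ := exists_ne (0 : q.ResidueField ⊗[R] (F ⧸ G'))
    obtain ⟨l, hl⟩ : ∃ l : (q.ResidueField ⊗[R] (F ⧸ G')) →ₗ[q.ResidueField] q.ResidueField, l z ≠ 0 := by
      by_contra hall
      push Not at hall
      exact hz ((Module.forall_dual_apply_eq_zero_iff q.ResidueField z).mp hall)
    have h0 := h ((l.restrictScalars R) ∘ₗ TensorProduct.mk R q.ResidueField (F ⧸ G') 1 ∘ₗ G'.mkQ) fun v hv => by
      show l ((1 : q.ResidueField) ⊗ₜ[R] G'.mkQ v) = 0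
      rw [show G'.mkQ v = 0 from (Submodule.Quotient.mk_eq_zero G').mpr hv, tmul_zero, map_zero]
    refine hl ?_
    have : ∀ w, l w = 0 := fun w => by
      induction w with
      | zero => simp
      | add a b ha hb => rw [map_add, ha, hb, add_zero]
      | tmul c y =>
        obtain ⟨v, rfl⟩ := Submodule.Quotient.mk_surjective G' y
        have : c ⊗ₜ[R] (Submodule.Quotient.mk v : F ⧸ G') = c • ((1 : q.ResidueField) ⊗ₜ[R] Submodule.Quotient.mk v) := by
          rw [TensorProduct.smul_tmul', smul_eq_mul, mul_one]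
        rw [this, map_smul, show l ((1 : q.ResidueField) ⊗ₜ[R] Submodule.Quotient.mk v) = 0 from LinearMap.congr_fun h0 v,
          smul_zero]
    exact this z
  intro v hv
  rw [Module.notMem_support_iff'] at hsupp
  obtain ⟨r, hr, hr0⟩ := hsupp (Submodule.Quotient.mk ⟨v, hv⟩)
  exact ⟨r, hr, (Submodule.Quotient.mk_eq_zero G').mp hr0⟩

theorem exists_repr {F : Submodule R (Fin n → R)} {r : ℕ} (e : Fin r → F)
    (he : Submodule.span R (Set.range e) = ⊤) {y : Fin n → M} (hy : y ∈ odot M F) :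
    ∃ m : Fin r → M, theta F (∑ j, e j ⊗ₜ m j) = y := by
  rw [← range_theta] at hy
  obtain ⟨z, rfl⟩ := hy
  obtain ⟨m, hm⟩ := exists_sum_tmul e he z
  exact ⟨m, by rw [← hm]⟩

end Groth.RaynaudGruson
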