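import Mathlib.RingTheory.TensorProduct.Basic
import Mathlib.Algebra.Module.Projective
import Mathlib.RingTheory.Ideal.Quotient.Operations
import Mathlib.RingTheory.Finiteness.Ideal

/-! The smallest ideal of the base over which a given ideal of a projective algebra vanishes. -/

universe u

open TensorProduct

namespace Groth.RaynaudGruson

theorem exists_content_ideal {A B : Type u} [CommRing A] [CommRing B] [Algebra A B] [Module.Projective A B]
    (I : Ideal B) :
    ∃ J : Ideal A, (∀ x ∈ I, x ⊗ₜ[A] (1 : A ⧸ J) = 0) ∧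
      (∀ (R : Type u) [CommRing R] [Algebra A R], (∀ x ∈ I, x ⊗ₜ[A] (1 : R) = 0) → J ≤ RingHom.ker (algebraMap A R)) ∧
      (I.FG → J.FG) := by
  classical
  obtain ⟨s, hs⟩ := Module.Projective.out (R := A) (P := B)
  let J : Set B → Ideal A := fun G => Ideal.span {a | ∃ x ∈ G, ∃ i, s x i = a}
  have h1 : ∀ (G : Set B) (x : B), x ∈ G → x ⊗ₜ[A] (1 : A ⧸ J G) = 0 := fun G x hx => by
    conv_lhs => rw [← hs x, Finsupp.linearCombination_apply, Finsupp.sum, TensorProduct.sum_tmul]
    refine Finset.sum_eq_zero fun i _ => ?_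
    rw [TensorProduct.smul_tmul, Algebra.smul_def, mul_one, Ideal.Quotient.algebraMap_eq,
      Ideal.Quotient.eq_zero_iff_mem.mpr (Ideal.subset_span ⟨x, hx, i, rfl⟩ : s x i ∈ J G), tmul_zero]
  have h2 : ∀ (R : Type u) [CommRing R] [Algebra A R], (∀ x ∈ I, x ⊗ₜ[A] (1 : R) = 0) →
      J I ≤ RingHom.ker (algebraMap A R) := fun R _ _ h => by
    refine Ideal.span_le.mpr ?_
    rintro _ ⟨x, hx, i, rfl⟩
    have := congrArg (fun z => TensorProduct.lid A R (((Finsupp.lapply i).comp s).rTensor R z)) (h x hx)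
    simpa [Algebra.smul_def] using this
  refine ⟨J I, h1 I, h2, ?_⟩
  rintro ⟨t, ht⟩
  have heq : J I = J t := by
    refine le_antisymm ?_ (Ideal.span_mono fun a ⟨x, hx, h⟩ => ⟨x, ht ▸ Submodule.subset_span hx, h⟩)
    refine (h2 (A ⧸ J t) fun x hx => ?_).trans (le_of_eq (by rw [Ideal.Quotient.algebraMap_eq, Ideal.mk_ker]))
    have hle : I ≤ RingHom.ker (Algebra.TensorProduct.includeLeft (R := A) (S := A) (A := B) (B := A ⧸ J t)) := by
      rw [← ht, Ideal.span_le]
      exact fun y hy => h1 _ y hy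
    exact hle hx
  rw [heq]
  refine ⟨(t.biUnion fun x => (s x).support.image (s x)), le_antisymm (Ideal.span_le.mpr fun a ha => ?_) (Ideal.span_le.mpr ?_)⟩
  · obtain ⟨x, hx, i, -, rfl⟩ := by simpa using ha
    exact Ideal.subset_span ⟨x, hx, i, rfl⟩
  · rintro _ ⟨x, hx, i, rfl⟩
    by_cases hi : s x i = 0
    · rw [hi]; exact zero_mem _
    · exact Ideal.subset_span (Finset.mem_coe.mpr (Finset.mem_biUnion.mpr
        ⟨x, hx, Finset.mem_image.mpr ⟨i, Finsupp.mem_support_iff.mpr hi, rfl⟩⟩))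

end Groth.RaynaudGruson
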