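import Groth.Agent.RaynaudGruson.CommonNbhd
import Mathlib

/-!
Covering a whole fibre by étale algebras carrying complete dévissages.
-/

set_option autoImplicit false
set_option linter.style.haveILetI false
universe u

open TensorProduct

namespace Groth.RaynaudGruson.DevissageCover

theorem geomIrredFibres_self (R : Type u) [CommRing R] : FlatCA.GeomIrredFibres R R :=
  SmoothProjective.geomIrredFibres_iff.mpr fun K _ _ =>
    haveI : (nilradical K).IsPrime := by rw [nilradical_eq_bot_iff.mpr inferInstance]; exact Ideal.isPrime_bot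
    SmoothProjective.isPrime_nilradical_comap (Algebra.TensorProduct.rid R R K).toRingEquiv.toRingHom
      (Algebra.TensorProduct.rid R R K).injective

/-- The complete dévissage of the zero module. -/
noncomputable def zeroDevissage (R S N : Type u) [CommRing R] [CommRing S] [Algebra R S] [AddCommGroup N]
    [Module S N] [Subsingleton N] (p : Ideal R) [p.IsPrime] : FlatCA.CompleteDevissage R S N p where
  n := 1
  pos := Nat.one_pos
  A _ := PUnit.{u+1}
  B _ := R
  M _ := PUnit.{u+1}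
  r _ := 0
  hp _ := by
    show (p.map (RingHom.id R)).IsPrime
    rwa [Ideal.map_id]
  α _ := 0
  surjSA _ := ⟨0, Subsingleton.elim _ _⟩
  fpSA := Algebra.FinitePresentation.of_surjective (f := Algebra.ofId S PUnit.{u+1}) (fun _ => ⟨0, Subsingleton.elim _ _⟩) (by
    rw [show RingHom.ker (Algebra.ofId S PUnit.{u+1}).toRingHom = ⊤ from eq_top_iff.mpr fun _ _ => Subsingleton.elim _ _]
    exact ⟨{1}, by simp⟩)
  surjBA' i h := absurd h (by omega)
  fpBA' i h := absurd h (by omega)
  finiteBA _ _ := inferInstance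
  smooth _ _ := inferInstance
  geomIrred _ _ := geomIrredFibres_self R
  finiteM _ _ := inferInstance
  isoN := { toFun := fun _ => 0, invFun := fun _ => 0, left_inv := fun _ => Subsingleton.elim _ _,
            right_inv := fun _ => Subsingleton.elim _ _, map_add' := fun _ _ => Subsingleton.elim _ _,
            map_smul' := fun _ _ => Subsingleton.elim _ _ }
  isoCoker i h := absurd h (by omega)
  fibreIso _ _ := by
    refine ⟨fun x y _ => ?_, fun y => ⟨0, ?_⟩⟩
    · exact Subsingleton.elim _ _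
    · exact Subsingleton.elim _ _
  cokerLast _ := ⟨0, Subsingleton.elim _ _⟩

/-- A ring is smooth of relative dimension zero over itself. -/
theorem smoothRelDim_self (R : Type u) [CommRing R] : FlatCA.SmoothRelDim 0 R R := by
  haveI : AlgebraicGeometry.IsOpenImmersion
      (AlgebraicGeometry.Spec.map (CommRingCat.ofHom (algebraMap R R))) := by
    rw [Algebra.algebraMap_self, CommRingCat.ofHom_id, AlgebraicGeometry.Spec.map_id]
    infer_instance
  show AlgebraicGeometry.SmoothOfRelativeDimension 0 _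
  infer_instance

theorem bijective_mapₐ_right {A B C : Type u} [CommRing A] [CommRing B] [CommRing C] [Algebra A B] [Algebra B C]
    [Algebra A C] [IsScalarTower A B C] (P : Ideal A) (Q : Ideal B) (T : Ideal C) [P.IsPrime] [Q.IsPrime]
    [T.IsPrime] [hQ : Q.LiesOver P] [hT : T.LiesOver Q] [hT' : T.LiesOver P]
    (h₁ : Function.Bijective (Ideal.ResidueField.mapₐ P Q (Algebra.ofId A B) hQ.over))
    (h₃ : Function.Bijective (Ideal.ResidueField.mapₐ P T (Algebra.ofId A C) hT'.over)) :
    Function.Bijective (Ideal.ResidueField.mapₐ Q T (Algebra.ofId B C) hT.over) := by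
  let a := Ideal.ResidueField.mapₐ P Q (Algebra.ofId A B) hQ.over
  let b := Ideal.ResidueField.mapₐ Q T (Algebra.ofId B C) hT.over
  let c := Ideal.ResidueField.mapₐ P T (Algebra.ofId A C) hT'.over
  have : c.toRingHom = b.toRingHom.comp a.toRingHom := Ideal.ResidueField.ringHom_ext (RingHom.ext fun r => by
    show c (algebraMap A _ r) = b (a (algebraMap A _ r))
    rw [c.commutes, a.commutes, IsScalarTower.algebraMap_apply A B Q.ResidueField, b.commutes,
      IsScalarTower.algebraMap_apply B C T.ResidueField, ← IsScalarTower.algebraMap_apply A B C,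
      ← IsScalarTower.algebraMap_apply A C T.ResidueField])
  have h₃' : Function.Bijective c.toRingHom := h₃
  rw [this] at h₃'
  exact (Function.Bijective.of_comp_iff b h₁).1 h₃'

/-- A piece of the cover: after any further neighbourhood with trivial residue extension the base change of
the module has a complete dévissage. -/
def Good (A₁ B B₁ : Type u) [CommRing A₁] [CommRing B] [CommRing B₁] [Algebra B B₁] [Algebra A₁ B₁] (N : Type u)
    [AddCommGroup N] [Module B N] (p₁ : Ideal A₁) [p₁.IsPrime] : Prop :=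
  ∀ (A' : Type u) [CommRing A'] [Algebra A₁ A'] (p' : Ideal A') [p'.IsPrime] [hp : p'.LiesOver p₁],
    Function.Bijective (Ideal.ResidueField.mapₐ p₁ p' (Algebra.ofId A₁ A') hp.over) →
    ∀ (T : Type u) [CommRing T] [Algebra A' T] [Algebra A₁ T] [Algebra B₁ T] [IsScalarTower A₁ A' T]
      [IsScalarTower A₁ B₁ T] [Algebra.IsPushout A₁ A' B₁ T] [Algebra B T] [IsScalarTower B B₁ T]
      (N' : Type u) [AddCommGroup N'] [Module T N'] [Module B N'] [IsScalarTower B T N'] (f : N →ₗ[B] N'),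
      IsBaseChange T f → ∃ D : FlatCA.CompleteDevissage A' T N' p', ∀ i, i < D.n → ∃ e, FlatCA.SmoothRelDim e A' (D.B i)

theorem exists_good {A B : Type u} [CommRing A] [CommRing B] [Algebra A B] [Algebra.FiniteType A B]
    (N : Type u) [AddCommGroup N] [Module B N] [Module.Finite B N] (p : Ideal A) [p.IsPrime]
    (q : Ideal B) [q.IsPrime] [q.LiesOver p] :
    ∃ (A₁ B₁ : Type u) (_ : CommRing A₁) (_ : CommRing B₁) (_ : Algebra A A₁) (_ : Algebra B B₁) (_ : Algebra A₁ B₁)
      (_ : Algebra A B₁) (_ : IsScalarTower A A₁ B₁) (_ : IsScalarTower A B B₁) (p₁ : Ideal A₁) (_ : p₁.IsPrime)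
      (g : A₁),
      FlatCA.IsEtaleNhd A A₁ p p₁ ∧ Algebra.Etale B B₁ ∧
      (∀ (P : Ideal A₁) [P.IsPrime], P.LiesOver p → g ∉ P → P = p₁) ∧ Good A₁ B B₁ N p₁ ∧
      ∃ Q : Ideal B₁, Q.IsPrime ∧ algebraMap A₁ B₁ g ∉ Q ∧ Q.comap (algebraMap B B₁) = q := by
  letI : Module A N := Module.compHom N (algebraMap A B)
  haveI : IsScalarTower A B N := IsScalarTower.of_algebraMap_smul fun _ _ => rfl
  obtain ⟨A₁, B₁, _, _, _, _, _, _, _, _, p₁, q₁, _, _, hA, hB, hq, hdev⟩ := LocalStructure.exists_nbhd N p q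
  haveI := hA.1; haveI := hA.2.1; haveI := hq; haveI := hB.1; haveI := hB.2.1
  obtain ⟨g, hg, hguniq⟩ := LocalProjective.exists_isolate p p₁
  haveI : Algebra.FiniteType A B₁ := Algebra.FiniteType.trans (S := B) inferInstance inferInstance
  haveI : Algebra.FiniteType A₁ B₁ := Algebra.FiniteType.of_restrictScalars_finiteType A A₁ B₁
  refine ⟨A₁, B₁, inferInstance, inferInstance, inferInstance, inferInstance, inferInstance, inferInstance,
    inferInstance, inferInstance, p₁, inferInstance, g, hA, hB.1, hguniq, ?_, q₁, inferInstance,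
    fun h => hg ((Ideal.mem_of_liesOver q₁ p₁ g).mpr h), hB.2.1.over.symm⟩
  intro A' _ _ p' _ _ hκ T _ _ _ _ _ _ hpush _ _ N' _ _ _ _ f hf
  obtain ⟨N₁, _, _, _, _, f₁, hf₁⟩ := EtalePushout.exists_baseChange B B₁ N
  letI : Module B₁ N' := Module.compHom N' (algebraMap B₁ T)
  haveI : IsScalarTower B₁ T N' := IsScalarTower.of_algebraMap_smul fun _ _ => rfl
  haveI : IsScalarTower B B₁ N' := IsScalarTower.of_algebraMap_smul fun b n => by
    show algebraMap B₁ T (algebraMap B B₁ b) • n = b • n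
    rw [← IsScalarTower.algebraMap_apply, algebraMap_smul]
  have hh : IsBaseChange T (hf₁.lift f) :=
    IsBaseChange.of_comp hf₁ (by rw [IsBaseChange.lift_comp]; exact hf)
  haveI : Module.Finite B₁ N₁ := Module.Finite.equiv hf₁.equiv
  rcases hdev N₁ f₁ hf₁ with hD | hD
  · haveI : Algebra.IsPushout A₁ B₁ A' T := Algebra.IsPushout.symm hpush
    obtain ⟨q', hq'p, hq'P, hq'A⟩ := FlatmorThree.exists_prime_over_both (R := A₁) (S := B₁) (R' := A') (S' := T)
      q₁ p' (‹p'.LiesOver p₁›.over.symm.trans hq.over)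
    haveI := hq'p
    haveI : q'.LiesOver q₁ := ⟨hq'P.symm⟩
    haveI : q'.LiesOver p' := ⟨hq'A.symm⟩
    obtain ⟨D, ⟨𝒜⟩⟩ := DevissageOps.baseChange hD A' p' hκ T N' (hf₁.lift f) hh q'
    exact ⟨D, fun i hi => ⟨_, 𝒜.relDim i hi⟩⟩
  · haveI := hD
    haveI : Subsingleton N' := hh.equiv.toEquiv.subsingleton_congr.mp
      (inferInstanceAs (Subsingleton (T ⊗[B₁] N₁)))
    exact ⟨zeroDevissage A' T N' p', fun i _ => ⟨0, smoothRelDim_self A'⟩⟩

set_option maxHeartbeats 1600000 in
/-- A fibre has an étale cover with complete dévissages of constant relative dimensions. -/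
theorem exists_cover' {A B : Type u} [CommRing A] [CommRing B] [Algebra A B] [Algebra.FiniteType A B]
    (N : Type u) [AddCommGroup N] [Module B N] [Module.Finite B N] (p : Ideal A) [p.IsPrime] :
    ∃ (A' : Type u) (_ : CommRing A') (_ : Algebra A A') (p' : Ideal A') (_ : p'.IsPrime), FlatCA.IsEtaleNhd A A' p p' ∧
      ∀ (BA NA : Type u) [CommRing BA] [Algebra B BA] [Algebra A' BA] [Algebra A BA] [IsScalarTower A B BA] [IsScalarTower A A' BA]
        [Algebra.IsPushout A B A' BA]
        [AddCommGroup NA] [Module BA NA] [Module B NA] [IsScalarTower B BA NA]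
        (fA : N →ₗ[B] NA), IsBaseChange BA fA →
        ∃ (k : ℕ) (C : Fin k → Type u) (_ : ∀ i, CommRing (C i)) (_ : ∀ i, Algebra BA (C i)) (_ : ∀ i, Algebra A' (C i))
          (_ : ∀ i, IsScalarTower A' BA (C i))
          (Nc : Fin k → Type u) (_ : ∀ i, AddCommGroup (Nc i)) (_ : ∀ i, Module (C i) (Nc i)) (_ : ∀ i, Module BA (Nc i))
          (_ : ∀ i, IsScalarTower BA (C i) (Nc i)) (g : ∀ i, NA →ₗ[BA] Nc i),
          (∀ i, Algebra.Etale BA (C i) ∧ IsBaseChange (C i) (g i) ∧ ∃ D : FlatCA.CompleteDevissage A' (C i) (Nc i) p', ∀ j, j < D.n → ∃ e, FlatCA.SmoothRelDim e A' (D.B j)) ∧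
          ∀ (Q : Ideal BA) [Q.IsPrime], Q.LiesOver p' → ∃ (i : Fin k) (Q' : Ideal (C i)), Q'.IsPrime ∧ Q'.comap (algebraMap BA (C i)) = Q := by
  classical
  let incl := (Algebra.TensorProduct.includeRight (R := A) (A := p.ResidueField) (B := B)).toRingHom
  have hover : ∀ y : PrimeSpectrum (p.Fiber B), (y.asIdeal.comap incl).LiesOver p := fun y =>
    ⟨(congrArg PrimeSpectrum.asIdeal (((PrimeSpectrum.preimageEquivFiber A B ⟨p, inferInstance⟩).symm y).2)).symm⟩
  have hloc := fun y : PrimeSpectrum (p.Fiber B) =>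
    haveI := hover y; exists_good N p (y.asIdeal.comap incl)
  choose A₁ B₁ iA iB iAA iBB iAB iAB' iT iT' p₁ ip g hA hB huniq hgood Q hQ hgQ hQy using hloc
  have hopen : ∀ y, IsOpen {z : PrimeSpectrum (p.Fiber B) | ∃ Q : Ideal (B₁ y), Q.IsPrime ∧
      algebraMap (A₁ y) (B₁ y) (g y) ∉ Q ∧ Q.comap (algebraMap B (B₁ y)) = z.asIdeal.comap incl} := fun y =>
    haveI := hB y; CommonNbhd.isOpen_fibre_image p _
  obtain ⟨t, ht⟩ := isCompact_univ.elim_finite_subcover _ hopen fun y _ => Set.mem_iUnion.mpr ⟨y, Q y, hQ y, hgQ y, hQy y⟩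
  let e := t.equivFin.symm
  obtain ⟨A', _, _, p', _, φ, hA', hφ⟩ := CommonNbhd.exists_common p t.card (fun i => A₁ (e i).1) (fun i => p₁ (e i).1)
    (fun i => ip (e i).1) fun i => hA (e i).1
  obtain ⟨hA'et, hp'o, hκ⟩ := id hA'
  haveI := hA'et; haveI := hp'o
  refine ⟨A', inferInstance, inferInstance, p', inferInstance, hA', ?_⟩
  intro BA NA _ _ _ _ _ _ _ _ _ _ _ fA hfA
  letI iA' : ∀ i, Algebra (A₁ (e i).1) A' := fun i => (φ i).toRingHom.toAlgebra
  haveI itA : ∀ i, IsScalarTower A (A₁ (e i).1) A' := fun i => .of_algebraMap_eq fun r => ((φ i).commutes r).symm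
  have hT : ∀ i : Fin t.card, ∃ (T : Type u) (_ : CommRing T) (_ : Algebra A' T) (_ : Algebra (B₁ (e i).1) T)
      (_ : Algebra (A₁ (e i).1) T) (_ : IsScalarTower (A₁ (e i).1) A' T) (_ : IsScalarTower (A₁ (e i).1) (B₁ (e i).1) T),
      Algebra.IsPushout (A₁ (e i).1) A' (B₁ (e i).1) T := fun i => EtalePushout.exists_pushout _ _ _
  choose T iT1 iT2 iT3 iT4 iT5 iT6 hpush using hT
  letI iBT : ∀ i, Algebra B (T i) := fun i =>
    ((algebraMap (B₁ (e i).1) (T i)).comp (algebraMap B (B₁ (e i).1))).toAlgebra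
  haveI iBBT : ∀ i, IsScalarTower B (B₁ (e i).1) (T i) := fun i => .of_algebraMap_eq' rfl
  letI iAT : ∀ i, Algebra A (T i) := fun i => ((algebraMap A' (T i)).comp (algebraMap A A')).toAlgebra
  haveI iAAT : ∀ i, IsScalarTower A A' (T i) := fun i => .of_algebraMap_eq' rfl
  haveI iABT : ∀ i, IsScalarTower A B (T i) := fun i => .of_algebraMap_eq fun r => by
    show algebraMap A' (T i) (algebraMap A A' r) = algebraMap (B₁ (e i).1) (T i) (algebraMap B (B₁ (e i).1) (algebraMap A B r))
    rw [← IsScalarTower.algebraMap_apply A B (B₁ (e i).1), IsScalarTower.algebraMap_apply A (A₁ (e i).1) (B₁ (e i).1),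
      ← IsScalarTower.algebraMap_apply (A₁ (e i).1) (B₁ (e i).1) (T i),
      IsScalarTower.algebraMap_apply (A₁ (e i).1) A' (T i), ← IsScalarTower.algebraMap_apply A (A₁ (e i).1) A']
  let σ : ∀ i, BA →ₐ[A] T i := fun i => Algebra.pushoutDesc BA (IsScalarTower.toAlgHom A B (T i))
    (IsScalarTower.toAlgHom A A' (T i)) fun _ _ => Commute.all _ _
  letI iBAT : ∀ i, Algebra BA (T i) := fun i => (σ i).toRingHom.toAlgebra
  haveI iBBAT : ∀ i, IsScalarTower B BA (T i) := fun i => .of_algebraMap_eq fun b =>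
    (Algebra.pushoutDesc_left BA (IsScalarTower.toAlgHom A B (T i)) (IsScalarTower.toAlgHom A A' (T i))
      (fun _ _ => Commute.all _ _) b).symm
  haveI iA'BAT : ∀ i, IsScalarTower A' BA (T i) := fun i => .of_algebraMap_eq fun a =>
    (Algebra.pushoutDesc_right BA (IsScalarTower.toAlgHom A B (T i)) (IsScalarTower.toAlgHom A A' (T i))
      (fun _ _ => Commute.all _ _) a).symm
  haveI : Algebra.IsPushout A A' B BA := Algebra.IsPushout.symm inferInstance
  haveI hBBA : Algebra.Etale B BA := EtalePushout.etale_of_isPushout' (A := A) (A' := A')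
  haveI hTet : ∀ i, Algebra.Etale BA (T i) := fun i => by
    haveI := hB (e i).1; haveI := hpush i; haveI := (hA (e i).1).1
    haveI : Algebra.Etale (A₁ (e i).1) A' := Algebra.Etale.of_restrictScalars A _ _
    haveI : Algebra.Etale (B₁ (e i).1) (T i) := EtalePushout.etale_of_isPushout' (A := A₁ (e i).1) (A' := A')
    haveI : Algebra.Etale B (T i) := Algebra.Etale.comp B (B₁ (e i).1) (T i)
    exact Algebra.Etale.of_restrictScalars B _ _
  have hN : ∀ i, ∃ (Nc : Type u) (_ : AddCommGroup Nc) (_ : Module BA Nc) (_ : Module (T i) Nc)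
      (_ : IsScalarTower BA (T i) Nc) (h : NA →ₗ[BA] Nc), IsBaseChange (T i) h :=
    fun i => by
      obtain ⟨M, a, b, c, d, m, hm⟩ := EtalePushout.exists_baseChange BA (T i) NA
      exact ⟨M, a, c, b, d, m, hm⟩
  choose Nc iN1 iN2 iN3 iN4 h hh using hN
  refine ⟨t.card, T, inferInstance, inferInstance, inferInstance, inferInstance, Nc, inferInstance, inferInstance,
    inferInstance, inferInstance, h, fun i => ⟨hTet i, hh i, ?_⟩, ?_⟩
  · letI : Module B (Nc i) := Module.compHom (Nc i) (algebraMap B BA)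
    haveI : IsScalarTower B BA (Nc i) := IsScalarTower.of_algebraMap_smul fun _ _ => rfl
    haveI : IsScalarTower B (T i) (Nc i) := IsScalarTower.of_algebraMap_smul fun b n => by
      rw [IsScalarTower.algebraMap_apply B BA (T i), algebraMap_smul, algebraMap_smul]
    haveI := hpush i
    haveI hov : p'.LiesOver (p₁ (e i).1) := ⟨(hφ i).symm⟩
    haveI := (hA (e i).1).2.1
    refine hgood (e i).1 A' p' (hp := hov) ?_ (T i) (Nc i) ((h i).restrictScalars B ∘ₗ fA) (hfA.comp (hh i))
    exact bijective_mapₐ_right p (p₁ (e i).1) p' (hA (e i).1).2.2 hκ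
  · intro Q _ hQp'
    haveI := hQp'
    haveI hQp : Q.LiesOver p := Ideal.LiesOver.trans Q p' p
    have hqp : (Q.comap (algebraMap B BA)).LiesOver p := ⟨by
      show p = (Q.comap (algebraMap B BA)).comap (algebraMap A B)
      rw [Ideal.comap_comap, ← IsScalarTower.algebraMap_eq]
      exact hQp.over⟩
    haveI := hqp
    obtain ⟨z, hz⟩ := Flatmor4.exists_fiber_prime p (Q.comap (algebraMap B BA))
    obtain ⟨y, hy, P, hP, hgP, hPz⟩ : ∃ y, y ∈ t ∧ ∃ P : Ideal (B₁ y), P.IsPrime ∧
        algebraMap (A₁ y) (B₁ y) (g y) ∉ P ∧ P.comap (algebraMap B (B₁ y)) = z.asIdeal.comap incl := by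
      simpa using ht (Set.mem_univ z)
    obtain ⟨i, hi⟩ : ∃ i, e i = ⟨y, hy⟩ := ⟨t.equivFin ⟨y, hy⟩, Equiv.symm_apply_apply _ _⟩
    obtain rfl : (e i).1 = y := congrArg Subtype.val hi
    haveI := hP
    have hz' : z.asIdeal.comap incl = Q.comap (algebraMap B BA) := hz
    have hover' : (P.comap (algebraMap (A₁ (e i).1) (B₁ (e i).1))).LiesOver p := ⟨by
      show p = (P.comap (algebraMap (A₁ (e i).1) (B₁ (e i).1))).comap (algebraMap A (A₁ (e i).1))
      rw [Ideal.comap_comap, ← IsScalarTower.algebraMap_eq, IsScalarTower.algebraMap_eq A B (B₁ (e i).1),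
        ← Ideal.comap_comap, hPz, hz']
      exact hqp.over⟩
    have hPp : P.comap (algebraMap (A₁ (e i).1) (B₁ (e i).1)) = p₁ (e i).1 := huniq _ _ hover' hgP
    haveI := hpush i
    haveI : Algebra.IsPushout (A₁ (e i).1) (B₁ (e i).1) A' (T i) := Algebra.IsPushout.symm (hpush i)
    obtain ⟨q', hq'p, hq'P, hq'A⟩ := FlatmorThree.exists_prime_over_both (R := A₁ (e i).1) (S := B₁ (e i).1)
      (R' := A') (S' := T i) P p' ((hφ i).trans hPp.symm)
    haveI := hq'p
    refine ⟨i, q', hq'p, ?_⟩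
    haveI : (q'.comap (algebraMap BA (T i))).LiesOver (Q.comap (algebraMap B BA)) := ⟨by
      show Q.comap (algebraMap B BA) = (q'.comap (algebraMap BA (T i))).comap (algebraMap B BA)
      rw [Ideal.comap_comap, ← IsScalarTower.algebraMap_eq, IsScalarTower.algebraMap_eq B (B₁ (e i).1) (T i),
        ← Ideal.comap_comap, hq'P, hPz, hz']⟩
    haveI : (q'.comap (algebraMap BA (T i))).LiesOver p' := ⟨by
      show p' = (q'.comap (algebraMap BA (T i))).comap (algebraMap A' BA)
      rw [Ideal.comap_comap, ← IsScalarTower.algebraMap_eq]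
      exact hq'A.symm⟩
    haveI : Q.LiesOver (Q.comap (algebraMap B BA)) := ⟨rfl⟩
    exact LocalStructureFT.eq_of_liesOver p p' hκ (Q.comap (algebraMap B BA)) (q'.comap (algebraMap BA (T i))) Q

/-- **A fibre has an étale cover with complete dévissages.** -/
theorem exists_cover {A B : Type u} [CommRing A] [CommRing B] [Algebra A B] [Algebra.FiniteType A B]
    (N : Type u) [AddCommGroup N] [Module B N] [Module.Finite B N] (p : Ideal A) [p.IsPrime] :
    ∃ (A' : Type u) (_ : CommRing A') (_ : Algebra A A') (p' : Ideal A') (_ : p'.IsPrime), FlatCA.IsEtaleNhd A A' p p' ∧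
      ∀ (BA NA : Type u) [CommRing BA] [Algebra B BA] [Algebra A' BA] [Algebra A BA] [IsScalarTower A B BA] [IsScalarTower A A' BA]
        [Algebra.IsPushout A B A' BA]
        [AddCommGroup NA] [Module BA NA] [Module B NA] [IsScalarTower B BA NA]
        (fA : N →ₗ[B] NA), IsBaseChange BA fA →
        ∃ (k : ℕ) (C : Fin k → Type u) (_ : ∀ i, CommRing (C i)) (_ : ∀ i, Algebra BA (C i)) (_ : ∀ i, Algebra A' (C i))
          (_ : ∀ i, IsScalarTower A' BA (C i))
          (Nc : Fin k → Type u) (_ : ∀ i, AddCommGroup (Nc i)) (_ : ∀ i, Module (C i) (Nc i)) (_ : ∀ i, Module BA (Nc i))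
          (_ : ∀ i, IsScalarTower BA (C i) (Nc i)) (g : ∀ i, NA →ₗ[BA] Nc i),
          (∀ i, Algebra.Etale BA (C i) ∧ IsBaseChange (C i) (g i) ∧ Nonempty (FlatCA.CompleteDevissage A' (C i) (Nc i) p')) ∧
          ∀ (Q : Ideal BA) [Q.IsPrime], Q.LiesOver p' → ∃ (i : Fin k) (Q' : Ideal (C i)), Q'.IsPrime ∧ Q'.comap (algebraMap BA (C i)) = Q := by
  obtain ⟨A', _, _, p', _, h, hall⟩ := exists_cover' (A := A) (B := B) N p
  refine ⟨A', inferInstance, inferInstance, p', inferInstance, h, ?_⟩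
  intro BA NA _ _ _ _ _ _ _ _ _ _ _ fA hfA
  obtain ⟨k, C, c1, c2, c3, c4, Nc, n1, n2, n3, n4, g, hg, hc⟩ := hall BA NA fA hfA
  exact ⟨k, C, c1, c2, c3, c4, Nc, n1, n2, n3, n4, g,
    fun i => ⟨(hg i).1, (hg i).2.1, let ⟨D, _⟩ := (hg i).2.2; ⟨D⟩⟩, hc⟩

end Groth.RaynaudGruson.DevissageCover
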