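import Groth.Agent.RaynaudGruson.KeyLemma
import Groth.Agent.RaynaudGruson.FlatPred
import Mathlib

/-!
The key lemma for the steps of a dévissage.
-/

set_option autoImplicit false
universe u

namespace Groth.RaynaudGruson.DevissageFlat

open TensorProduct IsLocalRing

variable {B : Type u} [CommRing B] {M : Type u} [AddCommGroup M] [Module B M] (P : Ideal B) [P.IsPrime] {r : ℕ}
  (α : (Fin r → B) →ₗ[B] M)

omit [P.IsPrime] in
theorem notMem_support_of_subsingleton (p : PrimeSpectrum B) (L : Type u) [AddCommGroup L] [Module B L]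
    [Module.Finite B L] (hsub : Subsingleton (p.asIdeal.ResidueField ⊗[B] L)) : p ∉ Module.support B L := by
  rw [Module.mem_support_iff_nontrivial_residueField_tensorProduct]
  exact not_nontrivial_iff_subsingleton.mpr hsub

/-- Surjectivity on the fibre gives surjectivity after inverting elements outside the prime. -/
theorem exists_smul_eq_apply [Module.Finite B M] (hsurj : Function.Surjective (α.baseChange P.ResidueField))
    (m : M) : ∃ t, t ∉ P ∧ ∃ g, t • m = α g := by
  have hsub : Subsingleton (P.ResidueField ⊗[B] (M ⧸ LinearMap.range α)) := by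
    refine subsingleton_of_forall_eq 0 fun z => ?_
    obtain ⟨w, rfl⟩ := LinearMap.lTensor_surjective P.ResidueField (LinearMap.range α).mkQ_surjective z
    obtain ⟨v, rfl⟩ := hsurj w
    induction v using TensorProduct.induction_on with
    | zero => rw [map_zero, map_zero]
    | add a b ha hb => rw [map_add, map_add, ha, hb, add_zero]
    | tmul k f =>
      rw [LinearMap.baseChange_tmul, LinearMap.lTensor_tmul, Submodule.mkQ_apply,
        (Submodule.Quotient.mk_eq_zero _).mpr (LinearMap.mem_range_self α f), tmul_zero]
  have hns : (⟨P, inferInstance⟩ : PrimeSpectrum B) ∉ Module.support B (M ⧸ LinearMap.range α) :=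
    notMem_support_of_subsingleton ⟨P, inferInstance⟩ _ hsub
  obtain ⟨t, ht, htm⟩ := Module.notMem_support_iff'.mp hns (Submodule.Quotient.mk m)
  rw [← Submodule.Quotient.mk_smul, Submodule.Quotient.mk_eq_zero] at htm
  obtain ⟨g, hg⟩ := htm
  exact ⟨t, ht, g, hg.symm⟩

/-- Injectivity on the fibre puts the kernel at the prime inside `P`. -/
theorem forall_mem_of_smul_eq_zero (hinj : Function.Injective (α.baseChange P.ResidueField)) {f : Fin r → B} {t : B}
    (ht : t ∉ P) (h : t • α f = 0) (i : Fin r) : f i ∈ P := by
  have h0 : (1 : P.ResidueField) ⊗ₜ[B] (t • f) = 0 := hinj (by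
    rw [LinearMap.baseChange_tmul, map_smul, h, tmul_zero, map_zero])
  have h1 := congrFun (congrArg (piScalarRightHom B B P.ResidueField (Fin r)) h0) i
  rw [piScalarRightHom_tmul, map_zero] at h1
  simp only [Pi.smul_apply, smul_eq_mul, Pi.zero_apply, ← Algebra.algebraMap_eq_smul_one,
    Ideal.algebraMap_residueField_eq_zero] at h1
  exact ((Ideal.IsPrime.mem_or_mem inferInstance h1).resolve_left ht)

variable {R : Type u} [CommRing R] [IsLocalRing R] [Algebra R B] [Module R M] [IsScalarTower R B M]

theorem mem_map_smul_top_iff (f : Fin r → B) : f ∈ maximalIdeal R • (⊤ : Submodule R (Fin r → B)) ↔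
    ∀ i, f i ∈ (maximalIdeal R).map (algebraMap R B) := by
  constructor
  · intro h i
    have h1 := Submodule.mem_map_of_mem (f := LinearMap.proj (R := R) (φ := fun _ => B) i) h
    rw [Submodule.map_smul''] at h1
    have h2 := Submodule.smul_mono (le_refl (maximalIdeal R)) le_top h1
    rwa [Ideal.smul_top_eq_map, Submodule.restrictScalars_mem] at h2
  · intro h
    rw [← Finset.univ_sum_single f]
    refine Submodule.sum_mem _ fun i _ => ?_
    have h1 : (f i) ∈ maximalIdeal R • (⊤ : Submodule R B) := by
      rw [Ideal.smul_top_eq_map, Submodule.restrictScalars_mem]; exact h i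
    have h2 := Submodule.mem_map_of_mem (f := LinearMap.single R (fun _ : Fin r => B) i) h1
    rw [Submodule.map_smul''] at h2
    exact Submodule.smul_mono (le_refl (maximalIdeal R)) le_top h2

variable [Module.Free R B] [Module.Finite B M] (hP : P = (maximalIdeal R).map (algebraMap R B))
  (hbij : Function.Bijective (α.baseChange P.ResidueField))
  (hflat : FlatPred.Pred R P.primeCompl M)

include hP hbij hflat

/-- The map from the free module is pure at the generic point of the closed fibre. -/
theorem mem_smul_top_of_smul_apply_mem {J : Ideal R} (hJ : J.FG) {x : Fin r → B} {t : B} (ht : t ∉ P)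
    (h : t • α x ∈ J • (⊤ : Submodule R M)) : x ∈ J • (⊤ : Submodule R (Fin r → B)) := by
  haveI : Module.Flat R (LocalizedModule P.primeCompl M) := (FlatPred.flat_iff _).mpr hflat
  let β : (Fin r → B) →ₗ[R] LocalizedModule P.primeCompl M :=
    (LocalizedModule.mkLinearMap P.primeCompl M ∘ₗ α).restrictScalars R
  refine KeyLemma.mem_smul_top_of_map_mem (S := B) (Module.Free.chooseBasis R (Fin r → B)) P.primeCompl
    (fun s hs f hf => ?_) β (fun s f => ?_) (fun f hf => ?_) (fun y => ?_) hJ ?_
  · rw [mem_map_smul_top_iff] at hf ⊢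
    intro i
    have := hf i
    rw [← hP] at this ⊢
    exact (Ideal.IsPrime.mem_or_mem inferInstance this).resolve_left hs
  · exact ((LocalizedModule.mkLinearMap P.primeCompl M) ∘ₗ α).map_smul s f
  · rw [mem_map_smul_top_iff]
    intro i
    rw [← hP]
    obtain ⟨u, hu⟩ := LocalizedModule.mk_eq.mp (hf.trans (LocalizedModule.zero_mk (1 : P.primeCompl)).symm)
    exact forall_mem_of_smul_eq_zero P α hbij.1 (t := (u : B)) u.2
      (by simpa [Submonoid.smul_def] using hu) i
  · induction y using LocalizedModule.induction_on with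
    | h m s =>
      obtain ⟨u, hu, g, hg⟩ := exists_smul_eq_apply P α hbij.2 m
      refine ⟨u * s, mul_mem hu s.2, g, ?_⟩
      show (u * (s : B)) • LocalizedModule.mk m s = LocalizedModule.mk (α g) 1
      rw [LocalizedModule.smul'_mk, mul_comm, mul_smul, hg]
      simpa [Submonoid.smul_def] using LocalizedModule.mk_cancel s (α g)
  · have h1 : (t • LocalizedModule.mkLinearMap P.primeCompl M (α x)) ∈ J • (⊤ : Submodule R (LocalizedModule P.primeCompl M)) := by
      have h2 := Submodule.mem_map_of_mem (f := (LocalizedModule.mkLinearMap P.primeCompl M).restrictScalars R) h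
      rw [Submodule.map_smul''] at h2
      have h3 := Submodule.smul_mono (le_refl J) le_top h2
      rwa [LinearMap.coe_restrictScalars, map_smul] at h3
    have key : ∀ z : LocalizedModule P.primeCompl M, z ∈ J • (⊤ : Submodule R (LocalizedModule P.primeCompl M)) →
        ∀ s : Localization P.primeCompl, s • z ∈ J • (⊤ : Submodule R (LocalizedModule P.primeCompl M)) := by
      intro z hz s
      refine Submodule.smul_induction_on hz (fun a ha w _ => ?_) fun v w hv hw => ?_
      · rw [smul_comm]; exact Submodule.smul_mem_smul ha trivial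
      · rw [smul_add]; exact Submodule.add_mem _ hv hw
    have := key _ h1 (Localization.mk 1 ⟨t, ht⟩)
    rwa [LocalizedModule.mkLinearMap_apply, LocalizedModule.smul'_mk, LocalizedModule.mk_smul_mk, one_smul,
      mul_one, ← mul_one (⟨t, ht⟩ : P.primeCompl),
      show t • α x = (⟨t, ht⟩ : P.primeCompl) • α x from rfl, LocalizedModule.mk_cancel_common_left] at this

theorem injective : Function.Injective α := by
  refine (injective_iff_map_eq_zero α).mpr fun x hx => ?_
  simpa using mem_smul_top_of_smul_apply_mem P α hP hbij hflat Submodule.fg_bot (t := 1)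
    (fun h => ‹P.IsPrime›.ne_top ((Ideal.eq_top_iff_one _).mpr h)) (x := x) (by rw [hx, smul_zero]; exact zero_mem _)

/-- The cokernel is flat wherever the target is. -/
theorem pred_coker {L : Type u} [AddCommGroup L] [Module B L] [Module R L] [IsScalarTower R B L] (π : M →ₗ[B] L)
    (hπ : Function.Surjective π) (hker : LinearMap.ker π = LinearMap.range α) {U : Submonoid B}
    (hM : FlatPred.Pred R U M) : FlatPred.Pred R U L := by
  intro l f a ⟨u, hu, hua⟩
  choose m hm using fun i => hπ (a i)
  obtain ⟨g, hg⟩ : u • ∑ i, f i • m i ∈ LinearMap.range α := hker ▸ LinearMap.mem_ker.mpr (by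
    rw [map_smul, map_sum, ← hua]
    exact congrArg _ (Finset.sum_congr rfl fun i _ => by rw [LinearMap.map_smul_of_tower, hm]))
  have hgJ := mem_smul_top_of_smul_apply_mem P α hP hbij hflat (J := Ideal.span (Set.range f))
    (Submodule.fg_span (Set.finite_range f)) (x := g) (t := 1)
    (fun h => ‹P.IsPrime›.ne_top ((Ideal.eq_top_iff_one _).mpr h)) (by
    rw [one_smul, hg, Finset.smul_sum]
    exact Submodule.sum_mem _ fun i _ => by
      rw [smul_comm]; exact Submodule.smul_mem_smul (Ideal.subset_span ⟨i, rfl⟩) trivial)
  obtain ⟨c, -, rfl⟩ := KeyLemma.exists_sum_of_mem_span_smul f _ hgJ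
  obtain ⟨v, hv, k, d, y, hy, hd⟩ := hM l f (fun i => u • m i - α (c i)) ⟨1, one_mem U, by
    simp only [one_smul, smul_sub, Finset.sum_sub_distrib]
    rw [sub_eq_zero, map_sum] at *
    simp only [LinearMap.map_smul_of_tower] at hg
    rw [hg, Finset.smul_sum]
    exact Finset.sum_congr rfl fun i _ => (smul_comm u (f i) (m i)).symm⟩
  refine ⟨v * u, mul_mem hv hu, k, d, fun j => π (y j), fun i => ?_, hd⟩
  have h0 : π (α (c i)) = 0 := LinearMap.mem_ker.mp (hker.symm ▸ LinearMap.mem_range_self α (c i))
  have h1 := congrArg π (hy i)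
  rw [map_smul, map_sub, map_smul, hm, h0, sub_zero, smul_smul, map_sum] at h1
  simpa only [LinearMap.map_smul_of_tower] using h1

end Groth.RaynaudGruson.DevissageFlat
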