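import Groth.Agent.RaynaudGruson.DevissageLocal
import Groth.Agent.RaynaudGruson.DevissageFree
import Groth.Agent.RaynaudGruson.StepSupport
import Mathlib

/-!
A flat finitely presented module with a complete dévissage over a prime is projective near it.
-/

set_option autoImplicit false
universe u

namespace Groth.RaynaudGruson.DevissageProj

open TensorProduct

section tools

variable {R : Type u} [CommRing R] {A : Type u} [CommRing A] {M : Type u} [AddCommGroup M] [Module A M]
  [Module R M] [SMulCommClass A R M]

/-- Flatness over the base at all primes over `y` gives flatness at `y`. -/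
theorem pred_of_forall_prime_over {B : Type u} [CommRing B] [Algebra B A] [Algebra.IsIntegral B A] [Module B M]
    [IsScalarTower B A M] (y : Ideal B) [y.IsPrime]
    (h : ∀ (Q : Ideal A) [Q.IsPrime], Q.LiesOver y → FlatPred.Pred R Q.primeCompl M) :
    FlatPred.Pred R y.primeCompl M := by
  intro l f a ⟨u, hu, hua⟩
  let K : Ideal A :=
    { carrier := {v | ∃ (k : ℕ) (d : Fin l → Fin k → R) (z : Fin k → M),
        (∀ i, v • a i = ∑ j, d i j • z j) ∧ ∀ j, ∑ i, f i * d i j = 0}
      zero_mem' := ⟨0, fun _ => Fin.elim0, Fin.elim0, fun i => by simp, fun j => j.elim0⟩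
      add_mem' := by
        rintro v w ⟨k, d, z, hz, hd⟩ ⟨k', d', z', hz', hd'⟩
        refine ⟨k + k', fun i => Fin.append (d i) (d' i), Fin.append z z', fun i => ?_, fun j => ?_⟩
        · rw [add_smul, hz, hz', Fin.sum_univ_add]; simp
        · refine Fin.addCases (fun j => ?_) (fun j => ?_) j
          · simpa using hd j
          · simpa using hd' j
      smul_mem' := by
        rintro c v ⟨k, d, z, hz, hd⟩
        exact ⟨k, d, fun j => c • z j, fun i => by
          rw [smul_eq_mul, mul_smul, hz, Finset.smul_sum]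
          exact Finset.sum_congr rfl fun j _ => smul_comm c (d i j) (z j), hd⟩ }
  suffices hK : ∃ b, b ∉ y ∧ algebraMap B A b ∈ K by
    obtain ⟨b, hb, k, d, z, hz, hd⟩ := hK
    exact ⟨b, hb, k, d, z, fun i => (algebraMap_smul A b (a i)).symm.trans (hz i), hd⟩
  by_contra hcon
  simp only [not_exists, not_and] at hcon
  have hdisj : Disjoint (K : Set A) ((y.primeCompl.map (algebraMap B A).toMonoidHom : Submonoid A) : Set A) :=
    Set.disjoint_left.mpr fun z hz ⟨b, hb, hbz⟩ => hcon b hb (by
      show (algebraMap B A).toMonoidHom b ∈ K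
      rw [hbz]; exact hz)
  obtain ⟨Q₀, hQ₀, hKQ₀, hd⟩ := Ideal.exists_le_prime_disjoint _ _ hdisj
  have hle : Q₀.comap (algebraMap B A) ≤ y := fun b hb => by_contra fun hby =>
    Set.disjoint_left.mp hd hb ⟨b, hby, rfl⟩
  obtain ⟨Q, hQ₀Q, hQ, hQy⟩ := Ideal.exists_ideal_over_prime_of_isIntegral y Q₀ hle
  haveI := hQ
  obtain ⟨v, hv, k, d, z, hz, hd'⟩ := h Q ⟨hQy.symm⟩ l f a
    ⟨algebraMap B A u, fun hm => hu (hQy ▸ (show u ∈ Q.comap (algebraMap B A) from hm)), by
      rw [algebraMap_smul, hua]⟩
  exact hv (hQ₀Q (hKQ₀ ⟨k, d, z, hz, hd'⟩))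

end tools

section good

variable {R : Type u} [CommRing R] {B : Type u} [CommRing B] [Algebra R B] {M : Type u} [AddCommGroup M] [Module B M]
  {r : ℕ} (α : (Fin r → B) →ₗ[B] M)

/-- The fibrewise condition at `pB`, elementwise. -/
def Good (p : Ideal R) : Prop :=
  (∀ m : M, ∃ t, t ∉ p.map (algebraMap R B) ∧ ∃ g, t • m = α g) ∧
    ∀ (f : Fin r → B) (t : B), t ∉ p.map (algebraMap R B) → t • α f = 0 → ∀ i, f i ∈ p.map (algebraMap R B)

variable [Algebra.Smooth R B] (hgi : FlatCA.GeomIrredFibres R B)

include hgi

theorem isPrime_map (p : Ideal R) [p.IsPrime] : (p.map (algebraMap R B)).IsPrime := by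
  haveI := Flatmor4.isDomain_fiber R B hgi p
  rw [← Flatmor4.ker_includeRight_fiber R B p]
  exact RingHom.ker_isPrime _

theorem liesOver_map (p : Ideal R) [p.IsPrime] : (p.map (algebraMap R B)).LiesOver p := by
  haveI := SmoothProjective.geomIntegralFibres_of_smooth hgi
  obtain ⟨q, hq, hqp⟩ := exists_prime_over (SmoothProjective.geomIntegralFibres_of_smooth hgi) p
  refine ⟨le_antisymm Ideal.le_comap_map ?_⟩
  exact (Ideal.comap_mono (Ideal.map_le_iff_le_comap.mpr hqp.over.le)).trans hqp.over.ge

variable [Module R M] [IsScalarTower R B M] [Module.FinitePresentation B M]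

/-- The fibrewise condition spreads to a neighbourhood of the base point. -/
theorem exists_good (p : Ideal R) [p.IsPrime]
    (hbij : haveI := isPrime_map hgi p; Function.Bijective (α.baseChange (p.map (algebraMap R B)).ResidueField))
    (hflat : haveI := isPrime_map hgi p; FlatPred.Pred R (p.map (algebraMap R B)).primeCompl M) :
    ∃ f, f ∉ p ∧ ∀ (q : Ideal R) [q.IsPrime], f ∉ q → Good α q := by
  haveI := isPrime_map hgi p
  haveI hover := liesOver_map hgi p
  haveI := SmoothProjective.projective_of_smooth R B hgi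
  set P := p.map (algebraMap R B) with hPdef
  have hsurj := fun m => DevissageFlat.exists_smul_eq_apply P α hbij.2 m
  have hker : ∀ (f : Fin r → B) (t : B), t ∉ P → t • α f = 0 → ∀ i, f i ∈ P :=
    fun f t ht h => DevissageFlat.forall_mem_of_smul_eq_zero P α hbij.1 ht h
  obtain ⟨b, hb, hbb⟩ := Module.FinitePresentation.exists_notMem_bijective α P
    (LocalizedModule.mkLinearMap P.primeCompl (Fin r → B)) (LocalizedModule.mkLinearMap P.primeCompl M) (by
    constructor
    · refine (injective_iff_map_eq_zero _).mpr fun z hz => ?_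
      obtain ⟨⟨x, s⟩, hx⟩ := IsLocalizedModule.surj P.primeCompl (LocalizedModule.mkLinearMap P.primeCompl (Fin r → B)) z
      have h1 : LocalizedModule.mkLinearMap P.primeCompl M (α x) = 0 := by
        rw [← IsLocalizedModule.map_apply P.primeCompl (LocalizedModule.mkLinearMap P.primeCompl (Fin r → B))
          (LocalizedModule.mkLinearMap P.primeCompl M) α x, ← hx, Submonoid.smul_def, map_smul, hz, smul_zero]
      obtain ⟨u, hu⟩ := (IsLocalizedModule.eq_zero_iff P.primeCompl _).mp h1
      obtain ⟨s', hs', hs'x⟩ := DevissageLocal.exists_smul_eq_zero p P α rfl hover hsurj hker hflat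
        (x := (u : B) • x) (by rw [map_smul]; exact hu)
      refine IsLocalizedModule.smul_injective (LocalizedModule.mkLinearMap P.primeCompl (Fin r → B)) s ?_
      show s • z = s • (0 : LocalizedModule P.primeCompl (Fin r → B))
      rw [smul_zero, hx]
      refine (IsLocalizedModule.eq_zero_iff P.primeCompl _).mpr
        ⟨⟨algebraMap R B s' * u, mul_mem (s := P.primeCompl) (fun h => hs' (hover.over ▸ h)) u.2⟩, ?_⟩
      show (algebraMap R B s' * u) • x = 0
      rw [mul_smul, algebraMap_smul, hs'x]
    · intro z
      obtain ⟨⟨m, s⟩, hm⟩ := IsLocalizedModule.surj P.primeCompl (LocalizedModule.mkLinearMap P.primeCompl M) z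
      obtain ⟨t, ht, g, hg⟩ := hsurj m
      refine ⟨IsLocalizedModule.mk' (LocalizedModule.mkLinearMap P.primeCompl (Fin r → B)) g (⟨t, ht⟩ * s), ?_⟩
      rw [IsLocalizedModule.map_mk', IsLocalizedModule.mk'_eq_iff, ← hg, map_smul, ← hm, mul_smul]
      rfl)
  have hopen : IsOpen (PrimeSpectrum.comap (algebraMap R B) '' (PrimeSpectrum.basicOpen b : Set (PrimeSpectrum B))) :=
    PrimeSpectrum.isOpenMap_comap_of_hasGoingDown_of_finitePresentation _ (PrimeSpectrum.basicOpen b).isOpen
  have hmem : (⟨p, inferInstance⟩ : PrimeSpectrum R) ∈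
      PrimeSpectrum.comap (algebraMap R B) '' (PrimeSpectrum.basicOpen b : Set (PrimeSpectrum B)) :=
    ⟨⟨P, inferInstance⟩, hb, PrimeSpectrum.ext hover.over.symm⟩
  obtain ⟨_, ⟨f, rfl⟩, hpf, hf⟩ := PrimeSpectrum.isTopologicalBasis_basic_opens.exists_subset_of_mem_open hmem hopen
  refine ⟨f, hpf, fun q _ hfq => ?_⟩
  obtain ⟨Q, hbQ, hQq⟩ := hf (show (⟨q, inferInstance⟩ : PrimeSpectrum R) ∈ _ from hfq)
  haveI := isPrime_map hgi q
  have hbq : b ∉ q.map (algebraMap R B) := fun h => hbQ (Ideal.map_le_iff_le_comap.mpr
    (le_of_eq (congrArg PrimeSpectrum.asIdeal hQq).symm) h)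
  refine ⟨fun m => ?_, fun g t ht h i => ?_⟩
  · obtain ⟨y, hy⟩ := hbb.2 (LocalizedModule.mk m 1)
    induction y using LocalizedModule.induction_on with
    | h g s =>
      obtain ⟨w, hw⟩ := s.2
      rw [LocalizedModule.map_mk, LocalizedModule.mk_eq] at hy
      obtain ⟨⟨_, k, rfl⟩, hk⟩ := hy
      simp only [Submonoid.smul_def, OneMemClass.coe_one, one_smul] at hk
      refine ⟨b ^ k * b ^ w, fun h => ?_, b ^ k • g, ?_⟩
      · rw [← pow_add] at h
        exact hbq (Ideal.IsPrime.mem_of_pow_mem inferInstance _ h)
      · rw [map_smul, mul_smul]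
        simpa [← hw] using hk.symm
  · have h0 : LocalizedModule.mk (t • g) (1 : Submonoid.powers b) = 0 := hbb.1 (by
      rw [LocalizedModule.map_mk, map_smul, h, LocalizedModule.zero_mk, map_zero])
    rw [← LocalizedModule.mkLinearMap_apply] at h0
    obtain ⟨⟨_, k, rfl⟩, hk⟩ := (IsLocalizedModule.eq_zero_iff (Submonoid.powers b) (LocalizedModule.mkLinearMap _ _)).mp h0
    have h1 : b ^ k * (t * g i) = 0 := congrFun hk i
    have h2 : b ^ k * (t * g i) ∈ q.map (algebraMap R B) := h1 ▸ zero_mem _
    exact ((Ideal.IsPrime.mem_or_mem inferInstance ((Ideal.IsPrime.mem_or_mem inferInstance h2).resolve_left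
      fun h => hbq (Ideal.IsPrime.mem_of_pow_mem inferInstance _ h))).resolve_left ht)

end good

section spread

variable {R S : Type u} [CommRing R] [CommRing S] [Algebra R S] {N : Type u} [AddCommGroup N] [Module S N]
  [Module R N] [IsScalarTower R S N] {rr : Ideal R} [rr.IsPrime] (D : FlatCA.CompleteDevissage R S N rr)

theorem tower_A (i : ℕ) : IsScalarTower R (D.A i) (D.M i) :=
  IsScalarTower.of_algebraMap_smul fun r m => by
    rw [IsScalarTower.algebraMap_apply R (D.B i) (D.A i), algebraMap_smul, algebraMap_smul]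

theorem tower_B (i : ℕ) : IsScalarTower R (D.B i) (D.M (i + 1)) :=
  haveI := tower_A D (i + 1)
  IsScalarTower.of_algebraMap_smul fun r m => by
    rw [← algebraMap_smul (D.A (i + 1)) (algebraMap R (D.B i) r) m, ← IsScalarTower.algebraMap_apply, algebraMap_smul]

theorem isoN_smul (r : R) (x : N) : D.isoN (r • x) = r • D.isoN x := by
  haveI := tower_A D 0
  rw [← algebraMap_smul S r x, map_smul, ← algebraMap_smul (D.A 0) (algebraMap R S r) (D.isoN x),
    ← IsScalarTower.algebraMap_apply, algebraMap_smul]

/-- All modules of the dévissage of a finitely presented module are finitely presented. -/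
theorem fp_M [Algebra.FinitePresentation R S] [Module.FinitePresentation S N] :
    ∀ i, i < D.n → Module.FinitePresentation (D.B i) (D.M i) := by
  have step : ∀ i, i < D.n → Algebra.FinitePresentation R (D.A i) → Module.FinitePresentation (D.A i) (D.M i) →
      Module.FinitePresentation (D.B i) (D.M i) := fun i hi h1 h2 => by
    haveI := h1
    haveI := h2
    haveI := D.smooth i hi
    haveI := D.finiteBA i hi
    haveI : Algebra.FinitePresentation (D.B i) (D.A i) :=
      Algebra.FinitePresentation.of_restrict_scalars_finitePresentation R (D.B i) (D.A i)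
    haveI := Module.FinitePresentation.of_finite_of_finitePresentation (D.B i) (D.A i)
    exact Module.FinitePresentation.trans (D.B i) (D.M i) (D.A i)
  intro i
  induction i with
  | zero =>
    intro hi
    haveI := D.fpSA
    haveI := D.finiteM 0 hi
    haveI : Module.Finite S (D.A 0) := Module.Finite.of_surjective (Algebra.linearMap S (D.A 0)) D.surjSA
    haveI : Module.FinitePresentation S (D.M 0) := Module.FinitePresentation.of_equiv D.isoN
    exact step 0 hi (Algebra.FinitePresentation.trans R S (D.A 0))
      (DevissageFree.finitePresentation_of_restrictScalars (B := S))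
  | succ i ih =>
    intro hi
    have hi' : i < D.n := by omega
    haveI := ih hi'
    haveI := D.fpBA' i hi
    haveI := D.smooth i hi'
    haveI := D.finiteM (i + 1) hi
    haveI : Module.Finite (D.B i) (D.A (i + 1)) :=
      Module.Finite.of_surjective (Algebra.linearMap (D.B i) (D.A (i + 1))) (D.surjBA' i hi)
    haveI : Module.FinitePresentation (D.B i) (D.M i ⧸ LinearMap.range (D.α i)) :=
      Module.finitePresentation_of_surjective (LinearMap.range (D.α i)).mkQ (Submodule.mkQ_surjective _) (by
        rw [Submodule.ker_mkQ]; exact Submodule.fg_range _)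
    haveI : Module.FinitePresentation (D.B i) (D.M (i + 1)) := Module.FinitePresentation.of_equiv (D.isoCoker i hi)
    exact step (i + 1) hi (Algebra.FinitePresentation.trans R (D.B i) (D.A (i + 1)))
      (DevissageFree.finitePresentation_of_restrictScalars (B := D.B i))

/-- On a neighbourhood of `rr` all the maps are fibrewise bijective and all modules flat. -/
theorem exists_spread [Algebra.FinitePresentation R S] [Module.FinitePresentation S N] [Module.Flat R N] :
    ∀ k, k ≤ D.n → ∃ f, f ∉ rr ∧
      (∀ i, i < k → ∀ (p : Ideal R) [p.IsPrime], f ∉ p → Good (D.α i) p) ∧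
      (k < D.n → ∀ (Q : Ideal (D.B k)) [Q.IsPrime], algebraMap R (D.B k) f ∉ Q →
        FlatPred.Pred R Q.primeCompl (D.M k)) := by
  intro k
  induction k with
  | zero =>
    intro _
    let eR : N ≃ₗ[R] D.M 0 := { D.isoN.toAddEquiv with map_smul' := isoN_smul D }
    haveI : Module.Flat R (D.M 0) := Module.Flat.of_linearEquiv eR.symm
    exact ⟨1, fun h => ‹rr.IsPrime›.ne_top ((Ideal.eq_top_iff_one _).mpr h), fun i hi => absurd hi (Nat.not_lt_zero i),
      fun _ Q _ _ => FlatPred.pred_of_flat _⟩
  | succ k ih =>
    intro hk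
    obtain ⟨f, hf, hgood, hflat⟩ := ih (by omega)
    have hk' : k < D.n := by omega
    haveI := D.smooth k hk'
    haveI := fp_M D k hk'
    have hgi := D.geomIrred k hk'
    haveI := isPrime_map hgi rr
    obtain ⟨g, hg, hgood'⟩ := exists_good (D.α k) hgi rr (D.fibreIso k hk')
      (hflat hk' _ fun h => hf ((liesOver_map hgi rr).over ▸ h))
    have hgood'' : ∀ i, i < k + 1 → ∀ (p : Ideal R) [p.IsPrime], f * g ∉ p → Good (D.α i) p := by
      intro i hi p _ hp
      rcases Nat.lt_succ_iff_lt_or_eq.mp hi with h | rfl
      · exact hgood i h p fun h => hp (p.mul_mem_right _ h)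
      · exact hgood' p fun h => hp (p.mul_mem_left _ h)
    refine ⟨f * g, fun h => (Ideal.IsPrime.mem_or_mem inferInstance h).elim hf hg, hgood'', fun hk1 Q _ hQ => ?_⟩
    haveI := SmoothProjective.projective_of_smooth R (D.B k) hgi
    haveI := tower_A D (k + 1)
    haveI := tower_B D k
    haveI := D.finiteBA (k + 1) hk1
    haveI : Algebra.IsIntegral (D.B (k + 1)) (D.A (k + 1)) := Algebra.IsIntegral.of_finite _ _
    refine pred_of_forall_prime_over (A := D.A (k + 1)) Q fun 𝔮 _ h𝔮 => ?_
    let Q' := 𝔮.comap (algebraMap (D.B k) (D.A (k + 1)))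
    let p := Q'.comap (algebraMap R (D.B k))
    have hfp : f * g ∉ p := fun h => hQ (by
      rw [h𝔮.over]
      show algebraMap (D.B (k + 1)) (D.A (k + 1)) (algebraMap R (D.B (k + 1)) (f * g)) ∈ 𝔮
      rw [← IsScalarTower.algebraMap_apply, IsScalarTower.algebraMap_apply R (D.B k) (D.A (k + 1))]
      exact h)
    haveI := isPrime_map hgi p
    obtain ⟨hs, hk2⟩ := hgood'' k (Nat.lt_succ_self k) p hfp
    have hQ' : FlatPred.Pred R Q'.primeCompl (D.M k) := hflat hk' Q' fun h => hfp (p.mul_mem_right _ h)
    have h1 := DevissageLocal.pred_coker p (p.map (algebraMap R (D.B k))) (D.α k) rfl (liesOver_map hgi p) hs hk2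
      (hQ'.mono fun (b : D.B k) (hb : b ∈ Q'.primeCompl) hmem => hb (Ideal.map_le_iff_le_comap.mpr le_rfl hmem))
      (LinearMap.range (D.α k)).mkQ (LinearMap.range (D.α k)).mkQ_surjective (Submodule.ker_mkQ _)
      (U := Q'.primeCompl) (fun s hs hmem => hs hmem) hQ'
    have h2 := h1.of_equiv (D.isoCoker k hk1).toAddEquiv
      (fun r x => LinearMap.map_smul_of_tower (D.isoCoker k hk1).toLinearMap r x)
      (fun a x => map_smul (D.isoCoker k hk1) a x)
    exact h2.of_dvd fun (u : D.B k) (hu : u ∈ Q'.primeCompl) => ⟨algebraMap (D.B k) (D.A (k + 1)) u, 1,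
      fun hmem => hu hmem, fun m => by rw [one_smul, algebraMap_smul]⟩

theorem injective_map [Algebra.FinitePresentation R S] [Module.FinitePresentation S N] [Module.Flat R N] :
    ∃ f, f ∉ rr ∧ ∀ i, i < D.n →
      Function.Injective (LocalizedModule.map (Submonoid.powers f) ((D.α i).restrictScalars R)) := by
  have h : ∀ i, i ≤ D.n → ∃ f, f ∉ rr ∧ ∀ j, j < i → ∀ (x : Fin (D.r j) → D.B j), D.α j x = 0 →
      ∃ n : ℕ, f ^ n • x = 0 := by
    intro i
    induction i with
    | zero => exact fun _ => ⟨1, fun h => ‹rr.IsPrime›.ne_top ((Ideal.eq_top_iff_one _).mpr h), fun j hj => absurd hj (Nat.not_lt_zero j)⟩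
    | succ i ih =>
      intro hi
      obtain ⟨f, hf, hfj⟩ := ih (by omega)
      obtain ⟨g₁, hg₁, hgood, -⟩ := exists_spread D (i + 1) hi
      obtain ⟨g₂, hg₂, -, hflat⟩ := exists_spread D i (by omega)
      refine ⟨f * (g₁ * g₂), fun h => (Ideal.IsPrime.mem_or_mem inferInstance h).elim hf fun h =>
        (Ideal.IsPrime.mem_or_mem inferInstance h).elim hg₁ hg₂, fun j hj x hx => ?_⟩
      rcases Nat.lt_succ_iff_lt_or_eq.mp hj with hj' | rfl
      · obtain ⟨n, hn⟩ := hfj j hj' x hx
        exact ⟨n, by rw [mul_pow, mul_comm, mul_smul, hn, smul_zero]⟩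
      haveI := D.smooth j (by omega)
      have hgi := D.geomIrred j (by omega)
      haveI := SmoothProjective.projective_of_smooth R (D.B j) hgi
      let a : Ideal R := LinearMap.ker (LinearMap.toSpanSingleton R (Fin (D.r j) → D.B j) x)
      suffices hmem : f * (g₁ * g₂) ∈ a.radical by
        obtain ⟨n, hn⟩ := hmem
        exact ⟨n, hn⟩
      rw [Ideal.radical_eq_sInf]
      refine Submodule.mem_sInf.mpr fun (p : Ideal R) hpp => by_contra fun hfp => ?_
      obtain ⟨hap, hp⟩ := hpp
      haveI : p.IsPrime := hp
      haveI := isPrime_map hgi p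
      haveI := liesOver_map hgi p
      obtain ⟨hs, hk⟩ := hgood j (Nat.lt_succ_self j) p fun h => hfp (p.mul_mem_left _ (p.mul_mem_right _ h))
      have hP : FlatPred.Pred R (p.map (algebraMap R (D.B j))).primeCompl (D.M j) := hflat (by omega) _ fun h =>
        hfp (p.mul_mem_left _ (p.mul_mem_left _ ((liesOver_map hgi p).over ▸ h)))
      obtain ⟨s, hs', hsx⟩ := DevissageLocal.exists_smul_eq_zero p _ (D.α j) rfl (liesOver_map hgi p) hs hk hP hx
      exact hs' (hap hsx)
  obtain ⟨f, hf, hfj⟩ := h D.n le_rfl
  refine ⟨f, hf, fun i hi => (injective_iff_map_eq_zero _).mpr fun z hz => ?_⟩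
  induction z using LocalizedModule.induction_on with
  | h x s =>
    rw [LocalizedModule.map_mk, ← LocalizedModule.zero_mk s, LocalizedModule.mk_eq] at hz
    obtain ⟨⟨_, k, rfl⟩, hk⟩ := hz
    simp only [Submonoid.smul_def, smul_zero, LinearMap.coe_restrictScalars] at hk
    rw [← LinearMap.map_smul_of_tower, ← LinearMap.map_smul_of_tower] at hk
    obtain ⟨n, hn⟩ := hfj i hi _ hk
    rw [← LocalizedModule.zero_mk s, LocalizedModule.mk_eq]
    exact ⟨⟨f ^ n * f ^ k, mul_mem (pow_mem (Submonoid.mem_powers f) n) (pow_mem (Submonoid.mem_powers f) k)⟩, by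
      simp only [Submonoid.smul_def, mul_smul, smul_zero]
      exact hn⟩

end spread

section localized

variable {R : Type u} [CommRing R] (U : Submonoid R) {X Y Z : Type u} [AddCommGroup X] [Module R X]
  [AddCommGroup Y] [Module R Y] [AddCommGroup Z] [Module R Z]

theorem map_surjective {g : X →ₗ[R] Y} (hg : Function.Surjective g) :
    Function.Surjective (LocalizedModule.map U g) := fun y => by
  induction y using LocalizedModule.induction_on with
  | h m s =>
    obtain ⟨x, rfl⟩ := hg m
    exact ⟨LocalizedModule.mk x s, LocalizedModule.map_mk U g x s⟩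

/-- A right exact sequence which becomes left exact and has projective end after localising splits there. -/
theorem split_localized {g : X →ₗ[R] Y} {h : Y →ₗ[R] Z} (hex : Function.Exact g h) (hh : Function.Surjective h)
    (hinj : Function.Injective (LocalizedModule.map U g)) [Module.Projective (Localization U) (LocalizedModule U Z)] :
    Nonempty (LocalizedModule U Y ≃ₗ[Localization U] LocalizedModule U X × LocalizedModule U Z) := by
  have hex' : Function.Exact (LocalizedModule.map U g) (LocalizedModule.map U h) := fun y => by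
    induction y using LocalizedModule.induction_on with
    | h m s =>
      constructor
      · intro hm
        rw [LocalizedModule.map_mk, ← LocalizedModule.zero_mk s, LocalizedModule.mk_eq] at hm
        obtain ⟨u, hu⟩ := hm
        have hu' : h (((u : R) * s) • m) = 0 := by
          rw [map_smul, mul_smul]
          simpa [Submonoid.smul_def] using hu
        obtain ⟨x, hx⟩ := (hex _).mp hu'
        refine ⟨LocalizedModule.mk x ((u * s) * s), ?_⟩
        rw [LocalizedModule.map_mk, hx]
        exact LocalizedModule.mk_cancel_common_left (u * s) s m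
      · rintro ⟨x, hx⟩
        rw [← hx]
        induction x using LocalizedModule.induction_on with
        | h a t =>
          rw [LocalizedModule.map_mk, LocalizedModule.map_mk, (hex (g a)).mpr ⟨a, rfl⟩, LocalizedModule.zero_mk]
  obtain ⟨σ, hσ⟩ := Module.projective_lifting_property (LocalizedModule.map U h) LinearMap.id (map_surjective U hh)
  exact ⟨((Function.Exact.splitSurjectiveEquiv hex' hinj) ⟨σ, hσ⟩).1⟩

theorem nonempty_localized_pi (B : Type u) [CommRing B] [Algebra R B] (r : ℕ) :
    Nonempty (LocalizedModule U (Fin r → B) ≃ₗ[Localization U] (Fin r → Localization U ⊗[R] B)) :=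
  ⟨(LocalizedModule.equivTensorProduct U (Fin r → B)).trans
    (TensorProduct.piRight R (Localization U) (Localization U) fun _ : Fin r => B)⟩

end localized

section main

variable {R S : Type u} [CommRing R] [CommRing S] [Algebra R S] {N : Type u} [AddCommGroup N] [Module S N]
  [Module R N] [IsScalarTower R S N] [Algebra.FinitePresentation R S] [Module.FinitePresentation S N]
  [Module.Flat R N] {rr : Ideal R} [rr.IsPrime]

/-- **A flat module with a complete dévissage over `rr` is projective near `rr`.** -/
theorem main (D : FlatCA.CompleteDevissage R S N rr) :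
    ∃ f : R, f ∉ rr ∧
      Module.Projective (Localization.Away f) (LocalizedModule (Submonoid.powers f) N) ∧
      ∃ (k : ℕ) (B : Fin k → Type u) (_ : ∀ i, CommRing (B i)) (_ : ∀ i, Algebra (Localization.Away f) (B i)) (r : Fin k → ℕ),
        (∀ i, Algebra.Smooth (Localization.Away f) (B i) ∧ FlatCA.GeomIrredFibres (Localization.Away f) (B i)) ∧
        Nonempty (LocalizedModule (Submonoid.powers f) N ≃ₗ[Localization.Away f] (∀ i, Fin (r i) → B i)) := by
  obtain ⟨f, hf, hinj⟩ := injective_map D
  let U := Submonoid.powers f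
  let L : ℕ → Type u := fun i => LocalizedModule U (D.M i)
  let X : ℕ → Type u := fun i => Fin (D.r i) → Localization U ⊗[R] D.B i
  have hX : ∀ i, i < D.n → Module.Projective (Localization U) (X i) := fun i hi => by
    haveI := D.smooth i hi
    haveI := SmoothProjective.projective_of_smooth R (D.B i) (D.geomIrred i hi)
    exact Module.Projective.of_equiv (DFinsupp.linearEquivFunOnFintype (R := Localization U)
      (M := fun _ : Fin (D.r i) => Localization U ⊗[R] D.B i))
  have hlast : Nonempty (L (D.n - 1) ≃ₗ[Localization U] X (D.n - 1)) := by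
    have hlt : D.n - 1 < D.n := by have := D.pos; omega
    let e := LinearEquiv.ofBijective (LocalizedModule.map U ((D.α (D.n - 1)).restrictScalars R))
      ⟨hinj _ hlt, map_surjective U (g := (D.α (D.n - 1)).restrictScalars R) D.cokerLast⟩
    exact (nonempty_localized_pi U (D.B (D.n - 1)) (D.r (D.n - 1))).map e.symm.trans
  have hstep : ∀ k i, i + k + 1 = D.n → Module.Projective (Localization U) (L i) ∧
      (0 < k → Nonempty (L i ≃ₗ[Localization U] X i × L (i + 1))) := by
    intro k
    induction k with
    | zero =>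
      intro i hi
      obtain rfl : i = D.n - 1 := by omega
      obtain ⟨e⟩ := hlast
      haveI := hX (D.n - 1) (by omega)
      exact ⟨Module.Projective.of_equiv e.symm, fun h => absurd h (lt_irrefl 0)⟩
    | succ k ih =>
      intro i hi
      have hi' : i < D.n := by omega
      have hi1 : i + 1 < D.n := by omega
      haveI := (ih (i + 1) (by omega)).1
      haveI := tower_B D i
      let π : D.M i →ₗ[D.B i] D.M (i + 1) :=
        (D.isoCoker i hi1).toLinearMap ∘ₗ (LinearMap.range (D.α i)).mkQ
      have hπ : Function.Surjective π := (D.isoCoker i hi1).surjective.comp (Submodule.mkQ_surjective _)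
      have hker : LinearMap.ker π = LinearMap.range (D.α i) := by
        rw [LinearMap.ker_comp, LinearEquiv.ker, Submodule.comap_bot, Submodule.ker_mkQ]
      haveI : Module.Projective (Localization U) (LocalizedModule U (D.M (i + 1))) := (ih (i + 1) (by omega)).1
      obtain ⟨e⟩ := split_localized U (g := (D.α i).restrictScalars R) (h := π.restrictScalars R)
        (LinearMap.exact_iff.mpr (by rw [LinearMap.ker_restrictScalars, hker, LinearMap.range_restrictScalars]))
        hπ (hinj i hi')
      obtain ⟨e'⟩ := nonempty_localized_pi U (D.B i) (D.r i)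
      haveI := hX i hi'
      haveI : Module.Projective (Localization U) (L (i + 1)) := (ih (i + 1) (by omega)).1
      let e'' : L i ≃ₗ[Localization U] X i × L (i + 1) := e.trans (e'.prodCongr (LinearEquiv.refl _ _))
      exact ⟨Module.Projective.of_equiv e''.symm, fun _ => ⟨e''⟩⟩
  obtain ⟨m, hm⟩ : ∃ m, D.n = m + 1 := ⟨D.n - 1, by have := D.pos; omega⟩
  obtain ⟨e⟩ := DevissageFree.nonempty_pi_equiv (R := Localization U) m L X
    (fun i hi => (hstep (m - i) i (by omega)).2 (by omega))
    (by rwa [show m = D.n - 1 by omega])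
  let eR : N ≃ₗ[R] D.M 0 := { D.isoN.toAddEquiv with map_smul' := isoN_smul D }
  let eN : LocalizedModule U N ≃ₗ[Localization U] L 0 := (LocalizedModule.equivTensorProduct U N).trans
    ((LinearEquiv.baseChange R (Localization U) _ _ eR).trans (LocalizedModule.equivTensorProduct U (D.M 0)).symm)
  haveI := (hstep m 0 (by omega)).1
  refine ⟨f, hf, Module.Projective.of_equiv eN.symm, m + 1, fun i => Localization U ⊗[R] D.B i,
    fun i => inferInstance, fun i => inferInstance, fun i => D.r i, fun i => ?_, ⟨eN.trans e⟩⟩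
  haveI := D.smooth i (show (i : ℕ) < D.n by omega)
  refine ⟨inferInstanceAs (Algebra.Smooth (Localization U) (Localization U ⊗[R] D.B i)), ?_⟩
  have h := SmoothProjective.geomIrredFibres_iff.mp (D.geomIrred i (show (i : ℕ) < D.n by omega))
  refine SmoothProjective.geomIrredFibres_iff.mpr fun K _ _ => ?_
  letI : Algebra R K := ((algebraMap (Localization U) K).comp (algebraMap R (Localization U))).toAlgebra
  haveI : IsScalarTower R (Localization U) K := .of_algebraMap_eq fun _ => rfl
  haveI := h K
  let e' := Algebra.TensorProduct.cancelBaseChange R (Localization U) K K (D.B i)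
  exact SmoothProjective.isPrime_nilradical_comap e'.toRingEquiv.toRingHom e'.injective

end main

end Groth.RaynaudGruson.DevissageProj
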