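import Groth.Agent.RaynaudGruson.FlatNbhd
import Groth.Agent.S1277
import Groth.Agent.S1231
import Mathlib

/-!
Transfer of flatness and finite presentation along an elementary dévissage.
-/

set_option autoImplicit false
universe u

open TensorProduct

namespace Groth.RaynaudGruson.ElemTransfer

/-- Finite presentation over a finite extension from finite presentation below. -/
theorem fp_of_restrict {B C M : Type u} [CommRing B] [CommRing C] [Algebra B C] [Module.Finite B C] [AddCommGroup M]
    [Module B M] [Module C M] [IsScalarTower B C M] [Module.Finite C M] [Module.FinitePresentation B M] :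
    Module.FinitePresentation C M := by
  obtain ⟨n, f, hf⟩ := Module.Finite.exists_fin' C M
  refine Module.finitePresentation_of_surjective f hf ?_
  haveI : Module.Finite B (Fin n → C) := inferInstance
  have h := Module.FinitePresentation.fg_ker (f.restrictScalars B) hf
  rw [LinearMap.ker_restrictScalars] at h
  haveI : Module.Finite B (LinearMap.ker f) := Module.Finite.iff_fg.mpr h
  haveI : Module.Finite C (LinearMap.ker f) := Module.Finite.of_restrictScalars_finite B C _
  exact Module.Finite.iff_fg.mp inferInstance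

/-- Finite presentation of a localised module, as a property of the tensor product. -/
theorem fp_localized_iff {B M : Type u} [CommRing B] [AddCommGroup M] [Module B M] (U : Submonoid B) :
    Module.FinitePresentation (Localization U) (LocalizedModule U M) ↔
      Module.FinitePresentation (Localization U) (Localization U ⊗[B] M) :=
  LinearEquiv.finitePresentation_iff (LocalizedModule.equivTensorProduct U M)

/-- Finite presentation of a localised module base changes. -/
theorem fp_localized_map {B B' : Type u} [CommRing B] [CommRing B'] [Algebra B B'] {M M' : Type u} [AddCommGroup M]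
    [Module B M] [AddCommGroup M'] [Module B' M'] [Module B M'] [IsScalarTower B B' M'] {f : M →ₗ[B] M'}
    (hf : IsBaseChange B' f) (U : Submonoid B) (W : Submonoid B')
    (hUW : ∀ u ∈ U, IsUnit (algebraMap B' (Localization W) (algebraMap B B' u)))
    (h : Module.FinitePresentation (Localization U) (LocalizedModule U M)) :
    Module.FinitePresentation (Localization W) (LocalizedModule W M') := by
  let BU := Localization U
  let BW := Localization W
  let φ : BU →+* BW := IsLocalization.lift (M := U) (g := (algebraMap B' BW).comp (algebraMap B B'))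
    fun u => hUW u u.2
  letI : Algebra BU BW := φ.toAlgebra
  haveI : IsScalarTower B BU BW := .of_algebraMap_eq fun b => by
    show algebraMap B BW b = φ (algebraMap B BU b)
    rw [IsLocalization.lift_eq, IsScalarTower.algebraMap_apply B B' BW]
    rfl
  haveI := h
  haveI : Module.FinitePresentation BW (BW ⊗[BU] LocalizedModule U M) := inferInstance
  rw [fp_localized_iff]
  exact Module.FinitePresentation.of_equiv
    ((((LinearEquiv.baseChange BU BW _ _ (LocalizedModule.equivTensorProduct U M)).trans
      (AlgebraTensorModule.cancelBaseChange B BU BW BW M)).trans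
      (AlgebraTensorModule.cancelBaseChange B B' BW BW M).symm).trans
      (LinearEquiv.baseChange B' BW _ _ hf.equiv))

/-- Finite presentation of a localised module is insensitive to a finite, finitely presented change of rings. -/
theorem fp_localized_iff_of_finite {B C G : Type u} [CommRing B] [CommRing C] [Algebra B C]
    [Module.FinitePresentation B C] [AddCommGroup G] [Module B G] [Module C G] [IsScalarTower B C G]
    [Module.Finite C G] (U : Submonoid B) (V : Submonoid C) (hUV : ∀ u ∈ U, algebraMap B C u ∈ V)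
    (hV : ∀ v ∈ V, ∃ u ∈ U, v ∣ algebraMap B C u) :
    Module.FinitePresentation (Localization U) (LocalizedModule U G) ↔
      Module.FinitePresentation (Localization V) (LocalizedModule V G) := by
  let B' := Localization U
  let C' := Localization V
  haveI hloc : IsLocalization (Algebra.algebraMapSubmonoid C U) C' := by
    let C₀ := Localization (Algebra.algebraMapSubmonoid C U)
    haveI : IsLocalization V C₀ := IsLocalization.of_le_of_exists_dvd (Algebra.algebraMapSubmonoid C U) V
      (by rintro _ ⟨u, hu, rfl⟩; exact hUV u hu) fun v hv => by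
        obtain ⟨u, hu, hd⟩ := hV v hv
        exact ⟨_, ⟨u, hu, rfl⟩, hd⟩
    exact IsLocalization.isLocalization_of_algEquiv _ (IsLocalization.algEquiv V C₀ C')
  let φ : B' →+* C' := IsLocalization.lift (M := U) (g := (algebraMap C C').comp (algebraMap B C))
    fun u => IsLocalization.map_units C' ⟨_, hUV u u.2⟩
  letI : Algebra B' C' := φ.toAlgebra
  haveI : IsScalarTower B B' C' := .of_algebraMap_eq fun b => by
    show algebraMap B C' b = φ (algebraMap B B' b)
    rw [IsLocalization.lift_eq, IsScalarTower.algebraMap_apply B C C']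
    rfl
  haveI hp : Algebra.IsPushout B C B' C' := Algebra.isPushout_of_isLocalization U B' C C'
  haveI hp' : Algebra.IsPushout B B' C C' := Algebra.IsPushout.symm hp
  haveI : Module.FinitePresentation B' (B' ⊗[B] C) := inferInstance
  haveI : Module.FinitePresentation B' C' :=
    Module.FinitePresentation.of_equiv (Algebra.IsPushout.equiv B B' C C').toLinearEquiv
  let e : C' ⊗[C] G ≃ₗ[B'] B' ⊗[B] G := Algebra.IsPushout.cancelBaseChange B B' C C' G
  rw [fp_localized_iff, fp_localized_iff]
  constructor
  · intro h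
    haveI := h
    haveI : Module.FinitePresentation B' (C' ⊗[C] G) := Module.FinitePresentation.of_equiv e.symm
    exact fp_of_restrict (B := B')
  · intro h
    haveI := h
    haveI : Module.FinitePresentation B' (C' ⊗[C] G) := Module.FinitePresentation.trans B' _ C'
    exact Module.FinitePresentation.of_equiv e

/-- Finite presentation of a localised module only depends on the module up to isomorphism. -/
theorem fp_localized_congr {B M M' : Type u} [CommRing B] [AddCommGroup M] [Module B M] [AddCommGroup M'] [Module B M']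
    (e : M ≃ₗ[B] M') (U : Submonoid B) :
    Module.FinitePresentation (Localization U) (LocalizedModule U M) ↔
      Module.FinitePresentation (Localization U) (LocalizedModule U M') := by
  rw [fp_localized_iff, fp_localized_iff]
  exact LinearEquiv.finitePresentation_iff (LinearEquiv.baseChange B (Localization U) _ _ e)

variable {R S : Type u} [CommRing R] [CommRing S] [Algebra R S]
  {N : Type u} [AddCommGroup N] [Module S N] {p : Ideal R} [p.IsPrime] {q : Ideal S} [q.IsPrime] {n : ℕ}
  (E : FlatCA.ElemDevissage R S N p q n)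

/-- The subset relations between the submonoids of the three rings. -/
theorem z_primeCompl_surj {u : E.C} (hu : u ∉ E.z) : ∃ w : E.S', w ∉ E.q' ∧ algebraMap E.S' E.C w = u := by
  obtain ⟨w, rfl⟩ := E.surjC u
  exact ⟨w, fun h => hu ((Ideal.mem_of_liesOver E.z E.q' w).mp h), rfl⟩

theorem exists_mul_eq {g : E.C} (hg : g ∉ E.z) : ∃ (a : E.C) (b : E.D), b ∉ E.y ∧ g * a = algebraMap E.D E.C b := by
  haveI := E.finiteDC
  haveI : Algebra.IsIntegral E.D E.C := Algebra.IsIntegral.of_finite E.D E.C
  exact FlatPred.exists_mul_eq_algebraMap E.y E.z (fun Q _ h => E.uniq Q h) hg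

theorem flat_tfae [Algebra.FiniteType R S] [Module R N] [IsScalarTower R S N] :
    [FlatCA.FlatAt R q N, FlatCA.FlatAt E.R' E.z E.G, FlatCA.FlatAt E.R' E.y E.G].TFAE ∧
    [∃ g : S, g ∉ q ∧ Module.Flat R (LocalizedModule (Submonoid.powers g) N),
     ∃ g : E.C, g ∉ E.z ∧ Module.Flat E.R' (LocalizedModule (Submonoid.powers g) E.G),
     ∃ g : E.D, g ∉ E.y ∧ Module.Flat E.R' (LocalizedModule (Submonoid.powers g) E.G)].TFAE := by
  haveI := E.finiteDC
  haveI : Algebra.IsIntegral E.D E.C := Algebra.IsIntegral.of_finite E.D E.C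
  haveI := E.etaleR.1
  haveI := E.etaleS.1
  haveI hq'q := E.etaleS.2.1
  letI : Module E.R' E.N' := Module.compHom E.N' (algebraMap E.R' E.S')
  haveI : IsScalarTower E.R' E.S' E.N' := IsScalarTower.of_algebraMap_smul fun _ _ => rfl
  letI : Module R E.N' := Module.compHom E.N' (algebraMap R E.S')
  haveI : IsScalarTower R E.S' E.N' := IsScalarTower.of_algebraMap_smul fun _ _ => rfl
  haveI : IsScalarTower R E.R' E.N' := IsScalarTower.of_algebraMap_smul fun r m => by
    show algebraMap E.R' E.S' (algebraMap R E.R' r) • m = algebraMap R E.S' r • m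
    rw [← IsScalarTower.algebraMap_apply]
  haveI : IsScalarTower E.R' E.S' E.G := IsScalarTower.of_algebraMap_smul fun r m => by
    rw [← algebraMap_smul E.C (algebraMap E.R' E.S' r) m, ← IsScalarTower.algebraMap_apply, algebraMap_smul]
  have hR : ∀ (a : E.R') (m : E.N'), E.iso (a • m) = a • E.iso m := fun a m => by
    rw [← algebraMap_smul E.S' a m, map_smul, algebraMap_smul]
  have hiso : ∀ U : Submonoid E.S', FlatPred.Pred E.R' U E.N' ↔ FlatPred.Pred E.R' U E.G := fun U =>
    ⟨fun h => h.of_equiv E.iso.toAddEquiv hR E.iso.map_smul,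
      fun h => h.of_equiv E.iso.symm.toAddEquiv
        (fun a m => E.iso.injective (by
          show E.iso (E.iso.symm (a • m)) = E.iso (a • E.iso.symm m)
          rw [hR, E.iso.apply_symm_apply, E.iso.apply_symm_apply]))
        E.iso.symm.map_smul⟩
  have hy : ∀ U : E.D, U ∉ E.y → algebraMap E.D E.C U ∉ E.z := fun b hb h =>
    hb ((Ideal.mem_of_liesOver E.z E.y b).mpr h)
  constructor
  · tfae_have 2 ↔ 3 := by
      rw [FlatPred.flatAt_iff, FlatPred.flatAt_iff]
      exact FlatPred.pred_iff_of_unique E.y E.z fun Q _ h => E.uniq Q h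
    tfae_have 1 ↔ 2 := by
      rw [Groth.Agent.S1277.flatAt_iff_of_flat E.f E.isBaseChange q E.q' hq'q.over.symm,
        (Groth.Agent.S1231.result (R := R) (T := E.R') E.N' E.q').1, FlatPred.flatAt_iff, hiso, FlatPred.flatAt_iff]
      constructor
      · exact fun h => h.of_dvd fun u hu => ⟨algebraMap E.S' E.C u, 1,
          fun hz => (show u ∉ E.q' from hu) ((Ideal.mem_of_liesOver E.z E.q' u).mpr hz), fun m => by rw [one_smul, algebraMap_smul]⟩
      · exact fun h => h.of_dvd fun u hu => by
          obtain ⟨w, hw, rfl⟩ := z_primeCompl_surj E hu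
          exact ⟨w, 1, hw, fun m => by rw [one_smul, algebraMap_smul]⟩
    tfae_finish
  · tfae_have 3 → 2 := by
      rintro ⟨b, hb, h⟩
      refine ⟨algebraMap E.D E.C b, hy b hb, (FlatPred.flat_iff _).mpr (((FlatPred.flat_iff _).mp h).of_dvd fun u hu => ?_)⟩
      obtain ⟨k, rfl⟩ := hu
      exact ⟨algebraMap E.D E.C (b ^ k), 1, ⟨k, (map_pow _ _ _).symm⟩, fun m => by rw [one_smul, algebraMap_smul]⟩
    tfae_have 2 → 3 := by
      rintro ⟨g, hg, h⟩
      obtain ⟨a, b, hb, hab⟩ := exists_mul_eq E hg
      refine ⟨b, hb, (FlatPred.flat_iff _).mpr (((FlatPred.flat_iff _).mp h).of_dvd fun u hu => ?_)⟩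
      obtain ⟨k, rfl⟩ := hu
      refine ⟨b ^ k, a ^ k, ⟨k, rfl⟩, fun m => ?_⟩
      rw [smul_smul, show a ^ k * g ^ k = algebraMap E.D E.C (b ^ k) by rw [map_pow, ← hab, mul_pow, mul_comm],
        algebraMap_smul]
    tfae_have 1 → 2 := by
      rintro ⟨g, hg, h⟩
      let g' := algebraMap S E.S' g
      have hg' : g' ∉ E.q' := fun hm => hg ((Ideal.mem_of_liesOver E.q' q g).mpr hm)
      have hflat : Module.Flat R (LocalizedModule (Submonoid.powers g') E.N') :=
        LocalStructureFT.flat_localized_of_forall g' fun Q _ hQ =>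
          (Groth.Agent.S1277.flatAt_iff_of_flat E.f E.isBaseChange (Q.comap (algebraMap S E.S')) Q rfl).mp
            ((FlatPred.flatAt_iff _).mpr (((FlatPred.flat_iff _).mp h).mono (Submonoid.powers_le.mpr hQ)))
      haveI := hflat
      haveI : Module.Flat E.R' (LocalizedModule (Submonoid.powers g') E.N') :=
        Algebra.FormallyUnramified.flat_of_restrictScalars R E.R' _
      have hG := (hiso _).mp ((FlatPred.flat_iff (R := E.R') _).mp ‹_›)
      refine ⟨algebraMap E.S' E.C g', fun hz => hg' ((Ideal.mem_of_liesOver E.z E.q' g').mpr hz),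
        (FlatPred.flat_iff _).mpr (hG.of_dvd fun u hu => ?_)⟩
      obtain ⟨k, rfl⟩ := hu
      exact ⟨algebraMap E.S' E.C (g' ^ k), 1, ⟨k, (map_pow _ _ _).symm⟩, fun m => by rw [one_smul, algebraMap_smul]⟩
    tfae_have 2 → 1 := by
      rintro ⟨g₀, hg₀, h⟩
      obtain ⟨g', hg', rfl⟩ := z_primeCompl_surj E hg₀
      have hN' : FlatPred.Pred E.R' (Submonoid.powers g') E.N' := (hiso _).mpr (((FlatPred.flat_iff _).mp h).of_dvd fun u hu => by
        obtain ⟨k, rfl⟩ := hu
        exact ⟨g' ^ k, 1, ⟨k, rfl⟩, fun m => by
          rw [one_smul]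
          show algebraMap E.S' E.C g' ^ k • m = _
          rw [← map_pow, algebraMap_smul]⟩)
      have hopen : IsOpen (PrimeSpectrum.comap (algebraMap S E.S') '' (PrimeSpectrum.basicOpen g' : Set (PrimeSpectrum E.S'))) :=
        PrimeSpectrum.isOpenMap_comap_of_hasGoingDown_of_finitePresentation _ (PrimeSpectrum.basicOpen g').isOpen
      obtain ⟨_, ⟨g, rfl⟩, hqg, hgU⟩ := PrimeSpectrum.isTopologicalBasis_basic_opens.exists_subset_of_mem_open
        (show (⟨q, inferInstance⟩ : PrimeSpectrum S) ∈ PrimeSpectrum.comap (algebraMap S E.S') ''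
          (PrimeSpectrum.basicOpen g' : Set (PrimeSpectrum E.S')) from
          ⟨⟨E.q', inferInstance⟩, hg', PrimeSpectrum.ext hq'q.over.symm⟩) hopen
      refine ⟨g, hqg, LocalStructureFT.flat_localized_of_forall g fun Q _ hQ => ?_⟩
      obtain ⟨Q', hQ'g, hQ'⟩ := hgU (show (⟨Q, inferInstance⟩ : PrimeSpectrum S) ∈ (PrimeSpectrum.basicOpen g : Set _) from hQ)
      refine (Groth.Agent.S1277.flatAt_iff_of_flat E.f E.isBaseChange Q Q'.asIdeal (congrArg PrimeSpectrum.asIdeal hQ')).mpr ?_
      refine (Groth.Agent.S1231.result (R := R) (T := E.R') E.N' Q'.asIdeal).1.mpr ((FlatPred.flatAt_iff _).mpr (hN'.mono ?_))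
      exact Submonoid.powers_le.mpr hQ'g
    tfae_finish

theorem fp_tfae [Algebra.FinitePresentation R S] [Module.Finite S N] :
    Algebra.FinitePresentation E.D E.C ∧
    [Module.FinitePresentation (Localization.AtPrime q) (LocalizedModule q.primeCompl N),
     Module.FinitePresentation (Localization.AtPrime E.z) (LocalizedModule E.z.primeCompl E.G),
     Module.FinitePresentation (Localization.AtPrime E.y) (LocalizedModule E.y.primeCompl E.G)].TFAE ∧
    [∃ g : S, g ∉ q ∧ Module.FinitePresentation (Localization.Away g) (LocalizedModule (Submonoid.powers g) N),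
     ∃ g : E.C, g ∉ E.z ∧ Module.FinitePresentation (Localization.Away g) (LocalizedModule (Submonoid.powers g) E.G),
     ∃ g : E.D, g ∉ E.y ∧ Module.FinitePresentation (Localization.Away g) (LocalizedModule (Submonoid.powers g) E.G)].TFAE := by
  haveI := E.finiteDC
  haveI := E.finiteG
  haveI := E.fpC
  haveI := E.etaleR.1
  haveI := E.etaleS.1
  haveI hq'q := E.etaleS.2.1
  haveI : Algebra.FinitePresentation R E.S' := Algebra.FinitePresentation.trans R S E.S'
  haveI : Algebra.FinitePresentation E.R' E.S' :=
    Algebra.FinitePresentation.of_restrict_scalars_finitePresentation R E.R' E.S'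
  haveI : Algebra.FinitePresentation E.R' E.C := Algebra.FinitePresentation.trans E.R' E.S' E.C
  haveI := Flatmor4.smooth_of_smoothRelDim E.smooth
  haveI : Algebra.FiniteType E.R' E.D := inferInstance
  haveI hDC : Algebra.FinitePresentation E.D E.C :=
    Algebra.FinitePresentation.of_restrict_scalars_finitePresentation E.R' E.D E.C
  haveI : Module.FinitePresentation E.D E.C := Module.FinitePresentation.of_finite_of_finitePresentation E.D E.C
  haveI : Module.Finite E.S' E.C := Module.Finite.of_surjective (Algebra.linearMap E.S' E.C) E.surjC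
  haveI : Module.FinitePresentation E.S' E.C := Module.FinitePresentation.of_finite_of_finitePresentation E.S' E.C
  have hy : ∀ b : E.D, b ∉ E.y → algebraMap E.D E.C b ∉ E.z := fun b hb h =>
    hb ((Ideal.mem_of_liesOver E.z E.y b).mpr h)
  haveI : Module.Finite E.S' E.N' := Module.Finite.equiv E.isBaseChange.equiv
  have hSC : ∀ (U : Submonoid E.S') (V : Submonoid E.C), (∀ u ∈ U, algebraMap E.S' E.C u ∈ V) →
      (∀ v ∈ V, ∃ u ∈ U, v ∣ algebraMap E.S' E.C u) →
      (Module.FinitePresentation (Localization U) (LocalizedModule U E.N') ↔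
        Module.FinitePresentation (Localization V) (LocalizedModule V E.G)) := fun U V h₁ h₂ =>
    (fp_localized_congr E.iso U).trans (fp_localized_iff_of_finite U V h₁ h₂)
  refine ⟨hDC, ?_, ?_⟩
  · tfae_have 2 ↔ 3 :=
      (fp_localized_iff_of_finite E.y.primeCompl E.z.primeCompl hy fun v hv => by
        obtain ⟨a, b, hb, hab⟩ := exists_mul_eq E hv
        exact ⟨b, hb, a, hab.symm⟩).symm
    tfae_have 1 ↔ 2 := by
      refine Iff.trans ?_ (hSC E.q'.primeCompl E.z.primeCompl
        (fun u hu hz => hu ((Ideal.mem_of_liesOver E.z E.q' u).mpr hz)) fun v hv => by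
          obtain ⟨w, hw, rfl⟩ := z_primeCompl_surj E hv
          exact ⟨w, hw, dvd_rfl⟩)
      have hu : ∀ u ∈ q.primeCompl, IsUnit (algebraMap E.S' (Localization E.q'.primeCompl) (algebraMap S E.S' u)) :=
        fun u hu => IsLocalization.map_units (Localization E.q'.primeCompl)
          (⟨_, fun hm => hu ((Ideal.mem_of_liesOver E.q' q u).mpr hm)⟩ : E.q'.primeCompl)
      refine ⟨fp_localized_map E.isBaseChange _ _ hu, fun h => ?_⟩
      let Sq := Localization.AtPrime q
      let Tq := Localization.AtPrime E.q'
      let φ : Sq →+* Tq := Localization.localRingHom q E.q' (algebraMap S E.S') hq'q.over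
      letI : Algebra Sq Tq := φ.toAlgebra
      haveI : IsScalarTower S Sq Tq := .of_algebraMap_eq fun a => by
        rw [RingHom.algebraMap_toAlgebra, Localization.localRingHom_to_map]
        exact IsScalarTower.algebraMap_apply S E.S' Tq a
      haveI : Module.Flat E.S' Tq := IsLocalization.flat Tq E.q'.primeCompl
      haveI : Module.Flat S Tq := Module.Flat.trans S E.S' Tq
      haveI : Module.Flat Sq Tq := (Module.flat_iff_of_isLocalization Sq q.primeCompl (M := Tq)).mpr inferInstance
      haveI : IsLocalHom (algebraMap Sq Tq) := Localization.isLocalHom_localRingHom q E.q' _ hq'q.over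
      haveI : Module.FaithfullyFlat Sq Tq := Module.FaithfullyFlat.of_flat_of_isLocalHom
      let e : Tq ⊗[Sq] LocalizedModule q.primeCompl N ≃ₗ[Tq] LocalizedModule E.q'.primeCompl E.N' :=
        ((((LinearEquiv.baseChange Sq Tq _ _ (LocalizedModule.equivTensorProduct q.primeCompl N)).trans
          (AlgebraTensorModule.cancelBaseChange S Sq Tq Tq N)).trans
          (AlgebraTensorModule.cancelBaseChange S E.S' Tq Tq N).symm).trans
          (LinearEquiv.baseChange E.S' Tq _ _ E.isBaseChange.equiv)).trans
          (LocalizedModule.equivTensorProduct E.q'.primeCompl E.N').symm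
      haveI := h
      haveI : Module.FinitePresentation Tq (Tq ⊗[Sq] LocalizedModule q.primeCompl N) :=
        Module.FinitePresentation.of_equiv e.symm
      exact LocalStructure.finitePresentation_of_tensor (T := Tq)
    tfae_finish
  · tfae_have 3 → 2 := by
      rintro ⟨b, hb, h⟩
      refine ⟨algebraMap E.D E.C b, hy b hb, (fp_localized_iff_of_finite _ _ ?_ ?_).mp h⟩
      · rintro _ ⟨k, rfl⟩; exact ⟨k, (map_pow _ _ _).symm⟩
      · rintro _ ⟨k, rfl⟩; exact ⟨b ^ k, ⟨k, rfl⟩, dvd_of_eq (map_pow _ _ _).symm⟩
    tfae_have 2 → 3 := by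
      rintro ⟨g, hg, h⟩
      obtain ⟨a, b, hb, hab⟩ := exists_mul_eq E hg
      refine ⟨b, hb, ?_⟩
      refine (fp_localized_iff_of_finite _ (Submonoid.powers (algebraMap E.D E.C b)) ?_ ?_).mpr
        (fp_localized_map (f := (LinearMap.id : E.G →ₗ[E.C] E.G)) (IsBaseChange.ofEquiv (LinearEquiv.refl E.C E.G))
          (Submonoid.powers g) _ ?_ h)
      · rintro _ ⟨k, rfl⟩; exact ⟨k, (map_pow _ _ _).symm⟩
      · rintro _ ⟨k, rfl⟩; exact ⟨b ^ k, ⟨k, rfl⟩, dvd_of_eq (map_pow _ _ _).symm⟩
      · rintro _ ⟨k, rfl⟩
        show IsUnit (algebraMap E.C (Localization.Away (algebraMap E.D E.C b)) (g ^ k))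
        rw [map_pow]
        exact (isUnit_of_dvd_unit (map_dvd _ ⟨a, hab.symm⟩)
          (IsLocalization.Away.algebraMap_isUnit (algebraMap E.D E.C b))).pow k
    tfae_have 1 → 2 := by
      rintro ⟨g, hg, h⟩
      have hg' : algebraMap S E.S' g ∉ E.q' := fun hm => hg ((Ideal.mem_of_liesOver E.q' q g).mpr hm)
      refine ⟨algebraMap E.S' E.C (algebraMap S E.S' g),
        fun hz => hg' ((Ideal.mem_of_liesOver E.z E.q' _).mpr hz), (hSC (Submonoid.powers (algebraMap S E.S' g)) _ ?_ ?_).mp
          (fp_localized_map E.isBaseChange (Submonoid.powers g) _ ?_ h)⟩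
      · rintro _ ⟨k, rfl⟩; exact ⟨k, (map_pow _ _ _).symm⟩
      · rintro _ ⟨k, rfl⟩; exact ⟨algebraMap S E.S' g ^ k, ⟨k, rfl⟩, dvd_of_eq (map_pow _ _ _).symm⟩
      · rintro _ ⟨k, rfl⟩
        exact IsLocalization.map_units (Localization (Submonoid.powers (algebraMap S E.S' g)))
          (⟨_, ⟨k, (map_pow _ _ _).symm⟩⟩ : Submonoid.powers (algebraMap S E.S' g))
    tfae_have 2 → 1 := by
      rintro ⟨g₀, hg₀, h⟩
      obtain ⟨g', hg', rfl⟩ := z_primeCompl_surj E hg₀
      have h' : Module.FinitePresentation (Localization.Away g') (LocalizedModule (Submonoid.powers g') E.N') := by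
        refine (hSC _ _ ?_ ?_).mpr h
        · rintro _ ⟨k, rfl⟩; exact ⟨k, (map_pow _ _ _).symm⟩
        · rintro _ ⟨k, rfl⟩; exact ⟨g' ^ k, ⟨k, rfl⟩, dvd_of_eq (map_pow _ _ _).symm⟩
      let T := Localization.Away g'
      haveI : Algebra.Etale E.S' T := Algebra.Etale.of_isLocalizationAway g'
      haveI : Algebra.Etale S T := Algebra.Etale.comp S E.S' T
      haveI : Module.FinitePresentation T (T ⊗[S] N) := by
        haveI : Module.FinitePresentation T (T ⊗[E.S'] E.N') := (fp_localized_iff _).mp h'
        exact Module.FinitePresentation.of_equiv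
          ((LinearEquiv.baseChange E.S' T _ _ E.isBaseChange.equiv.symm).trans
            (AlgebraTensorModule.cancelBaseChange S E.S' T T N))
      have hopen : IsOpen (Set.range (PrimeSpectrum.comap (algebraMap S T))) :=
        (PrimeSpectrum.isOpenMap_comap_of_hasGoingDown_of_finitePresentation (R := S) (S := T)).isOpen_range
      have hmem : (⟨q, inferInstance⟩ : PrimeSpectrum S) ∈ Set.range (PrimeSpectrum.comap (algebraMap S T)) := by
        have hdisj : Disjoint ((Submonoid.powers g' : Submonoid E.S') : Set E.S') (E.q' : Set E.S') := by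
          refine Set.disjoint_left.mpr ?_
          rintro _ ⟨k, rfl⟩ hm
          exact hg' (E.hq'.mem_of_pow_mem k hm)
        haveI := IsLocalization.isPrime_of_isPrime_disjoint (Submonoid.powers g') T E.q' inferInstance hdisj
        refine ⟨⟨E.q'.map (algebraMap E.S' T), inferInstance⟩, PrimeSpectrum.ext ?_⟩
        show (E.q'.map (algebraMap E.S' T)).comap (algebraMap S T) = q
        rw [IsScalarTower.algebraMap_eq S E.S' T, ← Ideal.comap_comap,
          show (E.q'.map (algebraMap E.S' T)).comap (algebraMap E.S' T) = E.q' from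
            IsLocalization.under_map_of_isPrime_disjoint (Submonoid.powers g') T inferInstance hdisj]
        exact hq'q.over.symm
      obtain ⟨_, ⟨g, rfl⟩, hqg, hgU⟩ :=
        PrimeSpectrum.isTopologicalBasis_basic_opens.exists_subset_of_mem_open hmem hopen
      refine ⟨g, hqg, FlatNbhd.finitePresentation_away (C := T) g fun Q _ hQ => ?_⟩
      obtain ⟨x', hx'⟩ := hgU (show (⟨Q, inferInstance⟩ : PrimeSpectrum S) ∈ (PrimeSpectrum.basicOpen g : Set _) from hQ)
      exact ⟨x'.asIdeal, x'.2, congrArg PrimeSpectrum.asIdeal hx'⟩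
    tfae_finish

end Groth.RaynaudGruson.ElemTransfer
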