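import Groth.Agent.RaynaudGruson.EtaleRoots
import Groth.Agent.FlatmorThree.PureProjective
import Mathlib

/-!
A map of flat modules which is injective modulo the maximal ideal of a local ring is injective on all fibres, when
vanishing in the source is detected in a standard étale neighbourhood `A[X]/(f)` at `𝔮`.
-/

set_option autoImplicit false
set_option linter.style.haveILetI false
universe u

open Polynomial TensorProduct

namespace Groth.RaynaudGruson.EtaleCoord

open EtaleRoots

variable {A M N : Type u} [CommRing A] [AddCommGroup M] [Module A M] [AddCommGroup N] [Module A N]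

/-- Vanishing in `N` is detected by finitely many elements in the semilocalisation at `𝔮`. -/
def HasCoord (N : Type u) [AddCommGroup N] [Module A N] (f : A[X]) (𝔮 : Ideal (AdjoinRoot f)) : Prop :=
  ∀ (Q : Type u) [AddCommGroup Q] [Module A Q] (z : N ⊗[A] Q), ∃ (m : ℕ) (a : Fin m → AdjoinRoot f ⊗[A] Q),
    ∀ (Q₂ : Type u) [AddCommGroup Q₂] [Module A Q₂] (h : Q →ₗ[A] Q₂),
      h.lTensor N z = 0 ↔ ∀ i, ∃ σ : AdjoinRoot f, σ ∉ 𝔮 ∧ σ • h.lTensor (AdjoinRoot f) (a i) = 0

/-- Injectivity on a fibre passes to all vector spaces over it. -/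
theorem lTensor_injective_of_field (u : N →ₗ[A] M) {K : Type u} [Field K] [Algebra A K]
    (hK : Function.Injective (u.lTensor K)) (V : Type u) [AddCommGroup V] [Module A V] [Module K V]
    [IsScalarTower A K V] : Function.Injective (u.lTensor V) := by
  let G : K ⊗[A] N →ₗ[K] K ⊗[A] M := u.baseChange K
  have hG : Function.Injective G := hK
  have hGV : Function.Injective (G.lTensor V) := Module.Flat.lTensor_preserves_injective_linearMap G hG
  let c := AlgebraTensorModule.cancelBaseChange A K K V N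
  let c' := AlgebraTensorModule.cancelBaseChange A K K V M
  have hc : ∀ w, c' (G.lTensor V w) = u.lTensor V (c w) := fun w => by
    induction w using TensorProduct.induction_on with
    | zero => simp
    | add a b ha hb => simp only [map_add, ha, hb]
    | tmul v t =>
      induction t using TensorProduct.induction_on with
      | zero => simp
      | add a b ha hb => simp only [tmul_add, map_add, ha, hb]
      | tmul k n => simp [c, c', G]
  intro a b h
  obtain ⟨a', rfl⟩ := c.surjective a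
  obtain ⟨b', rfl⟩ := c.surjective b
  rw [← hc, ← hc] at h
  exact congrArg c (hGV (c'.injective h))

/-- Injectivity on the fibre at the kernel gives injectivity over any field. -/
theorem lTensor_injective_of_ker (u : N →ₗ[A] M) (q : Ideal A) [q.IsPrime]
    (hq : Function.Injective (u.lTensor q.ResidueField)) (L : Type u) [Field L] [Algebra A L]
    (hker : RingHom.ker (algebraMap A L) = q) (V : Type u) [AddCommGroup V] [Module A V] [Module L V]
    [IsScalarTower A L V] : Function.Injective (u.lTensor V) := by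
  let ι : q.ResidueField →+* L := Ideal.ResidueField.lift q (algebraMap A L) hker.ge fun x hx =>
    isUnit_iff_ne_zero.mpr fun h0 => hx (hker ▸ (h0 : x ∈ RingHom.ker (algebraMap A L)))
  letI : Algebra q.ResidueField L := ι.toAlgebra
  haveI : IsScalarTower A q.ResidueField L :=
    .of_algebraMap_eq fun a => by simp [ι, RingHom.algebraMap_toAlgebra]
  exact lTensor_injective_of_field u (lTensor_injective_of_field u hq L) V

variable {f : A[X]} {𝔮 : Ideal (AdjoinRoot f)}

theorem lTensor_smul {Q Q₂ : Type u} [AddCommGroup Q] [Module A Q] [AddCommGroup Q₂] [Module A Q₂] (h : Q →ₗ[A] Q₂)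
    (σ : AdjoinRoot f) (w : AdjoinRoot f ⊗[A] Q) :
    h.lTensor (AdjoinRoot f) (σ • w) = σ • h.lTensor (AdjoinRoot f) w := by
  induction w with
  | zero => simp
  | tmul t x => simp [smul_tmul']
  | add a b ha hb => simp only [smul_add, map_add, ha, hb]

/-- The coordinates of an element of `N` itself are polynomials. -/
theorem HasCoord.exists_polynomial (hN : HasCoord N f 𝔮) (z : N) :
    ∃ (m : ℕ) (p : Fin m → A[X]), ∀ (W : Type u) [CommRing W] [Algebra A W],
      z ⊗ₜ[A] (1 : W) = 0 ↔ ∀ i, ∃ g : A[X], AdjoinRoot.mk f g ∉ 𝔮 ∧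
        AdjoinRoot.mk f (g * p i) ⊗ₜ[A] (1 : W) = (0 : AdjoinRoot f ⊗[A] W) := by
  obtain ⟨m, a, ha⟩ := hN A (z ⊗ₜ 1)
  have hp : ∀ i, ∃ p : A[X], AdjoinRoot.mk f p ⊗ₜ[A] (1 : A) = a i := fun i => by
    obtain ⟨p, hp⟩ := AdjoinRoot.mk_surjective (TensorProduct.rid A (AdjoinRoot f) (a i))
    exact ⟨p, by rw [hp, ← TensorProduct.rid_symm_apply, LinearEquiv.symm_apply_apply]⟩
  choose p hp using hp
  refine ⟨m, p, fun W _ _ => ?_⟩
  have h1 := ha W (Algebra.linearMap A W)
  rw [LinearMap.lTensor_tmul, Algebra.linearMap_apply, map_one] at h1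
  refine h1.trans (forall_congr' fun i => ?_)
  constructor
  · rintro ⟨σ, hσ, h0⟩
    obtain ⟨g, rfl⟩ := AdjoinRoot.mk_surjective σ
    refine ⟨g, hσ, ?_⟩
    rw [← hp i, LinearMap.lTensor_tmul, Algebra.linearMap_apply, map_one, smul_tmul', smul_eq_mul, ← map_mul] at h0
    exact h0
  · rintro ⟨g, hg, h0⟩
    refine ⟨AdjoinRoot.mk f g, hg, ?_⟩
    rw [← hp i, LinearMap.lTensor_tmul, Algebra.linearMap_apply, map_one, smul_tmul', smul_eq_mul, ← map_mul]
    exact h0

/-- The evaluation at the tautological root. -/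
noncomputable def evalRoot (f : A[X]) (W : Type u) [CommRing W] [Algebra A W] : W[X] →+* AdjoinRoot f ⊗[A] W :=
  eval₂RingHom (Algebra.TensorProduct.includeRight : W →ₐ[A] AdjoinRoot f ⊗[A] W).toRingHom (AdjoinRoot.root f ⊗ₜ 1)

theorem evalRoot_map {W : Type u} [CommRing W] [Algebra A W] (q : A[X]) :
    evalRoot f W (q.map (algebraMap A W)) = AdjoinRoot.mk f q ⊗ₜ 1 := by
  refine RingHom.congr_fun (f := (evalRoot f W).comp (Polynomial.mapRingHom (algebraMap A W)))
    (g := (Algebra.TensorProduct.includeLeftRingHom).comp (AdjoinRoot.mk f))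
    (Polynomial.ringHom_ext (fun a => ?_) ?_) q
  · rw [RingHom.comp_apply, RingHom.comp_apply, coe_mapRingHom, map_C, evalRoot, coe_eval₂RingHom, eval₂_C,
      AdjoinRoot.mk_C, Algebra.TensorProduct.includeLeftRingHom_apply, ← AdjoinRoot.algebraMap_eq]
    exact ((Algebra.TensorProduct.includeRight : W →ₐ[A] AdjoinRoot f ⊗[A] W).commutes a).trans
      (Algebra.TensorProduct.algebraMap_apply a)
  · rw [RingHom.comp_apply, RingHom.comp_apply, coe_mapRingHom, map_X, evalRoot, coe_eval₂RingHom, eval₂_X,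
      AdjoinRoot.mk_X]
    rfl

theorem mk_tmul_eq_zero_of_dvd {W : Type u} [CommRing W] [Algebra A W] {q : A[X]}
    (h : f.map (algebraMap A W) ∣ q.map (algebraMap A W)) :
    AdjoinRoot.mk f q ⊗ₜ[A] (1 : W) = (0 : AdjoinRoot f ⊗[A] W) := by
  obtain ⟨k, hk⟩ := h
  rw [← evalRoot_map, hk, map_mul, evalRoot_map, AdjoinRoot.mk_self, zero_tmul, zero_mul]

theorem eval_eq_zero_of_mk_tmul {W : Type u} [CommRing W] [Algebra A W] {q : A[X]} {r : W}
    (hr : f.eval₂ (algebraMap A W) r = 0) (h : AdjoinRoot.mk f q ⊗ₜ[A] (1 : W) = (0 : AdjoinRoot f ⊗[A] W)) :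
    q.eval₂ (algebraMap A W) r = 0 := by
  let e : AdjoinRoot f ⊗[A] W →ₐ[A] W := Algebra.TensorProduct.lift
    (AdjoinRoot.liftAlgHom f (Algebra.ofId A W) r hr) (AlgHom.id A W) fun _ _ => Commute.all _ _
  have h1 := congrArg e h
  rw [map_zero, Algebra.TensorProduct.lift_tmul, map_one, mul_one, AdjoinRoot.liftAlgHom_mk] at h1
  exact h1

theorem exists_dvd_all {W : Type u} [CommRing W] [IsDomain W] [ValuationRing W] (S : Set W) (hS : S.Finite)
    (hne : S.Nonempty) : ∃ c ∈ S, ∀ c' ∈ S, c ∣ c' := by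
  refine hS.induction_on (motive := fun T _ => T.Nonempty → ∃ c ∈ T, ∀ c' ∈ T, c ∣ c') _ (fun h => absurd h (by simp)) ?_ hne
  intro a T _ _ ih _
  rcases T.eq_empty_or_nonempty with rfl | hT
  · exact ⟨a, by simp, fun c' hc' => (Set.mem_insert_iff.mp hc').elim (fun e => by rw [e]) fun h => h.elim⟩
  obtain ⟨c, hc, hall⟩ := ih hT
  rcases ValuationRing.dvd_total a c with h | h
  · exact ⟨a, Set.mem_insert _ _, fun c' hc' => (Set.mem_insert_iff.mp hc').elim (fun e => by rw [e])
      fun hc' => h.trans (hall c' hc')⟩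
  · exact ⟨c, Set.mem_insert_of_mem _ hc, fun c' hc' => (Set.mem_insert_iff.mp hc').elim (fun e => by rw [e]; exact h)
      fun hc' => hall c' hc'⟩

variable [Module.Flat A M] [Module.Flat A N]

/-- An element of `N` dying in `M ⊗ L` but not at an alive root gives fibres where `u` is not injective. -/
theorem stroke (hf : f.Monic) [𝔮.IsPrime] (hd : AdjoinRoot.mk f (derivative f) ∉ 𝔮) (u : N →ₗ[A] M)
    {L : Type u} [Field L] [IsAlgClosed L] [Algebra A L] (V : ValuationSubring L) (φ : A →+* V)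
    (hφ : V.subtype.comp φ = algebraMap A L) (z : N) {m : ℕ} (p : Fin m → A[X])
    (hp : ∀ (W : Type u) [CommRing W] [Algebra A W], z ⊗ₜ[A] (1 : W) = 0 ↔ ∀ i, ∃ g : A[X],
      AdjoinRoot.mk f g ∉ 𝔮 ∧ AdjoinRoot.mk f (g * p i) ⊗ₜ[A] (1 : W) = (0 : AdjoinRoot f ⊗[A] W))
    (hu : u z ⊗ₜ[A] (1 : L) = 0)
    (hex : ∃ (r : V) (i : Fin m) (P : Ideal V), P.IsPrime ∧ P ≠ ⊥ ∧ f.eval₂ φ r = 0 ∧ Alive f 𝔮 φ r P ∧
      (p i).eval₂ φ r ≠ 0) :
    ∃ r : V, f.eval₂ φ r = 0 ∧ (∃ P : Ideal V, P.IsPrime ∧ P ≠ ⊥ ∧ Alive f 𝔮 φ r P) ∧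
      ∀ (P : Ideal V) [P.IsPrime], P ≠ ⊥ → Alive f 𝔮 φ r P →
        ¬ Function.Injective (u.lTensor (P.comap φ).ResidueField) := by
  classical
  letI : Algebra A V := φ.toAlgebra
  haveI : IsScalarTower A V L := .of_algebraMap_eq fun a => (RingHom.congr_fun hφ a).symm
  have hinj : Function.Injective (algebraMap V L) := Subtype.val_injective
  let roots : Set V := {r | f.eval₂ φ r = 0}
  have hroots : roots.Finite := by
    refine Set.Finite.subset (s := {r : V | (f.map φ).IsRoot r}) ?_ fun r hr => ?_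
    · exact Polynomial.finite_setOfPred_isRoot (hf.map φ).ne_zero
    · rw [Set.mem_ofPred_eq, IsRoot, eval_map]; exact hr
  let S : Set V := {c | ∃ (r : V) (i : Fin m) (P : Ideal V), P.IsPrime ∧ P ≠ ⊥ ∧ f.eval₂ φ r = 0 ∧
    Alive f 𝔮 φ r P ∧ (p i).eval₂ φ r = c ∧ c ≠ 0}
  have hS : S.Finite := by
    refine ((hroots.prod (Set.finite_univ (α := Fin m))).image fun x => (p x.2).eval₂ φ x.1).subset ?_
    rintro c ⟨r, i, P, -, -, hr, -, hc, -⟩
    exact ⟨(r, i), ⟨hr, Set.mem_univ _⟩, hc⟩
  obtain ⟨r₀, i₀, P₀, hP₀, hP₀', hr₀, ha₀, hne₀⟩ := hex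
  obtain ⟨c, ⟨r, i, P₁, hP₁, hP₁', hr, ha₁, hc, hc0⟩, hmin⟩ :=
    exists_dvd_all S hS ⟨_, r₀, i₀, P₀, hP₀, hP₀', hr₀, ha₀, rfl, hne₀⟩
  refine ⟨r, hr, ⟨P₁, hP₁, hP₁', ha₁⟩, fun P hPp hP ha hgood => ?_⟩
  -- the roots lie in `V`
  obtain ⟨s, hs⟩ : ∃ s : Multiset V, f.map φ = (s.map fun a => X - C a).prod := by
    have hsp := Polynomial.Splits.eq_prod_roots_of_monic (IsAlgClosed.splits ((f.map φ).map (algebraMap V L)))
      ((hf.map φ).map (algebraMap V L))
    have hmem : ∀ x ∈ ((f.map φ).map (algebraMap V L)).roots, ∃ y : V, algebraMap V L y = x := fun x hx => by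
      refine IsIntegrallyClosed.algebraMap_eq_of_integral (R := V) ⟨f.map φ, hf.map φ, ?_⟩
      rw [← eval_map]
      exact (mem_roots ((hf.map φ).map (algebraMap V L)).ne_zero).mp hx
    choose y hy using hmem
    refine ⟨((f.map φ).map (algebraMap V L)).roots.attach.map fun x => y x.1 x.2,
      Polynomial.map_injective _ hinj ?_⟩
    rw [Polynomial.map_multiset_prod]
    conv_lhs => rw [hsp, ← Multiset.attach_map_val ((f.map φ).map (algebraMap V L)).roots]
    simp only [Multiset.map_map, Function.comp_def, Polynomial.map_sub, Polynomial.map_X, Polynomial.map_C, hy]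
  -- vanishing modulo `c`
  let W := V ⧸ Ideal.span ({c} : Set V)
  have hW : z ⊗ₜ[A] (1 : W) = 0 := (hp W).mpr fun j => by
    by_contra hno
    simp only [not_exists, not_and] at hno
    let mkT : AdjoinRoot f →+* AdjoinRoot f ⊗[A] W := Algebra.TensorProduct.includeLeftRingHom
    let K : Ideal (AdjoinRoot f ⊗[A] W) :=
      Submodule.colon ⊥ ({mkT (AdjoinRoot.mk f (p j))} : Set (AdjoinRoot f ⊗[A] W))
    let S' : Submonoid (AdjoinRoot f ⊗[A] W) := 𝔮.primeCompl.map mkT
    have hdisj : Disjoint (K : Set (AdjoinRoot f ⊗[A] W)) (S' : Set (AdjoinRoot f ⊗[A] W)) := by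
      rw [Set.disjoint_left]
      rintro _ hσK ⟨σ, hσ, rfl⟩
      obtain ⟨g, rfl⟩ := AdjoinRoot.mk_surjective σ
      refine hno g hσ ?_
      have := Submodule.mem_colon_singleton.mp hσK
      rw [Submodule.mem_bot, smul_eq_mul, ← map_mul, ← map_mul] at this
      exact this
    obtain ⟨Y, hY, hKY, hYd⟩ := Ideal.exists_le_prime_disjoint (α := AdjoinRoot f ⊗[A] W) K S' hdisj
    let ρW : W →+* AdjoinRoot f ⊗[A] W := (Algebra.TensorProduct.includeRight : W →ₐ[A] _).toRingHom
    let ρ : V →+* AdjoinRoot f ⊗[A] W := ρW.comp (Ideal.Quotient.mk _)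
    let ev : V[X] →+* AdjoinRoot f ⊗[A] W := (evalRoot f W).comp (Polynomial.mapRingHom (Ideal.Quotient.mk _))
    have hev : ∀ q : A[X], ev (q.map φ) = mkT (AdjoinRoot.mk f q) := fun q => by
      rw [RingHom.comp_apply, coe_mapRingHom, Polynomial.map_map]
      exact evalRoot_map q
    have hevC : ∀ a : V, ev (C a) = ρ a := fun a => by
      rw [RingHom.comp_apply, coe_mapRingHom, map_C, evalRoot, coe_eval₂RingHom, eval₂_C]; rfl
    obtain ⟨a, has, haY⟩ : ∃ a ∈ s, ev (X - C a) ∈ Y := by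
      have h0 : ev (f.map φ) ∈ Y := by rw [hev, AdjoinRoot.mk_self, map_zero]; exact Y.zero_mem
      rw [hs, map_multiset_prod, Multiset.map_map] at h0
      exact (hY.multiset_prod_mem_iff_exists_mem _).mp h0 |> fun ⟨x, hx, hxY⟩ => by
        obtain ⟨a, ha, rfl⟩ := Multiset.mem_map.mp hx
        exact ⟨a, ha, hxY⟩
    have hfa : f.eval₂ φ a = 0 := by
      rw [← eval_map, hs, eval_multiset_prod, Multiset.map_map]
      exact Multiset.prod_eq_zero (Multiset.mem_map.mpr ⟨a, has, by simp⟩)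
    let Pa : Ideal V := Y.comap ρ
    have hcPa : c ∈ Pa := by
      show ρW (Ideal.Quotient.mk _ c) ∈ Y
      rw [Ideal.Quotient.eq_zero_iff_mem.mpr (Ideal.mem_span_singleton_self c), map_zero]
      exact Y.zero_mem
    haveI hPa : Pa.IsPrime := Ideal.IsPrime.comap ρ
    have hPa0 : Pa ≠ ⊥ := fun h => hc0 (by rwa [h, Ideal.mem_bot] at hcPa)
    have hev' : ∀ q : V[X], ev q - ρ (q.eval a) ∈ Y := fun q => by
      obtain ⟨k, hk⟩ := X_sub_C_dvd_sub_C_eval (a := a) (p := q)
      rw [← hevC, ← map_sub, hk, map_mul]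
      exact Y.mul_mem_right _ haY
    have hnot : ∀ g : A[X], AdjoinRoot.mk f g ∉ 𝔮 → mkT (AdjoinRoot.mk f g) ∉ Y := fun g hg hmem =>
      Set.disjoint_left.mp hYd hmem ⟨_, hg, rfl⟩
    have haa : Alive f 𝔮 φ a Pa := fun g hg => by
      by_contra hgq
      refine hnot g hgq ?_
      rw [← hev]
      have h1 := Y.add_mem (hev' (g.map φ)) (show ρ ((g.map φ).eval a) ∈ Y by rw [eval_map]; exact hg)
      rwa [sub_add_cancel] at h1
    have hdvd : c ∣ (p j).eval₂ φ a := by
      rcases eq_or_ne ((p j).eval₂ φ a) 0 with h0 | h0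
      · rw [h0]; exact dvd_zero _
      · exact hmin _ ⟨a, j, Pa, hPa, hPa0, hfa, haa, rfl, h0⟩
    have hρ0 : ρ ((p j).eval₂ φ a) = 0 := by
      show ρW (Ideal.Quotient.mk _ _) = 0
      rw [Ideal.Quotient.eq_zero_iff_mem.mpr (Ideal.mem_span_singleton.mpr hdvd), map_zero]
    obtain ⟨gV, hgV⟩ : X - C a ∣ f.map φ := dvd_iff_isRoot.mpr (by rw [IsRoot, eval_map]; exact hfa)
    obtain ⟨kV, hkV⟩ := X_sub_C_dvd_sub_C_eval (a := a) (p := (p j).map φ)
    have hK : ev gV ∈ K := by
      rw [Submodule.mem_colon_singleton, Submodule.mem_bot, smul_eq_mul, ← hev, ← map_mul,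
        show gV * (p j).map φ = gV * C ((p j).eval₂ φ a) + f.map φ * kV by
          rw [hgV, ← eval_map φ, mul_assoc, mul_left_comm (X - C a), ← hkV]; ring,
        map_add, map_mul, map_mul, hevC, hρ0, hev, AdjoinRoot.mk_self, map_zero, mul_zero, zero_mul, add_zero]
    have h2 : gV.eval a = (derivative (f.map φ)).eval a := by
      rw [hgV, derivative_mul, eval_add, eval_mul, eval_mul]; simp
    refine hnot (derivative f) hd ?_
    rw [← hev, ← derivative_map]
    have h3 := Y.add_mem (hev' (derivative (f.map φ))) (show ρ ((derivative (f.map φ)).eval a) ∈ Y by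
      rw [← h2]
      have h4 := Y.sub_mem (hKY hK) (hev' gV)
      rwa [sub_sub_cancel] at h4)
    rwa [sub_add_cancel] at h3
  -- divide by `c`
  let mc : V →ₗ[A] V := LinearMap.mulLeft A c
  have hex : Function.Exact mc (IsScalarTower.toAlgHom A V W).toLinearMap := fun x => by
    show Ideal.Quotient.mk _ x = 0 ↔ _
    rw [Ideal.Quotient.eq_zero_iff_mem, Ideal.mem_span_singleton']
    exact ⟨fun ⟨y, hy⟩ => ⟨y, by show c * y = x; rw [← hy, mul_comm]⟩, fun ⟨y, hy⟩ => ⟨y, by rw [mul_comm]; exact hy⟩⟩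
  obtain ⟨n, hn⟩ := (lTensor_exact N hex Ideal.Quotient.mk_surjective (z ⊗ₜ (1 : V))).mp (by
    rw [LinearMap.lTensor_tmul]
    show z ⊗ₜ[A] (Ideal.Quotient.mk _ (1 : V)) = 0
    rw [map_one]; exact hW)
  -- `u n = 0`
  have hmc : Function.Injective mc := fun x y h => mul_left_cancel₀ hc0 h
  have hun : u.rTensor V n = 0 := by
    refine Module.Flat.lTensor_preserves_injective_linearMap (M := M) mc hmc ?_
    rw [map_zero, ← LinearMap.comp_apply, LinearMap.lTensor_comp_rTensor, ← LinearMap.rTensor_comp_lTensor,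
      LinearMap.comp_apply, hn, LinearMap.rTensor_tmul]
    refine Module.Flat.lTensor_preserves_injective_linearMap (M := M) (IsScalarTower.toAlgHom A V L).toLinearMap
      hinj ?_
    rw [map_zero, LinearMap.lTensor_tmul]
    show u z ⊗ₜ[A] algebraMap V L 1 = 0
    rw [map_one]; exact hu
  -- `n` survives at `P`
  have hn0 : (IsScalarTower.toAlgHom A V (V ⧸ P)).toLinearMap.lTensor N n ≠ 0 := by
    intro h0
    have hexP : Function.Exact (P.subtype.restrictScalars A) (IsScalarTower.toAlgHom A V (V ⧸ P)).toLinearMap :=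
      fun x => by
        show Ideal.Quotient.mk _ x = 0 ↔ _
        rw [Ideal.Quotient.eq_zero_iff_mem]
        exact ⟨fun h => ⟨⟨x, h⟩, rfl⟩, fun ⟨y, hy⟩ => hy ▸ y.2⟩
    obtain ⟨w, rfl⟩ := (lTensor_exact N hexP Ideal.Quotient.mk_surjective n).mp h0
    let W' := V ⧸ (Ideal.span ({c} : Set V) * P)
    have hz0 : z ⊗ₜ[A] (1 : W') = 0 := by
      have h1 := congrArg ((IsScalarTower.toAlgHom A V W').toLinearMap.lTensor N) hn
      rw [LinearMap.lTensor_tmul] at h1
      rw [show (1 : W') = (IsScalarTower.toAlgHom A V W').toLinearMap 1 from (map_one (Ideal.Quotient.mk _)).symm, ← h1,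
        ← LinearMap.comp_apply, ← LinearMap.comp_apply, ← LinearMap.lTensor_comp, ← LinearMap.lTensor_comp]
      rw [LinearMap.comp_assoc, show (IsScalarTower.toAlgHom A V W').toLinearMap ∘ₗ mc ∘ₗ P.subtype.restrictScalars A = 0 from
        LinearMap.ext fun x => Ideal.Quotient.eq_zero_iff_mem.mpr
          (Ideal.mul_mem_mul (Ideal.mem_span_singleton_self c) x.2), LinearMap.lTensor_zero, LinearMap.zero_apply]
    obtain ⟨g, hg, hg0⟩ := (hp W').mp hz0 i
    have hrW : f.eval₂ (algebraMap A W') (Ideal.Quotient.mk _ r) = 0 := by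
      rw [show algebraMap A W' = (Ideal.Quotient.mk _).comp φ from rfl, ← Polynomial.hom_eval₂, hr, map_zero]
    have h2 := eval_eq_zero_of_mk_tmul hrW hg0
    rw [show algebraMap A W' = (Ideal.Quotient.mk _).comp φ from rfl, ← Polynomial.hom_eval₂, eval₂_mul, hc,
      Ideal.Quotient.eq_zero_iff_mem, Ideal.mem_span_singleton_mul] at h2
    obtain ⟨x, hx, hxc⟩ := h2
    rw [mul_comm (g.eval₂ φ r)] at hxc
    exact hg (ha g (mul_left_cancel₀ hc0 hxc ▸ hx))
  -- the fibre at `P` contradicts injectivity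
  let π : V →ₗ[A] P.ResidueField := (IsScalarTower.toAlgHom A V P.ResidueField).toLinearMap
  have hker : RingHom.ker (algebraMap A P.ResidueField) = P.comap φ := by
    rw [IsScalarTower.algebraMap_eq A V P.ResidueField, ← RingHom.comap_ker, Ideal.ker_algebraMap_residueField]
    rfl
  have hinjP := (LinearMap.lTensor_inj_iff_rTensor_inj P.ResidueField u).mp
    (lTensor_injective_of_ker u (P.comap φ) hgood P.ResidueField hker P.ResidueField)
  have hπn : π.lTensor N n = 0 := hinjP (by
    rw [map_zero, ← LinearMap.comp_apply, LinearMap.rTensor_comp_lTensor, ← LinearMap.lTensor_comp_rTensor,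
      LinearMap.comp_apply, hun, map_zero])
  refine hn0 (Module.Flat.lTensor_preserves_injective_linearMap (M := N)
    ((IsScalarTower.toAlgHom A (V ⧸ P) P.ResidueField).toLinearMap) P.injective_algebraMap_quotient_residueField ?_)
  rw [map_zero, ← LinearMap.comp_apply, ← LinearMap.lTensor_comp]
  exact hπn

/-- A nonzero prime of a valuation ring in an algebraic extension of `κ(q)` lies strictly above `q`. -/
theorem lt_comap {L : Type u} [Field L] [Algebra A L] (q : Ideal A) [q.IsPrime] [Algebra q.ResidueField L]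
    [IsScalarTower A q.ResidueField L] [Algebra.IsAlgebraic q.ResidueField L] (V : ValuationSubring L) (φ : A →+* V)
    (hφ : V.subtype.comp φ = algebraMap A L) (P : Ideal V) (hP : P ≠ ⊥) : q < P.comap φ := by
  letI : Algebra A V := φ.toAlgebra
  have hqP : q ≤ P.comap φ := fun a ha => by
    have : φ a = 0 := Subtype.val_injective (by
      show V.subtype (φ a) = 0
      rw [← RingHom.comp_apply, hφ, IsScalarTower.algebraMap_apply A q.ResidueField L,
        Ideal.algebraMap_residueField_eq_zero.mpr ha, map_zero])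
    rw [Ideal.mem_comap, this]; exact P.zero_mem
  refine lt_of_le_of_ne hqP fun heq => ?_
  obtain ⟨x, hxP, hx0⟩ := Submodule.exists_mem_ne_zero_of_ne_bot hP
  letI : Algebra (A ⧸ q) V := (Ideal.Quotient.lift q φ fun a ha => Subtype.val_injective (by
    show V.subtype (φ a) = 0
    rw [← RingHom.comp_apply, hφ, IsScalarTower.algebraMap_apply A q.ResidueField L,
      Ideal.algebraMap_residueField_eq_zero.mpr ha, map_zero])).toAlgebra
  letI : Algebra (A ⧸ q) L := ((algebraMap q.ResidueField L).comp (algebraMap (A ⧸ q) q.ResidueField)).toAlgebra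
  haveI : IsScalarTower (A ⧸ q) q.ResidueField L := .of_algebraMap_eq' rfl
  haveI : IsScalarTower (A ⧸ q) V L := .of_algebraMap_eq fun b => by
    obtain ⟨a, rfl⟩ := Ideal.Quotient.mk_surjective b
    show algebraMap q.ResidueField L (algebraMap A q.ResidueField a) = V.subtype (φ a)
    rw [← IsScalarTower.algebraMap_apply, ← RingHom.comp_apply, hφ]
  have h1 : IsAlgebraic (A ⧸ q) x := by
    rw [← isAlgebraic_algebraMap_iff (A := L) Subtype.val_injective]
    exact (IsFractionRing.isAlgebraic_iff (A ⧸ q) q.ResidueField L).mpr (Algebra.IsAlgebraic.isAlgebraic _)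
  refine Ideal.comap_ne_bot_of_algebraic_mem hx0 hxP h1 (le_bot_iff.mp fun b hb => ?_)
  obtain ⟨a, rfl⟩ := Ideal.Quotient.mk_surjective b
  rw [Ideal.mem_bot, Ideal.Quotient.eq_zero_iff_mem, heq]
  exact hb

/-- `u` is injective on every fibre. -/
theorem injective_fibre [IsLocalRing A] (hf : f.Monic) [𝔮.IsPrime]
    (h𝔮 : 𝔮.comap (algebraMap A (AdjoinRoot f)) = IsLocalRing.maximalIdeal A)
    (hd : AdjoinRoot.mk f (derivative f) ∉ 𝔮) (hN : HasCoord N f 𝔮) (u : N →ₗ[A] M)
    (h : Function.Injective (u.lTensor (IsLocalRing.ResidueField A))) (p : Ideal A) [hp : p.IsPrime] :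
    Function.Injective (u.lTensor p.ResidueField) := by
  classical
  have hclosed : ∀ (q : Ideal A) [q.IsPrime], q = IsLocalRing.maximalIdeal A →
      Function.Injective (u.lTensor q.ResidueField) := fun q _ hq => by
    letI : Algebra (IsLocalRing.ResidueField A) q.ResidueField :=
      (Ideal.Quotient.lift (IsLocalRing.maximalIdeal A) (algebraMap A q.ResidueField)
        fun a ha => Ideal.algebraMap_residueField_eq_zero.mpr (hq ▸ ha)).toAlgebra
    haveI : IsScalarTower A (IsLocalRing.ResidueField A) q.ResidueField := .of_algebraMap_eq fun _ => rfl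
    exact lTensor_injective_of_field u h q.ResidueField
  -- a witness with a nonvanishing alive root
  have hwit : ∀ (q : Ideal A) [q.IsPrime], ¬ Function.Injective (u.lTensor q.ResidueField) →
      ∀ (L : Type u) [Field L] [IsAlgClosed L] [Algebra A L], RingHom.ker (algebraMap A L) = q →
      ∃ (z : N) (m : ℕ) (p : Fin m → A[X]) (r : L) (i : Fin m),
        (∀ (W : Type u) [CommRing W] [Algebra A W], z ⊗ₜ[A] (1 : W) = 0 ↔ ∀ i, ∃ g : A[X],
          AdjoinRoot.mk f g ∉ 𝔮 ∧ AdjoinRoot.mk f (g * p i) ⊗ₜ[A] (1 : W) = (0 : AdjoinRoot f ⊗[A] W)) ∧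
        u z ⊗ₜ[A] (1 : L) = 0 ∧ f.eval₂ (algebraMap A L) r = 0 ∧ (p i).eval₂ (algebraMap A L) r ≠ 0 ∧
        Alive f 𝔮 (algebraMap A L) r ⊥ := by
    intro q _ hq L _ _ _ hker
    obtain ⟨w, hw, hw0⟩ : ∃ w, u.lTensor q.ResidueField w = 0 ∧ w ≠ 0 := by
      simpa [injective_iff_map_eq_zero] using hq
    obtain ⟨s, z, hs, hsz⟩ := Groth.FlatmorThree.exists_smul_eq_one_tmul q w
    have hs0 : algebraMap A q.ResidueField s ≠ 0 := fun h => hs (Ideal.algebraMap_residueField_eq_zero.mp h)
    have huz : (1 : q.ResidueField) ⊗ₜ[A] u z = 0 := by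
      rw [← LinearMap.lTensor_tmul, ← hsz]
      show u.baseChange q.ResidueField _ = 0
      rw [map_smul]
      show _ • u.lTensor q.ResidueField w = 0
      rw [hw, smul_zero]
    have hz0 : z ⊗ₜ[A] (1 : q.ResidueField) ≠ 0 := fun h0 => hw0 ((smul_eq_zero.mp (by
      rw [hsz, ← TensorProduct.comm_tmul A N q.ResidueField, h0, map_zero])).resolve_left hs0)
    obtain ⟨m, p, hpz⟩ := hN.exists_polynomial z
    obtain ⟨i, hi⟩ : ∃ i, ∀ g : A[X], AdjoinRoot.mk f g ∉ 𝔮 →
        AdjoinRoot.mk f (g * p i) ⊗ₜ[A] (1 : q.ResidueField) ≠ 0 := by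
      by_contra hno
      simp only [not_exists, not_forall, ne_eq, not_not] at hno
      exact hz0 ((hpz q.ResidueField).mpr fun i => by
        obtain ⟨g, hg, h0⟩ := hno i
        exact ⟨g, hg, h0⟩)
    let ι : q.ResidueField →+* L := Ideal.ResidueField.lift q (algebraMap A L) hker.ge fun x hx =>
      isUnit_iff_ne_zero.mpr fun h0 => hx (hker ▸ (h0 : x ∈ RingHom.ker (algebraMap A L)))
    have hι : ι.comp (algebraMap A q.ResidueField) = algebraMap A L := by ext a; simp [ι]
    obtain ⟨r, hr, hpr, har⟩ := exists_alive_root hf hd (algebraMap A L) (p i) fun g hg hdvd => hi g hg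
      (mk_tmul_eq_zero_of_dvd ((Polynomial.map_dvd_map' ι).mp (by
        rw [Polynomial.map_map, Polynomial.map_map, hι]; exact hdvd)))
    refine ⟨z, m, p, r, i, hpz, ?_, hr, hpr, har⟩
    let ιA : q.ResidueField →ₐ[A] L := { ι with commutes' := fun a => RingHom.congr_fun hι a }
    have h1 := congrArg (fun w => TensorProduct.comm A L M (ιA.toLinearMap.rTensor M w)) huz
    simpa using h1
  -- induction on the room left for the dead degree
  suffices key : ∀ (k : ℕ) (q : Ideal A) [q.IsPrime],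
      f.natDegree - deadDeg f 𝔮 (algebraMap A q.ResidueField) = k → Function.Injective (u.lTensor q.ResidueField) from
    key _ p rfl
  intro k
  induction k using Nat.strong_induction_on with
  | _ k IH =>
  intro p hp hk
  let D : ∀ (q : Ideal A) [q.IsPrime], ℕ := fun q _ => deadDeg f 𝔮 (algebraMap A q.ResidueField)
  have hIH : ∀ (q : Ideal A) [q.IsPrime], D p < D q → Function.Injective (u.lTensor q.ResidueField) := fun q _ hq => by
    have := deadDeg_le hf (algebraMap A q.ResidueField) (𝔮 := 𝔮)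
    exact IH _ (by simp only [D] at hq; omega) q rfl
  -- a maximal prime with the same degree
  let Z : Set (Ideal A) := {q | ∃ hq : q.IsPrime, p ≤ q ∧ @D q hq = D p}
  obtain ⟨Q, hpQ, hQ⟩ : ∃ Q, p ≤ Q ∧ Maximal (· ∈ Z) Q := by
    refine zorn_le_nonempty₀ Z (fun c hcZ hc y hy => ?_) p ⟨hp, le_rfl, rfl⟩
    have hne : c.Nonempty := ⟨y, hy⟩
    have hcoe : ((sSup c : Ideal A) : Set A) = ⋃ q ∈ c, (q : Set A) := by
      ext x
      rw [SetLike.mem_coe, Submodule.mem_sSup_of_directed hne hc.directedOn]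
      simp
    haveI hU : (sSup c).IsPrime := by
      refine ⟨fun htop => ?_, fun {a b} hab => ?_⟩
      · obtain ⟨q, hq, h1⟩ := (Submodule.mem_sSup_of_directed hne hc.directedOn).mp
          (htop ▸ Submodule.mem_top : (1 : A) ∈ sSup c)
        exact (hcZ hq).1.one_notMem h1
      · obtain ⟨q, hq, hq'⟩ := (Submodule.mem_sSup_of_directed hne hc.directedOn).mp hab
        exact ((hcZ hq).1.mem_or_mem hq').imp (fun h => le_sSup hq h) fun h => le_sSup hq h
    obtain ⟨q, hq, hle⟩ := exists_mem_deadDeg_le hf c hc hne (fun q hq => (hcZ hq).1) (sSup c) hcoe (𝔮 := 𝔮)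
    obtain ⟨hqp, hpq, hqD⟩ := hcZ hq
    refine ⟨sSup c, ⟨hU, hpq.trans (le_sSup hq), le_antisymm (hle.trans hqD.le) ?_⟩, fun z hz => le_sSup hz⟩
    exact deadDeg_mono hf p (sSup c) (hpq.trans (le_sSup hq))
  obtain ⟨⟨hQp, -, hQD⟩, hQmax⟩ := hQ
  haveI := hQp
  -- injectivity at the maximal prime
  have hQgood : Function.Injective (u.lTensor Q.ResidueField) := by
    by_contra hbad
    have hQm : Q ≠ IsLocalRing.maximalIdeal A := fun h => hbad (hclosed Q h)
    let L := AlgebraicClosure Q.ResidueField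
    have hker : RingHom.ker (algebraMap A L) = Q := by
      rw [IsScalarTower.algebraMap_eq A Q.ResidueField L, RingHom.ker_comp_of_injective _ (algebraMap Q.ResidueField L).injective,
        Ideal.ker_algebraMap_residueField]
    obtain ⟨z, m, pz, r, i, hpz, huz, hr, hpr, har⟩ := hwit Q hbad L hker
    let ev : AdjoinRoot f →ₐ[A] L := AdjoinRoot.liftAlgHom f (Algebra.ofId A L) r hr
    let θ : Localization.AtPrime 𝔮 →+* L := IsLocalization.lift (M := 𝔮.primeCompl) (g := ev.toRingHom) fun y => by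
      refine isUnit_iff_ne_zero.mpr fun h0 => y.2 ?_
      obtain ⟨g, hg⟩ := AdjoinRoot.mk_surjective (y : AdjoinRoot f)
      rw [← hg]
      refine har g ?_
      change ev (y : AdjoinRoot f) = 0 at h0
      rw [← hg, AdjoinRoot.liftAlgHom_mk] at h0
      rw [Ideal.mem_bot]
      exact h0
    obtain ⟨V, hV, hloc⟩ := IsLocalRing.exists_factor_valuationRing θ
    let θV : Localization.AtPrime 𝔮 →+* V := θ.codRestrict V.toSubring hV
    let φ : A →+* V := θV.comp ((algebraMap (AdjoinRoot f) _).comp (algebraMap A (AdjoinRoot f)))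
    let rV : V := θV (algebraMap _ _ (AdjoinRoot.root f))
    have hθ : ∀ t : AdjoinRoot f, (θV (algebraMap _ _ t) : L) = ev t := fun t => IsLocalization.lift_eq _ t
    have hφ : V.subtype.comp φ = algebraMap A L := RingHom.ext fun a => (hθ _).trans (ev.commutes a)
    have hrV : (rV : L) = r := (hθ _).trans (AdjoinRoot.liftAlgHom_root f _ r (by exact hr))
    have heval : ∀ g : A[X], θV (algebraMap _ _ (AdjoinRoot.mk f g)) = g.eval₂ φ rV := fun g => by
      rw [← AdjoinRoot.aeval_eq, aeval_def, Polynomial.hom_eval₂, Polynomial.hom_eval₂]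
    have hmem : ∀ g : A[X], g.eval₂ φ rV ∈ IsLocalRing.maximalIdeal V ↔ AdjoinRoot.mk f g ∈ 𝔮 := fun g => by
      rw [← heval, IsLocalRing.mem_maximalIdeal, ← IsLocalization.AtPrime.to_map_mem_maximal_iff
        (Localization.AtPrime 𝔮) 𝔮, IsLocalRing.mem_maximalIdeal]
      exact (isUnit_map_iff θV _).not
    have hVbot : IsLocalRing.maximalIdeal V ≠ ⊥ := fun hbot => hQm (by
      ext a
      rw [← h𝔮, Ideal.mem_comap, AdjoinRoot.algebraMap_eq, ← AdjoinRoot.mk_C, ← hmem, hbot, Ideal.mem_bot,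
        eval₂_C]
      refine (SetLike.ext_iff.mp hker a).symm.trans ?_
      rw [RingHom.mem_ker, ← hφ, RingHom.comp_apply]
      exact map_eq_zero_iff V.subtype Subtype.val_injective)
    have hrroot : f.eval₂ φ rV = 0 := by rw [← heval, AdjoinRoot.mk_self, map_zero, map_zero]
    obtain ⟨r', -, ⟨P, hPp, hP, hPa⟩, hall⟩ := stroke hf hd u V φ hφ z pz hpz huz
      ⟨rV, i, _, inferInstance, hVbot, hrroot, fun g hg => (hmem g).mp hg, fun h0 => hpr (by
        rw [← hφ, ← hrV]
        show (pz i).eval₂ (V.subtype.comp φ) (V.subtype rV) = 0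
        rw [← Polynomial.hom_eval₂, h0, map_zero])⟩
    refine hall P hP hPa ?_
    have hlt : Q < P.comap φ := lt_comap Q V φ hφ P hP
    refine hIH _ (lt_of_le_of_ne (hQD.symm.trans_le (deadDeg_mono hf Q _ hlt.le)) fun heq => ?_)
    exact hlt.not_ge (hQmax ⟨inferInstance, hpQ.trans hlt.le, heq.symm⟩ hlt.le)
  rcases eq_or_ne p Q with rfl | hpQ'
  · exact hQgood
  by_contra hbad
  let L := AlgebraicClosure p.ResidueField
  have hker : RingHom.ker (algebraMap A L) = p := by
    rw [IsScalarTower.algebraMap_eq A p.ResidueField L, RingHom.ker_comp_of_injective _ (algebraMap p.ResidueField L).injective,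
      Ideal.ker_algebraMap_residueField]
  obtain ⟨z, m, pz, r, i, hpz, huz, hr, hpr, har⟩ := hwit p hbad L hker
  let θ : Localization.AtPrime Q →+* L := IsLocalization.lift (M := Q.primeCompl) (g := algebraMap A L) fun y =>
    isUnit_iff_ne_zero.mpr fun h0 => y.2 (hpQ (hker ▸ (h0 : (y : A) ∈ RingHom.ker (algebraMap A L))))
  obtain ⟨V, hV, hloc⟩ := IsLocalRing.exists_factor_valuationRing θ
  let θV : Localization.AtPrime Q →+* V := θ.codRestrict V.toSubring hV
  let φ : A →+* V := θV.comp (algebraMap A _)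
  have hφ : V.subtype.comp φ = algebraMap A L := RingHom.ext fun a => IsLocalization.lift_eq _ a
  have hVQ : (IsLocalRing.maximalIdeal V).comap φ = Q := by
    ext a
    rw [Ideal.mem_comap, RingHom.comp_apply, IsLocalRing.mem_maximalIdeal,
      ← IsLocalization.AtPrime.to_map_mem_maximal_iff (Localization.AtPrime Q) Q a, IsLocalRing.mem_maximalIdeal]
    exact (isUnit_map_iff θV _).not
  have hVbot : IsLocalRing.maximalIdeal V ≠ ⊥ := fun hbot => hpQ' (by
    rw [← hVQ, hbot]
    refine hker.symm.trans ?_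
    rw [← hφ]
    exact RingHom.ker_comp_of_injective φ Subtype.val_injective)
  have hdeg : deadDeg f 𝔮 ((IsLocalRing.residue V).comp φ) = deadDeg f 𝔮 (V.subtype.comp φ) := by
    exact (deadDeg_eq_residueField hf _ Q (by rw [← RingHom.comap_ker, IsLocalRing.ker_residue, hVQ])).trans
      (hQD.trans (deadDeg_eq_residueField hf _ p (by rw [hφ, hker])).symm)
  obtain ⟨rV, hrV⟩ : ∃ rV : V, algebraMap V L rV = r := by
    refine IsIntegrallyClosed.algebraMap_eq_of_integral (R := V) ⟨f.map φ, hf.map φ, ?_⟩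
    rw [eval₂_map, show (algebraMap V L).comp φ = algebraMap A L from hφ]
    exact hr
  have hev : ∀ g : A[X], g.eval₂ (algebraMap A L) r = V.subtype (g.eval₂ φ rV) := fun g => by
    rw [Polynomial.hom_eval₂, hφ, show V.subtype rV = r from hrV]
  have hrroot : f.eval₂ φ rV = 0 := Subtype.val_injective ((hev f).symm.trans hr)
  have haV : Alive f 𝔮 φ rV (IsLocalRing.maximalIdeal V) :=
    alive_maximal hf V φ hdeg rV hrroot (by rw [hφ, show (rV : L) = r from hrV]; exact har)
  obtain ⟨r', hr', ⟨P, hPp, hP, hPa⟩, hall⟩ := stroke hf hd u V φ hφ z pz hpz huz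
    ⟨rV, i, _, inferInstance, hVbot, hrroot, haV, fun h0 => hpr (by rw [hev, h0, map_zero])⟩
  have hr'max : Alive f 𝔮 φ r' (IsLocalRing.maximalIdeal V) :=
    alive_maximal hf V φ hdeg r' hr' ((hPa.mono bot_le).map_injective V.subtype Subtype.val_injective)
  refine hall (IsLocalRing.maximalIdeal V) hVbot hr'max ?_
  exact (show ∀ (q : Ideal A) [q.IsPrime], q = Q → Function.Injective (u.lTensor q.ResidueField) from
    fun q _ e => by subst e; exact hQgood) _ hVQ

end Groth.RaynaudGruson.EtaleCoord
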