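import Groth.Agent.RaynaudGruson.GeomIntegralNbhd
import Groth.Prelude.Def_FlatCA
import Mathlib

/-!
Residue fields at elementary étale neighbourhoods of rings.
-/

set_option autoImplicit false
universe u

open AlgebraicGeometry CategoryTheory

namespace Groth.RaynaudGruson

theorem bijective_residue_etaleNhd {B S : Type u} [CommRing B] [CommRing S] [Algebra B S] {p : Ideal B} {q : Ideal S}
    [p.IsPrime] [q.IsPrime] (h : FlatCA.IsEtaleNhd B S p q) (v : Spec (CommRingCat.of S)) (hv : v.asIdeal = q) :
    Function.Bijective ((Spec.map (CommRingCat.ofHom (algebraMap B S))).residueFieldMap v).hom := by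
  obtain ⟨v, hvp⟩ := v
  subst hv
  obtain ⟨iR, iD, hsq⟩ := GeomIntegralNbhd.residueFieldMap_spec_square (CommRingCat.ofHom (algebraMap B S)) ⟨v, hvp⟩
  have key : ∀ (Q : Ideal B) (_ : Q.IsPrime) (hQ : Q = v.comap (algebraMap B S)), p = Q →
      Function.Bijective (Ideal.ResidueField.map Q v (algebraMap B S) hQ) := by
    rintro Q _ hQ rfl
    exact h.2.2
  rw [show ⇑((Spec.map (CommRingCat.ofHom (algebraMap B S))).residueFieldMap ⟨v, hvp⟩).hom =
    ⇑iD.symm ∘ ⇑(Ideal.ResidueField.map _ _ (algebraMap B S) rfl) ∘ ⇑iR from funext fun w => by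
      obtain ⟨w, rfl⟩ := iR.symm.surjective w
      simp only [Function.comp_apply, RingEquiv.apply_symm_apply]
      exact iD.injective ((hsq w).trans (iD.apply_symm_apply _).symm)]
  exact iD.symm.bijective.comp ((key _ _ rfl h.2.1.over).comp iR.bijective)

end Groth.RaynaudGruson
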