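import Mathlib

/-!
Roots of a monic polynomial which specialise to a given simple point `𝔮` of `A[X]/(f)`.

The roots not specialising to `𝔮` are cut out by a gcd of `f` with polynomials outside `𝔮`; the degree of the
largest such gcd is monotone under specialisation and continuous along chains of primes.
-/

set_option autoImplicit false
set_option linter.style.haveILetI false
universe u

open Polynomial

namespace Groth.RaynaudGruson.EtaleRoots

variable {A : Type u} [CommRing A] (f : A[X]) (𝔮 : Ideal (AdjoinRoot f))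

/-- The root `r` specialises at `P` only to the point `𝔮`. -/
def Alive {L : Type u} [CommRing L] (φ : A →+* L) (r : L) (P : Ideal L) : Prop :=
  ∀ g : A[X], g.eval₂ φ r ∈ P → AdjoinRoot.mk f g ∈ 𝔮

/-- A factor of degree at least `e` avoids `𝔮`. -/
def DeadAt {K : Type u} [Field K] (φ : A →+* K) (e : ℕ) : Prop :=
  ∃ (g : A[X]) (h : K[X]), AdjoinRoot.mk f g ∉ 𝔮 ∧ h.Monic ∧ e ≤ h.natDegree ∧ h ∣ f.map φ ∧ h ∣ g.map φ

/-- The degree of the part of `f` avoiding `𝔮`. -/
noncomputable def deadDeg {K : Type u} [Field K] (φ : A →+* K) : ℕ :=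
  by classical exact Nat.findGreatest (DeadAt f 𝔮 φ) f.natDegree

variable {f 𝔮}

theorem Alive.mono {L : Type u} [CommRing L] {φ : A →+* L} {r : L} {P P' : Ideal L} (h : P ≤ P')
    (ha : Alive f 𝔮 φ r P') : Alive f 𝔮 φ r P := fun g hg => ha g (h hg)

theorem Alive.map_injective {V L : Type u} [CommRing V] [CommRing L] {φ : A →+* V} {r : V} {P : Ideal V}
    (ι : V →+* L) (hι : Function.Injective ι) (h : Alive f 𝔮 φ r P) : Alive f 𝔮 (ι.comp φ) (ι r) ⊥ := fun g hg => by
  refine h g ?_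
  rw [← Polynomial.hom_eval₂, Ideal.mem_bot, map_eq_zero_iff ι hι] at hg
  rw [hg]; exact zero_mem P

variable (hf : f.Monic) [h𝔮 : 𝔮.IsPrime]
include hf h𝔮

omit h𝔮 in
theorem DeadAt.le {K : Type u} [Field K] {φ : A →+* K} {e : ℕ} (h : DeadAt f 𝔮 φ e) : e ≤ f.natDegree := by
  obtain ⟨g, k, -, -, he, hk, -⟩ := h
  exact he.trans ((natDegree_le_of_dvd hk ((hf.map φ).ne_zero)).trans natDegree_map_le)

omit hf in
theorem deadAt_zero {K : Type u} [Field K] (φ : A →+* K) : DeadAt f 𝔮 φ 0 :=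
  ⟨1, 1, by rw [map_one]; exact h𝔮.one_notMem, monic_one, Nat.zero_le _, one_dvd _, one_dvd _⟩

theorem deadAt_deadDeg {K : Type u} [Field K] (φ : A →+* K) : DeadAt f 𝔮 φ (deadDeg f 𝔮 φ) := by
  classical
  exact Nat.findGreatest_spec (Nat.zero_le _) (deadAt_zero φ)

omit h𝔮 in
theorem le_deadDeg {K : Type u} [Field K] {φ : A →+* K} {e : ℕ} (h : DeadAt f 𝔮 φ e) : e ≤ deadDeg f 𝔮 φ := by
  classical
  exact Nat.le_findGreatest (h.le hf) h

theorem deadDeg_le {K : Type u} [Field K] (φ : A →+* K) : deadDeg f 𝔮 φ ≤ f.natDegree :=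
  (deadAt_deadDeg hf φ).le hf

omit hf h𝔮 in
theorem DeadAt.map {K L : Type u} [Field K] [Field L] {φ : A →+* K} {e : ℕ} (h : DeadAt f 𝔮 φ e) (ι : K →+* L) :
    DeadAt f 𝔮 (ι.comp φ) e := by
  obtain ⟨g, k, hg, hk, he, h1, h2⟩ := h
  exact ⟨g, k.map ι, hg, hk.map ι, by rwa [natDegree_map_eq_of_injective ι.injective],
    by rw [← Polynomial.map_map]; exact Polynomial.map_dvd ι h1,
    by rw [← Polynomial.map_map]; exact Polynomial.map_dvd ι h2⟩

omit h𝔮 in
theorem DeadAt.descend {K L : Type u} [Field K] [Field L] {φ : A →+* K} {e : ℕ} (ι : K →+* L)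
    (h : DeadAt f 𝔮 (ι.comp φ) e) : DeadAt f 𝔮 φ e := by
  classical
  obtain ⟨g, k, hg, hk, he, h1, h2⟩ := h
  rw [← Polynomial.map_map] at h1 h2
  have hd : k ∣ (EuclideanDomain.gcd (f.map φ) (g.map φ)).map ι := by
    rw [← Polynomial.gcd_map]
    exact EuclideanDomain.dvd_gcd h1 h2
  have hne : EuclideanDomain.gcd (f.map φ) (g.map φ) ≠ 0 :=
    fun h0 => (hf.map φ).ne_zero (EuclideanDomain.gcd_eq_zero_iff.mp h0).1
  refine ⟨g, _, hg, monic_mul_leadingCoeff_inv hne, ?_, ?_, ?_⟩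
  · rw [natDegree_mul_leadingCoeff_inv _ hne, ← natDegree_map_eq_of_injective ι.injective]
    exact he.trans (natDegree_le_of_dvd hd (Polynomial.map_ne_zero hne))
  · exact (mul_dvd_mul_left _ (by simp [hne] : IsUnit (C (EuclideanDomain.gcd (f.map φ) (g.map φ)).leadingCoeff⁻¹)).dvd).trans
      (by rw [mul_one]; exact EuclideanDomain.gcd_dvd_left _ _)
  · exact (mul_dvd_mul_left _ (by simp [hne] : IsUnit (C (EuclideanDomain.gcd (f.map φ) (g.map φ)).leadingCoeff⁻¹)).dvd).trans
      (by rw [mul_one]; exact EuclideanDomain.gcd_dvd_right _ _)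

theorem deadDeg_comp {K L : Type u} [Field K] [Field L] (φ : A →+* K) (ι : K →+* L) :
    deadDeg f 𝔮 (ι.comp φ) = deadDeg f 𝔮 φ :=
  le_antisymm (le_deadDeg hf ((deadAt_deadDeg hf _).descend hf ι)) (le_deadDeg hf ((deadAt_deadDeg hf φ).map ι))

/-- The dead degree at a field only depends on the kernel. -/
theorem deadDeg_eq_residueField {L : Type u} [Field L] (φ : A →+* L) (q : Ideal A) [q.IsPrime]
    (hq : RingHom.ker φ = q) : deadDeg f 𝔮 φ = deadDeg f 𝔮 (algebraMap A q.ResidueField) := by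
  let ι : q.ResidueField →+* L := Ideal.ResidueField.lift q φ hq.ge fun x hx =>
    isUnit_iff_ne_zero.mpr fun h0 => hx (hq ▸ (h0 : x ∈ RingHom.ker φ))
  rw [← deadDeg_comp hf _ ι]
  congr 1
  ext a
  simp [ι]

omit h𝔮 in
/-- Specialisation through a valuation ring increases the dead degree. -/
theorem DeadAt.specialize {K L : Type u} [Field K] [Field L] (V : ValuationSubring K) (φ : A →+* V) (ρ : V →+* L)
    {e : ℕ} (h : DeadAt f 𝔮 (V.subtype.comp φ) e) : DeadAt f 𝔮 (ρ.comp φ) e := by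
  obtain ⟨g, k, hg, hk, he, h1, h2⟩ := h
  rw [← Polynomial.map_map] at h1 h2
  obtain ⟨k', hk'⟩ := IsIntegrallyClosed.eq_map_mul_C_of_dvd K (R := V) (hf.map φ) h1
  rw [hk.leadingCoeff, C_1, mul_one] at hk'
  subst hk'
  have hinj : Function.Injective (algebraMap V K) := Subtype.val_injective
  have hk'm : k'.Monic := monic_of_injective hinj hk
  exact ⟨g, k'.map ρ, hg, hk'm.map ρ, by rwa [hk'm.natDegree_map, ← hk'm.natDegree_map (algebraMap V K)],
    by rw [← Polynomial.map_map]; exact Polynomial.map_dvd ρ ((Polynomial.map_dvd_map _ hinj hk'm).mp h1),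
    by rw [← Polynomial.map_map]; exact Polynomial.map_dvd ρ ((Polynomial.map_dvd_map _ hinj hk'm).mp h2)⟩

/-- A root of the cofactor of a maximal dead factor is alive. -/
theorem alive_of_cofactor {L : Type u} [Field L] {φ : A →+* L} {g₀ : A[X]} {h₀ : L[X]}
    (hg₀ : AdjoinRoot.mk f g₀ ∉ 𝔮) (hh₀ : h₀.Monic) (hdeg : deadDeg f 𝔮 φ ≤ h₀.natDegree)
    (h2 : h₀ ∣ g₀.map φ) {r : L} {f₂ : L[X]}
    (hf₂ : f.map φ = h₀ * f₂) (hr₂ : f₂.eval r = 0) : Alive f 𝔮 φ r ⊥ := by
  intro g hg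
  by_contra hgq
  have h3 : DeadAt f 𝔮 φ (h₀ * (X - C r)).natDegree := by
    refine ⟨g₀ * g, h₀ * (X - C r), ?_, hh₀.mul (monic_X_sub_C r), le_rfl, ?_, ?_⟩
    · rw [map_mul]; exact fun h => (h𝔮.mem_or_mem h).elim hg₀ hgq
    · rw [hf₂]; exact mul_dvd_mul_left _ (dvd_iff_isRoot.mpr hr₂)
    · rw [Polynomial.map_mul]
      exact mul_dvd_mul h2 (dvd_iff_isRoot.mpr (by rw [IsRoot, eval_map]; exact hg))
  have h4 := le_deadDeg hf h3
  rw [hh₀.natDegree_mul (monic_X_sub_C r), natDegree_X_sub_C] at h4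
  omega

/-- If no multiple outside `𝔮` of `p` vanishes modulo `f`, some alive root is not a root of `p`. -/
theorem exists_alive_root (hd : AdjoinRoot.mk f (derivative f) ∉ 𝔮) {L : Type u} [Field L] [IsAlgClosed L]
    (φ : A →+* L) (p : A[X]) (hp : ∀ g : A[X], AdjoinRoot.mk f g ∉ 𝔮 → ¬ f.map φ ∣ (g * p).map φ) :
    ∃ r : L, f.eval₂ φ r = 0 ∧ p.eval₂ φ r ≠ 0 ∧ Alive f 𝔮 φ r ⊥ := by
  classical
  obtain ⟨g₀, h₀, hg₀, hh₀, hdeg, h1, h2⟩ := deadAt_deadDeg hf φ (𝔮 := 𝔮)
  obtain ⟨f₂, hf₂⟩ := id h1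
  have hf₂m : f₂.Monic := hh₀.of_mul_monic_left (hf₂ ▸ hf.map φ)
  have halive : ∀ r : L, f₂.eval r = 0 → f.eval₂ φ r = 0 ∧ Alive f 𝔮 φ r ⊥ := fun r hr => by
    have h3 : f.eval₂ φ r = 0 := by rw [← eval_map, hf₂, eval_mul, hr, mul_zero]
    exact ⟨h3, alive_of_cofactor hf hg₀ hh₀ hdeg h2 hf₂ hr⟩
  by_contra hno
  simp only [not_exists, not_and] at hno
  have hvan : ∀ r : L, f₂.eval r = 0 → p.eval₂ φ r = 0 := fun r hr => by
    by_contra h
    exact hno r (halive r hr).1 h (halive r hr).2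
  have hnd : f₂.roots.Nodup := Multiset.nodup_iff_count_le_one.mpr fun r => by
    rw [count_roots]
    by_contra hlt
    have hr : f₂.eval r = 0 := (rootMultiplicity_pos hf₂m.ne_zero).mp (by omega)
    obtain ⟨c, hc⟩ := (le_rootMultiplicity_iff hf₂m.ne_zero).mp (show 2 ≤ rootMultiplicity r f₂ by omega)
    refine hd ((halive r hr).2 (derivative f) ?_)
    rw [Ideal.mem_bot, ← eval_map, ← derivative_map, hf₂, hc]
    simp [derivative_mul, derivative_pow]
  have hdvd : f₂ ∣ p.map φ := by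
    rcases eq_or_ne (p.map φ) 0 with h0 | h0
    · rw [h0]; exact dvd_zero _
    have hsp : f₂ = (f₂.roots.map fun a => X - C a).prod :=
      Polynomial.Splits.eq_prod_roots_of_monic (IsAlgClosed.splits f₂) hf₂m
    rw [hsp]
    refine (Multiset.prod_X_sub_C_dvd_iff_le_roots h0 _).mpr ((Multiset.le_iff_subset hnd).mpr fun r hr => ?_)
    rw [mem_roots h0, IsRoot, eval_map]
    exact hvan r ((mem_roots hf₂m.ne_zero).mp hr)
  refine hp g₀ hg₀ ?_
  rw [Polynomial.map_mul, hf₂]
  exact mul_dvd_mul h2 hdvd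

/-- If the dead degree does not jump at the closed point of a valuation ring, alive roots stay alive there. -/
theorem alive_maximal {L : Type u} [Field L] (V : ValuationSubring L) (φ : A →+* V)
    (hdeg : deadDeg f 𝔮 ((IsLocalRing.residue V).comp φ) = deadDeg f 𝔮 (V.subtype.comp φ)) (r : V)
    (hr : f.eval₂ φ r = 0) (ha : Alive f 𝔮 (V.subtype.comp φ) (r : L) ⊥) :
    Alive f 𝔮 φ r (IsLocalRing.maximalIdeal V) := by
  intro g hg
  by_contra hgq
  obtain ⟨g₀, h₀, hg₀, hh₀, hle, h1, h2⟩ := deadAt_deadDeg hf (V.subtype.comp φ) (𝔮 := 𝔮)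
  rw [← Polynomial.map_map] at h1 h2
  obtain ⟨k, hk⟩ := IsIntegrallyClosed.eq_map_mul_C_of_dvd L (R := V) (hf.map φ) h1
  rw [hh₀.leadingCoeff, C_1, mul_one] at hk
  subst hk
  have hinj : Function.Injective (algebraMap V L) := Subtype.val_injective
  have hkm : k.Monic := monic_of_injective hinj hh₀
  have hkf : k ∣ f.map φ := (Polynomial.map_dvd_map _ hinj hkm).mp h1
  have hkg : k ∣ g₀.map φ := (Polynomial.map_dvd_map _ hinj hkm).mp h2
  have hk0 : k.eval r ≠ 0 := fun h0 => hg₀ (ha g₀ (by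
    rw [Ideal.mem_bot]
    have h3 : (g₀.map φ).eval r = 0 := eval_eq_zero_of_dvd_of_eval_eq_zero hkg h0
    rw [eval_map] at h3
    show g₀.eval₂ (V.subtype.comp φ) (V.subtype r) = 0
    rw [← Polynomial.hom_eval₂, h3, map_zero]))
  obtain ⟨f₂, hf₂⟩ := hkf
  have hf₂r : f₂.eval r = 0 := by
    have h3 : (f.map φ).eval r = 0 := by rw [eval_map]; exact hr
    rw [hf₂, eval_mul] at h3
    exact (mul_eq_zero.mp h3).resolve_left hk0
  let ρ := IsLocalRing.residue V
  have hkm' : (k.map ρ).Monic := hkm.map _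
  have h3 : DeadAt f 𝔮 (ρ.comp φ) (k.map ρ * (X - C (ρ r))).natDegree := by
    refine ⟨g₀ * g, k.map ρ * (X - C (ρ r)), ?_, hkm'.mul (monic_X_sub_C _), le_rfl, ?_, ?_⟩
    · rw [map_mul]; exact fun h => (h𝔮.mem_or_mem h).elim hg₀ hgq
    · rw [← Polynomial.map_map, hf₂, Polynomial.map_mul]
      exact mul_dvd_mul_left _ (dvd_iff_isRoot.mpr (by
        rw [IsRoot, eval_map, eval₂_at_apply, hf₂r, map_zero]))
    · rw [← Polynomial.map_map, Polynomial.map_mul, Polynomial.map_mul]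
      refine mul_dvd_mul (Polynomial.map_dvd ρ hkg) (dvd_iff_isRoot.mpr ?_)
      rw [IsRoot, eval_map, eval₂_at_apply, eval_map]
      exact (IsLocalRing.residue_eq_zero_iff _).mpr hg
  have h4 := le_deadDeg hf h3
  rw [hkm'.natDegree_mul (monic_X_sub_C _), natDegree_X_sub_C, hkm.natDegree_map, hdeg] at h4
  have h5 : (k.map (algebraMap V L)).natDegree = k.natDegree := hkm.natDegree_map _
  omega

/-- The dead degree grows under specialisation. -/
theorem deadDeg_mono (q q' : Ideal A) [q.IsPrime] [q'.IsPrime] (h : q ≤ q') :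
    deadDeg f 𝔮 (algebraMap A q.ResidueField) ≤ deadDeg f 𝔮 (algebraMap A q'.ResidueField) := by
  let θ : Localization.AtPrime q' →+* q.ResidueField := IsLocalization.lift (M := q'.primeCompl)
    (g := algebraMap A q.ResidueField) fun y => isUnit_iff_ne_zero.mpr fun h0 =>
      y.2 (h (Ideal.algebraMap_residueField_eq_zero.mp h0))
  obtain ⟨V, hV, hloc⟩ := IsLocalRing.exists_factor_valuationRing θ
  let θV : Localization.AtPrime q' →+* V := θ.codRestrict V.toSubring hV
  let φ : A →+* V := θV.comp (algebraMap A _)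
  have hφ : V.subtype.comp φ = algebraMap A q.ResidueField := RingHom.ext fun a => IsLocalization.lift_eq _ a
  have hker : RingHom.ker ((IsLocalRing.residue V).comp φ) = q' := by
    ext a
    rw [RingHom.mem_ker, RingHom.comp_apply, IsLocalRing.residue_eq_zero_iff, IsLocalRing.mem_maximalIdeal,
      ← IsLocalization.AtPrime.to_map_mem_maximal_iff (Localization.AtPrime q') q' a, IsLocalRing.mem_maximalIdeal]
    exact (isUnit_map_iff θV _).not
  rw [← deadDeg_eq_residueField hf _ q' hker]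
  exact le_deadDeg hf (DeadAt.specialize hf V φ _ (hφ ▸ deadAt_deadDeg hf _))

/-- The dead degree is attained before the union of a chain. -/
theorem exists_mem_deadDeg_le (c : Set (Ideal A)) (hc : IsChain (· ≤ ·) c) (hne : c.Nonempty)
    (hprime : ∀ q ∈ c, q.IsPrime) (U : Ideal A) [U.IsPrime] (hU : (U : Set A) = ⋃ q ∈ c, (q : Set A)) :
    ∃ q, ∃ hq : q ∈ c, haveI := hprime q hq;
      deadDeg f 𝔮 (algebraMap A U.ResidueField) ≤ deadDeg f 𝔮 (algebraMap A q.ResidueField) := by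
  classical
  obtain ⟨g, h, hg, hh, he, h1, h2⟩ := deadAt_deadDeg hf (algebraMap A U.ResidueField) (𝔮 := 𝔮)
  let W := Localization.AtPrime U
  have hlift : h ∈ Polynomial.lifts (IsLocalRing.residue W) := by
    refine (Polynomial.lifts_iff_coeff_lifts _).mpr fun n => ?_
    exact IsLocalRing.residue_surjective _
  obtain ⟨H, hH, hHdeg, hHm⟩ := Polynomial.lifts_and_degree_eq_and_monic hlift hh
  have hmap : algebraMap A U.ResidueField = (IsLocalRing.residue W).comp (algebraMap A W) := rfl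
  rw [hmap, ← Polynomial.map_map, ← hH] at h1 h2
  -- the coefficients which have to vanish
  let S : Finset W := (((f.map (algebraMap A W)) %ₘ H).support.image fun n =>
    ((f.map (algebraMap A W)) %ₘ H).coeff n) ∪ (((g.map (algebraMap A W)) %ₘ H).support.image fun n =>
    ((g.map (algebraMap A W)) %ₘ H).coeff n)
  have hrem : ∀ (P : W[X]), H.map (IsLocalRing.residue W) ∣ P.map (IsLocalRing.residue W) →
      ∀ n, (P %ₘ H).coeff n ∈ IsLocalRing.maximalIdeal W := fun P hP n => by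
    rw [← IsLocalRing.residue_eq_zero_iff, ← Polynomial.coeff_map, Polynomial.map_modByMonic _ hHm,
      (Polynomial.modByMonic_eq_zero_iff_dvd (hHm.map _)).mpr hP, Polynomial.coeff_zero]
  have hS : ∀ w ∈ S, ∃ a s : A, a ∈ U ∧ s ∉ U ∧ w * algebraMap A W s = algebraMap A W a := fun w hw => by
    have hwm : w ∈ IsLocalRing.maximalIdeal W := by
      simp only [S, Finset.mem_union, Finset.mem_image] at hw
      rcases hw with ⟨n, -, rfl⟩ | ⟨n, -, rfl⟩
      · exact hrem _ h1 n
      · exact hrem _ h2 n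
    obtain ⟨⟨a, s⟩, has⟩ := IsLocalization.surj U.primeCompl w
    refine ⟨a, s, (IsLocalization.AtPrime.to_map_mem_maximal_iff W U a).mp ?_, s.2, has⟩
    rw [← has]
    exact Ideal.mul_mem_right _ _ hwm
  choose! a s ha hs has using hS
  obtain ⟨q, hq, hqa⟩ : ∃ q ∈ c, ∀ w ∈ S, a w ∈ q := by
    have : ∀ T : Finset W, (∀ w ∈ T, a w ∈ U) → ∃ q ∈ c, ∀ w ∈ T, a w ∈ q := by
      intro T
      induction T using Finset.induction_on with
      | empty => exact fun _ => ⟨hne.some, hne.some_mem, by simp⟩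
      | insert w T _ ih =>
        intro hT
        obtain ⟨q, hq, hqT⟩ := ih fun w' hw' => hT w' (Finset.mem_insert_of_mem hw')
        have hw : a w ∈ ⋃ q ∈ c, (q : Set A) := hU ▸ (hT w (Finset.mem_insert_self _ _) :)
        obtain ⟨q', hq', hwq⟩ := Set.mem_iUnion₂.mp hw
        rcases hc.total hq hq' with hle | hle
        · exact ⟨q', hq', fun w' hw' => (Finset.mem_insert.mp hw').elim (fun e => e ▸ hwq) fun h => hle (hqT w' h)⟩
        · exact ⟨q, hq, fun w' hw' => (Finset.mem_insert.mp hw').elim (fun e => e ▸ hle hwq) fun h => hqT w' h⟩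
    exact this S fun w hw => ha w hw
  refine ⟨q, hq, ?_⟩
  haveI := hprime q hq
  have hqU : q ≤ U := fun x hx => hU.ge (Set.mem_biUnion hq hx)
  let θ : W →+* q.ResidueField := IsLocalization.lift (M := U.primeCompl)
    (g := algebraMap A q.ResidueField) fun y => isUnit_iff_ne_zero.mpr fun h0 =>
      y.2 (hqU (Ideal.algebraMap_residueField_eq_zero.mp h0))
  have hθ : θ.comp (algebraMap A W) = algebraMap A q.ResidueField := RingHom.ext fun x => IsLocalization.lift_eq _ x
  have hθ0 : ∀ w ∈ S, θ w = 0 := fun w hw => by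
    have h3 := congrArg θ (has w hw)
    rw [map_mul, ← RingHom.comp_apply, ← RingHom.comp_apply, hθ, Ideal.algebraMap_residueField_eq_zero.mpr (hqa w hw)]
      at h3
    exact (mul_eq_zero.mp h3).resolve_right fun h => hs w hw (hqU (Ideal.algebraMap_residueField_eq_zero.mp h))
  have hdvd : ∀ P : A[X], (∀ n ∈ ((P.map (algebraMap A W)) %ₘ H).support, ((P.map (algebraMap A W)) %ₘ H).coeff n ∈ S) →
      H.map θ ∣ P.map (algebraMap A q.ResidueField) := fun P hP => by
    rw [← hθ, ← Polynomial.map_map, ← Polynomial.modByMonic_eq_zero_iff_dvd (hHm.map θ),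
      ← Polynomial.map_modByMonic _ hHm]
    ext n
    rw [Polynomial.coeff_map, Polynomial.coeff_zero]
    by_cases hn : n ∈ ((P.map (algebraMap A W)) %ₘ H).support
    · exact hθ0 _ (hP n hn)
    · rw [Polynomial.notMem_support_iff.mp hn, map_zero]
  refine le_deadDeg hf ⟨g, H.map θ, hg, hHm.map θ, ?_, hdvd f fun n hn => ?_, hdvd g fun n hn => ?_⟩
  · rw [hHm.natDegree_map, natDegree_eq_natDegree hHdeg]; exact he
  · exact Finset.mem_union_left _ (Finset.mem_image_of_mem _ hn)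
  · exact Finset.mem_union_right _ (Finset.mem_image_of_mem _ hn)

end Groth.RaynaudGruson.EtaleRoots
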