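import Groth.Agent.RaynaudGruson.EtaleFibreInj
import Mathlib

/-!
A map of flat modules which is injective modulo the maximal ideal of a local ring is universally injective, when
vanishing in the source is detected in a standard étale neighbourhood.
-/

set_option autoImplicit false
set_option linter.style.haveILetI false
universe u

open Polynomial TensorProduct

namespace Groth.RaynaudGruson.EtaleCoord

open EtaleRoots

variable {A : Type u} [CommRing A] {f : A[X]} {𝔮 : Ideal (AdjoinRoot f)}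

/-- Off the largest dead factor all points over `p` lie below `𝔮`. -/
theorem exists_separating (hf : f.Monic) [𝔮.IsPrime] (p : Ideal A) [p.IsPrime] :
    ∃ g : AdjoinRoot f, g ∉ 𝔮 ∧ ∀ (Y : Ideal (AdjoinRoot f)) [Y.IsPrime],
      Y.comap (algebraMap A (AdjoinRoot f)) = p → g ∉ Y → Y ≤ 𝔮 := by
  obtain ⟨g₀, h₀, hg₀, hh₀, hdeg, h1, h2⟩ := deadAt_deadDeg hf (algebraMap A p.ResidueField) (𝔮 := 𝔮)
  refine ⟨AdjoinRoot.mk f g₀, hg₀, fun Y hYp hY hgY => ?_⟩
  let φ : A →+* Y.ResidueField := (algebraMap _ Y.ResidueField).comp (algebraMap A (AdjoinRoot f))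
  have hker : RingHom.ker φ = p := by
    rw [← RingHom.comap_ker, Ideal.ker_algebraMap_residueField, hY]
  let ι : p.ResidueField →+* Y.ResidueField := Ideal.ResidueField.lift p φ hker.ge fun x hx =>
    isUnit_iff_ne_zero.mpr fun h0 => hx (hker ▸ (h0 : x ∈ RingHom.ker φ))
  have hι : ι.comp (algebraMap A p.ResidueField) = φ := by ext a; simp [ι]
  let r : Y.ResidueField := algebraMap _ _ (AdjoinRoot.root f)
  have hev : ∀ g : A[X], g.eval₂ φ r = algebraMap _ _ (AdjoinRoot.mk f g) := fun g => by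
    rw [← AdjoinRoot.aeval_eq, aeval_def, Polynomial.hom_eval₂]
  have h1' : h₀.map ι ∣ f.map φ := by rw [← hι, ← Polynomial.map_map]; exact Polynomial.map_dvd ι h1
  have h2' : h₀.map ι ∣ g₀.map φ := by rw [← hι, ← Polynomial.map_map]; exact Polynomial.map_dvd ι h2
  obtain ⟨f₂, hf₂⟩ := h1'
  have hf₂r : f₂.eval r = 0 := by
    have h3 : (f.map φ).eval r = 0 := by rw [eval_map, hev, AdjoinRoot.mk_self, map_zero]
    rw [hf₂, eval_mul] at h3
    refine (mul_eq_zero.mp h3).resolve_left fun h0 => hgY ?_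
    have h4 := eval_eq_zero_of_dvd_of_eval_eq_zero h2' h0
    rw [eval_map, hev, Ideal.algebraMap_residueField_eq_zero] at h4
    exact h4
  have halive := alive_of_cofactor hf hg₀ (hh₀.map ι) (r := r) (f₂ := f₂)
    (by
      rw [deadDeg_eq_residueField hf φ p hker, hh₀.natDegree_map]
      exact hdeg) h2' hf₂ hf₂r
  intro t ht
  obtain ⟨g, rfl⟩ := AdjoinRoot.mk_surjective t
  exact halive g (by rw [Ideal.mem_bot, hev, Ideal.algebraMap_residueField_eq_zero]; exact ht)

theorem piRight_lTensor {N Q : Type u} [AddCommGroup N] [Module A N] [AddCommGroup Q] [Module A Q] {d : ℕ}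
    (x : Fin d → A) (ψ : Q →ₗ[A] Fin d → Q) (hψ : ∀ q l, ψ q l = x l • q) (w : N ⊗[A] Q) (l : Fin d) :
    TensorProduct.piRight A A N (fun _ => Q) (ψ.lTensor N w) l = x l • w := by
  induction w with
  | zero => simp
  | tmul n q => simp [hψ]
  | add a b ha hb => simp only [map_add, Pi.add_apply, smul_add, ha, hb]

/-- Over a base on which the separating element satisfies its equation up to nilpotents, the semilocalisation at `𝔮`
is finite. -/
theorem finite_tensor_localization (R : Type u) [CommRing R] [IsLocalRing R] [Algebra A R] (T : Type u) [CommRing T]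
    [Algebra A T] [Module.Finite A T] (𝔮 : Ideal T) [𝔮.IsPrime] (Tq : Type u) [CommRing Tq] [Algebra A Tq]
    [Algebra T Tq] [IsScalarTower A T Tq] [IsLocalization 𝔮.primeCompl Tq] (p : Ideal A)
    (hmR : ∀ a : A, algebraMap A R a ∈ IsLocalRing.maximalIdeal R ↔ a ∈ p) (g : T) (hg : g ∉ 𝔮)
    (hsep : ∀ (Y : Ideal T) [Y.IsPrime], Y.comap (algebraMap A T) = p → g ∉ Y → Y ≤ 𝔮) (s : A) (hs : s ∉ p) (b : T)
    (n : ℕ) (hnil : IsNilpotent ((1 : R) ⊗ₜ[A] (algebraMap A T s * g ^ n - g ^ (n + 1) * b))) :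
    Module.Finite R (R ⊗[A] Tq) := by
  let Φ : R ⊗[A] T →ₐ[R] R ⊗[A] Tq := Algebra.TensorProduct.map (AlgHom.id R R) (IsScalarTower.toAlgHom A T Tq)
  let E₀ : Subalgebra R (R ⊗[A] Tq) := Φ.range
  haveI : Module.Finite R E₀ :=
    Module.Finite.of_surjective Φ.rangeRestrict.toLinearMap Φ.rangeRestrict_surjective
  haveI : Algebra.IsIntegral R E₀ := Algebra.IsIntegral.of_finite R E₀
  let τ₀ : T →+* E₀ := Φ.rangeRestrict.toRingHom.comp
    (Algebra.TensorProduct.includeRight : T →ₐ[A] R ⊗[A] T).toRingHom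
  have hτ₀ : ∀ t, (τ₀ t : R ⊗[A] Tq) = (1 : R) ⊗ₜ[A] algebraMap T Tq t := fun t => rfl
  have hτu : ∀ σ : T, σ ∉ 𝔮 → IsUnit ((1 : R) ⊗ₜ[A] algebraMap T Tq σ) := fun σ hσ =>
    (IsLocalization.map_units Tq (⟨σ, hσ⟩ : 𝔮.primeCompl)).map
      (Algebra.TensorProduct.includeRight : Tq →ₐ[A] R ⊗[A] Tq)
  have halg : ∀ a : A, τ₀ (algebraMap A T a) = algebraMap R E₀ (algebraMap A R a) := fun a => Subtype.ext (by
    rw [hτ₀, ← IsScalarTower.algebraMap_apply]
    show (1 : R) ⊗ₜ[A] algebraMap A Tq a = algebraMap A R a ⊗ₜ[A] (1 : Tq)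
    rw [Algebra.algebraMap_eq_smul_one, Algebra.algebraMap_eq_smul_one, smul_tmul])
  have hnil' : IsNilpotent (τ₀ (algebraMap A T s) - τ₀ g * τ₀ b) := by
    obtain ⟨m, hm⟩ := hnil
    refine ⟨m, Subtype.ext ((((hτu g hg).pow n).pow m).mul_right_eq_zero.mp ?_)⟩
    have h1 : (τ₀ (algebraMap A T s * g ^ n - g ^ (n + 1) * b) : R ⊗[A] Tq) ^ m = 0 := by
      show Φ _ ^ m = 0
      rw [← map_pow]
      exact (congrArg Φ hm).trans (map_zero Φ)
    rw [SubmonoidClass.coe_pow, ← mul_pow, ← hτ₀, ← SubmonoidClass.coe_pow, ← MulMemClass.coe_mul,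
      ← map_pow, ← map_mul, ← map_sub, ← map_mul,
      show g ^ n * (algebraMap A T s - g * b) = algebraMap A T s * g ^ n - g ^ (n + 1) * b by ring]
    exact h1
  have hunit : ∀ σ : T, σ ∉ 𝔮 → IsUnit (τ₀ σ) := by
    intro σ hσ
    by_contra hnu
    obtain ⟨Mx, hMx, hσM⟩ := exists_max_ideal_of_mem_nonunits (a := τ₀ σ) hnu
    haveI := hMx
    have hMR : Mx.comap (algebraMap R E₀) = IsLocalRing.maximalIdeal R :=
      IsLocalRing.eq_maximalIdeal (Ideal.isMaximal_comap_of_isIntegral_of_isMaximal Mx)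
    let Y : Ideal T := Mx.comap τ₀
    haveI : Y.IsPrime := Ideal.IsPrime.comap τ₀
    have hYp : Y.comap (algebraMap A T) = p := Ideal.ext fun a => by
      rw [Ideal.mem_comap, Ideal.mem_comap, halg, ← Ideal.mem_comap, hMR, hmR]
    have hgY : g ∉ Y := fun hgM => by
      obtain ⟨m, hm⟩ := hnil'
      have h2 : τ₀ (algebraMap A T s) - τ₀ g * τ₀ b ∈ Mx := hMx.isPrime.mem_of_pow_mem m (hm ▸ Mx.zero_mem)
      have h3 := Mx.add_mem h2 (Mx.mul_mem_right (τ₀ b) hgM)
      rw [sub_add_cancel, halg, ← Ideal.mem_comap, hMR, hmR] at h3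
      exact hs h3
    exact hσ (hsep Y hYp hgY hσM)
  have htop : E₀ = ⊤ := by
    refine top_le_iff.mp fun x _ => ?_
    induction x using TensorProduct.induction_on with
    | zero => exact zero_mem _
    | add a b ha hb => exact add_mem (ha trivial) (hb trivial)
    | tmul r t =>
      obtain ⟨⟨t', σ⟩, hσ⟩ := IsLocalization.surj 𝔮.primeCompl t
      obtain ⟨v, hv⟩ := hunit σ σ.2
      have hv1 : ((↑v⁻¹ : E₀) : R ⊗[A] Tq) * ((1 : R) ⊗ₜ[A] algebraMap T Tq σ) = 1 := by
        rw [← hτ₀, ← hv, ← MulMemClass.coe_mul, Units.inv_mul, OneMemClass.coe_one]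
      have h1 : (r ⊗ₜ[A] t) * ((1 : R) ⊗ₜ[A] algebraMap T Tq σ) = Φ (r ⊗ₜ[A] t') := by
        rw [Algebra.TensorProduct.tmul_mul_tmul, mul_one, hσ]
        rfl
      have h2 : r ⊗ₜ[A] t = Φ (r ⊗ₜ[A] t') * ((↑v⁻¹ : E₀) : R ⊗[A] Tq) := by
        rw [← h1, mul_assoc, mul_comm ((1 : R) ⊗ₜ[A] algebraMap T Tq σ), hv1, mul_one]
      rw [h2]
      exact mul_mem ⟨_, rfl⟩ (↑v⁻¹ : E₀).2
  exact Module.Finite.of_surjective Φ.toLinearMap fun x => (htop ▸ Algebra.mem_top : x ∈ E₀)

/-- Injectivity on the fibre at the point under a local ring, for modules killed by its maximal ideal. -/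
theorem rTensor_injective_residue {M N : Type u} [AddCommGroup M] [Module A M] [AddCommGroup N] [Module A N]
    (u : N →ₗ[A] M) (p : Ideal A) [p.IsPrime] (hp : Function.Injective (u.lTensor p.ResidueField)) (R : Type u)
    [CommRing R] [IsLocalRing R] [Algebra A R] (hmR : ∀ a : A, algebraMap A R a ∈ IsLocalRing.maximalIdeal R ↔ a ∈ p)
    (V : Type u) [AddCommGroup V] [Module A V] [Module R V] [IsScalarTower A R V] :
    Function.Injective (u.rTensor (V ⧸ IsLocalRing.maximalIdeal R • (⊤ : Submodule R V))) := by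
  let k := R ⧸ IsLocalRing.maximalIdeal R
  letI : Field k := Ideal.Quotient.field (IsLocalRing.maximalIdeal R)
  haveI : IsScalarTower A k (V ⧸ IsLocalRing.maximalIdeal R • (⊤ : Submodule R V)) :=
    IsScalarTower.of_algebraMap_smul fun r x => by
      obtain ⟨x, rfl⟩ := Submodule.Quotient.mk_surjective _ x
      show Submodule.Quotient.mk (algebraMap A R r • x) = _
      rw [algebraMap_smul]; rfl
  refine (LinearMap.lTensor_inj_iff_rTensor_inj _ u).mp (lTensor_injective_of_ker u p hp k (Ideal.ext fun x => ?_) _)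
  rw [RingHom.mem_ker, ← hmR]
  exact Ideal.Quotient.eq_zero_iff_mem

variable {M N : Type u} [AddCommGroup M] [Module A M] [AddCommGroup N] [Module A N]
  [Module.Flat A M] [Module.Flat A N] [IsLocalRing A]

set_option maxHeartbeats 1000000 in
/-- **Universal injectivity** from injectivity modulo the maximal ideal. -/
theorem rTensor_injective (hf : f.Monic) [𝔮.IsPrime]
    (h𝔮 : 𝔮.comap (algebraMap A (AdjoinRoot f)) = IsLocalRing.maximalIdeal A)
    (hd : AdjoinRoot.mk f (derivative f) ∉ 𝔮) (hN : HasCoord N f 𝔮) (u : N →ₗ[A] M)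
    (hu : Function.Injective (u.lTensor (IsLocalRing.ResidueField A))) (Q : Type u) [AddCommGroup Q] [Module A Q] :
    Function.Injective (u.rTensor Q) := by
  classical
  refine (injective_iff_map_eq_zero _).mpr fun z hz => ?_
  by_contra hz0
  -- localise at a minimal prime over the annihilator
  let I : Ideal A := LinearMap.ker (LinearMap.toSpanSingleton A (N ⊗[A] Q) z)
  have hI : I ≤ IsLocalRing.maximalIdeal A := IsLocalRing.le_maximalIdeal fun h => hz0 (by
    have h1 : (1 : A) ∈ I := h ▸ Submodule.mem_top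
    simpa [I] using h1)
  obtain ⟨p, hp, -⟩ := Ideal.exists_minimalPrimes_le hI
  haveI : p.IsPrime := hp.1.1
  let Ap := Localization.AtPrime p
  let Q' := LocalizedModule p.primeCompl Q
  let ι : Q →ₗ[A] Q' := LocalizedModule.mkLinearMap p.primeCompl Q
  have hloc : ∀ w : N ⊗[A] Q, ι.lTensor N w = 0 ↔ ∃ s : A, s ∉ p ∧ s • w = 0 := fun w => by
    have h1 := IsLocalizedModule.eq_zero_iff p.primeCompl (AlgebraTensorModule.rTensor A N ι)
      (m := TensorProduct.comm A N Q w)
    have key : ∀ w, AlgebraTensorModule.rTensor A N ι (TensorProduct.comm A N Q w) =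
        TensorProduct.comm A N Q' (ι.lTensor N w) := fun w => by
      induction w with
      | zero => simp
      | tmul n q => rfl
      | add a b ha hb => simp only [map_add, ha, hb]
    have h2 := key w
    rw [h2, EmbeddingLike.map_eq_zero_iff] at h1
    rw [h1]
    constructor
    · rintro ⟨s, hs⟩
      refine ⟨s, s.2, ?_⟩
      rwa [Submonoid.smul_def, ← map_smul, EmbeddingLike.map_eq_zero_iff] at hs
    · rintro ⟨s, hs, hsw⟩
      exact ⟨⟨s, hs⟩, by rw [Submonoid.smul_def, ← map_smul, hsw, map_zero]⟩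
  let z' := ι.lTensor N z
  have hz' : z' ≠ 0 := fun h => by
    obtain ⟨s, hs, hsz⟩ := (hloc z).mp h
    exact hs (hp.1.2 (show s ∈ I by simpa [I] using hsz))
  have hpow : ∀ x ∈ p, ∃ n : ℕ, x ^ n • z' = 0 := by
    intro x hx
    by_contra hno
    simp only [not_exists] at hno
    have hdisj : Disjoint (I : Set A) ((p.primeCompl ⊔ Submonoid.powers x : Submonoid A) : Set A) := by
      rw [Set.disjoint_left]
      intro a ha ha'
      obtain ⟨s, hs, _, ⟨n, rfl⟩, rfl⟩ := Submonoid.mem_sup.mp ha'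
      refine hno n ?_
      rw [← map_smul, hloc]
      exact ⟨s, hs, by rw [smul_smul]; simpa [I] using ha⟩
    obtain ⟨q, hq, hIq, hqd⟩ := Ideal.exists_le_prime_disjoint I _ hdisj
    have hqp : q ≤ p := fun a ha => by
      by_contra hap
      exact Set.disjoint_left.mp hqd ha (Submonoid.mem_sup_left hap)
    exact Set.disjoint_left.mp hqd (hp.2 ⟨hq, hIq⟩ hqp hx) (Submonoid.mem_sup_right (Submonoid.mem_powers x))
  -- an equation inverting a separating element
  obtain ⟨g, hg, hsep⟩ := exists_separating hf p (𝔮 := 𝔮)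
  let T := AdjoinRoot f
  haveI : Module.Free A T := hf.free_adjoinRoot
  haveI : Module.Finite A T := hf.finite_adjoinRoot
  let F := p.ResidueField ⊗[A] T
  haveI : IsArtinian F F := isArtinian_of_tower p.ResidueField (inferInstanceAs (IsArtinian p.ResidueField F))
  obtain ⟨n, y, hy⟩ := IsArtinian.exists_pow_succ_smul_dvd ((1 : p.ResidueField) ⊗ₜ[A] g : F) (1 : F)
  obtain ⟨s, b, hs, hsb⟩ := Groth.FlatmorThree.exists_smul_eq_one_tmul p y
  let e : T := algebraMap A T s * g ^ n - g ^ (n + 1) * b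
  have he : (1 : p.ResidueField) ⊗ₜ[A] e = 0 := by
    have h1 : algebraMap A p.ResidueField s • ((1 : p.ResidueField) ⊗ₜ[A] g) ^ n =
        ((1 : p.ResidueField) ⊗ₜ[A] g) ^ (n + 1) * ((1 : p.ResidueField) ⊗ₜ[A] b) := by
      rw [smul_eq_mul, smul_eq_mul, mul_one] at hy
      rw [← hsb, mul_smul_comm, ← hy]
    rw [Algebra.TensorProduct.tmul_pow, Algebra.TensorProduct.tmul_pow, one_pow, one_pow,
      Algebra.TensorProduct.tmul_mul_tmul, one_mul, algebraMap_smul, ← tmul_smul, Algebra.smul_def] at h1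
    rw [tmul_sub, h1, sub_self]
  let bT := (AdjoinRoot.powerBasis' hf).basis
  let c : Fin (AdjoinRoot.powerBasis' hf).dim → A := fun l => bT.repr e l
  have hc : ∀ l, c l ∈ p := fun l => by
    have h1 := bT.baseChange_repr_tmul p.ResidueField (1 : p.ResidueField) e l
    rw [he, map_zero, Finsupp.zero_apply] at h1
    rw [← Ideal.algebraMap_residueField_eq_zero, Algebra.algebraMap_eq_smul_one]
    exact h1.symm
  choose k hk using fun l => hpow (c l) (hc l)
  let K := ∑ l, k l + 1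
  have hK : ∀ l, c l ^ K • z' = 0 := fun l => by
    obtain ⟨j, hj⟩ : ∃ j, K = j + k l :=
      ⟨K - k l, (Nat.sub_add_cancel ((Finset.single_le_sum (fun _ _ => Nat.zero_le _) (Finset.mem_univ l)).trans
        (Nat.le_succ _))).symm⟩
    rw [hj, pow_add, mul_smul, hk, smul_zero]
  -- the base `R`
  let I₀ : Ideal Ap := Ideal.span (Set.range fun l => algebraMap A Ap (c l ^ K))
  have hI₀ : I₀ ≤ IsLocalRing.maximalIdeal Ap := Ideal.span_le.mpr <| by
    rintro _ ⟨l, rfl⟩
    exact (IsLocalization.AtPrime.to_map_mem_maximal_iff Ap p _).mpr (Ideal.pow_mem_of_mem p (hc l) K (Nat.succ_pos _))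
  let R := Ap ⧸ I₀
  haveI : Nontrivial R := Ideal.Quotient.nontrivial_iff.mpr fun h =>
    (IsLocalRing.maximalIdeal.isMaximal Ap).ne_top (top_le_iff.mp (h ▸ hI₀))
  haveI : IsLocalRing R := IsLocalRing.of_surjective' (Ideal.Quotient.mk I₀) Ideal.Quotient.mk_surjective
  haveI : IsLocalHom (Ideal.Quotient.mk I₀) := IsLocalHom.of_surjective _ Ideal.Quotient.mk_surjective
  have hmR : ∀ a : A, algebraMap A R a ∈ IsLocalRing.maximalIdeal R ↔ a ∈ p := fun a => by
    rw [← IsLocalization.AtPrime.to_map_mem_maximal_iff Ap p a, IsLocalRing.mem_maximalIdeal,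
      IsLocalRing.mem_maximalIdeal]
    exact (isUnit_map_iff (Ideal.Quotient.mk I₀) _).not
  -- the part killed by `I₀`
  let ψ : Q' →ₗ[Ap] Fin (AdjoinRoot.powerBasis' hf).dim → Q' :=
    LinearMap.pi fun l => algebraMap A Ap (c l ^ K) • LinearMap.id
  let Q'' : Submodule Ap Q' := LinearMap.ker ψ
  have htors : Module.IsTorsionBySet Ap Q'' (I₀ : Set Ap) := fun x a => by
    obtain ⟨a, ha⟩ := a
    show a • x = 0
    refine Submodule.span_induction (fun b hb => ?_) (zero_smul _ _)
      (fun b b' _ _ hb hb' => by rw [add_smul, hb, hb', add_zero])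
      (fun r b _ hb => by rw [smul_eq_mul, mul_smul, hb, smul_zero]) ha
    obtain ⟨l, rfl⟩ := hb
    exact Subtype.ext (congrFun x.2 l)
  letI : Module R Q'' := htors.module
  haveI : IsScalarTower A R Q'' := Module.IsTorsionBySet.isScalarTower htors
  obtain ⟨z'', hz''⟩ := (Module.Flat.lTensor_exact N (f := Q''.subtype.restrictScalars A) (g := ψ.restrictScalars A)
    (LinearMap.exact_subtype_ker_map ψ) z').mp (by
      refine (TensorProduct.piRight A A N fun _ => Q').injective (funext fun l => ?_)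
      rw [piRight_lTensor (fun l => c l ^ K) _ (fun q l => by
        show algebraMap A Ap (c l ^ K) • q = _
        rw [algebraMap_smul]) z' l, map_zero, Pi.zero_apply, hK])
  -- the semilocalisation
  let Tq := Localization.AtPrime 𝔮
  haveI : Module.Flat T Tq := IsLocalization.flat Tq 𝔮.primeCompl
  haveI : Module.Flat A Tq := Module.Flat.trans A T Tq
  have hnil : IsNilpotent ((1 : R) ⊗ₜ[A] e) := by
    rw [← bT.sum_repr e, tmul_sum]
    exact Commute.isNilpotent_sum (R := R ⊗[A] AdjoinRoot f) (fun l _ => ⟨K, by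
    rw [tmul_smul, smul_tmul', ← Algebra.algebraMap_eq_smul_one, Algebra.TensorProduct.tmul_pow, ← map_pow,
      show algebraMap A R (bT.repr e l ^ K) = 0 from
        Ideal.Quotient.eq_zero_iff_mem.mpr (Ideal.subset_span ⟨l, rfl⟩), zero_tmul]⟩) fun _ _ _ _ => Commute.all (S := R ⊗[A] AdjoinRoot f) _ _
  haveI : Module.Finite R (R ⊗[A] Tq) := finite_tensor_localization R T 𝔮 Tq p hmR g hg hsep s hs b n hnil
  haveI : Module.Free R (R ⊗[A] Tq) := Module.free_of_flat_of_isLocalRing
  -- coordinates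
  let bU := Module.Free.chooseBasis R (R ⊗[A] Tq)
  obtain ⟨m, a, ha⟩ := hN Q'' z''
  let ιT : T →ₗ[T] Tq := Algebra.linearMap T Tq
  let C : ∀ (Q₂ : Type u) [AddCommGroup Q₂] [Module R Q₂] [Module A Q₂] [IsScalarTower A R Q₂],
      Q₂ ⊗[R] (R ⊗[A] Tq) ≃ₗ[R] Q₂ ⊗[A] Tq := fun Q₂ _ _ _ _ => AlgebraTensorModule.cancelBaseChange A R R Q₂ Tq
  let a' : Fin m → Q'' ⊗[R] (R ⊗[A] Tq) := fun i =>
    (C Q'').symm (TensorProduct.comm A Tq Q'' (AlgebraTensorModule.rTensor A Q'' ιT (a i)))
  have hCnat : ∀ (Q₂ : Type u) [AddCommGroup Q₂] [Module R Q₂] [Module A Q₂] [IsScalarTower A R Q₂]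
      (h : Q'' →ₗ[R] Q₂) (i : Fin m), C Q₂ (h.rTensor (R ⊗[A] Tq) (a' i)) =
        TensorProduct.comm A Tq Q₂ (AlgebraTensorModule.rTensor A Q₂ ιT ((h.restrictScalars A).lTensor T (a i))) := by
    intro Q₂ _ _ _ _ h i
    have k1 : ∀ x, C Q₂ (h.rTensor (R ⊗[A] Tq) x) = (h.restrictScalars A).rTensor Tq (C Q'' x) := fun x => by
      induction x using TensorProduct.induction_on with
      | zero => simp
      | add x y hx hy => simp only [map_add, hx, hy]
      | tmul q w =>
        induction w using TensorProduct.induction_on with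
        | zero => simp
        | add x y hx hy => simp only [tmul_add, map_add, hx, hy]
        | tmul r t => simp [C]
    have k2 : ∀ x, (h.restrictScalars A).rTensor Tq (TensorProduct.comm A Tq Q''
        (AlgebraTensorModule.rTensor A Q'' ιT x)) =
        TensorProduct.comm A Tq Q₂ (AlgebraTensorModule.rTensor A Q₂ ιT ((h.restrictScalars A).lTensor T x)) :=
      fun x => by
      induction x with
      | zero => simp
      | tmul t q => rfl
      | add x y hx hy => simp only [map_add, hx, hy]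
    rw [k1, LinearEquiv.apply_symm_apply, k2]
  have hcrit : ∀ (Q₂ : Type u) [AddCommGroup Q₂] [Module R Q₂] [Module A Q₂] [IsScalarTower A R Q₂]
      (h : Q'' →ₗ[R] Q₂), (h.restrictScalars A).lTensor N z'' = 0 ↔ ∀ i, h.rTensor (R ⊗[A] Tq) (a' i) = 0 := by
    intro Q₂ _ _ _ _ h
    refine (ha Q₂ (h.restrictScalars A)).trans (forall_congr' fun i => ?_)
    rw [← (C Q₂).map_eq_zero_iff, hCnat, LinearEquiv.map_eq_zero_iff,
      IsLocalizedModule.eq_zero_iff 𝔮.primeCompl (AlgebraTensorModule.rTensor A Q₂ ιT)]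
    exact ⟨fun ⟨σ, hσ, h0⟩ => ⟨⟨σ, hσ⟩, h0⟩, fun ⟨σ, h0⟩ => ⟨σ, σ.2, h0⟩⟩
  let co : Fin m → Module.Free.ChooseBasisIndex R (R ⊗[A] Tq) → Q'' := fun i l =>
    TensorProduct.equivFinsuppOfBasisRight bU (a' i) l
  have hco : ∀ (Q₂ : Type u) [AddCommGroup Q₂] [Module R Q₂] (h : Q'' →ₗ[R] Q₂) (i : Fin m),
      h.rTensor (R ⊗[A] Tq) (a' i) = 0 ↔ ∀ l, h (co i l) = 0 := by
    intro Q₂ _ _ h i
    have k1 : ∀ (x : Q'' ⊗[R] (R ⊗[A] Tq)) (l), TensorProduct.equivFinsuppOfBasisRight bU (h.rTensor (R ⊗[A] Tq) x) l =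
        h (TensorProduct.equivFinsuppOfBasisRight bU x l) := fun x l => by
      induction x using TensorProduct.induction_on with
      | zero => simp
      | add x y hx hy => simp only [map_add, Finsupp.add_apply, hx, hy]
      | tmul q w => simp
    rw [← (TensorProduct.equivFinsuppOfBasisRight bU).map_eq_zero_iff, Finsupp.ext_iff]
    exact forall_congr' fun l => by rw [k1, Finsupp.zero_apply]
  let Q₀ : Submodule R Q'' := Submodule.span R (Set.range fun x : Fin m × _ => co x.1 x.2)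
  have hQ₀fg : Q₀.FG := Submodule.fg_span (Set.finite_range _)
  -- `z''` comes from `Q₀` and dies modulo the maximal ideal
  obtain ⟨z₁, hz₁⟩ := (lTensor_exact N (f := Q₀.subtype.restrictScalars A) (g := Q₀.mkQ.restrictScalars A)
    (LinearMap.exact_subtype_mkQ Q₀) (Submodule.mkQ_surjective Q₀) z'').mp
      ((hcrit _ Q₀.mkQ).mpr fun i => (hco _ Q₀.mkQ i).mpr fun l =>
        (Submodule.Quotient.mk_eq_zero Q₀).mpr (Submodule.subset_span ⟨(i, l), rfl⟩))
  have hu₁ : u.rTensor Q₀ z₁ = 0 := by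
    refine Module.Flat.lTensor_preserves_injective_linearMap (M := M)
      ((Q''.subtype.restrictScalars A).comp (Q₀.subtype.restrictScalars A))
      (Q''.injective_subtype.comp Q₀.injective_subtype) ?_
    rw [map_zero, ← LinearMap.comp_apply, LinearMap.lTensor_comp_rTensor, ← LinearMap.rTensor_comp_lTensor,
      LinearMap.comp_apply, LinearMap.lTensor_comp, LinearMap.comp_apply, hz₁, hz'']
    show u.rTensor Q' (ι.lTensor N z) = 0
    rw [← LinearMap.comp_apply, LinearMap.rTensor_comp_lTensor, ← LinearMap.lTensor_comp_rTensor,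
      LinearMap.comp_apply, hz, map_zero]
  let mQ : Submodule R Q₀ := IsLocalRing.maximalIdeal R • ⊤
  have hinj := rTensor_injective_residue u p (injective_fibre hf h𝔮 hd hN u hu p) R hmR Q₀
  obtain ⟨w, hw⟩ := (lTensor_exact N (f := mQ.subtype.restrictScalars A) (g := mQ.mkQ.restrictScalars A)
    (LinearMap.exact_subtype_mkQ mQ) (Submodule.mkQ_surjective mQ) z₁).mp (hinj (by
      rw [map_zero, ← LinearMap.comp_apply, LinearMap.rTensor_comp_lTensor, ← LinearMap.lTensor_comp_rTensor,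
        LinearMap.comp_apply, hu₁, map_zero]))
  let mQ'' : Submodule R Q'' := IsLocalRing.maximalIdeal R • Q₀
  have hmz : (mQ''.mkQ.restrictScalars A).lTensor N z'' = 0 := by
    rw [← hz₁, ← hw, ← LinearMap.comp_apply, ← LinearMap.comp_apply, ← LinearMap.lTensor_comp,
      ← LinearMap.lTensor_comp]
    rw [show (mQ''.mkQ.restrictScalars A ∘ₗ Q₀.subtype.restrictScalars A) ∘ₗ mQ.subtype.restrictScalars A = 0 from
      LinearMap.ext fun x => (Submodule.Quotient.mk_eq_zero mQ'').mpr (by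
        have h1 := Submodule.mem_map_of_mem (f := Q₀.subtype) x.2
        rw [Submodule.map_smul'', Submodule.map_top, Submodule.range_subtype] at h1
        exact h1), LinearMap.lTensor_zero, LinearMap.zero_apply]
  have hQ₀ : Q₀ = ⊥ := Submodule.eq_bot_of_le_smul_of_le_jacobson_bot _ _ hQ₀fg
    (Submodule.span_le.mpr fun x hx => by
      obtain ⟨⟨i, l⟩, rfl⟩ := hx
      exact (Submodule.Quotient.mk_eq_zero mQ'').mp ((hco _ mQ''.mkQ i).mp ((hcrit _ mQ''.mkQ).mp hmz i) l))
    (IsLocalRing.maximalIdeal_le_jacobson _)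
  have hall : z'' = 0 := by
    have h1 := (hcrit Q'' LinearMap.id).mpr fun i => (hco _ LinearMap.id i).mpr fun l =>
      (Submodule.mem_bot R).mp (hQ₀ ▸ Submodule.subset_span ⟨(i, l), rfl⟩ : co i l ∈ (⊥ : Submodule R Q''))
    rwa [show (LinearMap.id : Q'' →ₗ[R] Q'').restrictScalars A = LinearMap.id from rfl, LinearMap.lTensor_id] at h1
  exact hz' (by rw [← hz'', hall, map_zero])

end Groth.RaynaudGruson.EtaleCoord
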