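import Groth.Agent.RaynaudGruson.FlatFibreAssScheme
import Groth.Agent.Flatmor4.FibreAss
import Groth.Agent.QCohMod.FiniteType
import Groth.Agent.QCohMod.PullbackQCoh
import Mathlib

/-!
The relative assassin is locally finite in each fibre; the non-flat locus is closed in each fibre.
-/

set_option autoImplicit false
set_option linter.style.haveILetI false
universe u

open CategoryTheory CategoryTheory.Limits AlgebraicGeometry IsLocalRing Topology

namespace Groth.RaynaudGruson

/-- Finitely many associated points on an affine open of a locally Noetherian scheme. -/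
theorem finite_ass_inter {P : Scheme.{u}} [IsLocallyNoetherian P] (G : P.Modules) [G.IsQuasicoherent]
    (hG : CohB1.IsFT G) {V : P.Opens} (hV : IsAffineOpen V) :
    {z : P | z ∈ V ∧ maximalIdeal (P.presheaf.stalk z) ∈
      associatedPrimes (P.presheaf.stalk z) (G.presheaf.stalk z)}.Finite := by
  haveI : IsNoetherianRing Γ(P, V) := IsLocallyNoetherian.component_noetherian ⟨V, hV⟩
  haveI : Module.Finite Γ(P, V) Γ(G, V) := Groth.QCohMod.finite_sections G hG hV
  refine Set.Finite.subset
    (((associatedPrimes.finite Γ(P, V) Γ(G, V)).preimage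
      (f := fun x : PrimeSpectrum Γ(P, V) => x.asIdeal) (fun a _ b _ h => PrimeSpectrum.ext h)).image hV.fromSpec) ?_
  rintro z ⟨hz, ha⟩
  refine ⟨hV.primeIdealOf ⟨z, hz⟩, ?_, hV.fromSpec_primeIdealOf ⟨z, hz⟩⟩
  letI := Groth.QCohMod.stalkModule G z hz
  letI : Algebra Γ(P, V) (P.presheaf.stalk z) := TopCat.Presheaf.algebra_section_stalk P.presheaf ⟨z, hz⟩
  haveI : IsLocalization.AtPrime (P.presheaf.stalk z) (hV.primeIdealOf ⟨z, hz⟩).asIdeal :=
    hV.isLocalization_stalk ⟨z, hz⟩
  haveI : IsScalarTower Γ(P, V) (P.presheaf.stalk z) (G.presheaf.stalk z) := .of_algebraMap_smul fun _ _ => rfl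
  haveI := Groth.QCohMod.isLocalizedModule_germ G hV z hz
  show (hV.primeIdealOf ⟨z, hz⟩).asIdeal ∈ associatedPrimes _ _
  rw [← IsLocalization.AtPrime.under_maximalIdeal (P.presheaf.stalk z) (hV.primeIdealOf ⟨z, hz⟩).asIdeal]
  exact Module.associatedPrimes.comap_mem_associatedPrimes_of_mem_associatedPrimes_of_isLocalizedModule_of_fg
    (hV.primeIdealOf ⟨z, hz⟩).asIdeal.primeCompl (Groth.QCohMod.germₗ G z hz) _ ha (IsNoetherian.noetherian _)

variable {X S : Scheme.{u}} (f : X ⟶ S) (F : X.Modules)

/-- The relative assassin in a fibre consists of associated points of the fibre. -/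
theorem mem_ass_of_relAss_fiberι [LocallyOfFiniteType f] (y : S) (z : f.fiber y) (h : f.fiberι y z ∈ MoreMor.relAss f F) :
    maximalIdeal ((f.fiber y).presheaf.stalk z) ∈ associatedPrimes ((f.fiber y).presheaf.stalk z)
      (((Scheme.Modules.pullback (f.fiberι y)).obj F).presheaf.stalk z) := by
  let p := f.fiberToSpecResidueField y
  let G := (Scheme.Modules.pullback (f.fiberι y)).obj F
  have H : IsPullback (f.fiberι y) p f (S.fromSpecResidueField y) := IsPullback.of_hasPullback _ _
  have hbot : (maximalIdeal ((Spec (S.residueField y)).presheaf.stalk (p z))).map (p.stalkMap z).hom •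
      (⊤ : Submodule ((f.fiber y).presheaf.stalk z) (G.presheaf.stalk z)) = ⊥ := by
    have : IsField ((Spec (S.residueField y)).presheaf.stalk (p z)) := by
      let K := S.residueField y
      let q : PrimeSpectrum K := p z
      haveI : q.asIdeal.IsMaximal := by
        rw [Ideal.eq_bot_of_prime q.asIdeal]
        exact Ideal.bot_isMaximal
      have hL : IsField (Localization.AtPrime q.asIdeal) :=
        MulEquiv.isField (Field.toIsField K)
          (IsLocalization.atUnits K q.asIdeal.primeCompl
            (fun a ha => isUnit_iff_ne_zero.2 fun h0 => ha (h0 ▸ q.asIdeal.zero_mem))).symm.toMulEquiv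
      exact MulEquiv.isField hL (StructureSheaf.stalkIso K q).symm.toMulEquiv
    rw [IsLocalRing.isField_iff_maximalIdeal_eq.1 this, Ideal.map_bot, Submodule.bot_smul]
  have h2 : z ∈ MoreMor.relAss p G := (Groth.Flatmor4.relAss_baseChange (F := F) H z).2 (fun P hP _ => by
    have he : f.fiberι y ((f.fiber y).fromSpecStalk z P) = f.fiberι y z :=
      (Groth.Flatmor4.apply_fromSpecStalk_eq_iff (f.fiberι y) z P).2 hP
    exact ((f.fiber y).fromSpecStalk z).isEmbedding.injective
      (((f.fiberι y).isEmbedding.injective he).trans (f.fiber y).fromSpecStalk_closedPoint.symm)) h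
  have h3 : maximalIdeal _ ∈ associatedPrimes _ (G.presheaf.stalk z ⧸ _) := h2
  rwa [LinearEquiv.AssociatedPrimes.eq ((Submodule.quotEquivOfEq _ _ hbot).trans (Submodule.quotEquivOfEqBot _ rfl))] at h3

/-- The relative assassin is finite on each affine open of a fibre. -/
theorem finite_relAss_inter_fibre [LocallyOfFiniteType f] [F.IsQuasicoherent] (hF : CohB1.IsFT F) (y : S)
    {V : (f.fiber y).Opens} (hV : IsAffineOpen V) :
    {z : f.fiber y | z ∈ V ∧ f.fiberι y z ∈ MoreMor.relAss f F}.Finite := by
  haveI : LocallyOfFiniteType (f.fiberToSpecResidueField y) :=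
    inferInstanceAs (LocallyOfFiniteType (pullback.snd f _))
  haveI : IsLocallyNoetherian (f.fiber y) := LocallyOfFiniteType.isLocallyNoetherian (f.fiberToSpecResidueField y)
  haveI : Coh.IsQCoh F := ‹F.IsQuasicoherent›
  exact (finite_ass_inter _ (Groth.QCohMod.isFT_pullback (f.fiberι y) F hF) hV).subset
    fun z hz => ⟨hz.1, mem_ass_of_relAss_fiberι f F y z hz.2⟩

/-- The non-flat locus is closed in every fibre. -/
theorem isClosed_preimage_nonflat [LocallyOfFiniteType f] [Coh.IsQCoh F] (hF : CohB1.IsFT F) (y : S) :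
    IsClosed (f.fiberι y ⁻¹' {x : X | ¬ FlatMod.IsFlatOverAt f F x}) := by
  haveI : F.IsQuasicoherent := ‹Coh.IsQCoh F›
  refine (TopologicalSpace.IsOpenCover.isClosed_iff_coe_preimage (iSup_affineOpens_eq_top (f.fiber y))).2 fun V => ?_
  let E : Set (f.fiber y) := {w | w ∈ V.1 ∧ f.fiberι y w ∈ MoreMor.relAss f F ∧ ¬ FlatMod.IsFlatOverAt f F (f.fiberι y w)}
  have hE : E.Finite := (finite_relAss_inter_fibre f F hF y V.2).subset fun w hw => ⟨hw.1, hw.2.1⟩
  have heq : ((↑) : V.1 → f.fiber y) ⁻¹' (f.fiberι y ⁻¹' {x : X | ¬ FlatMod.IsFlatOverAt f F x}) =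
      ((↑) : V.1 → f.fiber y) ⁻¹' (⋃ w ∈ E, closure {w}) := by
    ext z
    simp only [Set.mem_preimage, Set.mem_ofPred_eq, Set.mem_iUnion, exists_prop]
    constructor
    · intro hz
      by_contra hne
      refine hz (FlatFibreAss.isFlatOverAt_of_relAss f F hF _ fun x hx hfx hxa => ?_)
      by_contra hxn
      obtain ⟨w, rfl⟩ : x ∈ Set.range (f.fiberι y) := by
        rw [Scheme.Hom.range_fiberι]
        exact hfx.trans (Groth.FibreDim.apply_fiberι f y z.1)
      have hwz : w ⤳ z.1 := (f.fiberι y).isEmbedding.toIsInducing.specializes_iff.1 hx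
      exact hne ⟨w, ⟨hwz.mem_open V.1.isOpen z.2, hxa, hxn⟩, hwz.mem_closure⟩
    · rintro ⟨w, ⟨-, -, hwn⟩, hwz⟩ hfl
      exact hwn (FlatFibreAss.isFlatOverAt_of_specializes f F
        ((specializes_iff_mem_closure.2 hwz).map (f.fiberι y).continuous) hfl)
  rw [heq]
  exact (hE.isClosed_biUnion fun _ _ => isClosed_closure).preimage continuous_subtype_val

end Groth.RaynaudGruson
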