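import Groth.Agent.GenericFree.Presentation
import Groth.Agent.FlatMorOne.FlatnessCriteria
import Mathlib

/-!
The primes at which a map of finite modules is injective on the fibre form a constructible set.
-/

set_option autoImplicit false
universe u

open TensorProduct

namespace Groth.RaynaudGruson.FibreInjCons

attribute [local instance] Algebra.TensorProduct.rightAlgebra

/-- Injectivity on a fibre of a composite with free kernel and flat image and cokernel. -/
theorem lTensor_injective_iff {L : Type u} [CommRing L] {K M I P C : Type u} [AddCommGroup K] [Module L K]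
    [AddCommGroup M] [Module L M] [AddCommGroup I] [Module L I] [AddCommGroup P] [Module L P] [AddCommGroup C]
    [Module L C] (k : K →ₗ[L] M) (π : M →ₗ[L] I) (j : I →ₗ[L] P) (q : P →ₗ[L] C)
    (hk : Function.Injective k) (hπ : Function.Surjective π) (hkπ : Function.Exact k π)
    (hj : Function.Injective j) (hq : Function.Surjective q) (hjq : Function.Exact j q)
    [Module.Free L K] [Module.Flat L I] [Module.Flat L C] (κ : Type u) [Field κ] [Algebra L κ] :
    Function.Injective ((j ∘ₗ π).lTensor κ) ↔ Subsingleton K := by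
  constructor
  · intro h
    have hk' := LinearMap.lTensor_injective_of_exact_of_flat π hπ k hk hkπ κ
    have h0 : ∀ z : κ ⊗[L] K, z = 0 := fun z => hk' (h (by
      rw [map_zero, map_zero, LinearMap.lTensor_comp_apply, ← LinearMap.lTensor_comp_apply κ π k,
        hkπ.linearMap_comp_eq_zero, LinearMap.lTensor_zero, LinearMap.zero_apply, map_zero]))
    let b := Module.Free.chooseBasis L K
    by_contra hne
    haveI : Nontrivial K := not_subsingleton_iff_nontrivial.mp hne
    obtain ⟨i⟩ := b.index_nonempty
    exact (b.baseChange κ).ne_zero i (h0 _)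
  · intro h
    rw [LinearMap.lTensor_comp, LinearMap.coe_comp]
    refine (LinearMap.lTensor_injective_of_exact_of_flat q hq j hj hjq κ).comp ?_
    rw [injective_iff_map_eq_zero]
    intro z hz
    obtain ⟨w, rfl⟩ := (lTensor_exact κ hkπ hπ z).mp hz
    rw [Subsingleton.elim w 0, map_zero]

/-- Over a domain, fibrewise injectivity is constant near the generic point. -/
theorem exists_const {R S : Type u} [CommRing R] [IsDomain R] [IsNoetherianRing R] [CommRing S] [Algebra R S]
    [Algebra.FiniteType R S] {M P : Type u} [AddCommGroup M] [Module S M] [Module R M] [IsScalarTower R S M]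
    [Module.Finite S M] [AddCommGroup P] [Module S P] [Module R P] [IsScalarTower R S P] [Module.Finite S P]
    (u : M →ₗ[S] P) :
    ∃ (f : R) (c : Prop), f ≠ 0 ∧ ∀ (κ : Type u) [Field κ] [Algebra R κ], algebraMap R κ f ≠ 0 →
      (Function.Injective ((u.restrictScalars R).lTensor κ) ↔ c) := by
  haveI : IsNoetherianRing S := Algebra.FiniteType.isNoetherianRing R S
  haveI : IsNoetherian S M := isNoetherian_of_isNoetherianRing_of_finite S M
  let K := LinearMap.ker u
  let I := LinearMap.range u
  let C := P ⧸ LinearMap.range u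
  obtain ⟨f₁, hf₁, h₁, -⟩ := (GenericFree.gf_of_finiteType (R := R) S K).exists_free
  obtain ⟨f₂, hf₂, h₂, -⟩ := (GenericFree.gf_of_finiteType (R := R) S I).exists_free
  obtain ⟨f₃, hf₃, h₃, -⟩ := (GenericFree.gf_of_finiteType (R := R) S C).exists_free
  let g := f₁ * f₂ * f₃
  have hg : g ≠ 0 := mul_ne_zero (mul_ne_zero hf₁ hf₂) hf₃
  let L := Localization.Away g
  haveI := h₁ g hg ⟨f₂ * f₃, by ring⟩
  haveI := h₂ g hg ⟨f₁ * f₃, by ring⟩
  haveI := h₃ g hg ⟨f₁ * f₂, by ring⟩
  haveI : Module.Free L (L ⊗[R] K) := Module.Free.of_equiv (LocalizedModule.equivTensorProduct (Submonoid.powers g) K)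
  haveI : Module.Free L (L ⊗[R] I) := Module.Free.of_equiv (LocalizedModule.equivTensorProduct (Submonoid.powers g) I)
  haveI : Module.Free L (L ⊗[R] C) := Module.Free.of_equiv (LocalizedModule.equivTensorProduct (Submonoid.powers g) C)
  haveI : Module.Flat R L := IsLocalization.flat L (Submonoid.powers g)
  refine ⟨g, Subsingleton (L ⊗[R] K), hg, fun κ _ _ hκ => ?_⟩
  letI : Algebra L κ := (IsLocalization.Away.lift g (S := L) (g := algebraMap R κ) (isUnit_iff_ne_zero.mpr hκ)).toAlgebra
  haveI : IsScalarTower R L κ := .of_algebraMap_eq fun r => (IsLocalization.Away.lift_eq g _ r).symm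
  rw [← FlatMorOne.lTensor_baseChange_injective_iff (T := L) (u.restrictScalars R)]
  have hu : (u.restrictScalars R).baseChange L =
      ((LinearMap.range u).subtype.restrictScalars R).baseChange L ∘ₗ (u.rangeRestrict.restrictScalars R).baseChange L := by
    rw [← LinearMap.baseChange_comp]
    rfl
  rw [hu]
  exact lTensor_injective_iff (L := L) ((K.subtype.restrictScalars R).baseChange L)
    ((u.rangeRestrict.restrictScalars R).baseChange L) ((I.subtype.restrictScalars R).baseChange L)
    ((I.mkQ.restrictScalars R).baseChange L)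
    (Module.Flat.lTensor_preserves_injective_linearMap (M := L) (K.subtype.restrictScalars R) Subtype.val_injective)
    (LinearMap.lTensor_surjective L (g := u.rangeRestrict.restrictScalars R) u.surjective_rangeRestrict)
    (lTensor_exact L (f := K.subtype.restrictScalars R) (g := u.rangeRestrict.restrictScalars R)
      (fun x => ⟨fun hx => ⟨⟨x, congrArg Subtype.val hx⟩, rfl⟩, by rintro ⟨y, rfl⟩; exact Subtype.ext y.2⟩)
      u.surjective_rangeRestrict)
    (Module.Flat.lTensor_preserves_injective_linearMap (M := L) (I.subtype.restrictScalars R) Subtype.val_injective)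
    (LinearMap.lTensor_surjective L (g := I.mkQ.restrictScalars R) I.mkQ_surjective)
    (lTensor_exact L (f := I.subtype.restrictScalars R) (g := I.mkQ.restrictScalars R)
      (LinearMap.exact_subtype_mkQ I) I.mkQ_surjective) κ

/-- **The fibrewise non-injectivity locus is a finite union of basic locally closed sets.** -/
theorem exists_pairs {R S : Type u} [CommRing R] [IsNoetherianRing R] [CommRing S] [Algebra R S]
    [Algebra.FiniteType R S] {M P : Type u} [AddCommGroup M] [Module S M] [Module R M] [IsScalarTower R S M]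
    [Module.Finite S M] [AddCommGroup P] [Module S P] [Module R P] [IsScalarTower R S P] [Module.Finite S P]
    (u : M →ₗ[S] P) :
    ∃ T : Set (Ideal R × R), T.Finite ∧ ∀ (p : Ideal R) [p.IsPrime],
      (¬ Function.Injective ((u.restrictScalars R).lTensor p.ResidueField) ↔ ∃ t ∈ T, t.1 ≤ p ∧ t.2 ∉ p) := by
  classical
  suffices h : ∀ I : Ideal R, ∃ T : Set (Ideal R × R), T.Finite ∧ ∀ (p : Ideal R) [p.IsPrime], I ≤ p →
      (¬ Function.Injective ((u.restrictScalars R).lTensor p.ResidueField) ↔ ∃ t ∈ T, t.1 ≤ p ∧ t.2 ∉ p) by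
    obtain ⟨T, hT, h⟩ := h ⊥
    exact ⟨T, hT, fun p _ => h p bot_le⟩
  intro I
  induction I using WellFoundedGT.induction with
  | ind I ih =>
    have step : ∀ a ∉ I, ∃ T : Set (Ideal R × R), T.Finite ∧ (∀ t ∈ T, I ≤ t.1 ∧ a ∈ t.1) ∧
        ∀ (p : Ideal R) [p.IsPrime], I ≤ p → a ∈ p →
          (¬ Function.Injective ((u.restrictScalars R).lTensor p.ResidueField) ↔ ∃ t ∈ T, t.1 ≤ p ∧ t.2 ∉ p) := by
      intro a ha
      let I' := I ⊔ Ideal.span {a}
      have hlt : I < I' := left_lt_sup.mpr fun h => ha (h (Ideal.mem_span_singleton_self a))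
      obtain ⟨T, hT, hTI⟩ := ih I' hlt
      refine ⟨(fun t : Ideal R × R => (t.1 ⊔ I', t.2)) '' T, hT.image _, ?_, fun p _ hp hap => ?_⟩
      · rintro _ ⟨t, -, rfl⟩
        exact ⟨le_sup_of_le_right le_sup_left, Ideal.mem_sup_right (Ideal.mem_sup_right (Ideal.mem_span_singleton_self a))⟩
      · have hI'p : I' ≤ p := sup_le hp ((Ideal.span_singleton_le_iff_mem p).mpr hap)
        rw [hTI p hI'p]
        constructor
        · rintro ⟨t, ht, h1, h2⟩
          exact ⟨_, ⟨t, ht, rfl⟩, sup_le h1 hI'p, h2⟩
        · rintro ⟨_, ⟨t, ht, rfl⟩, h1, h2⟩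
          exact ⟨t, ht, le_sup_left.trans h1, h2⟩
    by_cases hI : I.IsPrime
    · -- the generic stratum
      let R' := R ⧸ I
      let S' := R' ⊗[R] S
      haveI : Algebra.IsPushout R R' S S' := TensorProduct.isPushout
      let u' : S' ⊗[S] M →ₗ[S'] S' ⊗[S] P := u.baseChange S'
      obtain ⟨f, c, hf, hconst⟩ := exists_const (R := R') (S := S') (M := S' ⊗[S] M) (P := S' ⊗[S] P) u'
      obtain ⟨a, rfl⟩ := Ideal.Quotient.mk_surjective f
      have ha : a ∉ I := fun h => hf (Ideal.Quotient.eq_zero_iff_mem.mpr h)
      obtain ⟨T, hT, hTle, hTa⟩ := step a ha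
      refine ⟨(if c then T else insert (I, a) T), by split <;> simp [hT], fun p _ hIp => ?_⟩
      by_cases hap : a ∈ p
      · rw [hTa p hIp hap]
        split
        · rfl
        · constructor
          · rintro ⟨t, ht, h⟩
            exact ⟨t, Set.mem_insert_of_mem _ ht, h⟩
          · rintro ⟨t, rfl | ht, h⟩
            · exact absurd hap h.2
            · exact ⟨t, ht, h⟩
      · let κ := p.ResidueField
        letI : Algebra R' κ := (Ideal.Quotient.lift I (algebraMap R κ) fun x hx =>
          Ideal.algebraMap_residueField_eq_zero.mpr (hIp hx)).toAlgebra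
        haveI : IsScalarTower R R' κ := .of_algebraMap_eq fun r => rfl
        have hκ : algebraMap R' κ (Ideal.Quotient.mk I a) ≠ 0 := fun h => hap (Ideal.algebraMap_residueField_eq_zero.mp h)
        let eM : S' ⊗[S] M ≃ₗ[R'] R' ⊗[R] M := Algebra.IsPushout.cancelBaseChange R R' S S' M
        let eP : S' ⊗[S] P ≃ₗ[R'] R' ⊗[R] P := Algebra.IsPushout.cancelBaseChange R R' S S' P
        have hnat : (u.restrictScalars R).baseChange R' ∘ₗ eM.toLinearMap = eP.toLinearMap ∘ₗ u'.restrictScalars R' := by
          ext z
          obtain ⟨z, rfl⟩ := eM.symm.surjective z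
          induction z with
          | zero => simp
          | tmul r m =>
            simp only [LinearMap.coe_comp, LinearEquiv.coe_coe, Function.comp_apply, LinearEquiv.apply_symm_apply,
              LinearMap.baseChange_tmul, LinearMap.coe_restrictScalars]
            apply eP.symm.injective
            rw [LinearEquiv.symm_apply_apply]
            simp [eM, eP, u', Algebra.IsPushout.cancelBaseChange_symm_tmul]
          | add x y hx hy => simp only [map_add, hx, hy]
        have key : Function.Injective ((u.restrictScalars R).lTensor κ) ↔ c := by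
          rw [← hconst κ hκ, ← FlatMorOne.lTensor_baseChange_injective_iff (T := R') (u.restrictScalars R)]
          have h := congrArg (fun φ => φ.lTensor κ) hnat
          simp only [LinearMap.lTensor_comp] at h
          let EM := eM.lTensor κ
          let EP := eP.lTensor κ
          have h' : ∀ z, ((u.restrictScalars R).baseChange R').lTensor κ (EM z) =
              EP ((u'.restrictScalars R').lTensor κ z) := fun z => LinearMap.congr_fun h z
          constructor
          · intro hi x y hxy
            refine EM.injective (hi ?_)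
            rw [h', h', hxy]
          · intro hi x y hxy
            obtain ⟨x, rfl⟩ := EM.surjective x
            obtain ⟨y, rfl⟩ := EM.surjective y
            rw [h', h'] at hxy
            rw [hi (EP.injective hxy)]
        rw [key]
        have hno : ∀ t ∈ T, ¬ (t.1 ≤ p ∧ t.2 ∉ p) := fun t ht h => hap (h.1 (hTle t ht).2)
        split
        · rename_i hc
          exact ⟨fun h => absurd hc h, fun ⟨t, ht, h⟩ => absurd h (hno t ht)⟩
        · rename_i hc
          exact ⟨fun _ => ⟨(I, a), Set.mem_insert _ _, hIp, hap⟩, fun _ => hc⟩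
    · rcases Ideal.not_isPrime_iff.mp hI with rfl | ⟨a, ha, b, hb, hab⟩
      · exact ⟨∅, Set.finite_empty, fun p hp hle => absurd (top_le_iff.mp hle) hp.ne_top⟩
      · obtain ⟨Ta, hTa, hTale, hTa'⟩ := step a ha
        obtain ⟨Tb, hTb, hTble, hTb'⟩ := step b hb
        refine ⟨Ta ∪ Tb, hTa.union hTb, fun p hp hIp => ⟨fun h => ?_, ?_⟩⟩
        · rcases hp.mem_or_mem (hIp hab) with h' | h'
          · obtain ⟨t, ht, hh⟩ := (hTa' p hIp h').mp h
            exact ⟨t, Or.inl ht, hh⟩
          · obtain ⟨t, ht, hh⟩ := (hTb' p hIp h').mp h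
            exact ⟨t, Or.inr ht, hh⟩
        · rintro ⟨t, ht | ht, h1, h2⟩
          · exact (hTa' p hIp (h1 (hTale t ht).2)).mpr ⟨t, ht, h1, h2⟩
          · exact (hTb' p hIp (h1 (hTble t ht).2)).mpr ⟨t, ht, h1, h2⟩

end Groth.RaynaudGruson.FibreInjCons
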