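import Groth.Agent.RaynaudGruson.FlatPred
import Groth.Agent.RaynaudGruson.FiberAssBridge
import Groth.Agent.Calg3.FibreAssTorsion
import Groth.Agent.FlatMorOne.FlatLocusOpen
import Groth.Agent.FlatMorOne.FlatLocusKerFP
import Groth.Agent.FlatmorThree.PureProjective
import Groth.Agent.RaynaudGruson.FibreGenericPoint
import Mathlib

/-!
Elements regular on a fibre stay regular on the nearby fibres; consequences for the relative assassin.
-/

set_option autoImplicit false
universe u

open TensorProduct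

namespace Groth.RaynaudGruson.FibreRegular

attribute [local instance] Algebra.TensorProduct.rightAlgebra

variable {R S : Type u} [CommRing R] [CommRing S] [Algebra R S] [Algebra.FinitePresentation R S]
  (N : Type u) [AddCommGroup N] [Module S N] [Module R N] [IsScalarTower R S N] [Module.FinitePresentation S N]
  [Module.Flat R N]

/-- An element outside the associated points of the fibre below `q` is outside those of the nearby fibres below
the nearby points. -/
theorem exists_nhd (p : Ideal R) [p.IsPrime] (q : Ideal S) [q.IsPrime] [q.LiesOver p] (t : S)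
    (ht : ∀ P ∈ associatedPrimes (p.Fiber S) (FlatCA.fiberMod p S N),
      P.comap (algebraMap S (p.Fiber S)) ≤ q → t ∉ P.comap (algebraMap S (p.Fiber S))) :
    ∃ g, g ∉ q ∧ ∀ (p₂ : Ideal R) [p₂.IsPrime] (Q : Ideal S) [Q.IsPrime], Q.LiesOver p₂ → g ∉ Q →
      FlatCA.fiberIdeal p₂ Q ∈ associatedPrimes (p₂.Fiber S) (FlatCA.fiberMod p₂ S N) → t ∉ Q := by
  classical
  let T : N →ₗ[S] N := LinearMap.lsmul S N t
  let C := N ⧸ LinearMap.range T
  let π : N →ₗ[S] C := (LinearMap.range T).mkQ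
  have hπ : Function.Surjective π := Submodule.mkQ_surjective _
  haveI : Module.FinitePresentation S C := Module.finitePresentation_of_surjective π hπ (by
    rw [Submodule.ker_mkQ]; exact Submodule.fg_range T)
  have key : ∀ (Q : Type u) [AddCommGroup Q] [Module R Q] (z : N ⊗[R] Q), t • z = 0 → ∃ u : S, u ∉ q ∧ u • z = 0 :=
    fun Q _ _ z hz => Calg3.FibreAssTorsion.exists_notMem_smul_eq_zero N p q t ht Q z hz
  have hπR : ∀ (r : R) (m : N), π (r • m) = r • π m := fun r m => rfl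
  -- the cokernel is flat at `q`
  have hC : FlatPred.Pred R q.primeCompl C := by
    intro l f a ⟨u, hu, hua⟩
    choose a₀ ha₀ using fun i => hπ (a i)
    obtain ⟨n, hn⟩ : u • ∑ i, f i • a₀ i ∈ LinearMap.range T := by
      rw [← Submodule.ker_mkQ (LinearMap.range T), LinearMap.mem_ker]
      show π _ = 0
      rw [map_smul, map_sum, ← hua]
      exact congrArg _ (Finset.sum_congr rfl fun i _ => by rw [hπR, ha₀])
    have hn' : t • n = u • ∑ i, f i • a₀ i := hn
    let Qm := R ⧸ Ideal.span (Set.range f)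
    have hz : t • (n ⊗ₜ[R] (Ideal.Quotient.mk (Ideal.span (Set.range f)) 1 : Qm)) = 0 := by
      rw [smul_tmul', hn', Finset.smul_sum, sum_tmul]
      refine Finset.sum_eq_zero fun i _ => ?_
      rw [smul_comm u (f i) (a₀ i), smul_tmul, Algebra.smul_def, Ideal.Quotient.algebraMap_eq, ← map_mul, mul_one,
        Ideal.Quotient.eq_zero_iff_mem.mpr (Ideal.subset_span (Set.mem_range_self i)), tmul_zero]
    obtain ⟨v, hv, hvz⟩ := key Qm _ hz
    rw [smul_tmul'] at hvz
    have hmem : v • n ∈ Ideal.span (Set.range f) • (⊤ : Submodule R N) := by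
      have h := congrArg (TensorProduct.tensorQuotEquivQuotSMul N (Ideal.span (Set.range f))) hvz
      rw [map_zero, TensorProduct.tensorQuotEquivQuotSMul_tmul_mk, one_smul, Submodule.Quotient.mk_eq_zero] at h
      exact h
    obtain ⟨m, hm⟩ : ∃ m : Fin l → N, v • n = ∑ i, f i • m i := by
      refine Submodule.smul_induction_on hmem (fun r hr x _ => ?_) ?_
      · obtain ⟨c, rfl⟩ := Ideal.mem_span_range_iff_exists_fun.mp hr
        exact ⟨fun i => c i • x, by rw [Finset.sum_smul]; exact Finset.sum_congr rfl fun i _ => by rw [smul_smul, mul_comm]⟩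
      · rintro x y ⟨m₁, rfl⟩ ⟨m₂, rfl⟩
        exact ⟨m₁ + m₂, by rw [← Finset.sum_add_distrib]; simp [smul_add]⟩
    have hrel : ∑ i, f i • ((v * u) • a₀ i - t • m i) = 0 := by
      calc ∑ i, f i • ((v * u) • a₀ i - t • m i)
          = (v * u) • ∑ i, f i • a₀ i - t • ∑ i, f i • m i := by
            rw [Finset.smul_sum, Finset.smul_sum, ← Finset.sum_sub_distrib]
            exact Finset.sum_congr rfl fun i _ => by rw [smul_sub, smul_comm (v * u) (f i), smul_comm t (f i)]
        _ = 0 := by rw [mul_smul, ← hn', ← hm, smul_comm v t n, sub_self]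
    obtain ⟨k, d, y, hy, hd⟩ := Module.Flat.isTrivialRelation_of_sum_smul_eq_zero hrel
    refine ⟨v * u, mul_mem hv hu, k, d, fun j => π (y j), fun i => ?_, hd⟩
    have h0 : π (t • m i) = 0 :=
      LinearMap.mem_ker.mp ((Submodule.ker_mkQ (LinearMap.range T)).ge ⟨m i, rfl⟩)
    have h1 := congrArg π (hy i)
    rw [map_sub, h0, sub_zero, map_smul, ha₀, map_sum] at h1
    exact h1
  -- openness
  obtain ⟨_, ⟨g₀, rfl⟩, hqg₀, hg₀⟩ := PrimeSpectrum.isTopologicalBasis_basic_opens.exists_subset_of_mem_open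
    (show (⟨q, inferInstance⟩ : PrimeSpectrum S) ∈
      {q : PrimeSpectrum S | Module.Flat R (LocalizedModule q.asIdeal.primeCompl C)} from (FlatPred.flatAt_iff q).mpr hC)
    (FlatMorOne.isOpen_flatLocus R S C)
  let U := Submonoid.powers g₀
  haveI hCflat : Module.Flat R (LocalizedModule U C) := by
    refine (FlatPred.flat_iff _).mpr ?_
    intro l f a hua
    obtain ⟨u, hu, hua⟩ := hua
    let K : Ideal S :=
      { carrier := {v | ∃ (k : ℕ) (d : Fin l → Fin k → R) (z : Fin k → C),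
          (∀ i, v • a i = ∑ j, d i j • z j) ∧ ∀ j, ∑ i, f i * d i j = 0}
        zero_mem' := ⟨0, fun _ => Fin.elim0, Fin.elim0, fun i => by simp, fun j => j.elim0⟩
        add_mem' := by
          rintro v w ⟨k, d, z, hz, hd⟩ ⟨k', d', z', hz', hd'⟩
          refine ⟨k + k', fun i => Fin.append (d i) (d' i), Fin.append z z', fun i => ?_, fun j => ?_⟩
          · rw [add_smul, hz, hz', Fin.sum_univ_add]; simp
          · refine Fin.addCases (fun j => ?_) (fun j => ?_) j
            · simpa using hd j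
            · simpa using hd' j
        smul_mem' := by
          rintro c v ⟨k, d, z, hz, hd⟩
          exact ⟨k, d, fun j => c • z j, fun i => by
            rw [smul_eq_mul, mul_smul, hz, Finset.smul_sum]
            exact Finset.sum_congr rfl fun j _ => smul_comm c (d i j) (z j), hd⟩ }
    suffices hK : g₀ ∈ K.radical by
      obtain ⟨n, k, d, z, hz, hd⟩ := hK
      exact ⟨g₀ ^ n, pow_mem (Submonoid.mem_powers g₀) n, k, d, z, hz, hd⟩
    rw [Ideal.radical_eq_sInf]
    refine Submodule.mem_sInf.mpr fun (Q : Ideal S) hQ => by_contra fun hgQ => ?_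
    obtain ⟨hKQ, hQp⟩ := hQ
    haveI : Q.IsPrime := hQp
    obtain ⟨w, rfl⟩ := hu
    obtain ⟨v, hv, k, d, z, hz, hd⟩ := (FlatPred.flatAt_iff Q).mp
      (hg₀ (show (⟨Q, inferInstance⟩ : PrimeSpectrum S) ∈ (PrimeSpectrum.basicOpen g₀ : Set _) from hgQ)) l f a
      ⟨g₀ ^ w, fun hm => hgQ (Ideal.IsPrime.mem_of_pow_mem inferInstance w hm), hua⟩
    exact hv (hKQ ⟨k, d, z, hz, hd⟩)
  let Sg := Localization U
  haveI : Algebra.FinitePresentation S Sg := IsLocalization.Away.finitePresentation g₀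
  haveI : Algebra.FinitePresentation R Sg := Algebra.FinitePresentation.trans R S Sg
  let Tg : LocalizedModule U N →ₗ[Sg] LocalizedModule U N := LinearMap.lsmul Sg _ (algebraMap S Sg t)
  let πg : LocalizedModule U N →ₗ[Sg] LocalizedModule U C := LocalizedModule.map U π
  have hTg : Tg = LocalizedModule.map U T := by
    refine LinearMap.ext fun z => ?_
    induction z using LocalizedModule.induction_on with
    | h m s =>
      rw [LocalizedModule.map_mk]
      show algebraMap S Sg t • LocalizedModule.mk m s = _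
      rw [algebraMap_smul, LocalizedModule.smul'_mk]
      rfl
  haveI : Module.FinitePresentation Sg (LocalizedModule U N) := inferInstance
  obtain ⟨G, hG⟩ := FlatMorOne.fg_ker_of_flat_coker R Tg πg
    (LocalizedModule.map_surjective U π hπ) (by
      rw [hTg]; exact LocalizedModule.map_exact U T π (LinearMap.exact_map_mkQ_range T))
  have hkill : ∀ x ∈ (G : Set (LocalizedModule U N)), ∃ u : S, u ∉ q ∧ u • x = 0 := by
    intro x hx
    have hx0 : Tg x = 0 := LinearMap.mem_ker.mp (hG ▸ Submodule.subset_span hx)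
    induction x using LocalizedModule.induction_on with
    | h m s =>
      rw [hTg, LocalizedModule.map_mk, ← LocalizedModule.zero_mk s, LocalizedModule.mk_eq] at hx0
      obtain ⟨w, hw⟩ := hx0
      have hw' : t • (((w : S) * s) • m) = 0 := by
        rw [smul_comm, mul_smul]
        simpa [Submonoid.smul_def, T] using hw
      obtain ⟨v, hv, hvz⟩ := key R ((((w : S) * s) • m) ⊗ₜ[R] (1 : R)) (by rw [smul_tmul', hw', zero_tmul])
      have hvm : v • (((w : S) * s) • m) = 0 := by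
        rw [smul_tmul'] at hvz
        simpa using congrArg (TensorProduct.rid R N) hvz
      have hws : ((w : S) * s) ∉ q := by
        obtain ⟨k, hk⟩ := (w * s).2
        rw [show ((w : S) * s) = g₀ ^ k from hk.symm]
        exact fun h => hqg₀ (Ideal.IsPrime.mem_of_pow_mem inferInstance k h)
      refine ⟨v * ((w : S) * s), fun h => (Ideal.IsPrime.mem_or_mem inferInstance h).elim hv hws, ?_⟩
      rw [LocalizedModule.smul'_mk, mul_smul, hvm, LocalizedModule.zero_mk]
  choose! w hwq hwx using hkill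
  refine ⟨g₀ * ∏ x ∈ G, w x, fun h => (Ideal.IsPrime.mem_or_mem inferInstance h).elim hqg₀ fun h' => ?_, ?_⟩
  · obtain ⟨x, hx, hxq⟩ := Ideal.IsPrime.prod_mem_iff.mp h'
    exact hwq x hx hxq
  intro p₂ _ Q _ hQp hgQ hass htQ
  haveI := hQp
  have hg₀Q : g₀ ∉ Q := fun h => hgQ (Ideal.mul_mem_right _ _ h)
  haveI : Module.Finite (p₂.Fiber S) (FlatCA.fiberMod p₂ S N) :=
    inferInstanceAs (Module.Finite (p₂.Fiber S) (p₂.Fiber S ⊗[S] N))
  obtain ⟨hP, y₀, hy⟩ := mem_ass_of_mem_associatedPrimes hass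
  let y : p₂.Fiber S ⊗[S] N := y₀
  have hy0 : y ≠ 0 := fun h => hP.ne_top (eq_top_iff.mpr fun z _ => by
    rw [hy, Submodule.mem_annihilator_span_singleton, show y₀ = 0 from h, smul_zero])
  -- a representative in `N`
  let ρ : (p₂.Fiber S ⊗[S] N) ≃ₗ[p₂.ResidueField] p₂.ResidueField ⊗[R] N :=
    Algebra.IsPushout.cancelBaseChange R p₂.ResidueField S (p₂.Fiber S) N
  obtain ⟨s, x, hs, hsx⟩ := Groth.FlatmorThree.exists_smul_eq_one_tmul p₂ (ρ y)
  have hy' : algebraMap R p₂.ResidueField s • y = (1 : p₂.Fiber S) ⊗ₜ[S] x := by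
    apply ρ.injective
    rw [map_smul, hsx, Algebra.IsPushout.cancelBaseChange_tmul]
  have hx0 : ((1 : p₂.Fiber S) ⊗ₜ[S] x : p₂.Fiber S ⊗[S] N) ≠ 0 := fun h =>
    hy0 ((smul_eq_zero_iff_right fun h0 => hs (Ideal.algebraMap_residueField_eq_zero.mp h0)).mp (hy'.trans h))
  have hkillQ : ∀ a : S, a ∈ Q → ((1 : p₂.Fiber S) ⊗ₜ[S] (a • x) : p₂.Fiber S ⊗[S] N) = 0 := fun a ha => by
    have h : algebraMap S (p₂.Fiber S) a ∈ FlatCA.fiberIdeal p₂ Q := Ideal.mem_map_of_mem _ ha
    rw [hy, Submodule.mem_annihilator_span_singleton] at h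
    have h' : algebraMap S (p₂.Fiber S) a • y = 0 := h
    rw [TensorProduct.tmul_smul, ← hy', ← algebraMap_smul (p₂.Fiber S) a, smul_comm, h', smul_zero]
  obtain ⟨r, hr, hmem⟩ := Calg3.FibreAssTorsion.exists_smul_mem_of_toFiberMod_eq_zero N p₂ (hkillQ t htQ)
  obtain ⟨l, f, hf, a, hsum⟩ : ∃ (l : ℕ) (f : Fin l → R) (_ : ∀ i, f i ∈ p₂) (a : Fin l → N),
      r • t • x = ∑ i, f i • a i := by
    refine Submodule.smul_induction_on hmem
      (fun c hc m _ => ⟨1, fun _ => c, fun _ => hc, fun _ => m, by simp⟩) ?_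
    rintro z w ⟨l, f, hf, a, rfl⟩ ⟨l', f', hf', a', rfl⟩
    refine ⟨l + l', Fin.append f f', fun i => ?_, Fin.append a a', ?_⟩
    · refine Fin.addCases (fun i => ?_) (fun i => ?_) i
      · simpa using hf i
      · simpa using hf' i
    · rw [Fin.sum_univ_add]; simp
  obtain ⟨v, ⟨kv, rfl⟩, k, d, z, hz, hd⟩ := (FlatPred.flat_iff U).mp hCflat l f (fun i => π (a i)) ⟨1, one_mem _, by
    rw [one_smul, show ∑ i, f i • π (a i) = π (r • t • x) by rw [hsum, map_sum]; rfl]
    refine LinearMap.mem_ker.mp ((Submodule.ker_mkQ (LinearMap.range T)).ge ⟨r • x, ?_⟩)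
    exact smul_comm t r x⟩
  choose z₀ hz₀ using fun j => hπ (z j)
  have hmi : ∀ i, ∃ m, t • m = g₀ ^ kv • a i - ∑ j, d i j • z₀ j := fun i => by
    have h0 : π (g₀ ^ kv • a i - ∑ j, d i j • z₀ j) = 0 := by
      rw [map_sub, map_smul, hz, map_sum, sub_eq_zero]
      exact Finset.sum_congr rfl fun j _ => by rw [hπR, hz₀]
    obtain ⟨m, hm⟩ := (Submodule.ker_mkQ (LinearMap.range T)).le (LinearMap.mem_ker.mpr h0)
    exact ⟨m, hm⟩
  choose m hm using hmi
  let n := g₀ ^ kv • r • x - ∑ i, f i • m i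
  have htn : t • n = 0 := by
    have h1 : t • (g₀ ^ kv • r • x) = ∑ i, f i • (g₀ ^ kv • a i) := by
      rw [smul_comm t (g₀ ^ kv), smul_comm t r x, hsum, Finset.smul_sum]
      exact Finset.sum_congr rfl fun i _ => smul_comm _ _ _
    have h2 : ∑ i, f i • ∑ j, d i j • z₀ j = 0 := by
      simp only [Finset.smul_sum, smul_smul]
      rw [Finset.sum_comm]
      exact Finset.sum_eq_zero fun j _ => by rw [← Finset.sum_smul, hd j, zero_smul]
    calc t • n = t • (g₀ ^ kv • r • x) - ∑ i, f i • (t • m i) := by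
          rw [smul_sub, Finset.smul_sum]
          exact congrArg _ (Finset.sum_congr rfl fun i _ => smul_comm _ _ _)
      _ = 0 := by
          simp only [h1, hm, smul_sub, Finset.sum_sub_distrib]
          rw [h2, sub_zero, sub_self]
  have hker : LocalizedModule.mk n (1 : U) ∈ Submodule.span Sg (G : Set (LocalizedModule U N)) := by
    rw [hG, LinearMap.mem_ker, hTg, LocalizedModule.map_mk]
    show LocalizedModule.mk (t • n) 1 = 0
    rw [htn, LocalizedModule.zero_mk]
  have hW : (∏ x ∈ G, w x) • LocalizedModule.mk n (1 : U) = 0 := by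
    generalize LocalizedModule.mk n (1 : U) = z₁ at hker ⊢
    induction hker using Submodule.span_induction with
    | mem z hz => rw [← Finset.prod_erase_mul _ _ hz, mul_smul, hwx z hz, smul_zero]
    | zero => simp
    | add a b _ _ ha hb => rw [smul_add, ha, hb, add_zero]
    | smul c a _ ha => rw [smul_comm, ha, smul_zero]
  rw [LocalizedModule.smul'_mk, ← LocalizedModule.zero_mk (1 : U), LocalizedModule.mk_eq] at hW
  obtain ⟨⟨_, k', rfl⟩, hk'⟩ := hW
  have hk'' : g₀ ^ k' • (∏ x ∈ G, w x) • n = 0 := by simpa [Submonoid.smul_def] using hk'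
  let c := g₀ ^ k' * (∏ x ∈ G, w x) * g₀ ^ kv * algebraMap R S r
  have hcQ : c ∉ Q := by
    intro h
    have hWQ : (∏ x ∈ G, w x) ∉ Q := fun h => hgQ (Ideal.mul_mem_left _ _ h)
    rcases Ideal.IsPrime.mem_or_mem inferInstance h with h | h
    · rcases Ideal.IsPrime.mem_or_mem inferInstance h with h | h
      · rcases Ideal.IsPrime.mem_or_mem inferInstance h with h | h
        · exact hg₀Q (Ideal.IsPrime.mem_of_pow_mem inferInstance k' h)
        · exact hWQ h
      · exact hg₀Q (Ideal.IsPrime.mem_of_pow_mem inferInstance kv h)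
    · exact hr ((Ideal.mem_of_liesOver Q p₂ r).mpr h)
  have hcx : c • x ∈ p₂ • (⊤ : Submodule R N) := by
    have h1 : c • x = (g₀ ^ k' * ∏ x ∈ G, w x) • ∑ i, f i • m i := by
      have h2 : (g₀ ^ k' * ∏ x ∈ G, w x) • n = 0 := by rw [mul_smul]; exact hk''
      rw [smul_sub, sub_eq_zero] at h2
      rw [← h2, mul_smul, mul_smul, mul_smul, algebraMap_smul, mul_smul]
    rw [h1, Finset.smul_sum]
    exact Submodule.sum_mem _ fun i _ => by
      rw [smul_comm]; exact Submodule.smul_mem_smul (hf i) trivial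
  have h0 : ((1 : p₂.Fiber S) ⊗ₜ[S] (c • x) : p₂.Fiber S ⊗[S] N) = 0 :=
    Calg3.FibreAssTorsion.toFiberMod_eq_zero_of_mem N p₂ hcx
  apply hx0
  have hcy : algebraMap S (p₂.Fiber S) c ∈ FlatCA.fiberIdeal p₂ Q := by
    rw [hy, Submodule.mem_annihilator_span_singleton]
    show algebraMap S (p₂.Fiber S) c • y = 0
    show algebraMap S (p₂.Fiber S) c • y = 0
    have hne : algebraMap R p₂.ResidueField s ≠ 0 := fun h0 => hs (Ideal.algebraMap_residueField_eq_zero.mp h0)
    refine (smul_eq_zero_iff_right hne).mp ?_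
    rw [smul_comm, hy', algebraMap_smul, ← TensorProduct.tmul_smul, h0]
  have hcQ' : c ∈ (FlatCA.fiberIdeal p₂ Q).comap (algebraMap S (p₂.Fiber S)) := hcy
  obtain ⟨ξ, hξ⟩ := Flatmor4.exists_fiber_prime p₂ Q
  rw [← Flatmor4.fiberIdeal_comap p₂ ξ Q hξ, hξ] at hcQ'
  exact absurd hcQ' hcQ

/-- **Spreading the relative assassin**: if the associated points of all fibres over the generalisations of `p`
avoid a closed set, so do those of the fibres near `p`. -/
theorem exists_spread (p : Ideal R) [p.IsPrime] (J : Ideal S)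
    (h : ∀ (p₂ : Ideal R) [p₂.IsPrime] (Q : Ideal S) [Q.IsPrime], p₂ ≤ p → Q.LiesOver p₂ →
      FlatCA.fiberIdeal p₂ Q ∈ associatedPrimes (p₂.Fiber S) (FlatCA.fiberMod p₂ S N) → ¬ J ≤ Q) :
    ∃ f, f ∉ p ∧ ∀ (p₂ : Ideal R) [p₂.IsPrime] (Q : Ideal S) [Q.IsPrime], f ∉ p₂ → Q.LiesOver p₂ →
      FlatCA.fiberIdeal p₂ Q ∈ associatedPrimes (p₂.Fiber S) (FlatCA.fiberMod p₂ S N) → ¬ J ≤ Q := by
  classical
  let W : Set (PrimeSpectrum S) := {Q | ∀ (p₂ : Ideal R) [p₂.IsPrime], Q.asIdeal.LiesOver p₂ →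
    FlatCA.fiberIdeal p₂ Q.asIdeal ∈ associatedPrimes (p₂.Fiber S) (FlatCA.fiberMod p₂ S N) → ¬ J ≤ Q.asIdeal}
  have hW : ∀ Q : PrimeSpectrum S, Q.asIdeal.comap (algebraMap R S) ≤ p → ∃ g, g ∉ Q.asIdeal ∧
      (PrimeSpectrum.basicOpen g : Set (PrimeSpectrum S)) ⊆ W := by
    intro Q hQp
    by_cases hJQ : J ≤ Q.asIdeal
    swap
    · obtain ⟨j, hjJ, hjQ⟩ := SetLike.not_le_iff_exists.mp hJQ
      exact ⟨j, hjQ, fun Q' hjQ' p₂ _ _ _ hle => hjQ' (hle hjJ)⟩
    let p₁ := Q.asIdeal.comap (algebraMap R S)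
    haveI : Q.asIdeal.LiesOver p₁ := ⟨rfl⟩
    haveI : Module.Finite (p₁.Fiber S) (FlatCA.fiberMod p₁ S N) :=
      inferInstanceAs (Module.Finite (p₁.Fiber S) (p₁.Fiber S ⊗[S] N))
    let A : Set (Ideal (p₁.Fiber S)) :=
      {P | P ∈ associatedPrimes (p₁.Fiber S) (FlatCA.fiberMod p₁ S N) ∧ P.comap (algebraMap S (p₁.Fiber S)) ≤ Q.asIdeal}
    obtain ⟨t, htJ, ht⟩ : ∃ t ∈ J, ∀ P ∈ A, t ∉ P.comap (algebraMap S (p₁.Fiber S)) := by
      by_contra hno
      push Not at hno
      have hcover : (J : Set S) ⊆ ⋃ P ∈ A, ((P.comap (algebraMap S (p₁.Fiber S)) : Ideal S) : Set S) := fun i hi => by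
        obtain ⟨P, hP, hiP⟩ := hno i hi
        exact Set.mem_biUnion hP hiP
      obtain ⟨P, hP, hle⟩ := (J.subset_union_prime_finite
        ((associatedPrimes.finite (p₁.Fiber S) (FlatCA.fiberMod p₁ S N)).subset fun P hP => hP.1 : A.Finite)
        (f := fun P => P.comap (algebraMap S (p₁.Fiber S))) ⊥ ⊥ fun P hP _ _ => hP.1.isPrime.comap _).1 hcover
      haveI := hP.1.isPrime
      refine h p₁ (P.comap (algebraMap S (p₁.Fiber S))) hQp ⟨?_⟩ ?_ hle
      · show p₁ = (P.comap (algebraMap S (p₁.Fiber S))).comap (algebraMap R S)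
        rw [Ideal.comap_comap, ← IsScalarTower.algebraMap_eq]
        exact Ideal.LiesOver.over (P := P) (p := p₁)
      · rw [Groth.RaynaudGruson.fiberIdeal_comap]
        exact hP.1
    obtain ⟨g, hg, hgood⟩ := exists_nhd N p₁ Q.asIdeal t fun P hP hle => ht P ⟨hP, hle⟩
    exact ⟨g, hg, fun Q' hgQ' p₂ _ ho hass hle => hgood p₂ Q'.asIdeal ho hgQ' hass (hle htJ)⟩
  choose g hg hgW using hW
  let K : Ideal S := Ideal.span {x | ∃ Q hQ, g Q hQ = x}
  obtain ⟨f, hfp, hfK⟩ : ∃ f, f ∉ p ∧ algebraMap R S f ∈ K := by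
    by_contra! hcon
    obtain ⟨Q, hQ, hle, hdis⟩ := Ideal.exists_le_prime_disjoint K (Algebra.algebraMapSubmonoid S p.primeCompl)
      (Set.disjoint_left.mpr (by rintro _ hx ⟨a, ha, rfl⟩; exact hcon a ha hx))
    have hQp : Q.comap (algebraMap R S) ≤ p := fun a ha => by_contra fun hap =>
      Set.disjoint_left.mp hdis ha ⟨a, hap, rfl⟩
    exact hg ⟨Q, hQ⟩ hQp (hle (Ideal.subset_span ⟨⟨Q, hQ⟩, hQp, rfl⟩))
  refine ⟨f, hfp, fun p₂ _ Q _ hf hQ hass => ?_⟩
  haveI := hQ
  obtain ⟨x, hxQ, hx⟩ : ∃ x, x ∉ Q ∧ ∃ Q' hQ', g Q' hQ' = x := by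
    by_contra! hcon
    have hle : K ≤ Q := Ideal.span_le.mpr fun x ⟨Q', hQ', hx⟩ => by_contra fun hn => hcon x hn Q' hQ' hx
    exact hf ((Ideal.mem_of_liesOver Q p₂ f).mpr (hle hfK))
  obtain ⟨Q', hQ', rfl⟩ := hx
  exact hgW Q' hQ' (show (⟨Q, inferInstance⟩ : PrimeSpectrum S) ∈ (PrimeSpectrum.basicOpen (g Q' hQ') : Set _) from hxQ)
    p₂ hQ hass

/-- The comparison with a flat algebra covering the relative assassin over `D(f)` is injective on tensor products
with modules on which `f` is invertible. -/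
theorem injective_lTensor_away {S' : Type u} [CommRing S'] [Algebra S S'] [Algebra R S'] [IsScalarTower R S S']
    [Module.Flat S S'] (f : R)
    (h : ∀ (p₂ : Ideal R) [p₂.IsPrime] (Q : Ideal S) [Q.IsPrime], f ∉ p₂ → Q.LiesOver p₂ →
      FlatCA.fiberIdeal p₂ Q ∈ associatedPrimes (p₂.Fiber S) (FlatCA.fiberMod p₂ S N) →
      ∃ q' : Ideal S', q'.IsPrime ∧ q'.comap (algebraMap S S') = Q)
    (Q : Type u) [AddCommGroup Q] [Module R Q] (hf : Function.Bijective (LinearMap.lsmul R Q f)) :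
    Function.Injective (((TensorProduct.mk S S' N 1).restrictScalars R).rTensor Q) := by
  rw [injective_iff_map_eq_zero]
  intro z hz
  let e := TensorProduct.AlgebraTensorModule.assoc R S S S' N Q
  have he : ∀ w : N ⊗[R] Q, e (((TensorProduct.mk S S' N 1).restrictScalars R).rTensor Q w) = (1 : S') ⊗ₜ[S] w := by
    intro w
    induction w with
    | zero => simp
    | tmul n p => rfl
    | add a b ha hb => rw [map_add, map_add, ha, hb, TensorProduct.tmul_add]
  have h0 : (1 : S') ⊗ₜ[S] z = 0 := by rw [← he, hz, map_zero]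
  let I : Ideal S := LinearMap.ker (LinearMap.toSpanSingleton S (N ⊗[R] Q) z)
  let g : (S ⧸ I) →ₗ[S] N ⊗[R] Q := Submodule.liftQ I (LinearMap.toSpanSingleton S (N ⊗[R] Q) z) le_rfl
  have hg : Function.Injective g := LinearMap.ker_eq_bot.mp (Submodule.ker_liftQ_eq_bot _ _ _ le_rfl)
  have htop : I.map (algebraMap S S') = ⊤ := by
    have h1 : (1 : S') ⊗ₜ[S] (Ideal.Quotient.mk I 1) = 0 := by
      refine Module.Flat.lTensor_preserves_injective_linearMap (M := S') g hg ?_
      rw [LinearMap.lTensor_tmul, map_zero]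
      change (1 : S') ⊗ₜ[S] ((1 : S) • z) = 0
      rw [one_smul, h0]
    have h2 := congrArg (TensorProduct.tensorQuotEquivQuotSMul S' I) h1
    rw [map_zero, TensorProduct.tensorQuotEquivQuotSMul_tmul_mk, one_smul, Submodule.Quotient.mk_eq_zero,
      Ideal.smul_top_eq_map, Submodule.restrictScalars_mem] at h2
    exact (Ideal.eq_top_iff_one _).mpr h2
  -- `f` is invertible on `N ⊗ Q`
  have hfinj : ∀ (k : ℕ) (w : N ⊗[R] Q), f ^ k • w = 0 → w = 0 := by
    intro k
    induction k with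
    | zero => intro w hw; simpa using hw
    | succ k ih =>
      intro w hw
      rw [pow_succ, mul_smul] at hw
      have h1 := ih _ hw
      let e := LinearEquiv.ofBijective (LinearMap.lsmul R Q f) hf
      have h2 : ∀ w : N ⊗[R] Q, (e.toLinearMap.lTensor N) w = f • w := fun w => by
        induction w with
        | zero => simp
        | tmul n x => rw [LinearMap.lTensor_tmul, ← TensorProduct.tmul_smul]; rfl
        | add a b ha hb => rw [map_add, ha, hb, smul_add]
      exact (LinearEquiv.lTensor N e).injective (((h2 w).trans h1).trans (map_zero _).symm)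
  suffices hI : ∃ k : ℕ, algebraMap R S (f ^ k) ∈ I by
    obtain ⟨k, hk⟩ := hI
    change algebraMap R S (f ^ k) • z = 0 at hk
    rw [algebraMap_smul] at hk
    exact hfinj k z hk
  by_contra! hno
  obtain ⟨q, hq, hIq, hdis⟩ := Ideal.exists_le_prime_disjoint I (Submonoid.powers (algebraMap R S f))
    (Set.disjoint_left.mpr (by rintro _ hx ⟨k, rfl⟩; exact hno k (by rwa [map_pow])))
  haveI := hq
  let p₁ := q.comap (algebraMap R S)
  haveI : q.LiesOver p₁ := ⟨rfl⟩
  have hfp₁ : f ∉ p₁ := fun h => Set.disjoint_left.mp hdis h ⟨1, pow_one _⟩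
  haveI : Module.Finite (p₁.Fiber S) (FlatCA.fiberMod p₁ S N) :=
    inferInstanceAs (Module.Finite (p₁.Fiber S) (p₁.Fiber S ⊗[S] N))
  let A : Set (Ideal (p₁.Fiber S)) :=
    {P | P ∈ associatedPrimes (p₁.Fiber S) (FlatCA.fiberMod p₁ S N) ∧ P.comap (algebraMap S (p₁.Fiber S)) ≤ q}
  obtain ⟨t, htI, ht⟩ : ∃ t ∈ I, ∀ P ∈ A, t ∉ P.comap (algebraMap S (p₁.Fiber S)) := by
    by_contra hcon
    push Not at hcon
    have hcover : (I : Set S) ⊆ ⋃ P ∈ A, ((P.comap (algebraMap S (p₁.Fiber S)) : Ideal S) : Set S) := fun i hi => by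
      obtain ⟨P, hP, hiP⟩ := hcon i hi
      exact Set.mem_biUnion hP hiP
    obtain ⟨P, hP, hle⟩ := (I.subset_union_prime_finite
      ((associatedPrimes.finite (p₁.Fiber S) (FlatCA.fiberMod p₁ S N)).subset fun P hP => hP.1 : A.Finite)
      (f := fun P => P.comap (algebraMap S (p₁.Fiber S))) ⊥ ⊥ fun P hP _ _ => hP.1.isPrime.comap _).1 hcover
    haveI := hP.1.isPrime
    let q₀ := P.comap (algebraMap S (p₁.Fiber S))
    have hover : q₀.LiesOver p₁ := ⟨by
      rw [Ideal.under_def, Ideal.comap_comap, ← IsScalarTower.algebraMap_eq]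
      exact (Ideal.LiesOver.over (P := P) (p := p₁))⟩
    obtain ⟨q', hq', hqq⟩ := h p₁ q₀ hfp₁ hover ((Groth.RaynaudGruson.fiberIdeal_comap p₁ P).symm ▸ hP.1)
    refine hq'.ne_top (top_le_iff.mp (htop ▸ Ideal.map_le_iff_le_comap.mpr ?_))
    exact hqq ▸ hle
  obtain ⟨u, huq, hu⟩ := Groth.Calg3.FibreAssTorsion.exists_notMem_smul_eq_zero N p₁ q t
    (fun P hP hPq => ht P ⟨hP, hPq⟩) Q z htI
  exact huq (hIq hu)

end Groth.RaynaudGruson.FibreRegular
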