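import Groth.Agent.RaynaudGruson.SmoothProjective
import Groth.Agent.GeomComp.GenericConstancy
import Mathlib

/-!
Noetherian models keeping geometrically irreducible or geometrically connected fibres.
-/

set_option autoImplicit false
universe u

namespace Groth.RaynaudGruson.FibreTopModel

open CategoryTheory AlgebraicGeometry TensorProduct Limits

theorem exists_stage_of_generic {R₀ R : Type u} [CommRing R₀] [IsNoetherianRing R₀] [CommRing R] [Algebra R₀ R]
    (Q : ∀ (K : Type u) [Field K] [Algebra R₀ K], Prop)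
    (hgen : ∀ (I : Ideal R₀) [I.IsPrime] (P : Ideal R) [P.IsPrime], P.comap (algebraMap R₀ R) = I →
      ∃ g : R₀, g ∉ I ∧ ∀ (K : Type u) [Field K] [Algebra R₀ K], (∀ a ∈ I, algebraMap R₀ K a = 0) →
        algebraMap R₀ K g ≠ 0 → Q K)
    (I : Ideal R₀) : ∃ F : Set R, F.Finite ∧ ∀ (K : Type u) [Field K] [Algebra R₀ K],
      (Algebra.adjoin R₀ F →ₐ[R₀] K) → (∀ a ∈ I, algebraMap R₀ K a = 0) → Q K := by
  let G : Ideal R₀ → Set R → Prop := fun I F => ∀ (K : Type u) [Field K] [Algebra R₀ K],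
      (Algebra.adjoin R₀ F →ₐ[R₀] K) → (∀ a ∈ I, algebraMap R₀ K a = 0) → Q K
  have hmono : ∀ {I : Ideal R₀} {F F' : Set R}, F ⊆ F' → G I F → G I F' := fun h hG K _ _ φ hI =>
    hG K (φ.comp (Subalgebra.inclusion (Algebra.adjoin_mono h))) hI
  refine IsNoetherian.induction (P := fun J : Submodule R₀ R₀ => ∃ F : Set R, F.Finite ∧ G (J : Ideal R₀) F)
    (fun I' ih => ?_) I
  obtain ⟨I, rfl⟩ : ∃ I : Ideal R₀, I = I' := ⟨I', rfl⟩
  by_cases hI : I = ⊤
  · exact ⟨∅, Set.finite_empty, fun K _ _ _ hK => absurd (hK 1 (hI ▸ Submodule.mem_top)) (by simp)⟩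
  by_cases hprime : I.IsPrime
  swap
  · obtain ⟨a, ha, b, hb, hab⟩ := (Ideal.not_isPrime_iff.mp hprime).resolve_left hI
    obtain ⟨F₁, hF₁, h₁⟩ := ih (I ⊔ Ideal.span {a})
      (lt_of_le_of_ne le_sup_left fun e => ha (e ▸ Ideal.mem_sup_right (Ideal.mem_span_singleton_self a)))
    obtain ⟨F₂, hF₂, h₂⟩ := ih (I ⊔ Ideal.span {b})
      (lt_of_le_of_ne le_sup_left fun e => hb (e ▸ Ideal.mem_sup_right (Ideal.mem_span_singleton_self b)))
    refine ⟨F₁ ∪ F₂, hF₁.union hF₂, fun K _ _ φ hK => ?_⟩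
    have hker : ∀ x : R₀, algebraMap R₀ K x = 0 → I ⊔ Ideal.span {x} ≤ RingHom.ker (algebraMap R₀ K) :=
      fun x hx => sup_le hK ((Ideal.span_singleton_le_iff_mem _).mpr hx)
    rcases mul_eq_zero.mp ((map_mul _ a b).symm.trans (hK _ hab)) with h0 | h0
    · exact hmono Set.subset_union_left h₁ K φ fun x hx => hker a h0 hx
    · exact hmono Set.subset_union_right h₂ K φ fun x hx => hker b h0 hx
  haveI := hprime
  by_cases hover : (I.map (algebraMap R₀ R)).comap (algebraMap R₀ R) = I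
  · obtain ⟨P, hP, hPI⟩ := (Ideal.comap_map_eq_self_iff_of_isPrime I).mp hover
    obtain ⟨g, hr, hgood⟩ := hgen I P hPI
    obtain ⟨F, hF, hF'⟩ := ih (I ⊔ Ideal.span {g})
      (lt_of_le_of_ne le_sup_left fun e => hr (e ▸ Ideal.mem_sup_right (Ideal.mem_span_singleton_self g)))
    refine ⟨F, hF, fun K _ _ φ hK => ?_⟩
    by_cases hg : algebraMap R₀ K g = 0
    · exact hF' K φ fun x hx => sup_le (c := RingHom.ker (algebraMap R₀ K)) hK
        ((Ideal.span_singleton_le_iff_mem _).mpr hg) hx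
    exact hgood K hK hg
  · obtain ⟨g, hg, hgI⟩ := SetLike.exists_of_lt (lt_of_le_of_ne Ideal.le_comap_map (Ne.symm hover))
    obtain ⟨F, hF, hF'⟩ := ih (I ⊔ Ideal.span {g})
      (lt_of_le_of_ne le_sup_left fun e => hgI (e ▸ Ideal.mem_sup_right (Ideal.mem_span_singleton_self g)))
    obtain ⟨n, c, a, hca⟩ : ∃ (n : ℕ) (c : Fin n → R) (a : Fin n → I),
        ∑ i, c i * algebraMap R₀ R (a i) = algebraMap R₀ R g := by
      obtain ⟨n, c, v, hv⟩ := Submodule.mem_span_set'.mp (Ideal.mem_comap.mp hg)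
      choose a ha haI using fun i => (v i).2
      refine ⟨n, c, fun i => ⟨a i, ha i⟩, ?_⟩
      rw [← hv]
      exact Finset.sum_congr rfl fun i _ => by rw [haI i, smul_eq_mul]
    refine ⟨F ∪ Set.range c, hF.union (Set.finite_range c), fun K _ _ φ hK => ?_⟩
    have hgK : algebraMap R₀ K g = 0 := by
      have hc : ∀ i, c i ∈ Algebra.adjoin R₀ (F ∪ Set.range c) := fun i =>
        Algebra.subset_adjoin (Or.inr ⟨i, rfl⟩)
      have : algebraMap R₀ (Algebra.adjoin R₀ (F ∪ Set.range c)) g =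
          ∑ i, ⟨c i, hc i⟩ * algebraMap R₀ (Algebra.adjoin R₀ (F ∪ Set.range c)) (a i) := Subtype.ext (by
        rw [AddSubmonoidClass.coe_finsetSum]
        exact hca.symm)
      rw [← φ.commutes g, this, map_sum]
      exact Finset.sum_eq_zero fun i _ => by rw [map_mul, φ.commutes, hK _ (a i).2, mul_zero]
    exact hmono Set.subset_union_left hF' K φ fun x hx => sup_le (c := RingHom.ker (algebraMap R₀ K)) hK
      ((Ideal.span_singleton_le_iff_mem _).mpr hgK) hx

theorem connectedSpace_iff_card (T : Type u) [TopologicalSpace T] :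
    ConnectedSpace T ↔ ENat.card (_root_.ConnectedComponents T) = 1 := by
  rw [ENat.card_eq_one_iff_unique]
  constructor
  · intro h
    exact (unique_iff_subsingleton_and_nonempty _).mpr ⟨inferInstance, inferInstance⟩
  · intro h
    obtain ⟨h1, h2⟩ := (unique_iff_subsingleton_and_nonempty _).mp h
    rw [connectedSpace_iff_connectedComponent]
    obtain ⟨c⟩ := h2
    obtain ⟨w, -⟩ := ConnectedComponents.surjective_coe c
    exact ⟨w, Set.eq_univ_of_forall fun v =>
      ConnectedComponents.coe_eq_coe'.mp (@Subsingleton.elim _ h1 (ConnectedComponents.mk v) (ConnectedComponents.mk w))⟩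

section

variable {R₀ S₀ A : Type u} [CommRing R₀] [CommRing S₀] [Algebra R₀ S₀] [CommRing A] [Algebra R₀ A]

/-- The base change to a field of a base changed algebra. -/
theorem connectedSpace_pullback_iff (K : Type u) [Field K] [Algebra R₀ K] [Algebra A K] [IsScalarTower R₀ A K] :
    ConnectedSpace ↥(pullback (Spec.map (CommRingCat.ofHom (algebraMap A (A ⊗[R₀] S₀))))
        (Spec.map (CommRingCat.ofHom (algebraMap A K)))) ↔
      ConnectedSpace (PrimeSpectrum (K ⊗[R₀] S₀)) := by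
  refine (pullbackSpecIso A (A ⊗[R₀] S₀) K).hom.homeomorph.connectedSpace_iff.trans ?_
  exact (PrimeSpectrum.homeomorphOfRingEquiv ((Algebra.TensorProduct.comm A (A ⊗[R₀] S₀) K).toRingEquiv.trans
    (Algebra.TensorProduct.cancelBaseChange R₀ A K K S₀).toRingEquiv)).connectedSpace_iff

theorem connectedSpace_of_fieldHom {K M : Type u} [Field K] [Field M] [Algebra R₀ K] [Algebra R₀ M] [Algebra K M]
    [IsScalarTower R₀ K M] [ConnectedSpace (PrimeSpectrum (M ⊗[R₀] S₀))] :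
    ConnectedSpace (PrimeSpectrum (K ⊗[R₀] S₀)) := by
  let f : K ⊗[R₀] S₀ →ₐ[R₀] M ⊗[R₀] S₀ :=
    Algebra.TensorProduct.map (IsScalarTower.toAlgHom R₀ K M) (AlgHom.id R₀ S₀)
  let e : M ⊗[K] (K ⊗[R₀] S₀) ≃ₐ[M] M ⊗[R₀] S₀ := Algebra.TensorProduct.cancelBaseChange R₀ K M M S₀
  have h1 : Function.Surjective (PrimeSpectrum.comap
      (algebraMap (K ⊗[R₀] S₀) ((K ⊗[R₀] S₀) ⊗[K] M))) := PrimeSpectrum.comap_surjective_of_faithfullyFlat
  haveI : ConnectedSpace (PrimeSpectrum ((K ⊗[R₀] S₀) ⊗[K] M)) :=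
    (PrimeSpectrum.homeomorphOfRingEquiv ((Algebra.TensorProduct.comm K (K ⊗[R₀] S₀) M).toRingEquiv.trans
      e.toRingEquiv)).connectedSpace_iff.mpr inferInstance
  exact h1.connectedSpace (PrimeSpectrum.continuous_comap _)

end

/-- Near a point with connected geometric fibre, the geometric fibres are connected. -/
theorem exists_generic_connected {R₀ R S₀ : Type u} [CommRing R₀] [CommRing R] [CommRing S₀] [Algebra R₀ R]
    [Algebra R₀ S₀] [Algebra.FiniteType R₀ S₀]
    (h : ∀ (K : Type u) [Field K] [Algebra R₀ K], (R →ₐ[R₀] K) → ConnectedSpace (PrimeSpectrum (K ⊗[R₀] S₀)))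
    (I : Ideal R₀) [I.IsPrime] (P : Ideal R) [P.IsPrime] (hPI : P.comap (algebraMap R₀ R) = I) :
    ∃ g : R₀, g ∉ I ∧ ∀ (K : Type u) [Field K] [Algebra R₀ K], (∀ a ∈ I, algebraMap R₀ K a = 0) →
      algebraMap R₀ K g ≠ 0 → ConnectedSpace (PrimeSpectrum (K ⊗[R₀] S₀)) := by
  obtain ⟨Ω, _, _, f, hf⟩ : ∃ (Ω : Type u) (_ : Field Ω) (_ : IsAlgClosed Ω) (f : R →+* Ω),
      ∀ x, f x = 0 ↔ x ∈ P :=
    ⟨AlgebraicClosure P.ResidueField, inferInstance, inferInstance,
      (algebraMap P.ResidueField (AlgebraicClosure P.ResidueField)).comp (algebraMap R P.ResidueField),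
      fun x => (map_eq_zero_iff _ (algebraMap P.ResidueField (AlgebraicClosure P.ResidueField)).injective).trans
        Ideal.algebraMap_residueField_eq_zero⟩
  letI : Algebra R₀ Ω := (f.comp (algebraMap R₀ R)).toAlgebra
  let φ : R →ₐ[R₀] Ω := { f with commutes' := fun _ => rfl }
  have hker : ∀ a, algebraMap R₀ Ω a = 0 ↔ a ∈ I := fun a => by
    rw [← hPI]
    exact hf (algebraMap R₀ R a)
  let A := R₀ ⧸ I
  letI : Algebra A Ω := (Ideal.Quotient.lift I (algebraMap R₀ Ω) fun a ha => (hker a).mpr ha).toAlgebra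
  haveI : IsScalarTower R₀ A Ω := .of_algebraMap_eq fun _ => rfl
  have hinj : Function.Injective (algebraMap A Ω) :=
    RingHom.lift_injective_of_ker_le_ideal _ _ fun a ha => (hker a).mp ha
  let F := Spec.map (CommRingCat.ofHom (algebraMap A (A ⊗[R₀] S₀)))
  haveI : IrreducibleSpace ↥(Spec (CommRingCat.of A)) := inferInstanceAs (IrreducibleSpace (PrimeSpectrum A))
  haveI : LocallyOfFiniteType F := by
    rw [HasRingHomProperty.Spec_iff (P := @LocallyOfFiniteType)]
    exact RingHom.finiteType_algebraMap.mpr inferInstance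
  obtain ⟨V, hVne, hV⟩ := Groth.GeomComp.exists_open_nGeomComp_eq F
  have hgenmem := ((genericPoint_spec ↥(Spec (CommRingCat.of A))).specializes trivial).mem_open V.isOpen hVne.some_mem
  obtain ⟨_, ⟨r, rfl⟩, hr, hrV⟩ := PrimeSpectrum.isTopologicalBasis_basic_opens.exists_subset_of_mem_open hgenmem V.isOpen
  have hbot : genericPoint ↥(Spec (CommRingCat.of A)) = ⟨⊥, Ideal.isPrime_bot⟩ := by
    rw [AlgebraicGeometry.genericPoint_eq_bot_of_affine]
    rfl
  rw [hbot] at hr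
  obtain ⟨g, hg⟩ := Ideal.Quotient.mk_surjective r
  refine ⟨g, fun hgI => hr (by
    show r ∈ (⊥ : Ideal A)
    rw [← hg, Ideal.Quotient.eq_zero_iff_mem.mpr hgI]; exact zero_mem _), fun K _ _ hK hgK => ?_⟩
  letI : Algebra A K := (Ideal.Quotient.lift I (algebraMap R₀ K) hK).toAlgebra
  haveI : IsScalarTower R₀ A K := .of_algebraMap_eq fun _ => rfl
  let M := AlgebraicClosure K
  haveI : ConnectedSpace (PrimeSpectrum (M ⊗[R₀] S₀)) := by
    rw [← connectedSpace_pullback_iff (A := A) M, connectedSpace_iff_card]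
    let zΩ := Spec.map (CommRingCat.ofHom (algebraMap A Ω))
    let zM := Spec.map (CommRingCat.ofHom (algebraMap A M))
    have hη : zΩ (IsLocalRing.closedPoint Ω) = genericPoint ↥(Spec (CommRingCat.of A)) := by
      rw [hbot]
      refine PrimeSpectrum.ext ?_
      show (IsLocalRing.maximalIdeal Ω).comap (algebraMap A Ω) = ⊥
      rw [IsLocalRing.maximalIdeal_eq_bot]
      exact (RingHom.injective_iff_ker_eq_bot _).mp hinj
    have hy : zM (IsLocalRing.closedPoint M) ∈ V := hrV (show r ∉ (IsLocalRing.maximalIdeal M).comap (algebraMap A M) by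
      rw [Ideal.mem_comap, IsLocalRing.maximalIdeal_eq_bot, Ideal.mem_bot, ← hg, ← Ideal.Quotient.algebraMap_eq,
        ← IsScalarTower.algebraMap_apply, IsScalarTower.algebraMap_apply R₀ K M, map_eq_zero]
      exact hgK)
    rw [← (Groth.GeomComp.nGeomComp_eq F _ zM rfl).2, (hV _ hy).2, (Groth.GeomComp.nGeomComp_eq F _ zΩ hη).2,
      ← connectedSpace_iff_card, connectedSpace_pullback_iff (A := A) Ω]
    exact h Ω φ
  exact connectedSpace_of_fieldHom (M := M)

theorem geomConnFibres_iff {R S : Type u} [CommRing R] [CommRing S] [Algebra R S] :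
    GeometricallyConnected (Spec.map (CommRingCat.ofHom (algebraMap R S))) ↔
      ∀ (K : Type u) [Field K] [Algebra R K], ConnectedSpace (PrimeSpectrum (K ⊗[R] S)) := by
  rw [GeometricallyConnected.eq_geometrically,
    geometrically_iff_of_commRing_of_isClosedUnderIsomorphisms]
  refine forall₃_congr fun K _ _ => ?_
  refine ((pullbackSpecIso R S K).hom.homeomorph.connectedSpace_iff).trans ?_
  exact (PrimeSpectrum.homeomorphOfRingEquiv (Algebra.TensorProduct.comm R S K).toRingEquiv).connectedSpace_iff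

theorem geomIrred_stage {R₀ R S₀ : Type u} [CommRing R₀] [CommRing R] [CommRing S₀] [Algebra R₀ R]
    [Algebra R₀ S₀] {F : Set R} (hF : SmoothProjective.GoodStage R₀ S₀ (⊥ : Ideal R₀) F) :
    FlatCA.GeomIrredFibres (Algebra.adjoin R₀ F) (Algebra.adjoin R₀ F ⊗[R₀] S₀) := by
  let R₁ := Algebra.adjoin R₀ F
  refine SmoothProjective.geomIrredFibres_iff.mpr fun K _ _ => ?_
  letI : Algebra R₀ K := ((algebraMap R₁ K).comp (algebraMap R₀ R₁)).toAlgebra
  haveI : IsScalarTower R₀ R₁ K := .of_algebraMap_eq fun r => rfl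
  haveI := hF K (IsScalarTower.toAlgHom R₀ R₁ K) (fun a ha => by rw [Ideal.mem_bot.mp ha, map_zero])
  let e' : K ⊗[R₁] (R₁ ⊗[R₀] S₀) ≃ₐ[K] K ⊗[R₀] S₀ := Algebra.TensorProduct.cancelBaseChange R₀ R₁ K K S₀
  exact SmoothProjective.isPrime_nilradical_comap (f := e'.toAlgHom.toRingHom) e'.injective

theorem geomConn_stage {R₀ R S₀ : Type u} [CommRing R₀] [CommRing R] [CommRing S₀] [Algebra R₀ R]
    [Algebra R₀ S₀] {F : Set R} (hF : ∀ (K : Type u) [Field K] [Algebra R₀ K],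
      (Algebra.adjoin R₀ F →ₐ[R₀] K) → (∀ a ∈ (⊥ : Ideal R₀), algebraMap R₀ K a = 0) →
        ConnectedSpace (PrimeSpectrum (K ⊗[R₀] S₀))) :
    GeometricallyConnected (Spec.map (CommRingCat.ofHom
      (algebraMap (Algebra.adjoin R₀ F) (Algebra.adjoin R₀ F ⊗[R₀] S₀)))) := by
  let R₁ := Algebra.adjoin R₀ F
  refine geomConnFibres_iff.mpr fun K _ _ => ?_
  letI : Algebra R₀ K := ((algebraMap R₁ K).comp (algebraMap R₀ R₁)).toAlgebra
  haveI : IsScalarTower R₀ R₁ K := .of_algebraMap_eq fun r => rfl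
  have := hF K (IsScalarTower.toAlgHom R₀ R₁ K) (fun a ha => by rw [Ideal.mem_bot.mp ha, map_zero])
  exact (PrimeSpectrum.homeomorphOfRingEquiv
    (Algebra.TensorProduct.cancelBaseChange R₀ R₁ K K S₀).toRingEquiv).connectedSpace_iff.mpr this

section model

variable (R S : Type u) [CommRing R] [CommRing S] [Algebra R S] [Algebra.FinitePresentation R S]

theorem exists_model_irreducible (h : FlatCA.GeomIrredFibres R S) :
    ∃ (R₁ S₁ : Type u) (_ : CommRing R₁) (_ : CommRing S₁) (_ : Algebra R₁ R) (_ : Algebra R₁ S₁),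
      Algebra.FiniteType ℤ R₁ ∧ Algebra.FiniteType R₁ S₁ ∧
        FlatCA.GeomIrredFibres R₁ S₁ ∧ Nonempty (R ⊗[R₁] S₁ ≃ₐ[R] S) := by
  let P := Algebra.Presentation.ofFinitePresentation R S
  let R₀ := P.Core
  let S₀ := P.ModelOfHasCoeffs R₀
  let e := P.tensorModelOfHasCoeffsEquiv R₀
  haveI : IsNoetherianRing R₀ := Algebra.FiniteType.isNoetherianRing ℤ R₀
  have hgood : ∀ (K : Type u) [Field K] [Algebra R₀ K], (R →ₐ[R₀] K) → (nilradical (K ⊗[R₀] S₀)).IsPrime := by
    intro K _ _ φ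
    letI : Algebra R K := φ.toRingHom.toAlgebra
    haveI : IsScalarTower R₀ R K := .of_algebraMap_eq fun r => (φ.commutes r).symm
    haveI := SmoothProjective.geomIrredFibres_iff.mp h K
    let e' : K ⊗[R₀] S₀ ≃ₐ[K] K ⊗[R] S := (Algebra.TensorProduct.cancelBaseChange R₀ R K K S₀).symm.trans
      (Algebra.TensorProduct.congr AlgEquiv.refl e)
    rw [← PrimeSpectrum.irreducibleSpace_iff_isPrime_nilradical]
    refine (PrimeSpectrum.homeomorphOfRingEquiv e'.toRingEquiv).irreducibleSpace_iff.mpr ?_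
    rwa [PrimeSpectrum.irreducibleSpace_iff_isPrime_nilradical]
  obtain ⟨F, hF, hF'⟩ := SmoothProjective.exists_goodStage hgood (⊥ : Ideal R₀)
  let R₁ := Algebra.adjoin R₀ F
  haveI h1 : Algebra.FiniteType R₀ R₁ :=
    (Subalgebra.fg_iff_finiteType _).mp (Subalgebra.fg_def.mpr ⟨F, hF, rfl⟩)
  refine ⟨R₁, R₁ ⊗[R₀] S₀, inferInstance, inferInstance, inferInstance, inferInstance,
    Algebra.FiniteType.trans (inferInstance : Algebra.FiniteType ℤ R₀) h1, inferInstance, ?_,
    ⟨(Algebra.TensorProduct.cancelBaseChange R₀ R₁ R R S₀).trans e⟩⟩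
  exact geomIrred_stage hF'

theorem exists_model_connected (h : GeometricallyConnected (Spec.map (CommRingCat.ofHom (algebraMap R S)))) :
    ∃ (R₁ S₁ : Type u) (_ : CommRing R₁) (_ : CommRing S₁) (_ : Algebra R₁ R) (_ : Algebra R₁ S₁),
      Algebra.FiniteType ℤ R₁ ∧ Algebra.FiniteType R₁ S₁ ∧
        GeometricallyConnected (Spec.map (CommRingCat.ofHom (algebraMap R₁ S₁))) ∧ Nonempty (R ⊗[R₁] S₁ ≃ₐ[R] S) := by
  let P := Algebra.Presentation.ofFinitePresentation R S
  let R₀ := P.Core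
  let S₀ := P.ModelOfHasCoeffs R₀
  let e := P.tensorModelOfHasCoeffsEquiv R₀
  haveI : IsNoetherianRing R₀ := Algebra.FiniteType.isNoetherianRing ℤ R₀
  have hgood : ∀ (K : Type u) [Field K] [Algebra R₀ K], (R →ₐ[R₀] K) → ConnectedSpace (PrimeSpectrum (K ⊗[R₀] S₀)) := by
    intro K _ _ φ
    letI : Algebra R K := φ.toRingHom.toAlgebra
    haveI : IsScalarTower R₀ R K := .of_algebraMap_eq fun r => (φ.commutes r).symm
    let e' : K ⊗[R₀] S₀ ≃ₐ[K] K ⊗[R] S := (Algebra.TensorProduct.cancelBaseChange R₀ R K K S₀).symm.trans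
      (Algebra.TensorProduct.congr AlgEquiv.refl e)
    exact (PrimeSpectrum.homeomorphOfRingEquiv e'.toRingEquiv).connectedSpace_iff.mpr (geomConnFibres_iff.mp h K)
  obtain ⟨F, hF, hF'⟩ := exists_stage_of_generic (R := R) (fun K _ _ => ConnectedSpace (PrimeSpectrum (K ⊗[R₀] S₀)))
    (fun I _ P _ hPI => exists_generic_connected hgood I P hPI) (⊥ : Ideal R₀)
  let R₁ := Algebra.adjoin R₀ F
  haveI h1 : Algebra.FiniteType R₀ R₁ :=
    (Subalgebra.fg_iff_finiteType _).mp (Subalgebra.fg_def.mpr ⟨F, hF, rfl⟩)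
  refine ⟨R₁, R₁ ⊗[R₀] S₀, inferInstance, inferInstance, inferInstance, inferInstance,
    Algebra.FiniteType.trans (inferInstance : Algebra.FiniteType ℤ R₀) h1, inferInstance, ?_,
    ⟨(Algebra.TensorProduct.cancelBaseChange R₀ R₁ R R S₀).trans e⟩⟩
  exact geomConn_stage hF'

end model

/-- The pullback square of a model. -/
theorem exists_scheme_model {X S : Scheme.{u}} (f : X ⟶ S) [IsAffine X] [IsAffine S]
    (Pr : MorphismProperty Scheme.{u})
    (h : letI := f.appTop.hom.toAlgebra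
      ∃ (R₁ S₁ : Type u) (_ : CommRing R₁) (_ : CommRing S₁) (_ : Algebra R₁ Γ(S, ⊤)) (_ : Algebra R₁ S₁),
      Algebra.FiniteType ℤ R₁ ∧ Algebra.FiniteType R₁ S₁ ∧
        Pr (Spec.map (CommRingCat.ofHom (algebraMap R₁ S₁))) ∧ Nonempty (Γ(S, ⊤) ⊗[R₁] S₁ ≃ₐ[Γ(S, ⊤)] Γ(X, ⊤))) :
    ∃ (X₀ S₀ : Scheme.{u}) (f₀ : X₀ ⟶ S₀) (g : S ⟶ S₀) (g' : X ⟶ X₀), IsAffine X₀ ∧ IsAffine S₀ ∧ IsPullback g' f f₀ g ∧
      Algebra.FiniteType ℤ Γ(S₀, ⊤) ∧ LocallyOfFiniteType f₀ ∧ Pr f₀ := by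
  let A := Γ(S, ⊤)
  let B := Γ(X, ⊤)
  letI : Algebra A B := f.appTop.hom.toAlgebra
  obtain ⟨R₀, B₀, _, _, _, _, hR₀, hB₀, hPr, ⟨e⟩⟩ := h
  letI : Algebra R₀ B := ((algebraMap A B).comp (algebraMap R₀ A)).toAlgebra
  haveI : IsScalarTower R₀ A B := .of_algebraMap_eq fun _ => rfl
  let ψ : B₀ →ₐ[R₀] B := (e.toAlgHom.restrictScalars R₀).comp Algebra.TensorProduct.includeRight
  letI : Algebra B₀ B := ψ.toRingHom.toAlgebra
  have : IsScalarTower R₀ B₀ B := .of_algebraMap_eq fun r => (ψ.commutes r).symm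
  have hp : Algebra.IsPushout R₀ A B₀ B :=
    ⟨IsBaseChange.of_equiv e.toLinearEquiv fun x => rfl⟩
  have hpb := isPullback_SpecMap_of_isPushout _ _ _ _
    ((CommRingCat.isPushout_iff_isPushout (R' := A) (S := B₀) (S' := B)).mpr hp)
  refine ⟨Spec (.of B₀), Spec (.of R₀), Spec.map (CommRingCat.ofHom (algebraMap R₀ B₀)),
    S.isoSpec.hom ≫ Spec.map (CommRingCat.ofHom (algebraMap R₀ A)),
    X.isoSpec.hom ≫ Spec.map (CommRingCat.ofHom (algebraMap B₀ B)), inferInstance, inferInstance,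
    ?_, ?_, ?_, hPr⟩
  · refine (IsPullback.of_horiz_isIso ⟨?_⟩).paste_horiz hpb.flip
    exact Scheme.isoSpec_hom_naturality f
  · rw [← RingHom.finiteType_algebraMap, RingHom.ext_int (algebraMap ℤ Γ(Spec (.of R₀), ⊤))
      ((Scheme.ΓSpecIso (.of R₀)).inv.hom.comp (algebraMap ℤ R₀))]
    exact RingHom.FiniteType.comp_surjective (f := algebraMap ℤ R₀)
      (g := (Scheme.ΓSpecIso (.of R₀)).inv.hom) (RingHom.finiteType_algebraMap.mpr inferInstance)
      (Scheme.ΓSpecIso (.of R₀)).commRingCatIsoToRingEquiv.symm.surjective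
  · rw [HasRingHomProperty.Spec_iff (P := @LocallyOfFiniteType)]
    exact RingHom.finiteType_algebraMap.mpr inferInstance

end Groth.RaynaudGruson.FibreTopModel
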