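import Groth.Prelude.Def_FlatCA
import Groth.Agent.Calg5.FiberAss
import Groth.Agent.RaynaudGruson.FiberAssBridge
import Mathlib

/-!
Algebras with geometrically integral fibres: associated points of the fibres, base change.
-/

set_option autoImplicit false
universe u

namespace Groth.RaynaudGruson

open CategoryTheory AlgebraicGeometry TensorProduct

attribute [local instance] Algebra.TensorProduct.rightAlgebra

variable {R S : Type u} [CommRing R] [CommRing S] [Algebra R S]

theorem isDomain_tensor_field (h : FlatCA.GeomIntegralFibres R S) (K : Type u) [Field K] [Algebra R K] :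
    IsDomain (K ⊗[R] S) := by
  haveI := h
  have hpb : IsPullback
      (Spec.map (CommRingCat.ofHom (Algebra.TensorProduct.includeRight (R := R) (A := K) (B := S)).toRingHom))
      (Spec.map (CommRingCat.ofHom (Algebra.TensorProduct.includeLeftRingHom (R := R) (A := K) (B := S))))
      (Spec.map (CommRingCat.ofHom (algebraMap R S))) (Spec.map (CommRingCat.ofHom (algebraMap R K))) := by
    refine (IsPullback.of_iso_pullback ?_ (pullbackSpecIso R K S).symm ?_ ?_).flip
    · exact ⟨by rw [← Spec.map_comp, ← Spec.map_comp, ← CommRingCat.ofHom_comp, ← CommRingCat.ofHom_comp]; congr 2; ext r; simp⟩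
    · exact pullbackSpecIso_inv_fst R K S
    · exact pullbackSpecIso_inv_snd R K S
  have : IsIntegral (Spec (CommRingCat.of (K ⊗[R] S))) :=
    GeometricallyIntegral.geometrically_isIntegral _ _ _ hpb
  exact (affine_isIntegral_iff _).1 this

theorem geomIntegralFibres_baseChange (R' S' : Type u) [CommRing R'] [CommRing S'] [Algebra R R']
    [Algebra S S'] [Algebra R' S'] [Algebra R S'] [IsScalarTower R S S'] [IsScalarTower R R' S']
    [Algebra.IsPushout R S R' S'] (h : FlatCA.GeomIntegralFibres R S) :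
    FlatCA.GeomIntegralFibres R' S' :=
  MorphismProperty.of_isPullback (isPullback_SpecMap_of_isPushout _ _ _ _
    (CommRingCat.isPushout_of_isPushout R S R' S')) h

theorem isDomain_fiber (h : FlatCA.GeomIntegralFibres R S) (p : Ideal R) [p.IsPrime] :
    IsDomain (p.Fiber S) :=
  isDomain_tensor_field h p.ResidueField

/-- A prime of `S` lies over every prime of `R`. -/
theorem exists_prime_over (h : FlatCA.GeomIntegralFibres R S) (p : Ideal R) [p.IsPrime] :
    ∃ q : Ideal S, q.IsPrime ∧ q.LiesOver p := by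
  haveI := isDomain_fiber h p
  obtain ⟨x⟩ := (inferInstance : Nonempty (PrimeSpectrum (p.Fiber S)))
  let y := (PrimeSpectrum.preimageEquivFiber R S ⟨p, inferInstance⟩).symm x
  exact ⟨y.1.asIdeal, y.1.isPrime, ⟨(congrArg PrimeSpectrum.asIdeal y.2).symm⟩⟩

/-- With flatness the only associated point of a fibre is `pS`. -/
theorem eq_map_of_assoc_fiber [Module.Flat R S] (h : FlatCA.GeomIntegralFibres R S) (p : Ideal R) [p.IsPrime]
    {N : Type u} [AddCommGroup N] [Module S N] [Module R N] [IsScalarTower R S N] (e : S ≃ₗ[S] N)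
    (q : Ideal S) [q.LiesOver p]
    (hq : FlatCA.fiberIdeal p q ∈ associatedPrimes (p.Fiber S) (FlatCA.fiberMod p S N)) :
    q = p.map (algebraMap R S) := by
  haveI := isDomain_fiber h p
  have e2 : FlatCA.fiberMod p S N ≃ₗ[p.Fiber S] p.Fiber S :=
    (LinearEquiv.baseChange S (p.Fiber S) N S e.symm).trans (AlgebraTensorModule.rid S (p.Fiber S) (p.Fiber S))
  rw [LinearEquiv.AssociatedPrimes.eq e2] at hq
  obtain ⟨hprime, z, hz⟩ := hq
  have hz0 : z ≠ 0 := fun h0 => hprime.ne_top (by rw [hz, h0]; simp [Submodule.colon_singleton_zero])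
  have hbot : FlatCA.fiberIdeal p q = ⊥ := by
    rw [hz, show (⊥ : Submodule (p.Fiber S) (p.Fiber S)).colon {z} = ⊥ from ?_, Ideal.radical_bot_of_isReduced]
    refine eq_bot_iff.mpr fun w hw => (Submodule.mem_bot _).mpr ?_
    rw [Submodule.mem_colon_singleton, Submodule.mem_bot, smul_eq_mul] at hw
    exact (mul_eq_zero.mp hw).resolve_right hz0
  refine le_antisymm (fun x hx => ?_) (Ideal.map_le_iff_le_comap.mpr (Ideal.over_def q p).le)
  have hx0 : algebraMap S (p.Fiber S) x = 0 := by
    rw [← Ideal.mem_bot, ← hbot]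
    exact Ideal.mem_map_of_mem _ hx
  have h1 : FlatCA.toFiberMod p S S x = 0 := by
    show (1 : p.Fiber S) ⊗ₜ[S] x = 0
    rw [show x = x • (1 : S) by simp, ← smul_tmul, Algebra.smul_def, mul_one, hx0, zero_tmul]
  obtain ⟨t, ht, hmem⟩ := Groth.Calg5.exists_smul_mem_pN_of_toFiberMod_eq_zero (N := S) (p := p) h1
  have hreg := Groth.Calg5.isSMulRegular_quotient_of_flat (R := R) (S := S) S p (algebraMap R S t)
    ⟨t, ht, rfl⟩
  have h2 : (Submodule.Quotient.mk x : S ⧸ Groth.Calg5.pN (S := S) S p) = 0 := hreg (by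
    show algebraMap R S t • (Submodule.Quotient.mk x : S ⧸ Groth.Calg5.pN (S := S) S p) = algebraMap R S t • (0 : S ⧸ Groth.Calg5.pN (S := S) S p)
    rw [← Submodule.Quotient.mk_smul, (Submodule.Quotient.mk_eq_zero _).mpr hmem, smul_zero])
  rw [Submodule.Quotient.mk_eq_zero] at h2
  simpa [Groth.Calg5.pN] using h2

theorem isUnivPure_self [Module.Flat R S] (h : FlatCA.GeomIntegralFibres R S) : FlatCA.IsUnivPure R S S := by
  intro p hp R' S' N' _ _ _ _ _ _ _ _ _ _ _ _ _ _ f t' t _ _ P _ ⟨hpush, hbc, htt, _, hP, hass, hno⟩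
  haveI := geomIntegralFibres_baseChange (R := R) (S := S) R' S' h
  haveI : Algebra.IsPushout R R' S S' := Algebra.IsPushout.symm hpush
  haveI : Module.Flat R' S' := Module.Flat.of_linearEquiv (Algebra.IsPushout.equiv R R' S S').symm.toLinearEquiv
  obtain rfl := eq_map_of_assoc_fiber (geomIntegralFibres_baseChange (R := R) (S := S) R' S' h) t'
    ((TensorProduct.AlgebraTensorModule.rid S S' S').symm.trans hbc.equiv) P hass
  obtain ⟨P', hP', hover⟩ := exists_prime_over (geomIntegralFibres_baseChange (R := R) (S := S) R' S' h) t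
  refine hno P' (Ideal.map_le_iff_le_comap.mpr ?_) hover
  show t' ≤ P'.under R'
  rw [← Ideal.over_def P' t]
  exact htt

end Groth.RaynaudGruson
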