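import Groth.Agent.RaynaudGruson.DevissageFlat
import Groth.Agent.RaynaudGruson.DevissageLocal
import Groth.Agent.RaynaudGruson.GeomIntegral
import Groth.Agent.RaynaudGruson.FiberAssBridge
import Groth.Agent.FlatCxBase.FlatAlg
import Mathlib

/-!
# Maps from free modules which are bijective on the generic point of a fibre
-/

set_option autoImplicit false
set_option linter.style.haveILetI false
universe u

namespace Groth.RaynaudGruson.FibrewiseIso

open TensorProduct

variable {R : Type u} [CommRing R]

/-- A map to a flat module which is pure for finitely generated ideals is universally injective. -/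
theorem univInj_of_pure {G L : Type u} [AddCommGroup G] [Module R G] [AddCommGroup L] [Module R L]
    [Module.Flat R L] (γ : G →ₗ[R] L)
    (hpure : ∀ J : Ideal R, J.FG → ∀ g, γ g ∈ J • (⊤ : Submodule R L) → g ∈ J • (⊤ : Submodule R G)) :
    FlatCA.UnivInj R γ := by
  have hinj : Function.Injective γ := (injective_iff_map_eq_zero γ).mpr fun g hg => by
    simpa using hpure ⊥ Submodule.fg_bot g (by rw [hg]; exact zero_mem _)
  have : Module.Flat R (L ⧸ LinearMap.range γ) := by
    refine KeyLemma.flat_of_pure (LinearMap.range γ).mkQ (Submodule.mkQ_surjective _) fun J hJ a ha ha0 => ?_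
    rw [Submodule.mkQ_apply, Submodule.Quotient.mk_eq_zero] at ha0
    obtain ⟨g, rfl⟩ := ha0
    have := Submodule.mem_map_of_mem (f := γ) (hpure J hJ g ha)
    rw [Submodule.map_smul'', Submodule.map_top] at this
    rwa [Submodule.ker_mkQ]
  intro Q _ _
  exact LinearMap.lTensor_injective_of_exact_of_flat (LinearMap.range γ).mkQ (Submodule.mkQ_surjective _) γ hinj
    (LinearMap.exact_map_mkQ_range γ) Q

theorem univInj_of_comp {G L K : Type u} [AddCommGroup G] [Module R G] [AddCommGroup L] [Module R L]
    [AddCommGroup K] [Module R K] {f : G →ₗ[R] L} {g : L →ₗ[R] K} (h : FlatCA.UnivInj R (g ∘ₗ f)) :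
    FlatCA.UnivInj R f := fun Q _ _ => by
  have := h Q
  rw [LinearMap.lTensor_comp, LinearMap.coe_comp] at this
  exact this.of_comp

theorem univInj_equiv_comp {G L K : Type u} [AddCommGroup G] [Module R G] [AddCommGroup L] [Module R L]
    [AddCommGroup K] [Module R K] {f : G →ₗ[R] L} (e : L ≃ₗ[R] K) (h : FlatCA.UnivInj R f) :
    FlatCA.UnivInj R (e.toLinearMap ∘ₗ f) := fun Q _ _ => by
  rw [LinearMap.lTensor_comp, LinearMap.coe_comp]
  exact (LinearEquiv.lTensor Q e).injective.comp (h Q)

theorem injective_of_univInj {G L : Type u} [AddCommGroup G] [Module R G] [AddCommGroup L] [Module R L]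
    {f : G →ₗ[R] L} (h : FlatCA.UnivInj R f) : Function.Injective f := by
  refine (injective_iff_map_eq_zero f).mpr fun x hx => ?_
  have h1 : (1 : R) ⊗ₜ[R] x = 0 := h R (by rw [LinearMap.lTensor_tmul, hx, tmul_zero, map_zero])
  simpa using congrArg (TensorProduct.lid R G) h1

variable {S : Type u} [CommRing S] [Algebra R S] {M F : Type u} [AddCommGroup M] [Module S M] [Module R M]
  [IsScalarTower R S M] [AddCommGroup F] [Module S F] [Module R F] [IsScalarTower R S F]

theorem smul_mem_smul_top {J : Ideal R} (c : S) {m : M} (hm : m ∈ J • (⊤ : Submodule R M)) :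
    c • m ∈ J • (⊤ : Submodule R M) := by
  refine Submodule.smul_induction_on hm (fun a ha w _ => ?_) fun v w hv hw => ?_
  · rw [smul_comm]; exact Submodule.smul_mem_smul ha trivial
  · rw [smul_add]; exact Submodule.add_mem _ hv hw

theorem mk_mem_smul_top (U : Submonoid S) (s : U) {J : Ideal R} {m : M} (hm : m ∈ J • (⊤ : Submodule R M)) :
    LocalizedModule.mk m s ∈ J • (⊤ : Submodule R (LocalizedModule U M)) := by
  refine Submodule.smul_induction_on hm (fun a ha w _ => ?_) fun v w hv hw => ?_
  · rw [← FlatPred.smul_mk]; exact Submodule.smul_mem_smul ha trivial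
  · rw [show LocalizedModule.mk (v + w) s = LocalizedModule.mk v s + LocalizedModule.mk w s by
      rw [LocalizedModule.mk_add_mk, ← smul_add, LocalizedModule.mk_cancel_common_left]]
    exact Submodule.add_mem _ hv hw

theorem exists_smul_mem_of_mk_mem (U : Submonoid S) (s : U) {J : Ideal R} {m : M}
    (h : LocalizedModule.mk m s ∈ J • (⊤ : Submodule R (LocalizedModule U M))) :
    ∃ u ∈ U, u • m ∈ J • (⊤ : Submodule R M) := by
  have hz : ∀ z ∈ J • (⊤ : Submodule R (LocalizedModule U M)),
      ∃ (n : M) (t : U), n ∈ J • (⊤ : Submodule R M) ∧ z = LocalizedModule.mk n t := by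
    intro z hz
    refine Submodule.smul_induction_on hz (fun a ha w _ => ?_) fun v w hv hw => ?_
    · induction w using LocalizedModule.induction_on with
      | h n t => exact ⟨a • n, t, Submodule.smul_mem_smul ha trivial, FlatPred.smul_mk U a n t⟩
    · obtain ⟨n, t, hn, rfl⟩ := hv
      obtain ⟨n', t', hn', rfl⟩ := hw
      exact ⟨_, _, Submodule.add_mem _ (smul_mem_smul_top (t' : S) hn) (smul_mem_smul_top (t : S) hn'),
        LocalizedModule.mk_add_mk⟩
  obtain ⟨n, t, hn, he⟩ := hz _ h
  obtain ⟨c, hc⟩ := LocalizedModule.mk_eq.mp he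
  simp only [Submonoid.smul_def] at hc
  refine ⟨c * t, mul_mem c.2 t.2, ?_⟩
  rw [mul_smul, hc]
  exact smul_mem_smul_top _ (smul_mem_smul_top _ hn)

theorem injective_map_iff (U : Submonoid S) (α : F →ₗ[S] M) :
    Function.Injective (LocalizedModule.map U α) ↔ ∀ x, (∃ u ∈ U, u • α x = 0) → ∃ v ∈ U, v • x = 0 := by
  constructor
  · rintro h x ⟨u, hu, hux⟩
    have h0 : LocalizedModule.map U α (LocalizedModule.mk x 1) = LocalizedModule.map U α 0 := by
      rw [LocalizedModule.map_mk, map_zero, ← LocalizedModule.zero_mk (1 : U), LocalizedModule.mk_eq]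
      exact ⟨⟨u, hu⟩, by simpa [Submonoid.smul_def] using hux⟩
    obtain ⟨v, hv⟩ := LocalizedModule.mk_eq.mp ((h h0).trans (LocalizedModule.zero_mk (1 : U)).symm)
    exact ⟨v, v.2, by simpa [Submonoid.smul_def] using hv⟩
  · intro h
    refine (injective_iff_map_eq_zero _).mpr fun z hz => ?_
    induction z using LocalizedModule.induction_on with
    | h x s =>
      rw [LocalizedModule.map_mk, ← LocalizedModule.zero_mk (1 : U), LocalizedModule.mk_eq] at hz
      obtain ⟨u, hu⟩ := hz
      obtain ⟨v, hv, hvx⟩ := h x ⟨u, u.2, by simpa [Submonoid.smul_def] using hu⟩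
      rw [← LocalizedModule.zero_mk (1 : U), LocalizedModule.mk_eq]
      exact ⟨⟨v, hv⟩, by simpa [Submonoid.smul_def] using hvx⟩

theorem injective_map_mono {U V : Submonoid S} (hUV : U ≤ V) (α : F →ₗ[S] M)
    (h : Function.Injective (LocalizedModule.map U α)) : Function.Injective (LocalizedModule.map V α) := by
  rw [injective_map_iff] at h ⊢
  rintro x ⟨w, hw, hwx⟩
  obtain ⟨v, hv, hvx⟩ := h (w • x) ⟨1, one_mem U, by rw [one_smul, map_smul, hwx]⟩
  exact ⟨v * w, mul_mem (hUV hv) hw, by rw [mul_smul]; exact hvx⟩

theorem injective_map_of_injective' (U : Submonoid S) (α : F →ₗ[S] M) (h : Function.Injective α) :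
    Function.Injective (LocalizedModule.map U α) :=
  (injective_map_iff U α).mpr fun x ⟨u, hu, hux⟩ => ⟨u, hu, h (by rw [map_smul, hux, map_zero])⟩

theorem flat_pi [Module.Flat R S] (r : ℕ) : Module.Flat R (Fin r → S) :=
  Module.Flat.of_linearEquiv (TensorProduct.piScalarRight R R S (Fin r)).symm

theorem flat_localized_free [Module.Flat R S] (U : Submonoid S) (r : ℕ) :
    Module.Flat R (LocalizedModule U (Fin r → S)) :=
  haveI := flat_pi (R := R) (S := S) r
  (FlatPred.flat_iff U).mpr (FlatPred.pred_of_flat U)

/-- An extension of a flat cokernel by a free module is flat. -/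
theorem flatAt_of_injective [Module.Flat R S] (q : Ideal S) [q.IsPrime] {r : ℕ} (α : (Fin r → S) →ₗ[S] M)
    (hinj : Function.Injective (LocalizedModule.map q.primeCompl α))
    (hC : FlatCA.FlatAt R q (M ⧸ LinearMap.range α)) : FlatCA.FlatAt R q M := by
  have h1 : Module.Flat R (LocalizedModule q.primeCompl (M ⧸ LinearMap.range α)) := hC
  have := flat_localized_free (R := R) q.primeCompl r (S := S)
  exact Groth.FlatCxBase.flat_of_exact_flat_right
    (f := (LocalizedModule.map q.primeCompl α).restrictScalars R)
    (g := (LocalizedModule.map q.primeCompl (LinearMap.range α).mkQ).restrictScalars R) hinj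
    (LocalizedModule.map_surjective q.primeCompl _ (Submodule.mkQ_surjective _))
    (LocalizedModule.map_exact q.primeCompl _ _ (LinearMap.exact_map_mkQ_range α))

theorem bijective_baseChange_id (P : Ideal S) [P.IsPrime] (r : ℕ) :
    Function.Bijective ((LinearMap.id : (Fin r → S) →ₗ[S] (Fin r → S)).baseChange P.ResidueField) := by
  rw [LinearMap.baseChange_id]; exact Function.bijective_id

/-- Lifting a basis of the fibre. -/
theorem exists_bijective_baseChange (P : Ideal S) [P.IsPrime] (N : Type u) [AddCommGroup N] [Module S N]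
    [Module.Finite S N] :
    ∃ (r : ℕ) (α : (Fin r → S) →ₗ[S] N), Function.Bijective (α.baseChange P.ResidueField) := by
  classical
  let K := P.ResidueField
  let T : Set (K ⊗[S] N) := Set.range fun n : N => (1 : K) ⊗ₜ[S] n
  obtain ⟨b, hbT, hspan, hli⟩ := exists_linearIndependent K T
  have htop : Submodule.span K b = ⊤ := by
    rw [hspan, eq_top_iff]
    rintro z -
    induction z using TensorProduct.induction_on with
    | zero => exact zero_mem _
    | tmul k n =>
      have h1 : k ⊗ₜ[S] n = k • ((1 : K) ⊗ₜ[S] n) := by rw [smul_tmul', smul_eq_mul, mul_one]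
      rw [h1]
      exact Submodule.smul_mem _ _ (Submodule.subset_span ⟨n, rfl⟩)
    | add x y hx hy => exact add_mem hx hy
  let B := Module.Basis.mk hli (by rw [Subtype.range_coe, htop])
  have : Fintype b := FiniteDimensional.fintypeBasisIndex B
  let e := (Fintype.equivFin b).symm
  choose n hn using fun i => hbT (e i).2
  refine ⟨_, (Pi.basisFun S _).constr S n, ?_⟩
  let B' := (Algebra.TensorProduct.basis K (Pi.basisFun S (Fin (Fintype.card b))))
  let B'' := B.reindex e.symm
  have h : ((Pi.basisFun S _).constr S n).baseChange K = (B'.equiv B'' (Equiv.refl _)).toLinearMap := by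
    refine B'.ext fun i => ?_
    rw [LinearEquiv.coe_coe, Module.Basis.equiv_apply, Equiv.refl_apply, Algebra.TensorProduct.basis_apply,
      LinearMap.baseChange_tmul, Module.Basis.constr_basis, Module.Basis.reindex_apply, Equiv.symm_symm,
      Module.Basis.mk_apply]
    exact hn i
  rw [h]
  exact (B'.equiv B'' (Equiv.refl _)).bijective

/-- The extension of a prime of the base is prime. -/
theorem isPrime_map [Module.Flat R S] (h : FlatCA.GeomIntegralFibres R S) (p : Ideal R) [p.IsPrime] :
    (p.map (algebraMap R S)).IsPrime := by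
  haveI := isDomain_fiber h p
  letI := Algebra.TensorProduct.rightAlgebra (R := R) (A := p.ResidueField) (B := S)
  let P' : Ideal S := (⊥ : Ideal (p.Fiber S)).comap
    (Algebra.TensorProduct.includeRight (R := R) (A := p.ResidueField) (B := S)).toRingHom
  haveI : P'.IsPrime := Ideal.IsPrime.comap _
  haveI : P'.LiesOver p := ⟨by
    ext a
    show a ∈ p ↔ (Algebra.TensorProduct.includeRight (R := R) (A := p.ResidueField) (B := S)) (algebraMap R S a) ∈ (⊥ : Ideal _)
    rw [AlgHom.commutes, Ideal.mem_bot, IsScalarTower.algebraMap_apply R p.ResidueField (p.Fiber S),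
      map_eq_zero_iff _ (algebraMap p.ResidueField (p.Fiber S)).injective, Ideal.algebraMap_residueField_eq_zero]⟩
  have hb : FlatCA.fiberIdeal p P' = ⊥ := map_comap_fiber p _
  have : P' = p.map (algebraMap R S) := by
    refine eq_map_of_assoc_fiber h p (LinearEquiv.refl S S) P' ?_
    rw [hb]
    let e2 : FlatCA.fiberMod p S S ≃ₗ[p.Fiber S] p.Fiber S := AlgebraTensorModule.rid S (p.Fiber S) (p.Fiber S)
    rw [LinearEquiv.AssociatedPrimes.eq e2]
    refine ⟨Ideal.isPrime_bot, 1, ?_⟩
    have hc : (⊥ : Submodule (p.Fiber S) (p.Fiber S)).colon {1} = ⊥ := by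
      ext w
      rw [Submodule.mem_colon_singleton]
      simp
    rw [hc, Ideal.radical_bot_of_isReduced]
  rw [← this]
  infer_instance

section Generic

variable [Module.Projective R S] (p : Ideal R) [p.IsPrime] (P : Ideal S) [P.IsPrime] {r : ℕ}

/-- Elements outside `pS` are regular for every ideal of coefficients, up to denominators from the base. -/
theorem exists_smul_mem (hP : P = p.map (algebraMap R S)) (hPp : P.LiesOver p) {J : Ideal R} (hJ : J.FG)
    {x : Fin r → S} {t : S} (ht : t ∉ P) (h : t • x ∈ J • (⊤ : Submodule R (Fin r → S))) :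
    ∃ s, s ∉ p ∧ s • x ∈ J • (⊤ : Submodule R (Fin r → S)) :=
  DevissageLocal.mem_smul_top_of_smul_apply_mem p P LinearMap.id hP hPp
    (fun m => ⟨1, fun h => ‹P.IsPrime›.ne_top ((Ideal.eq_top_iff_one _).mpr h), m, one_smul _ _⟩)
    (fun _ _ ht h => DevissageFlat.forall_mem_of_smul_eq_zero P LinearMap.id (bijective_baseChange_id P r).1 ht h)
    (haveI := flat_pi (R := R) (S := S) r; FlatPred.pred_of_flat _) hJ ht h

variable (α : (Fin r → S) →ₗ[S] M) (hP : P = p.map (algebraMap R S)) (hPp : P.LiesOver p)
  (hsurj : ∀ m : M, ∃ t, t ∉ P ∧ ∃ g, t • m = α g)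
  (hker : ∀ (f : Fin r → S) (t : S), t ∉ P → t • α f = 0 → ∀ i, f i ∈ P)
  (hflat : FlatPred.Pred R P.primeCompl M)

include hP hPp

theorem algebraMapSubmonoid_le : Algebra.algebraMapSubmonoid S p.primeCompl ≤ P.primeCompl := by
  rintro _ ⟨s, hs, rfl⟩ h
  exact hs ((Ideal.over_def P p).symm ▸ h)

/-- Injectivity at `P` gives injectivity above `p`. -/
theorem injective_map_of_atPrime (h : Function.Injective (LocalizedModule.map P.primeCompl α)) :
    Function.Injective (LocalizedModule.map (Algebra.algebraMapSubmonoid S p.primeCompl) α) := by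
  rw [injective_map_iff] at h ⊢
  rintro x ⟨u, hu, hux⟩
  obtain ⟨v, hv, hvx⟩ := h x ⟨u, algebraMapSubmonoid_le p P hP hPp hu, hux⟩
  obtain ⟨s, hs, hsx⟩ := exists_smul_mem p P hP hPp Submodule.fg_bot hv (by rw [hvx]; exact zero_mem _)
  exact ⟨algebraMap R S s, ⟨s, hs, rfl⟩, by simpa [algebraMap_smul] using hsx⟩

include hsurj hker hflat

/-- The localisation at the base prime is universally injective. -/
theorem univInj_map : FlatCA.UnivInj R
    ((LocalizedModule.map (Algebra.algebraMapSubmonoid S p.primeCompl) α).restrictScalars R) := by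
  let U := Algebra.algebraMapSubmonoid S p.primeCompl
  haveI : Module.Flat R (LocalizedModule P.primeCompl M) := (FlatPred.flat_iff _).mpr hflat
  let l : LocalizedModule U M →ₗ[S] LocalizedModule P.primeCompl M :=
    LocalizedModule.lift U (LocalizedModule.mkLinearMap P.primeCompl M) fun u =>
      IsLocalizedModule.map_units (LocalizedModule.mkLinearMap P.primeCompl M)
        ⟨u.1, algebraMapSubmonoid_le p P hP hPp u.2⟩
  refine univInj_of_comp (g := l.restrictScalars R) (univInj_of_pure _ fun J hJ z hz => ?_)
  induction z using LocalizedModule.induction_on with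
  | h x s =>
    have h1 := smul_mem_smul_top (s : S) hz
    rw [LinearMap.comp_apply, LinearMap.coe_restrictScalars, LinearMap.coe_restrictScalars,
      LocalizedModule.map_mk, ← map_smul, LocalizedModule.smul'_mk,
      show ((s : S) • α x) = s • α x from rfl, LocalizedModule.mk_cancel,
      show LocalizedModule.mk (α x) (1 : U) = LocalizedModule.mkLinearMap U M (α x) from rfl,
      ← LinearMap.comp_apply, LocalizedModule.lift_comp, LocalizedModule.mkLinearMap_apply] at h1
    obtain ⟨t, ht, htx⟩ := exists_smul_mem_of_mk_mem P.primeCompl 1 h1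
    obtain ⟨c, hc, hcx⟩ := DevissageLocal.mem_smul_top_of_smul_apply_mem p P α hP hPp hsurj hker hflat hJ ht htx
    have h2 := mk_mem_smul_top U (⟨algebraMap R S c, c, hc, rfl⟩ * s) hcx
    rwa [← algebraMap_smul S c x, show algebraMap R S c • x = (⟨algebraMap R S c, c, hc, rfl⟩ : U) • x from rfl,
      LocalizedModule.mk_cancel_common_left] at h2

theorem bijective_map_atPrime : Function.Bijective (LocalizedModule.map P.primeCompl α) := by
  refine ⟨injective_map_mono (algebraMapSubmonoid_le p P hP hPp) α
    (injective_of_univInj (f := (LocalizedModule.map _ α).restrictScalars R) (univInj_map p P α hP hPp hsurj hker hflat)), fun z => ?_⟩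
  induction z using LocalizedModule.induction_on with
  | h m s =>
    obtain ⟨t, ht, g, hg⟩ := hsurj m
    refine ⟨LocalizedModule.mk g ((⟨t, ht⟩ : P.primeCompl) * s), ?_⟩
    rw [LocalizedModule.map_mk, ← hg]
    exact LocalizedModule.mk_cancel_common_left (⟨t, ht⟩ : P.primeCompl) s m

end Generic

end Groth.RaynaudGruson.FibrewiseIso
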