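import Groth.Agent.RaynaudGruson.DomainFP
import Groth.Agent.Calg3.WeakAssTensor
import Groth.Agent.Calg3.WeakAssTensorDown
import Groth.Agent.Calg5.WeakAss
import Mathlib

/-!
Flat finite modules over finite type algebras over a ring with finitely many weakly associated primes.
-/

set_option autoImplicit false
universe u

open scoped TensorProduct

attribute [local instance] Algebra.TensorProduct.rightAlgebra

namespace Groth.RaynaudGruson.WeakAssFP

/-- Elementwise flatness at all primes avoiding `g` gives flatness after inverting `g`. -/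
theorem flat_localized_powers {R S N : Type u} [CommRing R] [CommRing S] [Algebra R S] [AddCommGroup N] [Module S N]
    [Module R N] [IsScalarTower R S N] (g : S)
    (h : ∀ q : Ideal S, [q.IsPrime] → g ∉ q → Module.Flat R (LocalizedModule q.primeCompl N)) :
    Module.Flat R (LocalizedModule (Submonoid.powers g) N) := by
  rw [FlatPred.flat_iff]
  intro l f a ⟨_, ⟨e, rfl⟩, hua⟩
  let K : Ideal S :=
    { carrier := {v | ∃ (k : ℕ) (d : Fin l → Fin k → R) (z : Fin k → N),
        (∀ i, v • a i = ∑ j, d i j • z j) ∧ ∀ j, ∑ i, f i * d i j = 0}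
      zero_mem' := ⟨0, fun _ => Fin.elim0, Fin.elim0, fun i => by simp, fun j => j.elim0⟩
      add_mem' := by
        rintro v w ⟨k, d, z, hz, hd⟩ ⟨k', d', z', hz', hd'⟩
        refine ⟨k + k', fun i => Fin.append (d i) (d' i), Fin.append z z', fun i => ?_, fun j => ?_⟩
        · rw [add_smul, hz, hz', Fin.sum_univ_add]; simp
        · refine Fin.addCases (fun j => ?_) (fun j => ?_) j
          · simpa using hd j
          · simpa using hd' j
      smul_mem' := by
        rintro c v ⟨k, d, z, hz, hd⟩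
        exact ⟨k, d, fun j => c • z j, fun i => by
          rw [smul_eq_mul, mul_smul, hz, Finset.smul_sum]
          exact Finset.sum_congr rfl fun j _ => smul_comm c (d i j) (z j), hd⟩ }
  have hg : g ∈ K.radical := by
    rw [Ideal.radical_eq_sInf, Ideal.mem_sInf]
    rintro p ⟨hKp, hp⟩
    by_contra hgp
    haveI := hp
    obtain ⟨v, hv, hk⟩ := (FlatPred.flat_iff _).mp (h p hgp) l f a
      ⟨g ^ e, fun hm => hgp (hp.mem_of_pow_mem e hm), hua⟩
    exact hv (hKp hk)
  obtain ⟨m, hm⟩ := hg
  exact ⟨g ^ m, ⟨m, rfl⟩, hm⟩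

variable {R S M : Type u} [CommRing R] [CommRing S] [Algebra R S] [Algebra.FinitePresentation R S]
  [AddCommGroup M] [Module S M] [Module R M] [IsScalarTower R S M] [Module.Finite S M]

/-- Near a flat point the module is flat and finitely presented. -/
theorem exists_nbhd (hR : (FlatCA.weakAss R R).Finite) (q : PrimeSpectrum S)
    (hq : Module.Flat R (LocalizedModule q.asIdeal.primeCompl M)) :
    ∃ g ∉ q.asIdeal, Module.Flat R (LocalizedModule (Submonoid.powers g) M) ∧
      Module.FinitePresentation (Localization (Submonoid.powers g)) (LocalizedModule (Submonoid.powers g) M) ∧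
      ∀ q' : PrimeSpectrum S, g ∉ q'.asIdeal → Module.Flat R (LocalizedModule q'.asIdeal.primeCompl M) := by
  classical
  obtain ⟨m, π, hπ⟩ := Module.Finite.exists_fin' S M
  obtain ⟨U, hUfg, hUle, hkq⟩ := DomainFP.exists_relations_at π hπ q hq
  let M' := (Fin m → S) ⧸ U
  haveI : Module.FinitePresentation S M' :=
    Module.finitePresentation_of_surjective _ U.mkQ_surjective (by rwa [Submodule.ker_mkQ])
  let θ : M' →ₗ[S] M := U.liftQ π hUle
  let eR : ∀ q' : PrimeSpectrum S, (∀ u ∈ LinearMap.ker π, ∃ t ∉ q'.asIdeal, t • u ∈ U) →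
      LocalizedModule q'.asIdeal.primeCompl M' ≃ₗ[R] LocalizedModule q'.asIdeal.primeCompl M := fun q' h =>
    (LinearEquiv.ofBijective (LocalizedModule.map q'.asIdeal.primeCompl θ)
      (DomainFP.bijective_localized π hπ U hUle q' h)).restrictScalars R
  haveI := hq
  have hqW : q ∈ {q' : PrimeSpectrum S | Module.Flat R (LocalizedModule q'.asIdeal.primeCompl M')} :=
    Module.Flat.of_linearEquiv (eR q hkq)
  obtain ⟨_, ⟨g₀, rfl⟩, hg₀q, hg₀W⟩ := PrimeSpectrum.isTopologicalBasis_basic_opens.exists_subset_of_mem_open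
    hqW (FlatMorOne.isOpen_flatLocus R S M')
  let Sg := Localization (Submonoid.powers g₀)
  let N := LocalizedModule (Submonoid.powers g₀) M'
  haveI : IsLocalization.Away g₀ Sg := inferInstanceAs (IsLocalization (Submonoid.powers g₀) Sg)
  haveI : Algebra.FinitePresentation S Sg := IsLocalization.Away.finitePresentation g₀
  haveI : Algebra.FinitePresentation R Sg := Algebra.FinitePresentation.trans R S Sg
  haveI : Module.Flat R N := flat_localized_powers g₀ fun p _ hp => hg₀W (show (⟨p, ‹_›⟩ : PrimeSpectrum S) ∈ _ from hp)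
  haveI : IsScalarTower R Sg N := IsScalarTower.of_algebraMap_smul fun r x => by
    rw [IsScalarTower.algebraMap_apply R S Sg, algebraMap_smul, algebraMap_smul]
  let E : Set (Ideal Sg) := {Q | ∃ (p : Ideal R) (_ : p.IsPrime), p ∈ FlatCA.weakAss R R ∧
    FlatCA.fiberIdeal p Q ∈ associatedPrimes (p.Fiber Sg) (FlatCA.fiberMod p Sg N) ∧
    (FlatCA.fiberIdeal p Q).comap (algebraMap Sg (p.Fiber Sg)) = Q}
  have hE : E.Finite := by
    refine (hR.biUnion (t := fun p => if hp : p.IsPrime then
      (haveI := hp; Ideal.comap (algebraMap Sg (p.Fiber Sg)) '' associatedPrimes (p.Fiber Sg) (FlatCA.fiberMod p Sg N))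
      else ∅) fun p _ => ?_).subset ?_
    · split_ifs with hp
      · haveI := hp
        haveI : IsNoetherianRing (p.Fiber Sg) := Algebra.FiniteType.isNoetherianRing p.ResidueField _
        haveI : Module.Finite (p.Fiber Sg) (FlatCA.fiberMod p Sg N) :=
          inferInstanceAs (Module.Finite (p.Fiber Sg) ((p.Fiber Sg) ⊗[Sg] N))
        exact (associatedPrimes.finite (p.Fiber Sg) (FlatCA.fiberMod p Sg N)).image _
      · exact Set.finite_empty
    · rintro Q ⟨p, hp, hpw, hQa, hQc⟩
      refine Set.mem_biUnion hpw ?_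
      rw [dif_pos hp]
      exact ⟨_, hQa, hQc⟩
  have hEc : ∀ Q ∈ E, ∃ b, b ∉ q.asIdeal ∧ (¬ Q.comap (algebraMap S Sg) ≤ q.asIdeal → b ∈ Q.comap (algebraMap S Sg)) := by
    intro Q _
    by_cases h : Q.comap (algebraMap S Sg) ≤ q.asIdeal
    · exact ⟨1, fun h1 => q.isPrime.ne_top ((Ideal.eq_top_iff_one _).mpr h1), fun h' => (h' h).elim⟩
    · obtain ⟨b, hb, hbq⟩ := SetLike.not_le_iff_exists.mp h
      exact ⟨b, hbq, fun _ => hb⟩
  choose! b hbq hbQ using hEc
  let g := g₀ * ∏ Q ∈ hE.toFinset, b Q
  have hgq : g ∉ q.asIdeal := by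
    intro hg
    rcases q.isPrime.mem_or_mem hg with h | h
    · exact hg₀q h
    · obtain ⟨Q, hQ, hQb⟩ := (Ideal.IsPrime.prod_mem_iff).mp h
      exact hbq Q (hE.mem_toFinset.mp hQ) hQb
  have key : ∀ q' : PrimeSpectrum S, g ∉ q'.asIdeal → ∀ u ∈ LinearMap.ker π, ∃ t ∉ q'.asIdeal, t • u ∈ U := by
    intro q' hgq' u hu
    by_contra hcon
    push Not at hcon
    have hdisj : Disjoint (Submonoid.powers g₀ : Set S) q'.asIdeal :=
      Set.disjoint_left.mpr fun s ⟨k, hk⟩ hs =>
        hgq' (Ideal.mul_mem_right _ _ (q'.isPrime.mem_of_pow_mem k ((show g₀ ^ k = s from hk) ▸ hs : g₀ ^ k ∈ q'.asIdeal)))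
    let Q' := q'.asIdeal.map (algebraMap S Sg)
    haveI hQ'p : Q'.IsPrime := IsLocalization.isPrime_of_isPrime_disjoint (Submonoid.powers g₀) Sg _ q'.isPrime hdisj
    have hQ'c : Q'.comap (algebraMap S Sg) = q'.asIdeal :=
      IsLocalization.comap_map_of_isPrime_disjoint (Submonoid.powers g₀) Sg q'.isPrime hdisj
    let x : N := LocalizedModule.mk (Submodule.Quotient.mk u) 1
    have hann : ∀ t : S, algebraMap S Sg t • x = 0 → t ∈ q'.asIdeal := by
      intro t ht
      rw [algebraMap_smul, LocalizedModule.smul'_mk, ← LocalizedModule.zero_mk (1 : Submonoid.powers g₀),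
        LocalizedModule.mk_eq] at ht
      obtain ⟨c, hc⟩ := ht
      simp only [smul_zero, one_smul, Submonoid.smul_def, smul_smul] at hc
      rw [← Submodule.Quotient.mk_smul, Submodule.Quotient.mk_eq_zero] at hc
      by_contra htq
      exact hcon ((c : S) * t) (fun hm => (q'.isPrime.mem_or_mem hm).elim (Set.disjoint_left.mp hdisj c.2) htq) hc
    have hle : (Submodule.span Sg {x}).annihilator ≤ Q' := by
      intro a ha
      obtain ⟨⟨t, s⟩, hts⟩ := IsLocalization.surj (Submonoid.powers g₀) a
      have h1 : algebraMap S Sg t • x = 0 := by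
        rw [← hts, mul_comm, mul_smul, (Submodule.mem_annihilator_span_singleton _ _).mp ha, smul_zero]
      have h2 : algebraMap S Sg t ∈ Q' := Ideal.mem_map_of_mem _ (hann t h1)
      rw [← hts] at h2
      exact (hQ'p.mem_or_mem h2).resolve_right fun hs =>
        hQ'p.ne_top (Ideal.eq_top_of_isUnit_mem _ hs (IsLocalization.map_units Sg s))
    obtain ⟨Q, hQmin, hQQ'⟩ := Ideal.exists_minimalPrimes_le hle
    haveI := hQmin.1.1
    have hQw : Q ∈ FlatCA.weakAss Sg (N ⊗[R] R) :=
      Calg5.weakAss_subset_of_injective (TensorProduct.AlgebraTensorModule.rid R Sg N).symm.toLinearMap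
        (LinearEquiv.injective _) ⟨x, hQmin⟩
    let p := Q.comap (algebraMap R Sg)
    haveI : Q.LiesOver p := ⟨rfl⟩
    have hQE : Q ∈ E := ⟨p, inferInstance, Calg3.WeakAssTensor.mem_weakAss_of_mem_weakAss_tensor N R p Q hQw,
      Calg3.WeakAssTensor.fiberIdeal_mem_associatedPrimes N R p Q hQw, Calg3.WeakAssTensor.comap_fiberIdeal p Q⟩
    have hQcq : Q.comap (algebraMap S Sg) ≤ q.asIdeal := by
      by_contra hn
      have h1 : b Q ∈ q'.asIdeal := hQ'c ▸ Ideal.comap_mono hQQ' (hbQ Q hQE hn)
      exact hgq' (Ideal.mul_mem_left _ _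
        (Ideal.mem_of_dvd _ (Finset.dvd_prod_of_mem b (hE.mem_toFinset.mpr hQE)) h1))
    obtain ⟨t, htq, htU⟩ := hkq u hu
    refine htq (hQcq (hQmin.1.2 ((Submodule.mem_annihilator_span_singleton _ _).mpr ?_)))
    rw [algebraMap_smul, LocalizedModule.smul'_mk, ← Submodule.Quotient.mk_smul,
      (Submodule.Quotient.mk_eq_zero U).mpr htU, LocalizedModule.zero_mk]
  have hflat : ∀ q' : PrimeSpectrum S, g ∉ q'.asIdeal →
      Module.Flat R (LocalizedModule q'.asIdeal.primeCompl M) := by
    intro q' hgq'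
    haveI : Module.Flat R (LocalizedModule q'.asIdeal.primeCompl M') :=
      hg₀W (show q' ∈ _ from fun h => hgq' (Ideal.mul_mem_right _ _ h))
    exact Module.Flat.of_linearEquiv (eR q' (key q' hgq')).symm
  have hkg : ∀ u ∈ LinearMap.ker π, ∃ k : ℕ, g ^ k • u ∈ U := by
    intro u hu
    let I : Ideal S := U.comap (LinearMap.toSpanSingleton S _ u)
    have hgI : g ∈ I.radical := by
      rw [Ideal.radical_eq_sInf, Ideal.mem_sInf]
      rintro p ⟨hIp, hp⟩
      by_contra hgp
      obtain ⟨t, ht, htU⟩ := key ⟨p, hp⟩ hgp u hu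
      exact ht (hIp (show t • u ∈ U from htU))
    obtain ⟨k, hk⟩ := hgI
    exact ⟨k, hk⟩
  have hbij : Function.Bijective (LocalizedModule.map (Submonoid.powers g) θ) := by
    refine ⟨(injective_iff_map_eq_zero _).mpr fun z => ?_, LocalizedModule.map_surjective _ θ
      fun y => ⟨Submodule.Quotient.mk (hπ y).choose, (hπ y).choose_spec⟩⟩
    induction z using LocalizedModule.induction_on with
    | h y s =>
      obtain ⟨y, rfl⟩ := Submodule.Quotient.mk_surjective U y
      intro hy
      rw [LocalizedModule.map_mk, show θ (Submodule.Quotient.mk y) = π y from rfl, ← LocalizedModule.zero_mk s,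
        LocalizedModule.mk_eq] at hy
      obtain ⟨w, hw⟩ := hy
      obtain ⟨k, hk⟩ := hkg (((w : S) * s) • y) (by
        rw [LinearMap.mem_ker, map_smul, mul_smul]
        simpa [Submonoid.smul_def] using hw)
      rw [← LocalizedModule.zero_mk s, LocalizedModule.mk_eq]
      refine ⟨⟨g ^ k, k, rfl⟩ * w, ?_⟩
      simp only [smul_zero, Submonoid.smul_def, Submonoid.coe_mul, smul_smul]
      rw [← Submodule.Quotient.mk_smul, Submodule.Quotient.mk_eq_zero]
      simpa [smul_smul, mul_assoc] using hk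
  haveI : Module.FinitePresentation (Localization (Submonoid.powers g)) (LocalizedModule (Submonoid.powers g) M') :=
    inferInstance
  exact ⟨g, hgq, flat_localized_powers g fun p _ hp => hflat ⟨p, ‹_›⟩ hp,
    Module.FinitePresentation.of_equiv (LinearEquiv.ofBijective _ hbij), hflat⟩

end Groth.RaynaudGruson.WeakAssFP
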