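import Groth.Agent.RaynaudGruson.FibrewiseIso
import Groth.Agent.RaynaudGruson.IntegralProjective
import Groth.Agent.RaynaudGruson.WeakAssFP
import Groth.Agent.FlatMorOne.FlatLocusOpen
import Mathlib

/-!
# Universal injectivity near a prime of the base
-/

set_option autoImplicit false
set_option linter.style.haveILetI false
universe u

namespace Groth.RaynaudGruson.FibrewiseIso

open TensorProduct

variable {R S : Type u} [CommRing R] [CommRing S] [Algebra R S] [Algebra.FinitePresentation R S]
  [Module.Flat R S] {N : Type u} [AddCommGroup N] [Module S N] [Module R N] [IsScalarTower R S N]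
  [Module.FinitePresentation S N]

/-- Flatness of a finitely presented module spreads to a basic open. -/
theorem exists_flat_powers (q : Ideal S) [q.IsPrime] (h : FlatCA.FlatAt R q N) :
    ∃ g : S, g ∉ q ∧ Module.Flat R (LocalizedModule (Submonoid.powers g) N) := by
  obtain ⟨_, ⟨_, ⟨g, rfl⟩, rfl⟩, hg, hle⟩ := PrimeSpectrum.isBasis_basic_opens.exists_subset_of_mem_open
    (u := {x : PrimeSpectrum S | Module.Flat R (LocalizedModule x.asIdeal.primeCompl N)})
    (a := ⟨q, inferInstance⟩) h (Groth.FlatMorOne.isOpen_flatLocus R S N)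
  exact ⟨g, hg, WeakAssFP.flat_localized_powers g fun Q _ hQ => hle (show (⟨Q, inferInstance⟩ : PrimeSpectrum S) ∈ _ from hQ)⟩

/-- Bijectivity at the generic point of a fibre gives universal injectivity over a basic open of the base. -/
theorem exists_univInj_powers (hgi : FlatCA.GeomIntegralFibres R S) (p : Ideal R) [p.IsPrime] (P : Ideal S)
    [P.IsPrime] (hPp : P.LiesOver p) {r : ℕ} (α : (Fin r → S) →ₗ[S] N)
    (hbij : Function.Bijective (LocalizedModule.map P.primeCompl α)) :
    ∃ f : R, f ∉ p ∧ FlatCA.UnivInj R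
      ((LocalizedModule.map (Submonoid.powers (algebraMap R S f)) α).restrictScalars R) := by
  haveI := IntegralProjective.projective_of_flat R S hgi
  obtain ⟨g, hg, hgbij⟩ := exists_bijective_map_powers P.primeCompl
    (LocalizedModule.mkLinearMap P.primeCompl (Fin r → S)) (LocalizedModule.mkLinearMap P.primeCompl N) α
    hbij
  obtain ⟨_, ⟨_, ⟨f, rfl⟩, rfl⟩, hfp, hle⟩ := PrimeSpectrum.isBasis_basic_opens.exists_subset_of_mem_open
    (u := PrimeSpectrum.comap (algebraMap R S) '' (PrimeSpectrum.basicOpen g : Set (PrimeSpectrum S)))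
    (a := ⟨p, inferInstance⟩) ⟨⟨P, inferInstance⟩, hg, PrimeSpectrum.ext hPp.over.symm⟩
    (PrimeSpectrum.isOpenMap_comap_of_hasGoingDown_of_finitePresentation _ (PrimeSpectrum.basicOpen g).2)
  refine ⟨f, hfp, ?_⟩
  set f' := algebraMap R S f with hf'
  let t := f' * g
  let U := Submonoid.powers f'
  let V := Submonoid.powers t
  let e : LocalizedModule V (Fin r → S) ≃ₗ[R] LocalizedModule V N :=
    (LinearEquiv.ofBijective (LocalizedModule.map V α) (hgbij t ⟨f', mul_comm _ _⟩)).restrictScalars R
  haveI : Module.Flat R (LocalizedModule V (Fin r → S)) := flat_localized_free V r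
  have hu : ∀ (M : Type u) [AddCommGroup M] [Module S M] (u : U),
      IsUnit (algebraMap S (Module.End S (LocalizedModule V M)) u.1) := by
    rintro M _ _ ⟨_, k, rfl⟩
    have h1 := IsLocalizedModule.map_units (LocalizedModule.mkLinearMap V M) (⟨t ^ k, Submonoid.mem_powers_iff _ _ |>.mpr ⟨k, rfl⟩⟩ : V)
    simp only [t, mul_pow, map_mul] at h1
    exact (((Commute.all (f' ^ k) (g ^ k)).map (algebraMap S (Module.End S (LocalizedModule V M)))).isUnit_mul_iff.mp
      (by simpa only [map_pow] using h1)).1
  let lN : LocalizedModule U N →ₗ[S] LocalizedModule V N :=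
    LocalizedModule.lift U (LocalizedModule.mkLinearMap V N) (hu N)
  let lF : LocalizedModule U (Fin r → S) →ₗ[S] LocalizedModule V (Fin r → S) :=
    LocalizedModule.lift U (LocalizedModule.mkLinearMap V _) (hu _)
  have hcomp : lN ∘ₗ (LocalizedModule.map U α).restrictScalars S =
      ((LocalizedModule.map V α).restrictScalars S) ∘ₗ lF := by
    refine IsLocalizedModule.ext U (LocalizedModule.mkLinearMap U _) (fun u => hu N u) ?_
    refine LinearMap.ext fun x => ?_
    simp only [LinearMap.comp_apply, LinearMap.coe_restrictScalars, lN, lF, LocalizedModule.mkLinearMap_apply,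
      LocalizedModule.map_mk]
    rw [← LocalizedModule.mkLinearMap_apply U, ← LocalizedModule.mkLinearMap_apply U, ← LinearMap.comp_apply,
      LocalizedModule.lift_comp, ← LinearMap.comp_apply (LocalizedModule.lift U _ _), LocalizedModule.lift_comp,
      LocalizedModule.mkLinearMap_apply, LocalizedModule.mkLinearMap_apply, LocalizedModule.map_mk]
  refine univInj_of_comp (g := lN.restrictScalars R) ?_
  rw [show lN.restrictScalars R ∘ₗ (LocalizedModule.map U α).restrictScalars R =
      e.toLinearMap ∘ₗ lF.restrictScalars R from LinearMap.ext fun z => LinearMap.congr_fun hcomp z]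
  refine univInj_equiv_comp e (univInj_of_pure _ fun J hJ z hz => ?_)
  induction z using LocalizedModule.induction_on with
  | h x s =>
    have h1 := smul_mem_smul_top (s : S) hz
    rw [LinearMap.coe_restrictScalars, ← map_smul, LocalizedModule.smul'_mk,
      show ((s : S) • x) = s • x from rfl, LocalizedModule.mk_cancel,
      show LocalizedModule.mk x (1 : U) = LocalizedModule.mkLinearMap U _ x from rfl,
      ← LinearMap.comp_apply, LocalizedModule.lift_comp, LocalizedModule.mkLinearMap_apply] at h1
    obtain ⟨w, ⟨k, rfl⟩, hwx⟩ := exists_smul_mem_of_mk_mem V 1 h1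
    let I : Ideal R :=
      { carrier := {c | c • x ∈ J • (⊤ : Submodule R (Fin r → S))}
        add_mem' := fun ha hb => by rw [Set.mem_ofPred_eq, add_smul]; exact add_mem ha hb
        zero_mem' := by simp
        smul_mem' := fun c a ha => by
          rw [Set.mem_ofPred_eq, smul_eq_mul, mul_smul]; exact Submodule.smul_mem _ c ha }
    have hf : f ∈ I.radical := by
      rw [Ideal.radical_eq_sInf, Submodule.mem_sInf]
      rintro p' ⟨hIp, hp'⟩
      by_contra hfp'
      obtain ⟨⟨Q, hQ⟩, hgQ, hQp⟩ := hle (show (⟨p', hp'⟩ : PrimeSpectrum R) ∈ _ from hfp')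
      have hQo : Q.LiesOver p' := ⟨(congrArg PrimeSpectrum.asIdeal hQp).symm⟩
      haveI := isPrime_map hgi p'
      have hle' : Ideal.map (algebraMap R S) p' ≤ Q := Ideal.map_le_iff_le_comap.mpr hQo.over.le
      have hP' : (Ideal.map (algebraMap R S) p').LiesOver p' :=
        ⟨le_antisymm Ideal.le_comap_map ((Ideal.comap_mono hle').trans hQo.over.ge)⟩
      have htQ : t ∉ Q := fun h => (hQ.mem_or_mem h).elim
        (fun h => hfp' (by rw [hQo.over]; exact h)) hgQ
      obtain ⟨c, hc, hcx⟩ := exists_smul_mem p' (Ideal.map (algebraMap R S) p') rfl hP' hJ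
        (fun h => htQ (hQ.mem_of_pow_mem k (hle' h))) hwx
      exact hc (hIp hcx)
    obtain ⟨n, hn⟩ := hf
    have hn' : (f' ^ n) • x ∈ J • (⊤ : Submodule R (Fin r → S)) := by
      rw [hf', ← map_pow, algebraMap_smul]; exact hn
    have h2 := mk_mem_smul_top U (⟨f' ^ n, n, rfl⟩ * s) hn'
    rwa [show f' ^ n • x = (⟨f' ^ n, n, rfl⟩ : U) • x from rfl, LocalizedModule.mk_cancel_common_left] at h2

end Groth.RaynaudGruson.FibrewiseIso
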