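import Groth.Agent.RaynaudGruson.WeakAssFlatAt
import Groth.Agent.FlatMorOne.FlatnessCriteria
import Groth.Agent.FlatMorOne.FlatLocusCriterion
import Groth.Agent.FlatMorOne.FlatLocusDescent
import Mathlib

/-!
Over a Noetherian base, flatness at a point follows from flatness at the associated points of its fibre
generalizing it.
-/

set_option autoImplicit false
universe u

open TensorProduct

namespace Groth.RaynaudGruson.FlatAtAss

variable {R S : Type u} [CommRing R] [CommRing S] [Algebra R S]
  (N : Type u) [AddCommGroup N] [Module S N] [Module R N] [IsScalarTower R S N]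

theorem exists_component {T M ι : Type u} [CommRing T] [AddCommGroup M] [Module T M] {q : Ideal T} [q.IsPrime]
    (w : ι →₀ M) (hw : q ∈ (Submodule.span T {w}).annihilator.minimalPrimes) : q ∈ FlatCA.weakAss T M := by
  classical
  have hann : (Submodule.span T {w}).annihilator = ⨅ i ∈ w.support, (Submodule.span T {w i}).annihilator := by
    ext r
    simp only [Submodule.mem_annihilator_span_singleton, Submodule.mem_iInf]
    constructor
    · intro h i _
      rw [← Finsupp.smul_apply, h, Finsupp.zero_apply]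
    · intro h
      ext i
      by_cases hi : i ∈ w.support
      · exact h i hi
      · rw [Finsupp.smul_apply, Finsupp.notMem_support_iff.mp hi, smul_zero, Finsupp.zero_apply]
  obtain ⟨i, hi, hiq⟩ : ∃ i ∈ w.support, (Submodule.span T {w i}).annihilator ≤ q := by
    have h := hw.1.2
    rw [hann, ← Finset.inf_eq_iInf] at h
    exact (Ideal.IsPrime.inf_le' inferInstance).mp h
  refine ⟨w i, ⟨inferInstance, hiq⟩, fun P hP hPq => hw.2 ⟨hP.1, le_trans ?_ hP.2⟩ hPq⟩
  rw [hann]
  exact iInf₂_le i hi

variable [Algebra.FiniteType R S] [Module.Finite S N]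

theorem fiberAss_of_smul_zero (p : Ideal R) [p.IsPrime] (q : Ideal S) [q.IsPrime] [q.LiesOver p]
    (X : Type u) [AddCommGroup X] [Module R X] (hX : ∀ a ∈ p, ∀ x : X, a • x = 0)
    (hq : q ∈ FlatCA.weakAss S (N ⊗[R] X)) :
    FlatCA.fiberIdeal p q ∈ associatedPrimes (p.Fiber S) (FlatCA.fiberMod p S N) := by
  classical
  let Rp := Localization.AtPrime p
  let Y := LocalizedModule p.primeCompl X
  let loc : X →ₗ[R] Y := LocalizedModule.mkLinearMap p.primeCompl X
  let φ : N ⊗[R] X →ₗ[S] N ⊗[R] Y := AlgebraTensorModule.lTensor S N loc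
  have hunit : ∀ c : p.primeCompl, algebraMap R S c ∉ q := fun c h => c.2 ((Ideal.mem_of_liesOver q p (c : R)).mpr h)
  have hcomm : ∀ x : N ⊗[R] X, AlgebraTensorModule.rTensor R N loc (TensorProduct.comm R N X x) =
      TensorProduct.comm R N Y (φ x) := fun x => by
    induction x with
    | zero => simp
    | tmul a b => simp [φ]
    | add a b ha hb => simp only [map_add, ha, hb]
  haveI : IsLocalizedModule p.primeCompl (AlgebraTensorModule.rTensor R N loc) := inferInstance
  have hqY : q ∈ FlatCA.weakAss S (N ⊗[R] Y) := by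
    refine (WeakAssFlatAt.mem_weakAss_iff_of_local φ q (fun x hx => ?_) fun y => ?_).mp hq
    · obtain ⟨c, hc⟩ := (IsLocalizedModule.eq_zero_iff p.primeCompl (AlgebraTensorModule.rTensor R N loc)).mp
        (show AlgebraTensorModule.rTensor R N loc (TensorProduct.comm R N X x) = 0 by rw [hcomm, hx, map_zero])
      refine ⟨algebraMap R S c, hunit c, (TensorProduct.comm R N X).injective ?_⟩
      rw [algebraMap_smul, map_smul, map_zero]
      exact hc
    · obtain ⟨⟨w, c⟩, hw⟩ := IsLocalizedModule.surj p.primeCompl (AlgebraTensorModule.rTensor R N loc)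
        (TensorProduct.comm R N Y y)
      refine ⟨algebraMap R S c, hunit c, (TensorProduct.comm R N X).symm w, (TensorProduct.comm R N Y).injective ?_⟩
      rw [← hcomm, LinearEquiv.apply_symm_apply, algebraMap_smul, map_smul]
      exact hw.symm
  have hle : IsLocalRing.maximalIdeal Rp ≤ Module.annihilator Rp Y := by
    rw [← Localization.AtPrime.map_eq_maximalIdeal, Ideal.map_le_iff_le_comap]
    intro a ha
    rw [Ideal.mem_comap, Module.mem_annihilator]
    intro y
    induction y using LocalizedModule.induction_on with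
    | h x s => rw [algebraMap_smul, LocalizedModule.smul'_mk, hX a ha x, LocalizedModule.zero_mk]
  have hY : Module.IsTorsionBySet Rp Y (IsLocalRing.maximalIdeal Rp : Set Rp) := fun y a =>
    Module.mem_annihilator.mp (hle a.2) y
  letI : Module p.ResidueField Y := hY.module
  haveI : IsScalarTower R p.ResidueField Y := IsScalarTower.of_algebraMap_smul fun a y => by
    exact (hY.mk_smul (algebraMap R Rp a) y).trans (algebraMap_smul Rp a y)
  let b := Module.Free.chooseBasis p.ResidueField Y
  let e : N ⊗[R] Y ≃ₗ[S] (Module.Free.ChooseBasisIndex p.ResidueField Y →₀ N ⊗[R] p.ResidueField) :=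
    (AlgebraTensorModule.congr (LinearEquiv.refl S N) (b.repr.restrictScalars R)).trans
      (TensorProduct.finsuppRight R S N p.ResidueField _)
  obtain ⟨z, hz⟩ := hqY
  refine (WeakAssFlatAt.fiberIdeal_mem_associatedPrimes_iff (N := N) (p := p) (q := q)).mpr (exists_component (e z) ?_)
  convert hz using 3
  ext r
  simp only [Submodule.mem_annihilator_span_singleton, ← map_smul, LinearEquiv.map_eq_zero_iff]

/-- The module is killed at `q` as soon as it is killed at the associated points of the fibre below `q`. -/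
theorem exists_smul_eq_zero_of_pow (p : Ideal R) [p.IsPrime] (q : Ideal S) [q.IsPrime] [q.LiesOver p]
    (hflat : ∀ (q' : Ideal S) [q'.IsPrime], q' ≤ q → q'.LiesOver p →
      FlatCA.fiberIdeal p q' ∈ associatedPrimes (p.Fiber S) (FlatCA.fiberMod p S N) → FlatCA.FlatAt R q' N) :
    ∀ (k : ℕ) (X : Type u) [AddCommGroup X] [Module R X], (∀ a ∈ p ^ k, ∀ x : X, a • x = 0) →
      ∀ z : N ⊗[R] X, (∀ (q' : Ideal S) [q'.IsPrime], q' ≤ q → q'.LiesOver p →
        FlatCA.fiberIdeal p q' ∈ associatedPrimes (p.Fiber S) (FlatCA.fiberMod p S N) → ∃ u ∉ q', u • z = 0) →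
      ∃ u ∉ q, u • z = 0 := by
  have base : ∀ (X : Type u) [AddCommGroup X] [Module R X], (∀ a ∈ p, ∀ x : X, a • x = 0) →
      ∀ z : N ⊗[R] X, (∀ (q' : Ideal S) [q'.IsPrime], q' ≤ q → q'.LiesOver p →
        FlatCA.fiberIdeal p q' ∈ associatedPrimes (p.Fiber S) (FlatCA.fiberMod p S N) → ∃ u ∉ q', u • z = 0) →
      ∃ u ∉ q, u • z = 0 := by
    intro X _ _ hX z hz
    by_contra hno
    push Not at hno
    have hle : (Submodule.span S {z}).annihilator ≤ q := fun r hr => by_contra fun hrq =>
      hno r hrq ((Submodule.mem_annihilator_span_singleton _ _).mp hr)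
    obtain ⟨q', hq', hq'q⟩ := Ideal.exists_minimalPrimes_le hle
    haveI := hq'.1.1
    have hpz : ∀ (a : R), a ∈ p → algebraMap R S a ∈ (Submodule.span S {z}).annihilator := fun a ha => by
      rw [Submodule.mem_annihilator_span_singleton, algebraMap_smul]
      clear hz hno hle hq'
      induction z with
      | zero => simp
      | tmul n x => rw [← TensorProduct.tmul_smul, hX a ha, TensorProduct.tmul_zero]
      | add u v hu hv => rw [smul_add, hu, hv, add_zero]
    have hover : q'.LiesOver p := ⟨le_antisymm (fun a ha => hq'.1.2 (hpz a ha))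
      ((Ideal.comap_mono hq'q).trans_eq (Ideal.LiesOver.over (P := q) (p := p)).symm)⟩
    haveI := hover
    obtain ⟨u, hu, huz⟩ := hz q' hq'q hover (fiberAss_of_smul_zero N p q' X hX ⟨z, hq'⟩)
    exact hu (hq'.1.2 ((Submodule.mem_annihilator_span_singleton _ _).mpr huz))
  intro k
  induction k with
  | zero =>
    intro X _ _ hX z _
    refine ⟨1, fun h => (inferInstance : q.IsPrime).ne_top ((Ideal.eq_top_iff_one q).mpr h), ?_⟩
    haveI : Subsingleton X := subsingleton_of_forall_eq 0 fun x => by
      simpa using hX 1 (by simp) x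
    exact Subsingleton.elim _ _
  | succ k ih =>
    intro X _ _ hX z hz
    let X₁ : Submodule R X := p ^ k • ⊤
    have hX₁ : ∀ a ∈ p, ∀ x : X₁, a • x = 0 := by
      rintro a ha ⟨x, hx⟩
      apply Subtype.ext
      show a • x = 0
      refine Submodule.smul_induction_on hx (fun r hr m _ => ?_) fun x y hx hy => by rw [smul_add, hx, hy, add_zero]
      rw [smul_smul]
      exact hX _ (by rw [pow_succ']; exact Ideal.mul_mem_mul ha hr) _
    have hX₂ : ∀ a ∈ p ^ k, ∀ x : X ⧸ X₁, a • x = 0 := fun a ha x => by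
      obtain ⟨x, rfl⟩ := Submodule.Quotient.mk_surjective _ x
      exact (Submodule.Quotient.mk_eq_zero _).mpr (Submodule.smul_mem_smul ha trivial)
    let π : N ⊗[R] X →ₗ[S] N ⊗[R] (X ⧸ X₁) := AlgebraTensorModule.lTensor S N X₁.mkQ
    let ι : N ⊗[R] X₁ →ₗ[S] N ⊗[R] X := AlgebraTensorModule.lTensor S N X₁.subtype
    obtain ⟨u₀, hu₀, h₀⟩ := ih (X ⧸ X₁) hX₂ (π z) fun q' _ h1 h2 h3 => by
      obtain ⟨u, hu, huz⟩ := hz q' h1 h2 h3
      exact ⟨u, hu, by rw [← map_smul, huz, map_zero]⟩
    obtain ⟨y, hy⟩ := (lTensor_exact N (LinearMap.exact_subtype_mkQ X₁) X₁.mkQ_surjective (u₀ • z)).mp (by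
      show π (u₀ • z) = 0
      rw [map_smul, h₀])
    have hy' : ι y = u₀ • z := hy
    obtain ⟨u₁, hu₁, h₁⟩ := base X₁ hX₁ y fun q' _ h1 h2 h3 => by
      obtain ⟨u, hu, huz⟩ := hz q' h1 h2 h3
      haveI : Module.Flat R (LocalizedModule q'.primeCompl N) := hflat q' h1 h2 h3
      obtain ⟨s, hs, hsy⟩ := FlatMorOne.exists_smul_eq_zero_of_flat_localized q' X₁.subtype Subtype.val_injective
        (u • y) (by
          show ι (u • y) = 0
          rw [map_smul, hy', smul_comm, huz, smul_zero])
      exact ⟨s * u, fun h => ((inferInstance : q'.IsPrime).mem_or_mem h).elim hs hu, by rw [mul_smul, hsy]⟩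
    refine ⟨u₁ * u₀, fun h => ((inferInstance : q.IsPrime).mem_or_mem h).elim hu₁ hu₀, ?_⟩
    rw [mul_smul, ← hy', ← map_smul, h₁, map_zero]

/-- **Flatness is detected at the associated points of the fibre.** -/
theorem flatAt_of_fiberAss [IsNoetherianRing R] (p : Ideal R) [p.IsPrime] (q : Ideal S) [q.IsPrime] [q.LiesOver p]
    (hflat : ∀ (q' : Ideal S) [q'.IsPrime], q' ≤ q → q'.LiesOver p →
      FlatCA.fiberIdeal p q' ∈ associatedPrimes (p.Fiber S) (FlatCA.fiberMod p S N) → FlatCA.FlatAt R q' N) :
    FlatCA.FlatAt R q N := by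
  haveI : IsNoetherianRing S := Algebra.FiniteType.isNoetherianRing R S
  haveI : IsNoetherianRing (Localization.AtPrime q) := IsLocalization.isNoetherianRing q.primeCompl _ inferInstance
  show Module.Flat R (LocalizedModule q.primeCompl N)
  refine FlatMorOne.flat_of_forall_flat_mod_pow (S := Localization.AtPrime q) p ?_ fun k _ J _ => ?_
  · rw [IsLocalRing.jacobson_eq_maximalIdeal _ bot_ne_top, Ideal.map_le_iff_le_comap]
    intro a ha
    rw [Ideal.mem_comap, IsScalarTower.algebraMap_apply R S (Localization.AtPrime q)]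
    exact (IsLocalization.AtPrime.to_map_mem_maximal_iff (Localization.AtPrime q) q _).mpr
      ((Ideal.mem_of_liesOver q p a).mp ha)
  · let W := Submodule.map (p ^ k).mkQ J
    refine FlatMorOne.lTensor_localized_injective_of_killed q.primeCompl W.subtype fun z hz => ?_
    have hW : ∀ a ∈ p ^ k, ∀ x : W, a • x = 0 := by
      rintro a ha ⟨x, hx⟩
      apply Subtype.ext
      show a • x = 0
      obtain ⟨x, rfl⟩ := Submodule.Quotient.mk_surjective _ x
      exact (Submodule.Quotient.mk_eq_zero _).mpr (Ideal.mul_mem_right _ _ ha)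
    exact exists_smul_eq_zero_of_pow N p q hflat k W hW z fun q' _ h1 h2 h3 => by
      haveI : Module.Flat R (LocalizedModule q'.primeCompl N) := hflat q' h1 h2 h3
      exact FlatMorOne.exists_smul_eq_zero_of_flat_localized q' W.subtype Subtype.val_injective z hz

end Groth.RaynaudGruson.FlatAtAss
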