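import Groth.Agent.RaynaudGruson.AssassinTorsion
import Groth.Agent.RaynaudGruson.WeakAssFlatAt
import Groth.Agent.RaynaudGruson.DomainFP
import Groth.Agent.FlatMor2.FibCrit.General
import Mathlib

/-!
An associated point of a fibre and a point of flatness in its closure: generic points of the fibres of
the closure are associated points, and transcendence degrees do not go up.
-/

set_option autoImplicit false
set_option linter.style.haveILetI false
universe u

open TensorProduct

namespace Groth.RaynaudGruson.FlatClosureAss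

attribute [local instance] Algebra.TensorProduct.rightAlgebra

variable {R S : Type u} [CommRing R] [CommRing S] [Algebra R S] [Algebra.FiniteType R S]
  (N : Type u) [AddCommGroup N] [Module S N] [Module R N] [IsScalarTower R S N] [Module.Finite S N]

/-- An associated prime of a fibre is an exact annihilator in `N ⊗ κ`. -/
theorem exists_ann_eq (p : Ideal R) [p.IsPrime] (P : Ideal S) [P.IsPrime] [P.LiesOver p]
    (hP : FlatCA.fiberIdeal p P ∈ associatedPrimes (p.Fiber S) (FlatCA.fiberMod p S N)) :
    ∃ z : N ⊗[R] p.ResidueField, ∀ s : S, s • z = 0 ↔ s ∈ P := by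
  haveI : IsNoetherianRing (p.Fiber S) := Algebra.FiniteType.isNoetherianRing p.ResidueField _
  haveI : IsScalarTower S (p.Fiber S) (FlatCA.fiberMod p S N) :=
    inferInstanceAs (IsScalarTower S (p.Fiber S) (p.Fiber S ⊗[S] N))
  obtain ⟨-, m, hm⟩ := Groth.Calg5.mem_ass_iff.mp (mem_ass_of_mem_associatedPrimes hP)
  obtain ⟨ρ, hρ⟩ := Calg3.WeakAssTensor.exists_fiberMod_equiv (S := S) N p
  refine ⟨ρ m, fun s => ?_⟩
  rw [← hρ, AddEquiv.map_eq_zero_iff, ← algebraMap_smul (p.Fiber S) s m, ← hm, ← Ideal.mem_comap,
    Calg3.WeakAssTensor.comap_fiberIdeal p P]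

/-- A point of flatness, minimal over an associated point of a fibre within its own fibre, is associated. -/
theorem fiberIdeal_mem_of_minimal (p₀ : Ideal R) [p₀.IsPrime] (P : Ideal S) [P.IsPrime] [P.LiesOver p₀]
    (hP : FlatCA.fiberIdeal p₀ P ∈ associatedPrimes (p₀.Fiber S) (FlatCA.fiberMod p₀ S N))
    (p : Ideal R) [p.IsPrime] (q : Ideal S) [q.IsPrime] [q.LiesOver p] (hle : P ≤ q)
    (hflat : FlatCA.FlatAt R q N)
    (hmin : ∀ (Q : Ideal S) [Q.IsPrime], P ≤ Q → Q ≤ q → Q.LiesOver p → Q = q) :
    FlatCA.fiberIdeal p q ∈ associatedPrimes (p.Fiber S) (FlatCA.fiberMod p S N) := by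
  obtain ⟨z, hz⟩ := exists_ann_eq N p₀ P hP
  obtain ⟨Q, hQp, hQl, hQq, hann, hass⟩ :=
    AssassinTorsion.exists_assoc_le N p q hflat _ z fun s hs => hle ((hz s).mp hs)
  haveI := hQp
  have := hmin Q (fun s hs => hann s ((hz s).mpr hs)) hQq hQl
  subst this
  exact hass

/-- Injectivity of multiplication by an element of a flat algebra of the base change. -/
theorem smul_injective_of_flat {B M K : Type u} [CommRing B] [Algebra R B] [AddCommGroup M] [Module B M]
    [Module R M] [IsScalarTower R B M] [Module.Flat B M] [AddCommGroup K] [Module R K] (g : B)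
    (hg : Function.Injective fun w : B ⊗[R] K => g • w) :
    Function.Injective fun w : M ⊗[R] K => g • w := by
  let e := AlgebraTensorModule.cancelBaseChange R B B M K
  intro a b hab
  obtain ⟨a, rfl⟩ := e.surjective a
  obtain ⟨b, rfl⟩ := e.surjective b
  have key : ∀ c : M ⊗[B] (B ⊗[R] K), (LinearMap.lsmul B (B ⊗[R] K) g).lTensor M c = g • c := fun c => by
    induction c with
    | zero => simp
    | add x y hx hy => rw [map_add, hx, hy, smul_add]
    | tmul m w => rw [LinearMap.lTensor_tmul, LinearMap.lsmul_apply, tmul_smul]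
  simp only [← map_smul] at hab
  refine congrArg e (Module.Flat.lTensor_preserves_injective_linearMap (M := M)
    (LinearMap.lsmul B (B ⊗[R] K) g) hg ?_)
  rw [key, key]
  exact e.injective hab

set_option synthInstance.maxHeartbeats 200000 in
set_option maxHeartbeats 1000000 in
/-- Algebraic independence modulo the fibre at a point of flatness generalizes to associated points of fibres. -/
theorem mem_map_C_of_indep (p₀ : Ideal R) [p₀.IsPrime] (P : Ideal S) [P.IsPrime] [P.LiesOver p₀]
    (hP : FlatCA.fiberIdeal p₀ P ∈ associatedPrimes (p₀.Fiber S) (FlatCA.fiberMod p₀ S N))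
    (p : Ideal R) [p.IsPrime] (q : Ideal S) [q.IsPrime] [q.LiesOver p] (hle : P ≤ q)
    (hflat : FlatCA.FlatAt R q N) {ι : Type u} [Finite ι] (t : ι → S)
    (hind : ∀ g : MvPolynomial ι R, MvPolynomial.aeval t g ∈ q → g ∈ p.map MvPolynomial.C)
    (g : MvPolynomial ι R) (hg : MvPolynomial.aeval t g ∈ P) : g ∈ p₀.map MvPolynomial.C := by
  classical
  obtain ⟨z, hz⟩ := exists_ann_eq N p₀ P hP
  obtain ⟨n, π, hπ⟩ := Algebra.FiniteType.iff_quotient_mvPolynomial''.mp ‹Algebra.FiniteType R S›
  let C := MvPolynomial (Fin n) R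
  let B := MvPolynomial ι R
  letI : Algebra C S := π.toRingHom.toAlgebra
  haveI : IsScalarTower R C S := IsScalarTower.of_algebraMap_eq fun r => (π.commutes r).symm
  letI : Module C N := Module.compHom N π.toRingHom
  haveI : IsScalarTower C S N := IsScalarTower.of_algebraMap_smul fun _ _ => rfl
  haveI : IsScalarTower R C N := IsScalarTower.of_algebraMap_smul fun r x => by
    show π (algebraMap R C r) • x = r • x
    rw [AlgHom.commutes, algebraMap_smul]
  haveI : Module.Finite C S := Module.Finite.of_surjective (Algebra.linearMap C S) hπ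
  haveI : Module.Finite C N := Module.Finite.trans S N
  let qC : Ideal C := q.comap π.toRingHom
  haveI : qC.IsPrime := Ideal.IsPrime.comap _
  haveI hqC : Module.Flat R (LocalizedModule qC.primeCompl N) :=
    (FlatPred.flatAt_iff qC).mpr (((FlatPred.flatAt_iff q).mp hflat).of_dvd fun u hu => by
      obtain ⟨w, rfl⟩ := hπ u
      exact ⟨w, 1, hu, fun m => one_smul _ _⟩)
  choose t' ht' using fun i => hπ (t i)
  let φ : B →ₐ[R] C := MvPolynomial.aeval t'
  have hφ : ∀ b : B, π (φ b) = MvPolynomial.aeval t b := fun b =>
    AlgHom.congr_fun (show π.comp φ = MvPolynomial.aeval t by ext i; simp [φ, ht']) b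
  letI : Algebra B C := φ.toRingHom.toAlgebra
  haveI : IsScalarTower R B C := IsScalarTower.of_algebraMap_eq fun r => (φ.commutes r).symm
  obtain ⟨m, ρ, hρ⟩ := Module.Finite.exists_fin' C N
  obtain ⟨U, hUfg, hUle, hk⟩ := DomainFP.exists_relations_at ρ hρ ⟨qC, inferInstance⟩ hqC
  let N' := (Fin m → C) ⧸ U
  haveI : Module.FinitePresentation C N' :=
    Module.finitePresentation_of_surjective _ U.mkQ_surjective (by rwa [Submodule.ker_mkQ])
  let θ : N' →ₗ[C] N := U.liftQ ρ hUle
  let Mq := LocalizedModule qC.primeCompl N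
  let e := LinearEquiv.ofBijective (LocalizedModule.map qC.primeCompl θ)
    (DomainFP.bijective_localized ρ hρ U hUle ⟨qC, inferInstance⟩ hk)
  let ℓ : N' →ₗ[C] Mq := (e.restrictScalars C).toLinearMap ∘ₗ LocalizedModule.mkLinearMap qC.primeCompl N'
  haveI : IsLocalizedModule qC.primeCompl ℓ := inferInstance
  -- the localised rings
  let Cq := Localization.AtPrime qC
  let r : Ideal B := qC.under B
  let Br := Localization.AtPrime r
  letI : Algebra Br Cq := (Localization.localRingHom r qC (algebraMap B C) rfl).toAlgebra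
  haveI : IsScalarTower B Br Cq := IsScalarTower.of_algebraMap_eq fun b => by
    rw [RingHom.algebraMap_toAlgebra, Localization.localRingHom_to_map]
    exact IsScalarTower.algebraMap_apply B C Cq b
  letI : Module B Mq := Module.compHom Mq (algebraMap B C)
  haveI : IsScalarTower B C Mq := IsScalarTower.of_algebraMap_smul fun _ _ => rfl
  letI : Module Br Mq := Module.compHom Mq (algebraMap Br Cq)
  haveI : IsScalarTower Br Cq Mq := IsScalarTower.of_algebraMap_smul fun _ _ => rfl
  haveI : IsScalarTower B Br Mq := IsScalarTower.of_algebraMap_smul fun b x => by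
    show algebraMap Br Cq (algebraMap B Br b) • x = algebraMap B C b • x
    rw [← IsScalarTower.algebraMap_apply B Br Cq, IsScalarTower.algebraMap_apply B C Cq, algebraMap_smul]
  haveI : IsScalarTower R B Mq := IsScalarTower.of_algebraMap_smul fun a x => by
    show algebraMap B C (algebraMap R B a) • x = a • x
    rw [← IsScalarTower.algebraMap_apply R B C, algebraMap_smul]
  letI : Module B N' := Module.compHom N' (algebraMap B C)
  haveI : IsScalarTower B C N' := IsScalarTower.of_algebraMap_smul fun _ _ => rfl
  haveI : IsScalarTower R B N' := IsScalarTower.of_algebraMap_smul fun a x => by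
    show algebraMap B C (algebraMap R B a) • x = a • x
    rw [← IsScalarTower.algebraMap_apply R B C, algebraMap_smul]
  haveI : Nontrivial Mq := by
    by_contra hnt
    rw [not_nontrivial_iff_subsingleton] at hnt
    have h0 : AlgebraTensorModule.rTensor R p₀.ResidueField (LocalizedModule.mkLinearMap qC.primeCompl N) z = 0 :=
      Subsingleton.elim _ _
    obtain ⟨u, hu⟩ := (IsLocalizedModule.eq_zero_iff qC.primeCompl _).mp h0
    rw [Submonoid.smul_def, ← algebraMap_smul S (u : C) z] at hu
    exact u.2 (hle ((hz _).mp hu))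
  -- the fibre over the base point is a field
  have hqp : qC.under R = p := by
    show (q.comap π.toRingHom).comap (algebraMap R C) = p
    rw [Ideal.comap_comap, show π.toRingHom.comp (algebraMap R C) = algebraMap R S from π.comp_algebraMap]
    exact Ideal.LiesOver.over.symm
  have hr : r = p.map (algebraMap R B) := by
    refine le_antisymm (fun b hb => hind b ?_) (Ideal.map_le_iff_le_comap.mpr fun a ha => ?_)
    · rw [← hφ]
      exact hb
    · show algebraMap B C (algebraMap R B a) ∈ qC
      rw [← IsScalarTower.algebraMap_apply R B C]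
      exact show a ∈ qC.under R from hqp.symm ▸ ha
  have hI : ((qC.under R).map (algebraMap R Br)).IsMaximal := by
    rw [hqp, IsScalarTower.algebraMap_eq R B Br, ← Ideal.map_map, ← hr,
      IsLocalization.AtPrime.map_eq_maximalIdeal r Br]
    exact IsLocalRing.maximalIdeal.isMaximal _
  have hfib : Module.Flat (Br ⧸ (qC.under R).map (algebraMap R Br))
      (Mq ⧸ ((qC.under R).map (algebraMap R Br) • ⊤ : Submodule Br Mq)) := by
    letI := Ideal.Quotient.field ((qC.under R).map (algebraMap R Br))
    infer_instance
  obtain ⟨-, hflB⟩ := Groth.FlatMor2.FibCrit.criterion (A := R) (B := B) (C := C) (M := N') qC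
    (Br := Br) (Cq := Cq) (Mq := Mq) ℓ hfib
  haveI := hflB
  -- multiplication by `g`
  by_contra hne
  have hginj : Function.Injective fun w : B ⊗[R] p₀.ResidueField => g • w := by
    let ε := (Algebra.TensorProduct.comm R B p₀.ResidueField).trans
      ((MvPolynomial.algebraTensorAlgEquiv (σ := ι) R p₀.ResidueField).restrictScalars R)
    intro a b hab
    refine ε.injective ?_
    have hg0 : ε (g ⊗ₜ[R] 1) ≠ 0 := fun h0 => hne <| by
      rw [MvPolynomial.mem_map_C_iff]
      intro d
      have h1 := congrArg (MvPolynomial.coeff d) h0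
      simp only [ε, AlgEquiv.trans_apply, Algebra.TensorProduct.comm_tmul, AlgEquiv.restrictScalars_apply,
        MvPolynomial.coeff_zero] at h1
      erw [MvPolynomial.algebraTensorAlgEquiv_tmul, one_smul, MvPolynomial.coeff_map] at h1
      exact Ideal.algebraMap_residueField_eq_zero.mp h1
    have hmul : ∀ w : B ⊗[R] p₀.ResidueField, g • w = (g ⊗ₜ[R] (1 : p₀.ResidueField)) * w := fun w => by
      induction w with
      | zero => simp
      | add x y hx hy => rw [smul_add, hx, hy, mul_add]
      | tmul b c => rw [Algebra.TensorProduct.tmul_mul_tmul, one_mul, smul_tmul', smul_eq_mul]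
    simp only [hmul] at hab
    have := congrArg ε hab
    rw [map_mul, map_mul] at this
    exact mul_left_cancel₀ hg0 this
  let z₁ : Mq ⊗[R] p₀.ResidueField :=
    AlgebraTensorModule.rTensor R p₀.ResidueField (LocalizedModule.mkLinearMap qC.primeCompl N) z
  have hgz : g • z₁ = 0 := by
    rw [← algebraMap_smul C g z₁, ← map_smul, ← algebraMap_smul S (algebraMap B C g) z]
    rw [show algebraMap C S (algebraMap B C g) = MvPolynomial.aeval t g from hφ g, (hz _).mpr hg, map_zero]
  have hz₁ : z₁ = 0 := smul_injective_of_flat (R := R) g hginj (show g • z₁ = g • 0 by rw [hgz, smul_zero])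
  obtain ⟨u, hu⟩ := (IsLocalizedModule.eq_zero_iff qC.primeCompl _).mp hz₁
  rw [Submonoid.smul_def, ← algebraMap_smul S (u : C) z] at hu
  exact u.2 (hle ((hz _).mp hu))

end Groth.RaynaudGruson.FlatClosureAss
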