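import Groth.Agent.RaynaudGruson.GenericFreeIdeal
import Groth.Agent.RaynaudGruson.DevissageOps
import Groth.Agent.Flatmor4.FreeFibreGen
import Groth.Agent.FlatMorOne.GoodLocus
import Groth.Agent.Misc3Fitt.Props
import Groth.Agent.Misc3Fitt.Local
import Mathlib

/-!
Charts for the functor of freeness of given rank at the generic points of the fibres.
-/

set_option autoImplicit false
set_option linter.style.haveILetI false
universe u

open CategoryTheory CategoryTheory.Limits AlgebraicGeometry TensorProduct Opposite TopologicalSpace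
  Groth.QCohMod Groth.PropsBasic.FPSections

namespace Groth.RaynaudGruson.GenericFreeScheme

section Algebra

variable {R M L N L' N' : Type u} [CommRing R] [AddCommGroup M] [Module R M] (S : Submonoid R)
  [CommRing L] [Algebra R L] [IsLocalization S L] [AddCommGroup N] [Module R N] [Module L N] [IsScalarTower R L N]
  (l : M →ₗ[R] N) [IsLocalizedModule S l] {p : ℕ}

include l in
/-- Generation of a localized module by `p` elements, read before localizing. -/
theorem exists_span_iff : (∃ g : Fin p → N, Submodule.span L (Set.range g) = ⊤) ↔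
    ∃ v : Fin p → M, ∀ m : M, ∃ s ∈ S, s • m ∈ Submodule.span R (Set.range v) := by
  constructor
  · rintro ⟨g, hg⟩
    choose ms hms using fun i => IsLocalizedModule.surj S l (g i)
    let v : Fin p → M := fun i => (ms i).1
    refine ⟨v, fun m => ?_⟩
    have hm : l m ∈ Submodule.span L (Set.range fun i => l (v i)) := by
      suffices h : Submodule.span L (Set.range g) ≤ Submodule.span L (Set.range fun i => l (v i)) from
        h (hg ▸ Submodule.mem_top)
      rw [Submodule.span_le]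
      rintro _ ⟨i, rfl⟩
      have e := hms i
      rw [Submonoid.smul_def, ← algebraMap_smul L ((ms i).2 : R)] at e
      rw [SetLike.mem_coe, ← Submodule.smul_mem_iff_of_isUnit _ (IsLocalization.map_units L (ms i).2), e]
      exact Submodule.subset_span ⟨i, rfl⟩
    rw [Set.range_comp' l v, ← Submodule.localized'_span L S l] at hm
    obtain ⟨q, hq, s, hqs⟩ := hm
    rw [IsLocalizedModule.mk'_eq_iff] at hqs
    obtain ⟨c, hc⟩ := (IsLocalizedModule.eq_iff_exists S l).mp (hqs.trans (map_smul l (s : R) m).symm)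
    refine ⟨c * s, (c * s).2, ?_⟩
    simp only [Submonoid.smul_def] at hc
    rw [mul_smul, ← hc]
    exact Submodule.smul_mem _ _ hq
  · rintro ⟨v, hv⟩
    refine ⟨fun i => l (v i), eq_top_iff.mpr fun z _ => ?_⟩
    obtain ⟨⟨m, t⟩, hz⟩ := IsLocalizedModule.surj S l z
    obtain ⟨s, hs, hsm⟩ := hv m
    rw [← Submodule.smul_mem_iff_of_isUnit _
      (IsLocalization.map_units L (⟨s, hs⟩ * t : S)), algebraMap_smul, Submonoid.coe_mul, mul_smul]
    rw [Submonoid.smul_def] at hz
    rw [hz, ← map_smul]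
    have h1 := Submodule.mem_map_of_mem (f := l) hsm
    rw [Submodule.map_span, ← Set.range_comp] at h1
    exact Submodule.span_le_restrictScalars R L _ h1

variable [CommRing L'] [Algebra R L'] [IsLocalization S L'] [AddCommGroup N'] [Module R N'] [Module L' N']
  [IsScalarTower R L' N'] (l' : M →ₗ[R] N') [IsLocalizedModule S l']

include l l' S in
/-- A basis does not depend on the choice of the localization. -/
theorem basis_transfer (b : Module.Basis (Fin p) L N) : Nonempty (Module.Basis (Fin p) L' N') := by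
  let φ : L ≃ₐ[R] L' := IsLocalization.algEquiv S L L'
  letI : Module L N' := Module.compHom N' φ.toRingEquiv.toRingHom
  haveI : IsScalarTower R L N' := .of_algebraMap_smul fun r x => by
    show φ (algebraMap R L r) • x = r • x
    rw [AlgEquiv.commutes, algebraMap_smul]
  let e := IsLocalizedModule.linearEquiv S l l'
  let e' := e.extendScalarsOfIsLocalization S L
  exact ⟨(b.map e').mapCoeffs φ.toRingEquiv fun c x => rfl⟩

end Algebra

section Generators

variable {X : Scheme.{u}} (F : X.Modules) [F.IsQuasicoherent] {p : ℕ}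

omit [F.IsQuasicoherent] in
/-- Generators are transported along an equality of opens. -/
theorem span_congr {D D' : X.Opens} (e : D = D')
    (h : ∃ v : Fin p → Γ(F, D), Submodule.span Γ(X, D) (Set.range v) = ⊤) :
    ∃ v : Fin p → Γ(F, D'), Submodule.span Γ(X, D') (Set.range v) = ⊤ := e ▸ h

/-- Generators restrict to basic opens. -/
theorem span_basicOpen {W : X.Opens} (hW : IsAffineOpen W) (g : Γ(X, W))
    (h : ∃ v : Fin p → Γ(F, W), Submodule.span Γ(X, W) (Set.range v) = ⊤) :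
    ∃ v : Fin p → Γ(F, X.basicOpen g), Submodule.span Γ(X, X.basicOpen g) (Set.range v) = ⊤ := by
  letI := resModule F g
  haveI := isScalarTower_resModule F g
  haveI := IsAffineOpen.isLocalization_basicOpen hW g
  haveI := isLocalizedModule_resₗ F hW g
  obtain ⟨v, hv⟩ := h
  refine ⟨fun i => resₗ F g (v i), ?_⟩
  rw [Set.range_comp' (resₗ F g) v]
  exact span_eq_top_of_isLocalizedModule Γ(X, X.basicOpen g) (Submonoid.powers g) (resₗ F g) hv

/-- The locus of generation by `p` elements on an affine open. -/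
theorem notLe_fitt_iff (hF : CohB1.IsFT F) {W : X.Opens} (hW : IsAffineOpen W) {x : X} (hx : x ∈ W) :
    ¬ Fitt.ideal Γ(X, W) Γ(F, W) p ≤ (hW.primeIdealOf ⟨x, hx⟩).asIdeal ↔
      ∃ g : Γ(X, W), x ∈ X.basicOpen g ∧
        ∃ v : Fin p → Γ(F, X.basicOpen g), Submodule.span Γ(X, X.basicOpen g) (Set.range v) = ⊤ := by
  haveI : Module.Finite Γ(X, W) Γ(F, W) := finite_sections F hF hW
  rw [Groth.Misc3Fitt.not_le_prime_iff_exists_span_away]
  refine exists_congr fun g => ?_
  rw [mem_basicOpen_iff_notMem_primeIdealOf hW g x hx]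
  refine and_congr Iff.rfl ?_
  letI := resModule F g
  haveI := isScalarTower_resModule F g
  haveI := IsAffineOpen.isLocalization_basicOpen hW g
  haveI := isLocalizedModule_resₗ F hW g
  rw [exists_span_iff (Submonoid.powers g) (LocalizedModule.mkLinearMap (Submonoid.powers g) Γ(F, W)),
    exists_span_iff (L := Γ(X, X.basicOpen g)) (Submonoid.powers g) (resₗ F g)]

end Generators

/-- A chart: an affine open of the base below an affine open of the total space surjecting onto it, on which the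
module has `p` generators. -/
structure Chart {X S : Scheme.{u}} (f : X ⟶ S) (F : X.Modules) (p : ℕ) : Type u where
  /-- the open of the base -/
  V : S.Opens
  /-- the open upstairs -/
  W : X.Opens
  hV : IsAffineOpen V
  hW : IsAffineOpen W
  le : W ≤ f ⁻¹ᵁ V
  surj : ∀ s ∈ V, ∃ x ∈ W, f x = s
  gens : ∃ v : Fin p → Γ(F, W), Submodule.span Γ(X, W) (Set.range v) = ⊤

variable {X S : Scheme.{u}} (f : X ⟶ S) [Smooth f] [GeometricallyIrreducible f] (F : X.Modules)
  [F.IsQuasicoherent] {p : ℕ}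

omit [GeometricallyIrreducible f] in
/-- A chart exists at the image of a point near which the module has `p` generators. -/
theorem exists_chart {W₀ : X.Opens} (hW₀ : IsAffineOpen W₀)
    (h : ∃ v : Fin p → Γ(F, W₀), Submodule.span Γ(X, W₀) (Set.range v) = ⊤) {x : X} (hx : x ∈ W₀) :
    ∃ c : Chart f F p, f x ∈ c.V := by
  obtain ⟨V₀, hV₀, hxV₀, -⟩ := exists_isAffineOpen_mem_and_subset (x := f x) (Opens.mem_top (f x))
  obtain ⟨g, hgle, hxg⟩ := hW₀.exists_basicOpen_le (V := W₀ ⊓ f ⁻¹ᵁ V₀) ⟨x, hx, hxV₀⟩ hx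
  let W₁ := X.basicOpen g
  have hW₁ : IsAffineOpen W₁ := hW₀.basicOpen g
  have e₁ : W₁ ≤ f ⁻¹ᵁ V₀ := hgle.trans inf_le_right
  let T₀ : S.Opens := ⟨f '' W₁, f.isOpenMap _ W₁.isOpen⟩
  obtain ⟨a, hale, hxa⟩ := hV₀.exists_basicOpen_le (V := T₀) ⟨f x, x, hxg, rfl⟩ hxV₀
  have heq : X.basicOpen (f.appLE V₀ W₁ e₁ a) = W₁ ⊓ f ⁻¹ᵁ S.basicOpen a := Scheme.basicOpen_appLE f W₁ V₀ e₁ a
  refine ⟨⟨S.basicOpen a, _, hV₀.basicOpen a, hW₁.basicOpen (f.appLE V₀ W₁ e₁ a), heq.le.trans inf_le_right,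
    fun s hs => ?_, span_basicOpen F hW₁ _ (span_basicOpen F hW₀ g h)⟩, hxa⟩
  obtain ⟨z, hz, rfl⟩ := hale hs
  exact ⟨z, heq.ge ⟨hz, hs⟩, rfl⟩

set_option maxHeartbeats 1000000 in
/-- The closed condition on a chart. -/
theorem exists_chart_ideal (c : Chart f F p) :
    ∃ I : Ideal Γ(S, c.V),
      (∀ (T : Over S) (U : T.left.Opens) (_ : IsAffineOpen U) (eU : U ≤ T.hom ⁻¹ᵁ c.V),
        (∀ y, FlatFun.IsGenericPtOfFibre (PicF.XTproj f T) y → PicF.XTproj f T y ∈ U →
          Nonempty (Module.Basis (Fin p) ((PicF.XT f T).presheaf.stalk y) ((FGA.ET f F T).presheaf.stalk y))) ↔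
          I.map (T.hom.appLE c.V U eU).hom = ⊥) ∧
      (CohB1.IsFP F → I.FG) := by
  obtain ⟨V, W, hV, hW, eW, hsurj, v, hv⟩ := c
  let A := Γ(S, V)
  let B := Γ(X, W)
  letI : Algebra A B := (f.appLE V W eW).hom.toAlgebra
  haveI : Algebra.Smooth A B := f.smooth_appLE hV hW eW
  have hgi : FlatCA.GeomIrredFibres A B := by
    haveI : IsOpenImmersion hW.fromSpec := hW.isOpenImmersion_fromSpec
    haveI : IsOpenImmersion hV.fromSpec := hV.isOpenImmersion_fromSpec
    haveI : Surjective (Spec.map (f.appLE V W eW)) := ⟨fun q => by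
      obtain ⟨x, hx, hxq⟩ := hsurj (hV.fromSpec q) (hV.range_fromSpec.le ⟨q, rfl⟩)
      refine ⟨hW.primeIdealOf ⟨x, hx⟩, hV.fromSpec.isOpenEmbedding.injective ?_⟩
      rw [← hxq, ← Scheme.Hom.comp_apply, hV.SpecMap_appLE_fromSpec f hW eW, Scheme.Hom.comp_apply,
        hW.fromSpec_primeIdealOf]⟩
    exact DevissageOps.geometricallyIrreducible_of_open (Spec.map (f.appLE V W eW)) f hW.fromSpec hV.fromSpec
      (hV.SpecMap_appLE_fromSpec f hW eW).symm
  obtain ⟨I, hI, hIfg⟩ := GenericFreeIdeal.exists_ideal hgi v hv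
  refine ⟨I, fun T U hU eU => ?_, fun hP => hIfg (finitePresentation_sections F hP hW)⟩
  let q := pullback.fst f T.hom
  let π := pullback.snd f T.hom
  obtain ⟨hW', hpo⟩ := Groth.FlatMorOne.exists_chart_of (IsPullback.of_hasPullback f T.hom) hV hW eW hU eU
  let W' := q ⁻¹ᵁ W ⊓ π ⁻¹ᵁ U
  let A' := Γ(T.left, U)
  let B' := Γ(pullback f T.hom, W')
  letI : Algebra A A' := (T.hom.appLE V U eU).hom.toAlgebra
  letI := sectionsAlg q (inf_le_left : W' ≤ q ⁻¹ᵁ W)
  letI : Algebra A' B' := (π.appLE U W' inf_le_right).hom.toAlgebra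
  letI : Algebra A B' := ((q.appLE W W' inf_le_left).hom.comp (f.appLE V W eW).hom).toAlgebra
  haveI : IsScalarTower A B B' := .of_algebraMap_eq' rfl
  haveI : IsScalarTower A A' B' := .of_algebraMap_eq fun a => congr($(hpo.w) a)
  haveI : Algebra.IsPushout A B A' B' := CommRingCat.isPushout_iff_isPushout.mp hpo
  let F' := (Scheme.Modules.pullback q).obj F
  haveI : F'.IsQuasicoherent := inferInstance
  letI : Module B Γ(F', W') := Module.compHom _ (q.appLE W W' inf_le_left).hom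
  haveI : IsScalarTower B B' Γ(F', W') := .of_algebraMap_smul fun _ _ => rfl
  let e := pullSecEquiv q F (inf_le_left : W' ≤ q ⁻¹ᵁ W) hW hW'
  let φ := (e.toLinearMap.restrictScalars B).comp (TensorProduct.mk B B' Γ(F, W) 1)
  have hφ : IsBaseChange B' φ := IsBaseChange.of_equiv e fun _ => rfl
  have key := hI A' B' Γ(F', W') φ hφ
  have hloc : ∀ (y : ↑(pullback f T.hom)) (hy : y ∈ W'),
      Nonempty (Module.Basis (Fin p) ((pullback f T.hom).presheaf.stalk y) (F'.presheaf.stalk y)) ↔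
        Nonempty (Module.Basis (Fin p) (Localization.AtPrime (hW'.primeIdealOf ⟨y, hy⟩).asIdeal)
          (LocalizedModule (hW'.primeIdealOf ⟨y, hy⟩).asIdeal.primeCompl Γ(F', W'))) := by
    intro y hy
    letI := stalkModule F' y hy
    letI : Algebra B' ((pullback f T.hom).presheaf.stalk y) :=
      TopCat.Presheaf.algebra_section_stalk (pullback f T.hom).presheaf ⟨y, hy⟩
    haveI : IsLocalization.AtPrime ((pullback f T.hom).presheaf.stalk y) (hW'.primeIdealOf ⟨y, hy⟩).asIdeal :=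
      hW'.isLocalization_stalk ⟨y, hy⟩
    haveI : IsScalarTower B' ((pullback f T.hom).presheaf.stalk y) (F'.presheaf.stalk y) :=
      .of_algebraMap_smul fun _ _ => rfl
    haveI := isLocalizedModule_germ F' hW' y hy
    let S₀ := (hW'.primeIdealOf ⟨y, hy⟩).asIdeal.primeCompl
    exact ⟨fun ⟨b⟩ => basis_transfer S₀ (germₗ F' y hy) (LocalizedModule.mkLinearMap S₀ _) b,
      fun ⟨b⟩ => basis_transfer S₀ (LocalizedModule.mkLinearMap S₀ _) (germₗ F' y hy) b⟩
  have hgen : ∀ (y : ↑(pullback f T.hom)), FlatFun.IsGenericPtOfFibre π y → ∀ (hU' : π y ∈ U),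
      ∃ hy : y ∈ W', (hW'.primeIdealOf ⟨y, hy⟩).asIdeal =
        (hU.primeIdealOf ⟨π y, hU'⟩).asIdeal.map (algebraMap A' B') := by
    intro y hy hU'
    obtain ⟨x, hxW, hxs⟩ := hsurj (T.hom (π y)) (eU hU')
    obtain ⟨z, hz1, hz2⟩ := Scheme.Pullback.exists_preimage_pullback x (π y) hxs
    have hzW : z ∈ W' := ⟨show q z ∈ W from hz1.symm ▸ hxW, show π z ∈ U from hz2.symm ▸ hU'⟩
    have hyW : y ∈ W' := (hy z hz2).mem_open W'.isOpen hzW
    refine ⟨hyW, ?_⟩
    have hcomap : ∀ (w : ↑(pullback f T.hom)) (hw : w ∈ W') (hwU : π w ∈ U),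
        (hW'.primeIdealOf ⟨w, hw⟩).asIdeal.comap (algebraMap A' B') = (hU.primeIdealOf ⟨π w, hwU⟩).asIdeal :=
      fun w hw hwU => congrArg PrimeSpectrum.asIdeal
        (IsAffineOpen.comap_primeIdealOf_appLE U hU W' hW' inf_le_right hw)
    let p' := (hU.primeIdealOf ⟨π y, hU'⟩).asIdeal
    have hle : ∀ (w : ↑(pullback f T.hom)) (hw : w ∈ W'), π w = π y →
        p'.map (algebraMap A' B') ≤ (hW'.primeIdealOf ⟨w, hw⟩).asIdeal := fun w hw hwy => by
      rw [Ideal.map_le_iff_le_comap, hcomap w hw (hwy.symm ▸ hU'),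
        show (⟨π w, hwy.symm ▸ hU'⟩ : U) = ⟨π y, hU'⟩ from Subtype.ext hwy]
    haveI := SmoothProjective.projective_of_smooth A B hgi
    haveI : Algebra.IsPushout A A' B B' := Algebra.IsPushout.symm ‹_›
    haveI : Module.Projective A' B' :=
      Module.Projective.of_equiv (Algebra.IsPushout.equiv A A' B B').toLinearEquiv
    obtain ⟨σ, hσ⟩ := ContentFitting.exists_coord (R := A') (S := B')
    haveI hprime : (p'.map (algebraMap A' B')).IsPrime := ContentFitting.isPrime_map hσ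
      (Groth.RaynaudGruson.geomIntegralFibres_baseChange (R := A) (S := B) A' B'
        (SmoothProjective.geomIntegralFibres_of_smooth hgi)) p'
    let q₀ : PrimeSpectrum B' := ⟨_, hprime⟩
    let z₀ := hW'.fromSpec q₀
    have hz₀ : z₀ ∈ W' := hW'.range_fromSpec.le ⟨_, rfl⟩
    have hQ₀ : hW'.primeIdealOf ⟨z₀, hz₀⟩ = q₀ :=
      hW'.fromSpec.isOpenEmbedding.injective (hW'.fromSpec_primeIdealOf ⟨z₀, hz₀⟩)
    have hz₀y : π z₀ = π y := by
      have h1 : hU.primeIdealOf ⟨π z₀, hz₀.2⟩ = hU.primeIdealOf ⟨π y, hU'⟩ := by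
        ext1
        rw [← hcomap z₀ hz₀ hz₀.2, hQ₀]
        refine le_antisymm ?_ Ideal.le_comap_map
        rw [← hcomap y hyW hU']
        exact Ideal.comap_mono (hle y hyW rfl)
      have h2 := congrArg hU.fromSpec h1
      rwa [hU.fromSpec_primeIdealOf, hU.fromSpec_primeIdealOf] at h2
    refine le_antisymm ?_ (hle y hyW rfl)
    have h3 : hW'.primeIdealOf ⟨y, hyW⟩ ⤳ q₀ := by
      refine hW'.fromSpec.isOpenEmbedding.isInducing.specializes_iff.mp ?_
      show hW'.fromSpec (hW'.primeIdealOf ⟨y, hyW⟩) ⤳ z₀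
      rw [hW'.fromSpec_primeIdealOf]
      exact hy z₀ hz₀y
    exact (PrimeSpectrum.le_iff_specializes _ q₀).mpr h3
  refine Iff.trans ⟨fun h p' hp' Q hQi hQ => ?_, fun h y hy hyU => ?_⟩ key
  · let t := hU.fromSpec ⟨p', hp'⟩
    obtain ⟨y, hy1, hy2⟩ := Groth.Flatmor4.exists_isGenericPtOfFibre π t
    have hyU : π y ∈ U := hy1.symm ▸ hU.range_fromSpec.le ⟨_, rfl⟩
    obtain ⟨hyW, hQy⟩ := hgen y hy2 hyU
    have hp : hU.primeIdealOf ⟨π y, hyU⟩ = ⟨p', hp'⟩ :=
      hU.fromSpec.isOpenEmbedding.injective ((hU.fromSpec_primeIdealOf ⟨π y, hyU⟩).trans hy1)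
    have hQ' : Q = (hW'.primeIdealOf ⟨y, hyW⟩).asIdeal := by rw [hQy, hp, hQ]
    subst hQ'
    exact (hloc y hyW).mp (h y hy2 hyU)
  · obtain ⟨hyW, hQy⟩ := hgen y hy hyU
    exact (hloc y hyW).mpr (h _ _ hQy)

set_option maxHeartbeats 600000 in
/-- Where the condition holds the base is covered by charts. -/
theorem exists_chart_of_basis (hF : CohB1.IsFT F) (T : Over S) (t : T.left)
    (hb : ∀ y, FlatFun.IsGenericPtOfFibre (PicF.XTproj f T) y →
      Nonempty (Module.Basis (Fin p) ((PicF.XT f T).presheaf.stalk y) ((FGA.ET f F T).presheaf.stalk y))) :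
    ∃ c : Chart f F p, T.hom t ∈ c.V := by
  let q := pullback.fst f T.hom
  haveI : Smooth (PicF.XTproj f T) := MorphismProperty.pullback_snd f T.hom inferInstance
  haveI : GeometricallyIrreducible (PicF.XTproj f T) := MorphismProperty.pullback_snd f T.hom inferInstance
  obtain ⟨y, hy1, hy2⟩ := Groth.Flatmor4.exists_isGenericPtOfFibre (PicF.XTproj f T) t
  obtain ⟨W, hW, hxW, -⟩ := exists_isAffineOpen_mem_and_subset (x := q y) (Opens.mem_top (q y))
  obtain ⟨W', hW', hyW, eW'⟩ := exists_isAffineOpen_mem_and_subset (x := y) (U := q ⁻¹ᵁ W) hxW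
  let F' := (Scheme.Modules.pullback q).obj F
  haveI : F'.IsQuasicoherent := inferInstance
  haveI : Module.Finite Γ(X, W) Γ(F, W) := finite_sections F hF hW
  letI := sectionsAlg q eW'
  let B' := Γ(pullback f T.hom, W')
  let e := pullSecEquiv q F eW' hW hW'
  haveI : Module.Finite B' Γ(F', W') := Module.Finite.equiv e
  let Q := (hW'.primeIdealOf ⟨y, hyW⟩).asIdeal
  have h1 : ¬ Fitt.ideal B' Γ(F', W') p ≤ Q := by
    rw [Groth.Misc3Fitt.not_le_prime_iff_exists_span_atPrime]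
    letI := stalkModule F' y hyW
    letI : Algebra B' ((pullback f T.hom).presheaf.stalk y) :=
      TopCat.Presheaf.algebra_section_stalk (pullback f T.hom).presheaf ⟨y, hyW⟩
    haveI : IsLocalization.AtPrime ((pullback f T.hom).presheaf.stalk y) Q := hW'.isLocalization_stalk ⟨y, hyW⟩
    haveI : IsScalarTower B' ((pullback f T.hom).presheaf.stalk y) (F'.presheaf.stalk y) :=
      .of_algebraMap_smul fun _ _ => rfl
    haveI := isLocalizedModule_germ F' hW' y hyW
    obtain ⟨b⟩ := hb y hy2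
    obtain ⟨b'⟩ := basis_transfer (L' := Localization.AtPrime Q) Q.primeCompl (germₗ F' y hyW)
      (LocalizedModule.mkLinearMap Q.primeCompl _) b
    exact ⟨b', b'.span_eq⟩
  have h2 : ¬ Fitt.ideal Γ(X, W) Γ(F, W) p ≤ (hW.primeIdealOf ⟨q y, hxW⟩).asIdeal := by
    intro hle
    refine h1 ?_
    rw [← Groth.Misc3Fitt.ideal_congr e p, Groth.Misc3Fitt.ideal_baseChange, Ideal.map_le_iff_le_comap]
    refine hle.trans (le_of_eq ?_)
    exact (congrArg PrimeSpectrum.asIdeal (IsAffineOpen.comap_primeIdealOf_appLE W hW W' hW' eW' hyW)).symm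
  obtain ⟨g, hg, hgens⟩ := (notLe_fitt_iff F hF hW hxW).mp h2
  obtain ⟨c, hc⟩ := exists_chart f F (hW.basicOpen g) hgens hg
  refine ⟨c, ?_⟩
  have hw : f (q y) = T.hom (PicF.XTproj f T y) := congr($(pullback.condition (f := f) (g := T.hom)) y)
  rwa [hw, hy1] at hc

/-- Over an affine open of the base the union of the charts is quasi-compact, for finite presentation. -/
theorem isCompact_charts (hF : CohB1.IsFT F) (hP : CohB1.IsFP F) {A₀ : S.Opens} (hA₀ : IsAffineOpen A₀) :
    IsCompact (((⨆ c : Chart f F p, c.V : S.Opens) : Set S) ∩ A₀) := by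
  classical
  choose W hW hW₁ hW₂ using fun s : A₀ =>
    let ⟨x, hx, _⟩ := Groth.Flatmor4.exists_isGenericPtOfFibre f (s : S)
    let ⟨W, hW, hxW, hle⟩ := exists_isAffineOpen_mem_and_subset (x := x) (U := f ⁻¹ᵁ A₀)
      (show f x ∈ A₀ from hx.symm ▸ s.2)
    (⟨W, hW, ⟨x, hxW, hx⟩, hle⟩ : ∃ W : X.Opens, IsAffineOpen W ∧ (∃ x ∈ W, f x = (s : S)) ∧ W ≤ f ⁻¹ᵁ A₀)
  obtain ⟨σ, hσ⟩ := hA₀.isCompact.elim_finite_subcover (fun s : A₀ => f '' (W s : Set X))
    (fun s => f.isOpenMap _ (W s).isOpen) fun s hs => Set.mem_iUnion.mpr ⟨⟨s, hs⟩, hW₁ ⟨s, hs⟩⟩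
  let G : A₀ → Set X := fun s =>
    (hW s).fromSpec '' (PrimeSpectrum.zeroLocus (Fitt.ideal Γ(X, W s) Γ(F, W s) p : Set Γ(X, W s)))ᶜ
  have hG : ∀ s, IsCompact (G s) := fun s => by
    haveI : Module.FinitePresentation Γ(X, W s) Γ(F, W s) := finitePresentation_sections F hP (hW s)
    refine IsCompact.image ?_ (hW s).fromSpec.continuous
    exact (QuasiSeparatedSpace.isRetrocompact_iff_isCompact (PrimeSpectrum.isClosed_zeroLocus _).isOpen_compl).mp
      (PrimeSpectrum.isRetrocompact_zeroLocus_compl_of_fg (Groth.Misc3Fitt.ideal_fg p))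
  have hmem : ∀ (s : A₀) (x : X) (hx : x ∈ W s), x ∈ G s ↔
      ¬ Fitt.ideal Γ(X, W s) Γ(F, W s) p ≤ ((hW s).primeIdealOf ⟨x, hx⟩).asIdeal := by
    intro s x hx
    constructor
    · rintro ⟨Q, hQ, hQx⟩
      rwa [show (hW s).primeIdealOf ⟨x, hx⟩ = Q from
        (hW s).fromSpec.isOpenEmbedding.injective (((hW s).fromSpec_primeIdealOf ⟨x, hx⟩).trans hQx.symm)]
    · exact fun h => ⟨(hW s).primeIdealOf ⟨x, hx⟩, h, (hW s).fromSpec_primeIdealOf ⟨x, hx⟩⟩
  convert σ.isCompact_biUnion fun s _ => (hG s).image f.continuous using 1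
  refine Set.Subset.antisymm ?_ ?_
  · rintro s ⟨hs, hsA⟩
    obtain ⟨c, hc⟩ := Opens.mem_iSup.mp (SetLike.mem_coe.mp hs)
    obtain ⟨y, hy1, hy2⟩ := Groth.Flatmor4.exists_isGenericPtOfFibre f s
    obtain ⟨j, hj, z, hz, hzs⟩ := Set.mem_iUnion₂.mp (hσ hsA)
    have hyj : y ∈ W j := (hy2 z (hzs.trans hy1.symm)).mem_open (W j).isOpen hz
    obtain ⟨x, hxW, hxs⟩ := c.surj s hc
    have hyc : y ∈ c.W := (hy2 x (hxs.trans hy1.symm)).mem_open c.W.isOpen hxW
    obtain ⟨a, b, hab, hya⟩ := exists_basicOpen_le_affine_inter c.hW (hW j) y ⟨hyc, hyj⟩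
    refine Set.mem_iUnion₂.mpr ⟨j, hj, y, (hmem j y hyj).mpr ((notLe_fitt_iff F hF (hW j) hyj).mpr ?_), hy1⟩
    exact ⟨b, hab ▸ hya, span_congr F hab (span_basicOpen F c.hW a c.gens)⟩
  · intro s hs
    obtain ⟨j, -, x, hx, rfl⟩ := Set.mem_iUnion₂.mp hs
    have hxj : x ∈ W j := by
      obtain ⟨Q, -, rfl⟩ := hx
      exact (hW j).range_fromSpec.le ⟨Q, rfl⟩
    obtain ⟨g, hg, hgens⟩ := (notLe_fitt_iff F hF (hW j) hxj).mp ((hmem j x hxj).mp hx)
    obtain ⟨c, hc⟩ := exists_chart f F ((hW j).basicOpen g) hgens hg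
    exact ⟨Opens.mem_iSup.mpr ⟨c, hc⟩, hW₂ j hxj⟩

end Groth.RaynaudGruson.GenericFreeScheme
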