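import Groth.Agent.RaynaudGruson.FlatDimTransfer
import Groth.Agent.Flatmor4.GenericFlat
import Groth.Agent.Flatmor4.FreeFibreGen
import Groth.Agent.FlatMorOne.GoodLocus
import Groth.Agent.FlatMorOne.FlatLocusScheme
import Groth.Agent.CohBase.TensorSec
import Groth.Agent.PropsBasic.LocFree
import Groth.Agent.S9026
import Groth.Agent.S9029
import Mathlib

/-!
The functor of flatness in dimensions `≥ d` for a module over a smooth algebra of relative dimension `d` with
geometrically irreducible fibres, in ring form.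
-/

set_option autoImplicit false
set_option linter.style.haveILetI false
universe u

open TensorProduct CategoryTheory CategoryTheory.Limits AlgebraicGeometry Opposite

namespace Groth.RaynaudGruson.FlatDimBridge

open FlatDimTransfer TensorAction

attribute [local instance] TensorAction.tModule

/-- A bijective change of rings makes a bijective map a base change. -/
theorem isBaseChange_of_bijective {R S M N : Type u} [CommRing R] [CommRing S] [Algebra R S]
    (hS : Function.Bijective (algebraMap R S)) [AddCommGroup M] [Module R M] [AddCommGroup N] [Module R N]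
    [Module S N] [IsScalarTower R S N] (φ : M →ₗ[R] N) (hφ : Function.Bijective φ) : IsBaseChange S φ := by
  refine IsBaseChange.of_lift_unique φ fun Q _ _ _ _ g => ?_
  let e := LinearEquiv.ofBijective φ hφ
  refine ⟨{ toFun := fun n => g (e.symm n), map_add' := fun x y => by rw [map_add, map_add], map_smul' := fun s n => ?_ },
    ?_, fun h hh => ?_⟩
  · obtain ⟨r, rfl⟩ := hS.2 s
    rw [RingHom.id_apply, algebraMap_smul, algebraMap_smul, map_smul, map_smul]
  · ext m
    show g (e.symm (φ m)) = g m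
    rw [show φ m = e m from rfl, e.symm_apply_apply]
  · ext n
    show h n = g (e.symm n)
    rw [← hh]
    show h n = h (φ (e.symm n))
    rw [show φ (e.symm n) = e (e.symm n) from rfl, e.apply_symm_apply]

/-- Elementwise flatness does not see a bijective change of the base. -/
theorem pred_iff_of_bijective {R S B M : Type u} [CommRing R] [CommRing S] [Algebra R S] [CommRing B]
    (hS : Function.Bijective (algebraMap R S)) [AddCommGroup M] [Module B M] [Module R M] [Module S M]
    [IsScalarTower R S M] (U : Submonoid B) : FlatPred.Pred S U M ↔ FlatPred.Pred R U M := by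
  constructor
  · intro h l f a ⟨u, hu, hua⟩
    obtain ⟨v, hv, k, d, y, hy, hd⟩ := h l (fun i => algebraMap R S (f i)) a ⟨u, hu, by
      simpa only [algebraMap_smul] using hua⟩
    choose d' hd' using fun i j => hS.2 (d i j)
    refine ⟨v, hv, k, d', y, fun i => ?_, fun j => hS.1 ?_⟩
    · rw [hy i]
      exact Finset.sum_congr rfl fun j _ => by rw [← hd', algebraMap_smul]
    · rw [map_sum, map_zero, ← hd j]
      exact Finset.sum_congr rfl fun i _ => by rw [map_mul, hd']
  · intro h l f a ⟨u, hu, hua⟩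
    choose f' hf' using fun i => hS.2 (f i)
    obtain ⟨v, hv, k, d, y, hy, hd⟩ := h l f' a ⟨u, hu, by
      simpa only [← hf', algebraMap_smul] using hua⟩
    refine ⟨v, hv, k, fun i j => algebraMap R S (d i j), y, fun i => by simp only [algebraMap_smul, hy], fun j => ?_⟩
    simp only [← hf', ← map_mul, ← map_sum, hd, map_zero]

set_option maxHeartbeats 1000000 in
/-- The fibre dimension condition on an affine test scheme, in ring form. -/
theorem dimFibresLT_iff {A B M A' : Type u} [CommRing A] [CommRing B] [Algebra A B] [AddCommGroup M] [Module B M]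
    [Module A M] [IsScalarTower A B M] [CommRing A'] [Algebra A A'] (n : ℕ) :
    let f := Spec.map (CommRingCat.ofHom (algebraMap A B))
    let T : Over (Spec (CommRingCat.of A)) := Over.mk (Spec.map (CommRingCat.ofHom (algebraMap A A')))
    FlatFun.DimFibresLT n (PicF.XTproj f T)
        {x | ¬ FlatMod.IsFlatOverAt (PicF.XTproj f T) (FGA.ET f (tilde (R := CommRingCat.of B) (ModuleCat.of B M)) T) x} ↔
      FDOn (fun _ : Ideal A' => True) n (A' ⊗[A] B) (A' ⊗[A] M) := by
  intro f T
  let F := tilde (R := CommRingCat.of B) (ModuleCat.of B M)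
  haveI : F.IsQuasicoherent := inferInstance
  let q := pullback.fst f T.hom
  let π := pullback.snd f T.hom
  have hA : IsAffineOpen (⊤ : (Spec (CommRingCat.of A)).Opens) := isAffineOpen_top _
  have hB : IsAffineOpen (⊤ : (Spec (CommRingCat.of B)).Opens) := isAffineOpen_top _
  have hA' : IsAffineOpen (⊤ : T.left.Opens) := isAffineOpen_top (Spec (CommRingCat.of A'))
  have eB : (⊤ : (Spec (CommRingCat.of B)).Opens) ≤ f ⁻¹ᵁ ⊤ := le_top
  have eA' : (⊤ : T.left.Opens) ≤ T.hom ⁻¹ᵁ ⊤ := le_top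
  obtain ⟨hW', hpo⟩ := Groth.FlatMorOne.exists_chart_of (IsPullback.of_hasPullback f T.hom) hA hB eB hA' eA'
  let W' := q ⁻¹ᵁ ⊤ ⊓ π ⁻¹ᵁ ⊤
  have hWtop : W' = ⊤ := top_le_iff.mp fun _ _ => ⟨trivial, trivial⟩
  let B'' := Γ(pullback f T.hom, W')
  let φA := (Scheme.ΓSpecIso (CommRingCat.of A)).inv.hom
  let φB := (Scheme.ΓSpecIso (CommRingCat.of B)).inv.hom
  let φA' : A' →+* Γ(T.left, ⊤) := (Scheme.ΓSpecIso (CommRingCat.of A')).inv.hom
  letI : Algebra B B'' := ((q.appLE ⊤ W' inf_le_left).hom.comp φB).toAlgebra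
  letI : Algebra A' B'' := ((π.appLE ⊤ W' inf_le_right).hom.comp φA').toAlgebra
  letI : Algebra A B'' := ((algebraMap B B'').comp (algebraMap A B)).toAlgebra
  haveI : IsScalarTower A B B'' := .of_algebraMap_eq' rfl
  have natB : CommRingCat.ofHom (algebraMap A B) ≫ (Scheme.ΓSpecIso (CommRingCat.of B)).inv =
      (Scheme.ΓSpecIso (CommRingCat.of A)).inv ≫ f.appLE ⊤ ⊤ eB := by
    rw [Scheme.Hom.appLE, Scheme.ΓSpecIso_inv_naturality]
    simp [f, Scheme.Hom.appTop]
  have natA' : CommRingCat.ofHom (algebraMap A A') ≫ (Scheme.ΓSpecIso (CommRingCat.of A')).inv =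
      (Scheme.ΓSpecIso (CommRingCat.of A)).inv ≫ T.hom.appLE ⊤ ⊤ eA' := by
    rw [Scheme.Hom.appLE, Scheme.ΓSpecIso_inv_naturality]
    simp [T, Scheme.Hom.appTop]
  haveI : IsScalarTower A A' B'' := .of_algebraMap_eq fun a => by
    show q.appLE ⊤ W' inf_le_left (φB (algebraMap A B a)) = π.appLE ⊤ W' inf_le_right (φA' (algebraMap A A' a))
    have h1 := congr($natB a)
    have h2 := congr($natA' a)
    have h3 := congr($(hpo.w) (φA a))
    simp only [CommRingCat.comp_apply] at h1 h2 h3
    rw [show φB (algebraMap A B a) = _ from h1, show φA' (algebraMap A A' a) = _ from h2]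
    exact h3
  haveI : Algebra.IsPushout A B A' B'' := CommRingCat.isPushout_iff_isPushout.mp
    (hpo.of_iso (Scheme.ΓSpecIso (CommRingCat.of A)) (Scheme.ΓSpecIso (CommRingCat.of B))
      (Scheme.ΓSpecIso (CommRingCat.of A')) (Iso.refl _)
      (by rw [← Iso.inv_comp_eq, ← Category.assoc, ← natB, Category.assoc, Iso.inv_hom_id, Category.comp_id])
      (by rw [← Iso.inv_comp_eq, ← Category.assoc, ← natA', Category.assoc, Iso.inv_hom_id, Category.comp_id])
      (by rw [Iso.refl_hom, Category.comp_id, ← Iso.inv_comp_eq]; rfl)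
      (by rw [Iso.refl_hom, Category.comp_id, ← Iso.inv_comp_eq]; rfl))
  let F' := (Scheme.Modules.pullback q).obj F
  haveI : F'.IsQuasicoherent := inferInstance
  letI : Algebra B Γ(Spec (CommRingCat.of B), ⊤) := φB.toAlgebra
  letI := Groth.QCohMod.sectionsAlg q (inf_le_left : W' ≤ q ⁻¹ᵁ ⊤)
  haveI : IsScalarTower B Γ(Spec (CommRingCat.of B), ⊤) B'' := .of_algebraMap_eq' rfl
  letI : Module Γ(T.left, ⊤) Γ(F', W') := Module.compHom _ (π.appLE ⊤ W' inf_le_right).hom
  letI : Module B Γ(F', W') := Module.compHom _ (algebraMap B B'')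
  haveI : IsScalarTower B B'' Γ(F', W') := .of_algebraMap_smul fun _ _ => rfl
  letI : Module A' Γ(F', W') := Module.compHom _ (algebraMap A' B'')
  haveI : IsScalarTower A' B'' Γ(F', W') := .of_algebraMap_smul fun _ _ => rfl
  letI : Module Γ(Spec (CommRingCat.of B), ⊤) Γ(F', W') := Module.compHom _ (q.appLE ⊤ W' inf_le_left).hom
  haveI : IsScalarTower Γ(Spec (CommRingCat.of B), ⊤) B'' Γ(F', W') := .of_algebraMap_smul fun _ _ => rfl
  haveI : IsScalarTower B Γ(Spec (CommRingCat.of B), ⊤) Γ(F', W') := .of_algebraMap_smul fun _ _ => rfl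
  letI : Module B Γ(F, ⊤) := Module.compHom _ φB
  haveI : IsScalarTower B Γ(Spec (CommRingCat.of B), ⊤) Γ(F, ⊤) := .of_algebraMap_smul fun _ _ => rfl
  let ts : M →ₗ[B] Γ(F, ⊤) :=
    { toFun := fun m => (tilde.toOpen (R := CommRingCat.of B) (ModuleCat.of B M) ⊤).hom m
      map_add' := map_add _
      map_smul' := fun b m => (tilde.toOpen (R := CommRingCat.of B) (ModuleCat.of B M) ⊤).hom.map_smul b m }
  have hts : IsBaseChange Γ(Spec (CommRingCat.of B), ⊤) ts :=
    isBaseChange_of_bijective (ConcreteCategory.bijective_of_isIso (Scheme.ΓSpecIso (CommRingCat.of B)).inv) ts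
      (ConcreteCategory.bijective_of_isIso (tilde.isoTop (R := CommRingCat.of B) (ModuleCat.of B M)).hom)
  let e := Groth.QCohMod.pullSecEquiv q F (inf_le_left : W' ≤ q ⁻¹ᵁ ⊤) hB hW'
  let φq := (e.toLinearMap.restrictScalars Γ(Spec (CommRingCat.of B), ⊤)).comp
    (TensorProduct.mk Γ(Spec (CommRingCat.of B), ⊤) B'' Γ(F, ⊤) 1)
  have hφq : IsBaseChange B'' φq := IsBaseChange.of_equiv e fun _ => rfl
  have hφ : IsBaseChange B'' ((φq.restrictScalars B).comp ts) := hts.comp hφq
  rw [← fdOn_model_iff _ hφ (fun _ : Ideal A' => True) n]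
  have hdeg : ∀ (z : PrimeSpectrum B''), rdeg A' z.asIdeal = Dual3.resTrdeg π (hW'.fromSpec z) := by
    intro z
    haveI : IsIso hW'.fromSpec := by
      haveI : IsOpenImmersion hW'.fromSpec := hW'.isOpenImmersion_fromSpec
      haveI : Surjective hW'.fromSpec := ⟨fun x => (hW'.range_fromSpec.ge
        (show x ∈ (W' : Set _) from hWtop.symm ▸ trivial) :)⟩
      exact (isIso_iff_isOpenImmersion_and_epi_base _).mpr
        ⟨inferInstance, (TopCat.epi_iff_surjective _).mpr (Scheme.Hom.surjective _)⟩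
    have hU : hA'.fromSpec = Spec.map (Scheme.ΓSpecIso (CommRingCat.of A')).inv := by
      show (isAffineOpen_top (Spec (CommRingCat.of A'))).fromSpec = _
      rw [IsAffineOpen.fromSpec_top, Scheme.isoSpec_Spec_inv]
    refine (Groth.InsepCycles.resTrdeg_fst (π := hW'.fromSpec) (g := 𝟙 _) ?_ z).symm
    rw [Category.comp_id]
    have h1 := hA'.SpecMap_appLE_fromSpec π hW' inf_le_right
    rw [hU] at h1
    exact h1.symm.trans (Spec.map_comp _ _).symm
  have hflat : ∀ (z : PrimeSpectrum B''), FlatMod.IsFlatOverAt π F' (hW'.fromSpec z) ↔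
      FlatPred.Pred A' z.asIdeal.primeCompl Γ(F', W') := by
    intro z
    have hz : hW'.fromSpec z ∈ W' := hW'.range_fromSpec.le ⟨_, rfl⟩
    rw [Groth.FlatMorOne.isFlatOverAt_iff_localized π F' hW' hA' inf_le_right ⟨_, hz⟩,
      show hW'.primeIdealOf ⟨hW'.fromSpec z, hz⟩ = z from
        hW'.fromSpec.isOpenEmbedding.injective (hW'.fromSpec_primeIdealOf ⟨hW'.fromSpec z, hz⟩)]
    letI := (π.appLE ⊤ W' inf_le_right).hom.toAlgebra
    haveI : IsScalarTower Γ(T.left, ⊤) B'' Γ(F', W') := .of_algebraMap_smul fun _ _ => rfl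
    letI : Algebra A' Γ(T.left, ⊤) := φA'.toAlgebra
    haveI : IsScalarTower A' Γ(T.left, ⊤) Γ(F', W') := .of_algebraMap_smul fun _ _ => rfl
    exact (FlatPred.flat_iff _).trans (pred_iff_of_bijective
      (ConcreteCategory.bijective_of_isIso (Scheme.ΓSpecIso (CommRingCat.of A')).inv) _)
  constructor
  · intro h Q _ _ hQ
    rw [← hflat ⟨Q, inferInstance⟩]
    by_contra hn
    exact not_lt.mpr hQ ((hdeg ⟨Q, inferInstance⟩).symm ▸ h _ hn)
  · intro h x hx
    obtain ⟨z, rfl⟩ : x ∈ Set.range hW'.fromSpec := by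
      rw [hW'.range_fromSpec]; exact (show x ∈ (W' : Set _) by rw [hWtop]; trivial)
    by_contra hlt
    exact hx ((hflat z).mpr (h z.asIdeal trivial ((hdeg z).symm ▸ not_lt.mp hlt)))

section dim

variable {A B : Type u} [CommRing A] [CommRing B] [Algebra A B] {e : ℕ} (hsm : FlatCA.SmoothRelDim e A B)
  (hgi : FlatCA.GeomIrredFibres A B)

include hsm hgi in
/-- The extended prime has transcendence degree the relative dimension. -/
theorem rdeg_map (t : Ideal A) [t.IsPrime] [(t.map (algebraMap A B)).IsPrime]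
    (ht : (t.map (algebraMap A B)).comap (algebraMap A B) = t) : rdeg A (t.map (algebraMap A B)) = e := by
  haveI := hsm
  haveI := hgi
  refine Groth.Flatmor4.resTrdeg_generic (Spec.map (CommRingCat.ofHom (algebraMap A B))) e ?_
  intro (x : PrimeSpectrum B) hx
  refine (PrimeSpectrum.le_iff_specializes _ x).mp (Ideal.map_le_iff_le_comap.mpr (le_of_eq ?_))
  exact (ht.symm.trans (congrArg PrimeSpectrum.asIdeal hx).symm :)

include hsm hgi in
/-- No point has transcendence degree above the relative dimension. -/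
theorem rdeg_le (Q : Ideal B) [Q.IsPrime] : rdeg A Q ≤ e := by
  haveI := hsm
  haveI := hgi
  by_cases h : FlatFun.IsGenericPtOfFibre (Spec.map (CommRingCat.ofHom (algebraMap A B))) (⟨Q, inferInstance⟩ : PrimeSpectrum B)
  · exact (Groth.Flatmor4.resTrdeg_generic _ e h).le
  · exact (Groth.Flatmor4.resTrdeg_lt_of_not_generic _ e h).le

end dim

section coprod

variable {S : Scheme.{u}} {σ : Type u} (Z : σ → Scheme.{u}) (i : ∀ p, Z p ⟶ S)

/-- A disjoint union of monomorphisms with disjoint images is a monomorphism. -/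
theorem mono_sigmaDesc [∀ p, Mono (i p)] (hdisj : ∀ p q (x : Z p) (y : Z q), i p x = i q y → p = q) :
    Mono (Sigma.desc i) := by
  refine ⟨fun {T} a b hab => ?_⟩
  let 𝒰 := (sigmaOpenCover Z).pullback₁ a
  refine Scheme.Cover.hom_ext 𝒰 _ _ fun p => ?_
  show pullback.fst a (Sigma.ι Z p) ≫ a = pullback.fst a (Sigma.ι Z p) ≫ b
  haveI : IsOpenImmersion (Sigma.ι Z p) := (sigmaOpenCover Z).map_prop p
  have hr : Set.range (pullback.fst a (Sigma.ι Z p) ≫ b) ⊆ Set.range (Sigma.ι Z p) := by
    rintro _ ⟨z, rfl⟩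
    obtain ⟨q, w, hw⟩ := (sigmaOpenCover Z).exists_eq ((pullback.fst a (Sigma.ι Z p) ≫ b) z)
    change Sigma.ι Z q w = _ at hw
    have h1 := congr($hab (pullback.fst a (Sigma.ι Z p) z))
    have h2 := congr($(pullback.condition (f := a) (g := Sigma.ι Z p)) z)
    simp only [Scheme.Hom.comp_apply] at h1 h2 hw
    rw [h2, ← hw, ← Scheme.Hom.comp_apply, ← Scheme.Hom.comp_apply (Sigma.ι Z q), Sigma.ι_desc, Sigma.ι_desc] at h1
    obtain rfl := hdisj _ _ _ _ h1
    exact ⟨w, hw⟩
  rw [pullback.condition, ← IsOpenImmersion.lift_fac (Sigma.ι Z p) _ hr]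
  congr 1
  rw [← cancel_mono (i p)]
  conv_lhs => rw [← Sigma.ι_desc i p, ← Category.assoc, ← pullback.condition, Category.assoc, hab]
  conv_rhs => rw [← Sigma.ι_desc i p, IsOpenImmersion.lift_fac_assoc]
  rw [Category.assoc]

/-- A finite disjoint union of quasi-compact morphisms is quasi-compact. -/
theorem quasiCompact_sigmaDesc [Finite σ] [∀ p, QuasiCompact (i p)] : QuasiCompact (Sigma.desc i) := by
  rw [quasiCompact_iff_forall_isAffineOpen]
  intro U hU
  have h : ((Sigma.desc i) ⁻¹' (U : Set S)) = ⋃ p, Sigma.ι Z p '' ((i p) ⁻¹' (U : Set S)) := by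
    ext z
    simp only [Set.mem_preimage, Set.mem_iUnion, Set.mem_image]
    refine ⟨fun hz => ?_, ?_⟩
    · obtain ⟨q, w, hw⟩ := (sigmaOpenCover Z).exists_eq z
      change Sigma.ι Z q w = _ at hw
      refine ⟨q, w, ?_, hw⟩
      rwa [← hw, ← Scheme.Hom.comp_apply, Sigma.ι_desc] at hz
    · rintro ⟨q, w, hw, rfl⟩
      rwa [← Scheme.Hom.comp_apply, Sigma.ι_desc]
  show IsCompact ((Sigma.desc i) ⁻¹' (U : Set S))
  rw [h]
  exact isCompact_iUnion fun p => (QuasiCompact.isCompact_preimage _ U.2 hU.isCompact).image (Sigma.ι Z p).continuous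

end coprod

set_option maxHeartbeats 1000000 in
/-- In the relative dimension of a smooth algebra with geometrically irreducible fibres, flatness is representable by
a monomorphism of finite presentation. -/
theorem exists_rep {A B M : Type u} [CommRing A] [CommRing B] [Algebra A B] [AddCommGroup M] [Module B M]
    [Module A M] [IsScalarTower A B M] [Module.FinitePresentation B M] {d : ℕ} (hsm : FlatCA.SmoothRelDim d A B)
    (hgi : FlatCA.GeomIrredFibres A B) :
    ∃ (Z : Scheme.{u}) (i : Z ⟶ Spec (CommRingCat.of A)),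
      Mono i ∧ LocallyOfFinitePresentation i ∧ QuasiCompact i ∧ QuasiSeparated i ∧
      ∀ (A' : Type u) [CommRing A'] [Algebra A A'],
        FDOn (fun _ : Ideal A' => True) d (A' ⊗[A] B) (A' ⊗[A] M) ↔
          ∃ k : Spec (CommRingCat.of A') ⟶ Z, k ≫ i = Spec.map (CommRingCat.ofHom (algebraMap A A')) := by
  classical
  let S := Spec (CommRingCat.of A)
  let f := Spec.map (CommRingCat.ofHom (algebraMap A B))
  haveI : SmoothOfRelativeDimension d f := hsm
  haveI : GeometricallyIrreducible f := hgi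
  haveI : Smooth f := SmoothOfRelativeDimension.smooth d f
  let F := tilde (R := CommRingCat.of B) (ModuleCat.of B M)
  haveI : Coh.IsQCoh F := inferInstanceAs F.IsQuasicoherent
  haveI : F.IsQuasicoherent := inferInstance
  haveI : Module.FinitePresentation (CommRingCat.of B) (ModuleCat.of B M) := ‹Module.FinitePresentation B M›
  have hP : CohB1.IsFP F := Groth.PropsBasic.FPSections.isFP_tilde (R := CommRingCat.of B) (ModuleCat.of B M)
  obtain ⟨c, hc⟩ := Groth.Agent.S9029.result f d F hP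
  choose Z hZimm hZrep hZfp using fun p : ULift.{u} (Fin (c + 1)) =>
    Groth.Agent.S9026.result f F (Groth.PropsBasic.LocFree.isFT_of_isFP F hP) (p.down : ℕ)
  let P : ℕ → Over S → Prop := fun p T => FlatFun.FreeAtGenericPts (PicF.XTproj f T) (FGA.ET f F T) p
  haveI hsmT : ∀ T : Over S, Smooth (PicF.XTproj f T) := fun T =>
    MorphismProperty.pullback_snd f T.hom inferInstance
  haveI hgiT : ∀ T : Over S, GeometricallyIrreducible (PicF.XTproj f T) := fun T =>
    MorphismProperty.pullback_snd f T.hom inferInstance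
  haveI hET : ∀ T : Over S, (FGA.ET f F T).IsQuasicoherent := fun T =>
    inferInstanceAs ((Scheme.Modules.pullback (pullback.fst f T.hom)).obj F).IsQuasicoherent
  have hFT : ∀ T : Over S, CohB1.IsFT (FGA.ET f F T) := fun T =>
    Groth.QCohMod.isFT_pullback (pullback.fst f T.hom) F (Groth.PropsBasic.LocFree.isFT_of_isFP F hP)
  have hbasis : ∀ (p : ℕ) (T : Over S), P p T → ∀ y, FlatFun.IsGenericPtOfFibre (PicF.XTproj f T) y →
      Nonempty (Module.Basis (Fin p) ((PicF.XT f T).presheaf.stalk y) ((FGA.ET f F T).presheaf.stalk y)) := by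
    intro p T hT y hy
    obtain ⟨x, hx1, hx2, hx3⟩ := hT (PicF.XTproj f T y)
    obtain rfl : x = y := ((hx2 y hx1.symm).antisymm (hy x hx1)).eq
    exact Groth.Flatmor4.nonempty_stalkBasis hx3
  have hstab : ∀ (p : ℕ) ⦃T T₀ : Over S⦄ (_ : T ⟶ T₀), P p T₀ → P p T := by
    intro p T T₀ g h t
    obtain ⟨x, hx1, hx2⟩ := Groth.Flatmor4.exists_isGenericPtOfFibre (PicF.XTproj f T) t
    refine ⟨x, hx1, hx2, Groth.Flatmor4.isFreeOfRankNear_generic (PicF.XTproj f T) _ (hFT T) (fun y' hy' => ?_) x hx2⟩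
    obtain ⟨y, hy1, hy2⟩ := Groth.Flatmor4.exists_isGenericPtOfFibre (PicF.XTproj f T₀)
      (g.left (PicF.XTproj f T y'))
    obtain rfl := Groth.Flatmor4.XTmap_generic f g y y' hy2 hy' hy1.symm
    obtain ⟨b⟩ := hbasis p T₀ h _ hy2
    letI := Groth.QCohMod.stalkAlg (PicF.XTmap f g) y'
    obtain ⟨e⟩ := Groth.Flatmor4.nonempty_ET_stalkEquiv f F g y'
    exact ⟨(b.baseChange ((PicF.XT f T).presheaf.stalk y')).map e⟩
  have hmem : ∀ (p : ULift.{u} (Fin (c + 1))) (T : Over S), Nonempty (T ⟶ Z p) ↔ P p.down T := by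
    intro p T
    obtain ⟨R⟩ := hZrep p
    rw [← FlatFun.genPSp_nonempty_iff_of_stable (P p.down) (hstab p.down) T]
    exact ⟨fun ⟨k⟩ => ⟨R.homEquiv k⟩, fun ⟨x⟩ => ⟨R.homEquiv.symm x⟩⟩
  haveI : ∀ p, Mono (Z p).hom := fun p => haveI := hZimm p; inferInstance
  have hdisj : ∀ p q (x : (Z p).left) (y : (Z q).left), (Z p).hom x = (Z q).hom y → p = q := by
    intro p q x y hxy
    obtain ⟨w, -, -⟩ := Scheme.Pullback.exists_preimage_pullback x y hxy
    let T : Over S := Over.mk (pullback.fst (Z p).hom (Z q).hom ≫ (Z p).hom)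
    have hp : P p.down T := (hmem p T).mp ⟨Over.homMk (pullback.fst _ _) rfl⟩
    have hq : P q.down T := (hmem q T).mp ⟨Over.homMk (pullback.snd _ _) pullback.condition.symm⟩
    obtain ⟨z, -, hz⟩ := Groth.Flatmor4.exists_isGenericPtOfFibre (PicF.XTproj f T) w
    obtain ⟨bp⟩ := hbasis _ T hp z hz
    obtain ⟨bq⟩ := hbasis _ T hq z hz
    have h := (Module.finrank_eq_card_basis bp).symm.trans (Module.finrank_eq_card_basis bq)
    rw [Fintype.card_fin, Fintype.card_fin] at h
    exact ULift.ext _ _ (Fin.ext h)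
  let i := Sigma.desc (fun p => (Z p).hom)
  haveI hmono : Mono i := mono_sigmaDesc _ _ hdisj
  refine ⟨∐ fun p => (Z p).left, i, hmono, IsZariskiLocalAtSource.sigmaDesc (fun p => (hZfp p hP).1), ?_, ?_,
    fun A' _ _ => ?_⟩
  · haveI : ∀ p, QuasiCompact (Z p).hom := fun p => (hZfp p hP).2.1
    exact quasiCompact_sigmaDesc _ _
  · exact inferInstance
  refine Iff.trans (dimFibresLT_iff (M := M) (A' := A') d).symm ?_
  let T : Over S := Over.mk (Spec.map (CommRingCat.ofHom (algebraMap A A')))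
  refine (hc T).trans ⟨fun h => ?_, fun ⟨k, hk⟩ t => ?_⟩
  · choose V p htV hpc hV using h
    choose k hk using fun t =>
      ((hmem ⟨⟨p t, Nat.lt_succ_of_le (hpc t)⟩⟩ (Over.mk ((V t).ι ≫ T.hom))).mpr (hV t)).elim
        fun k => (⟨k.left ≫ Sigma.ι (fun p => (Z p).left) _, by
          rw [Category.assoc, Sigma.ι_desc]; exact Over.w k⟩ : ∃ k : (V t).toScheme ⟶ ∐ fun p => (Z p).left, k ≫ i = (V t).ι ≫ T.hom)
    let 𝒰 : T.left.OpenCover := Scheme.Cover.mkOfCovers _ (fun t => (V t).toScheme) (fun t => (V t).ι)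
      (fun t => ⟨t, ⟨t, htV t⟩, rfl⟩) fun t => inferInstance
    have hk' : ∀ a : 𝒰.I₀, k a ≫ i = 𝒰.f a ≫ T.hom := hk
    refine ⟨𝒰.glueMorphisms k fun a b => ?_, 𝒰.hom_ext _ _ fun a => ?_⟩
    · rw [← cancel_mono i, Category.assoc, Category.assoc]
      refine (congrArg (_ ≫ ·) (hk' a)).trans (Eq.trans ?_ (congrArg (_ ≫ ·) (hk' b)).symm)
      exact (Category.assoc _ _ _).symm.trans ((congrArg (· ≫ T.hom) pullback.condition).trans (Category.assoc _ _ _))
    · rw [← Category.assoc, Scheme.Cover.ι_glueMorphisms]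
      exact hk' a
  · obtain ⟨p, w, hw⟩ := (sigmaOpenCover fun p => (Z p).left).exists_eq (k t)
    change Sigma.ι (fun p => (Z p).left) p w = _ at hw
    haveI : IsOpenImmersion (Sigma.ι (fun p => (Z p).left) p) := (sigmaOpenCover fun p => (Z p).left).map_prop p
    let V : T.left.Opens := k ⁻¹ᵁ (Sigma.ι (fun p => (Z p).left) p).opensRange
    refine ⟨V, p.down, ⟨w, hw⟩, Nat.le_of_lt_succ p.down.2, (hmem p _).mp ⟨?_⟩⟩
    have hr : Set.range (V.ι ≫ k) ⊆ Set.range (Sigma.ι (fun p => (Z p).left) p) := by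
      rintro _ ⟨⟨v, hv⟩, rfl⟩; exact hv
    exact Over.homMk (IsOpenImmersion.lift _ _ hr) (by
      show _ = V.ι ≫ T.hom
      rw [← Sigma.ι_desc (fun p => (Z p).hom) p, IsOpenImmersion.lift_fac_assoc, Category.assoc]
      exact congrArg (V.ι ≫ ·) hk)

end Groth.RaynaudGruson.FlatDimBridge
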