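import Groth.Agent.RaynaudGruson.RelAssWitness
import Groth.Agent.RaynaudGruson.FlatDimBridge
import Groth.Agent.RaynaudGruson.FlatFibreAssScheme
import Groth.Agent.Flatmor4.FibreAss
import Groth.Agent.Flatmor4.ModuleApprox
import Groth.Agent.AlgSp3.FibreInv
import Groth.Agent.S9028
import Groth.Agent.S2265
import Mathlib

/-!
The relative assassin of a module over an affine scheme; flatness in dimensions `≥ n` on an étale cover of it.
-/

set_option autoImplicit false
set_option linter.style.haveILetI false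
universe u

open TensorProduct CategoryTheory CategoryTheory.Limits AlgebraicGeometry Opposite

namespace Groth.RaynaudGruson.FlatDimAffine

section transport

variable {A B M A' B' M' : Type u} [CommRing A] [CommRing B] [Algebra A B] [AddCommGroup M] [Module B M]
  [CommRing A'] [CommRing B'] [Algebra A' B'] [AddCommGroup M'] [Module B' M']

/-- Witnesses of associated points of fibres are transported by isomorphisms. -/
theorem isWitness_transport (σA : A ≃+* A') (σB : B ≃+* B') (hσ : ∀ a, σB (algebraMap A B a) = algebraMap A' B' (σA a))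
    (e : M ≃+ M') (he : ∀ b m, e (b • m) = σB b • e m) (p : Ideal A) (p' : Ideal A') (P : Ideal B) (P' : Ideal B')
    (hp : p'.comap σA.toRingHom = p) (hP : P'.comap σB.toRingHom = P) :
    (∃ t : M', FlatFibreAss.IsWitness M' p' P' t) ↔ ∃ t : M, FlatFibreAss.IsWitness M p P t := by
  let eₗ : M →ₛₗ[(σB : B →+* B')] M' := { toFun := e, map_add' := map_add e, map_smul' := he }
  have hI : (p.map (algebraMap A B)).map (σB : B →+* B') = p'.map (algebraMap A' B') := by
    have hc : (σB : B →+* B').comp (algebraMap A B) = (algebraMap A' B').comp σA.toRingHom := RingHom.ext hσ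
    have hs : p.map σA.toRingHom = p' := hp ▸ Ideal.map_comap_of_surjective _ σA.surjective p'
    rw [Ideal.map_map, hc, ← Ideal.map_map, hs]
  have hmem : ∀ m, e m ∈ p'.map (algebraMap A' B') • (⊤ : Submodule B' M') ↔
      m ∈ p.map (algebraMap A B) • (⊤ : Submodule B M) := by
    intro m
    rw [← hI]
    constructor
    · intro h
      suffices ∀ z ∈ (p.map (algebraMap A B)).map (σB : B →+* B') • (⊤ : Submodule B' M'),
          e.symm z ∈ p.map (algebraMap A B) • (⊤ : Submodule B M) by simpa using this _ h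
      intro z hz
      refine Submodule.smul_induction_on hz (fun r hr w _ => ?_) (fun a b ha hb => by rw [map_add]; exact add_mem ha hb)
      obtain ⟨r₀, hr₀, rfl⟩ := (Ideal.mem_map_iff_of_surjective (σB : B →+* B') σB.surjective).mp hr
      rw [show (σB : B →+* B') r₀ • w = e (r₀ • e.symm w) by rw [he, e.apply_symm_apply]; rfl, e.symm_apply_apply]
      exact Submodule.smul_mem_smul hr₀ trivial
    · intro h
      refine Submodule.smul_induction_on h (fun r hr w _ => ?_) (fun a b ha hb => by rw [map_add]; exact add_mem ha hb)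
      rw [he]
      exact Submodule.smul_mem_smul (Ideal.mem_map_of_mem (σB : B →+* B') hr) trivial
  have hP' : ∀ b, σB b ∈ P' ↔ b ∈ P := fun b => by rw [← hP]; rfl
  constructor
  · rintro ⟨t, h1, h2⟩
    obtain ⟨m, rfl⟩ := e.surjective t
    refine ⟨m, fun c hc hct => h1 (σB c) (fun h => hc ((hP' c).1 h)) (by rw [← he]; exact (hmem _).2 hct),
      fun r hr => ?_⟩
    obtain ⟨n, c, hc, hcn⟩ := h2 (σB r) ((hP' r).2 hr)
    obtain ⟨c, rfl⟩ := σB.surjective c
    refine ⟨n, c, fun h => hc ((hP' c).2 h), (hmem _).1 ?_⟩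
    rwa [he, map_mul, map_pow]
  · rintro ⟨m, h1, h2⟩
    refine ⟨e m, fun c hc hct => ?_, fun r hr => ?_⟩
    · obtain ⟨c, rfl⟩ := σB.surjective c
      exact h1 c (fun h => hc ((hP' c).2 h)) ((hmem _).1 (by rwa [he]))
    · obtain ⟨r, rfl⟩ := σB.surjective r
      obtain ⟨n, c, hc, hcn⟩ := h2 r ((hP' r).1 hr)
      refine ⟨n, σB c, fun h => hc ((hP' c).1 h), ?_⟩
      rw [← map_pow, ← map_mul, ← he]
      exact (hmem _).2 hcn

end transport

theorem primeIdealOf_top {R : CommRingCat.{u}} (x : Spec R) :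
    ((isAffineOpen_top (Spec R)).primeIdealOf ⟨x, trivial⟩).asIdeal.comap (Scheme.ΓSpecIso R).inv.hom = x.asIdeal := by
  have h := (isAffineOpen_top (Spec R)).fromSpec_primeIdealOf ⟨x, trivial⟩
  have hU : (isAffineOpen_top (Spec R)).fromSpec = Spec.map (Scheme.ΓSpecIso R).inv := by
    rw [IsAffineOpen.fromSpec_top, Scheme.isoSpec_Spec_inv]
  rw [hU] at h
  exact congrArg PrimeSpectrum.asIdeal h

variable {A B : Type u} [CommRing A] [CommRing B] [Algebra A B]

/-- The relative assassin of a quasi-coherent module over an affine scheme over an affine base. -/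
theorem mem_relAss_tilde_iff [Algebra.FiniteType A B] (M : Type u) [AddCommGroup M] [Module B M] [Module A M]
    [IsScalarTower A B M] [Module.Finite B M] (x : PrimeSpectrum B) :
    x ∈ MoreMor.relAss (Spec.map (CommRingCat.ofHom (algebraMap A B))) (tilde (R := CommRingCat.of B) (ModuleCat.of B M)) ↔
      FlatCA.fiberIdeal (x.asIdeal.comap (algebraMap A B)) x.asIdeal ∈
        associatedPrimes ((x.asIdeal.comap (algebraMap A B)).Fiber B)
          (FlatCA.fiberMod (x.asIdeal.comap (algebraMap A B)) B M) := by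
  let f := Spec.map (CommRingCat.ofHom (algebraMap A B))
  let F := tilde (R := CommRingCat.of B) (ModuleCat.of B M)
  haveI : F.IsQuasicoherent := inferInstance
  haveI : x.asIdeal.LiesOver (x.asIdeal.comap (algebraMap A B)) := ⟨rfl⟩
  rw [← RelAssWitness.isWitness_iff]
  have hA : IsAffineOpen (⊤ : (Spec (CommRingCat.of A)).Opens) := isAffineOpen_top _
  have hB : IsAffineOpen (⊤ : (Spec (CommRingCat.of B)).Opens) := isAffineOpen_top _
  have e : (⊤ : (Spec (CommRingCat.of B)).Opens) ≤ f ⁻¹ᵁ ⊤ := le_top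
  refine (RelAssWitness.mem_relAss_iff_witness f F hA hB e x trivial).trans ?_
  letI := (f.appLE ⊤ ⊤ e).hom.toAlgebra
  let σA : A ≃+* Γ(Spec (CommRingCat.of A), ⊤) := (Scheme.ΓSpecIso (CommRingCat.of A)).symm.commRingCatIsoToRingEquiv
  let σB : B ≃+* Γ(Spec (CommRingCat.of B), ⊤) := (Scheme.ΓSpecIso (CommRingCat.of B)).symm.commRingCatIsoToRingEquiv
  have natB : CommRingCat.ofHom (algebraMap A B) ≫ (Scheme.ΓSpecIso (CommRingCat.of B)).inv =
      (Scheme.ΓSpecIso (CommRingCat.of A)).inv ≫ f.appLE ⊤ ⊤ e := by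
    rw [Scheme.Hom.appLE, Scheme.ΓSpecIso_inv_naturality]
    simp [f, Scheme.Hom.appTop]
  let te : M ≃+ Γ(F, ⊤) := AddEquiv.ofBijective
    ((tilde.toOpen (R := CommRingCat.of B) (ModuleCat.of B M) ⊤).hom.toAddMonoidHom)
    (ConcreteCategory.bijective_of_isIso (tilde.isoTop (R := CommRingCat.of B) (ModuleCat.of B M)).hom)
  refine isWitness_transport σA σB (fun a => congr($natB a)) te
    (fun b m => (tilde.toOpen (R := CommRingCat.of B) (ModuleCat.of B M) ⊤).hom.map_smul b m) _ _ _ _ ?_ ?_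
  · exact primeIdealOf_top (R := CommRingCat.of A) (f x)
  · exact primeIdealOf_top (R := CommRingCat.of B) x

section dim

theorem dimFibresLT_congr {X S : Scheme.{u}} {f g : X ⟶ S} (hfg : f = g) {F G : X.Modules} (e : F ≅ G) (n : ℕ)
    (T : Over S) :
    FlatFun.DimFibresLT n (PicF.XTproj f T) {x | ¬ FlatMod.IsFlatOverAt (PicF.XTproj f T) (FGA.ET f F T) x} ↔
      FlatFun.DimFibresLT n (PicF.XTproj g T) {x | ¬ FlatMod.IsFlatOverAt (PicF.XTproj g T) (FGA.ET g G T) x} := by
  subst hfg
  let eT : FGA.ET f F T ≅ FGA.ET f G T := (Scheme.Modules.pullback _).mapIso e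
  refine iff_of_eq (congrArg _ (Set.ext fun x => not_congr ?_))
  exact Groth.FlatMorOne.isFlatOverAt_congr (PicF.XTproj f T) eT x

/-- Flatness in dimensions `≥ n` may be tested on étale pieces covering the relative assassin over the test scheme. -/
theorem dimFibresLT_of_cover {X S : Scheme.{u}} (f : X ⟶ S) [LocallyOfFiniteType f] (F : X.Modules) [Coh.IsQCoh F]
    (hF : CohB1.IsFT F) {ι : Type*} (X' : ι → Scheme.{u}) (h : ∀ i, X' i ⟶ X) (hh : ∀ i, Etale (h i)) (n : ℕ) (T : Over S)
    (hAss : ∀ y ∈ MoreMor.relAss f F, f y ∈ Set.range T.hom.base → ∃ i, y ∈ Set.range (h i).base)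
    (hT : ∀ i, FlatFun.DimFibresLT n (PicF.XTproj (h i ≫ f) T)
        {x | ¬ FlatMod.IsFlatOverAt (PicF.XTproj (h i ≫ f) T) (FGA.ET (h i ≫ f) ((Scheme.Modules.pullback (h i)).obj F) T) x}) :
    FlatFun.DimFibresLT n (PicF.XTproj f T) {x | ¬ FlatMod.IsFlatOverAt (PicF.XTproj f T) (FGA.ET f F T) x} := by
  intro x hx
  haveI : F.IsQuasicoherent := ‹Coh.IsQCoh F›
  let q := PicF.XTproj f T
  let FT : (PicF.XT f T).Modules := FGA.ET f F T
  haveI : LocallyOfFiniteType q := MorphismProperty.pullback_snd f T.hom inferInstance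
  haveI hqc : FT.IsQuasicoherent :=
    inferInstanceAs ((Scheme.Modules.pullback (pullback.fst f T.hom)).obj F).IsQuasicoherent
  have hFT : CohB1.IsFT FT := Groth.QCohMod.isFT_pullback (pullback.fst f T.hom) F hF
  haveI : Coh.IsQCoh FT := hqc
  obtain ⟨y, hyx, hqy, hy, hyn⟩ : ∃ y, y ⤳ x ∧ q y = q x ∧ y ∈ MoreMor.relAss q FT ∧
      ¬ FlatMod.IsFlatOverAt q FT y := by
    by_contra hne
    exact hx (Groth.RaynaudGruson.FlatFibreAss.isFlatOverAt_of_relAss q FT hFT x
      fun y h1 h2 h3 => by_contra fun h4 => hne ⟨y, h1, h2, h3, h4⟩)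
  have hy' : pullback.fst f T.hom y ∈ MoreMor.relAss f F :=
    (Groth.Flatmor4.relAss_baseChange (IsPullback.of_hasPullback f T.hom) y).1 hy
  obtain ⟨i, a, ha⟩ := hAss _ hy' ⟨pullback.snd f T.hom y, by
    rw [← Scheme.Hom.comp_apply, ← Scheme.Hom.comp_apply, pullback.condition]⟩
  haveI := hh i
  let m : PicF.XT (h i ≫ f) T ⟶ PicF.XT f T := pullback.lift (pullback.fst (h i ≫ f) T.hom ≫ h i)
    (pullback.snd (h i ≫ f) T.hom) (by rw [Category.assoc, pullback.condition])
  have hm : m ≫ q = PicF.XTproj (h i ≫ f) T := pullback.lift_snd _ _ _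
  have hmf : m ≫ pullback.fst f T.hom = pullback.fst (h i ≫ f) T.hom ≫ h i := pullback.lift_fst _ _ _
  have Hm : IsPullback (pullback.fst (h i ≫ f) T.hom) m (h i) (pullback.fst f T.hom) := by
    refine IsPullback.of_bot ?_ hmf.symm (IsPullback.of_hasPullback f T.hom)
    rw [hm]
    exact IsPullback.of_hasPullback (h i ≫ f) T.hom
  haveI : Etale m := MorphismProperty.of_isPullback Hm (hh i)
  obtain ⟨y', -, hy'm⟩ := Scheme.exists_preimage_of_isPullback Hm a y ha
  subst hy'm
  have hflat : (m.stalkMap y').hom.Flat := Flat.stalkMap m y'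
  let e : (Scheme.Modules.pullback m).obj FT ≅ FGA.ET (h i ≫ f) ((Scheme.Modules.pullback (h i)).obj F) T :=
    (Scheme.Modules.pullbackComp m (pullback.fst f T.hom)).app F ≪≫
      (Scheme.Modules.pullbackCongr hmf).app F ≪≫
      ((Scheme.Modules.pullbackComp (pullback.fst (h i ≫ f) T.hom) (h i)).app F).symm
  have hn' : ¬ FlatMod.IsFlatOverAt (PicF.XTproj (h i ≫ f) T)
      (FGA.ET (h i ≫ f) ((Scheme.Modules.pullback (h i)).obj F) T) y' := fun h0 => hyn <| by
    rw [← hm] at h0
    exact (Groth.Flatmor4.isFlatOverAt_pullback_iff m q FT y' hflat).mpr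
      ((Groth.FlatMorOne.isFlatOverAt_congr (m ≫ q) e y').mpr h0)
  have hlt : Dual3.resTrdeg (PicF.XTproj (h i ≫ f) T) y' < (n : Cardinal) := hT i y' hn'
  rw [← hm, Groth.AlgSp3.resTrdeg_etale_comp] at hlt
  exact (Groth.RaynaudGruson.resTrdeg_le_of_specializes_of_eq q hyx hqy).trans_lt hlt

open FlatDimTransfer in
attribute [local instance] TensorAction.tModule in
/-- The condition for the pullback to an affine piece, in ring form. -/
theorem dimFibresLT_piece_iff (C : Type u) [CommRing C] [Algebra A C] [Algebra B C] [IsScalarTower A B C]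
    {M : Type u} [AddCommGroup M] [Module B M] {Nc : Type u} [AddCommGroup Nc] [Module C Nc] [Module B Nc]
    [IsScalarTower B C Nc] [Module A Nc] [IsScalarTower A C Nc] (g : M →ₗ[B] Nc) (hg : IsBaseChange C g)
    (n : ℕ) (A' : Type u) [CommRing A'] [Algebra A A'] :
    let f := Spec.map (CommRingCat.ofHom (algebraMap A B))
    let h := Spec.map (CommRingCat.ofHom (algebraMap B C))
    let T : Over (Spec (CommRingCat.of A)) := Over.mk (Spec.map (CommRingCat.ofHom (algebraMap A A')))
    FlatFun.DimFibresLT n (PicF.XTproj (h ≫ f) T) {x | ¬ FlatMod.IsFlatOverAt (PicF.XTproj (h ≫ f) T)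
        (FGA.ET (h ≫ f) ((Scheme.Modules.pullback h).obj (tilde (R := CommRingCat.of B) (ModuleCat.of B M))) T) x} ↔
      FDOn (fun _ : Ideal A' => True) n (A' ⊗[A] C) (A' ⊗[A] Nc) := by
  intro f h T
  obtain ⟨e⟩ := Groth.Agent.S2265.result B C M
  refine (dimFibresLT_congr ?_ (e ≪≫ (tilde.functor (CommRingCat.of C)).mapIso hg.equiv.toModuleIso) n T).trans
    (FlatDimBridge.dimFibresLT_iff (A := A) (B := C) (M := Nc) (A' := A') n)
  rw [← Spec.map_comp, ← CommRingCat.ofHom_comp, ← IsScalarTower.algebraMap_eq]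

end dim

end Groth.RaynaudGruson.FlatDimAffine
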