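import Groth.Agent.RaynaudGruson.FlatDimBridge
import Mathlib

/-!
Representability of flatness in dimensions `≥ d` along a complete dévissage, near its base point.
-/

set_option autoImplicit false
set_option linter.style.haveILetI false
universe u

open TensorProduct CategoryTheory CategoryTheory.Limits AlgebraicGeometry

namespace Groth.RaynaudGruson.FlatDimDevissage

open FlatDimTransfer TensorAction

attribute [local instance] TensorAction.tModule

/-- Representability of the condition by a monomorphism of finite presentation over `D(g)`. -/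
def Rep {A : Type u} [CommRing A] (d : ℕ) (g : A) (B M : Type u) [CommRing B] [Algebra A B] [AddCommGroup M] [Module B M] [Module A M]
    [IsScalarTower A B M] : Prop :=
  ∃ (Z : Scheme.{u}) (i : Z ⟶ Spec (CommRingCat.of A)),
    Mono i ∧ LocallyOfFinitePresentation i ∧ QuasiCompact i ∧ QuasiSeparated i ∧
    ∀ (A' : Type u) [CommRing A'] [Algebra A A'], IsUnit (algebraMap A A' g) →
      (FDOn (fun _ : Ideal A' => True) d (A' ⊗[A] B) (A' ⊗[A] M) ↔
        ∃ k : Spec (CommRingCat.of A') ⟶ Z, k ≫ i = Spec.map (CommRingCat.ofHom (algebraMap A A')))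

variable {A : Type u} [CommRing A] {B M : Type u} [CommRing B] [Algebra A B] [AddCommGroup M] [Module B M]
  [Module A M] [IsScalarTower A B M]

theorem rep_of_forall (d : ℕ) (g : A) (h : ∀ (A' : Type u) [CommRing A'] [Algebra A A'], IsUnit (algebraMap A A' g) →
    FDOn (fun _ : Ideal A' => True) d (A' ⊗[A] B) (A' ⊗[A] M)) : Rep d g B M :=
  ⟨_, 𝟙 _, inferInstance, inferInstance, inferInstance, inferInstance, fun A' _ _ hg =>
    ⟨fun _ => ⟨_, Category.comp_id _⟩, fun _ => h A' hg⟩⟩

/-- At the extended prime a fibrewise bijection with flat target is invertible up to a factor off it. -/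
theorem exists_inverse [Algebra.Smooth A B] (hgi : FlatCA.GeomIrredFibres A B) [Module.FinitePresentation B M] {r : ℕ}
    (α : (Fin r → B) →ₗ[B] M) (p : Ideal A) [p.IsPrime]
    (hbij : haveI := DevissageProj.isPrime_map hgi p; Function.Bijective (α.baseChange (p.map (algebraMap A B)).ResidueField))
    (hflat : haveI := DevissageProj.isPrime_map hgi p; FlatPred.Pred A (p.map (algebraMap A B)).primeCompl M) :
    ∃ (b : B) (β : M →ₗ[B] (Fin r → B)), b ∉ p.map (algebraMap A B) ∧ ∀ x, β (α x) = b • x := by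
  haveI := DevissageProj.isPrime_map hgi p
  haveI hover := DevissageProj.liesOver_map hgi p
  haveI := SmoothProjective.projective_of_smooth A B hgi
  set P := p.map (algebraMap A B) with hPdef
  have hsurj := fun m => DevissageFlat.exists_smul_eq_apply P α hbij.2 m
  have hker : ∀ (f : Fin r → B) (t : B), t ∉ P → t • α f = 0 → ∀ i, f i ∈ P :=
    fun f t ht h => DevissageFlat.forall_mem_of_smul_eq_zero P α hbij.1 ht h
  let lF := LocalizedModule.mkLinearMap P.primeCompl (Fin r → B)
  let lM := LocalizedModule.mkLinearMap P.primeCompl M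
  let αP := IsLocalizedModule.map P.primeCompl lF lM α
  have hαP : Function.Bijective αP := by
    constructor
    · refine (injective_iff_map_eq_zero _).mpr fun z hz => ?_
      obtain ⟨⟨x, s⟩, hx⟩ := IsLocalizedModule.surj P.primeCompl lF z
      have h1 : lM (α x) = 0 := by
        rw [← IsLocalizedModule.map_apply P.primeCompl lF lM α x, ← hx, Submonoid.smul_def, map_smul, hz, smul_zero]
      obtain ⟨u, hu⟩ := (IsLocalizedModule.eq_zero_iff P.primeCompl _).mp h1
      obtain ⟨s', hs', hs'x⟩ := DevissageLocal.exists_smul_eq_zero p P α rfl hover hsurj hker hflat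
        (x := (u : B) • x) (by rw [map_smul]; exact hu)
      refine IsLocalizedModule.smul_injective lF s ?_
      show s • z = s • (0 : LocalizedModule P.primeCompl (Fin r → B))
      rw [smul_zero, hx]
      refine (IsLocalizedModule.eq_zero_iff P.primeCompl _).mpr
        ⟨⟨algebraMap A B s' * u, mul_mem (s := P.primeCompl) (fun h => hs' (hover.over ▸ h)) u.2⟩, ?_⟩
      show (algebraMap A B s' * u) • x = 0
      rw [mul_smul, algebraMap_smul, hs'x]
    · intro z
      obtain ⟨⟨m, s⟩, hm⟩ := IsLocalizedModule.surj P.primeCompl lM z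
      obtain ⟨t, ht, g, hg⟩ := hsurj m
      refine ⟨IsLocalizedModule.mk' lF g (⟨t, ht⟩ * s), ?_⟩
      rw [IsLocalizedModule.map_mk', IsLocalizedModule.mk'_eq_iff, ← hg, map_smul, ← hm, mul_smul]
      rfl
  obtain ⟨β, s, hβ⟩ := Module.FinitePresentation.exists_lift_of_isLocalizedModule P.primeCompl lF
    ((LinearEquiv.ofBijective αP hαP).symm.toLinearMap ∘ₗ lM)
  obtain ⟨c, hc⟩ := Module.Finite.exists_smul_of_comp_eq_of_isLocalizedModule P.primeCompl lF
    (β ∘ₗ α) ((s : B) • LinearMap.id) (LinearMap.ext fun x => by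
      simp only [LinearMap.coe_comp, Function.comp_apply, LinearMap.smul_apply, LinearMap.id_coe, id_eq, map_smul]
      have h1 := LinearMap.congr_fun hβ (α x)
      rw [LinearMap.smul_apply, Submonoid.smul_def] at h1
      refine h1.trans (congrArg ((s : B) • ·) ?_)
      show (LinearEquiv.ofBijective αP hαP).symm (lM (α x)) = lF x
      rw [LinearEquiv.symm_apply_eq]
      exact (IsLocalizedModule.map_apply P.primeCompl lF lM α x).symm)
  refine ⟨c * s, (c : B) • β, (c * s).2, fun x => ?_⟩
  have h2 := LinearMap.congr_fun hc x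
  simp only [LinearMap.smul_apply, LinearMap.coe_comp, Function.comp_apply, Submonoid.smul_def, LinearMap.id_coe,
    id_eq] at h2
  rw [LinearMap.smul_apply, mul_smul]
  exact h2

/-- An element off the extended prime is off nearby extended primes. -/
theorem exists_good_nbhd [Algebra.Smooth A B] (hgi : FlatCA.GeomIrredFibres A B) (p : Ideal A) [p.IsPrime] {b : B}
    (hb : b ∉ p.map (algebraMap A B)) :
    ∃ f, f ∉ p ∧ ∀ (q : Ideal A), q.IsPrime → f ∉ q → b ∉ q.map (algebraMap A B) := by
  haveI := SmoothProjective.projective_of_smooth A B hgi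
  haveI := DevissageProj.isPrime_map hgi p
  haveI hover := DevissageProj.liesOver_map hgi p
  have hopen : IsOpen (PrimeSpectrum.comap (algebraMap A B) '' (PrimeSpectrum.basicOpen b : Set (PrimeSpectrum B))) :=
    PrimeSpectrum.isOpenMap_comap_of_hasGoingDown_of_finitePresentation _ (PrimeSpectrum.basicOpen b).isOpen
  have hmem : (⟨p, inferInstance⟩ : PrimeSpectrum A) ∈
      PrimeSpectrum.comap (algebraMap A B) '' (PrimeSpectrum.basicOpen b : Set (PrimeSpectrum B)) :=
    ⟨⟨p.map (algebraMap A B), inferInstance⟩, hb, PrimeSpectrum.ext hover.over.symm⟩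
  obtain ⟨_, ⟨f, rfl⟩, hpf, hf⟩ := PrimeSpectrum.isTopologicalBasis_basic_opens.exists_subset_of_mem_open hmem hopen
  refine ⟨f, hpf, fun q hq hfq hbq => ?_⟩
  obtain ⟨Q, hbQ, hQq⟩ := hf (show (⟨q, hq⟩ : PrimeSpectrum A) ∈ _ from hfq)
  exact hbQ (Ideal.map_le_iff_le_comap.mpr (le_of_eq (congrArg PrimeSpectrum.asIdeal hQq).symm) hbq)

/-- Transport along an isomorphism, after base change. -/
theorem fdOn_tensor_of_equiv {A' : Type u} [CommRing A'] [Algebra A A'] {N : Type u} [AddCommGroup N] [Module B N]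
    [Module A N] [IsScalarTower A B N] (e : M ≃ₗ[B] N) (V : Ideal A' → Prop) (n : ℕ) :
    FDOn V n (A' ⊗[A] B) (A' ⊗[A] M) ↔ FDOn V n (A' ⊗[A] B) (A' ⊗[A] N) :=
  fdOn_of_equiv (LinearEquiv.lTensor A' (e.restrictScalars A)).toAddEquiv
    (fun a z => LinearMap.map_smul_of_tower (tMap e.toLinearMap : A' ⊗[A] M →ₗ[A' ⊗[A] B] _) a z)
    (fun w z => (tMap e.toLinearMap : A' ⊗[A] M →ₗ[A' ⊗[A] B] _).map_smul w z) V n

theorem notMem_comap_of_isUnit {A' : Type u} [CommRing A'] [Algebra A A'] {g : A} (hg : IsUnit (algebraMap A A' g))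
    {t : Ideal A'} (ht : t.IsPrime) : g ∉ t.comap (algebraMap A A') :=
  fun h => ht.ne_top (Ideal.eq_top_of_isUnit_mem _ h hg)

section induction

variable {S N : Type u} [CommRing S] [Algebra A S] [AddCommGroup N] [Module S N] [Module A N] [IsScalarTower A S N]
  [Algebra.FinitePresentation A S] [Module.FinitePresentation S N] {s : Ideal A} [s.IsPrime]
  (D : FlatCA.CompleteDevissage A S N s)

set_option maxHeartbeats 1000000 in
/-- Representability at a step. -/
theorem exists_rep_stage (d : ℕ)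
    (hdim : ∀ i, i < D.n → ∃ e : ℕ, FlatCA.SmoothRelDim e A (D.B i)) :
    ∀ k i, i + k + 1 = D.n → ∀ g, g ∉ s →
      FDOn (fun t : Ideal A => g ∉ t) (d + 1) (A ⊗[A] D.B i) (A ⊗[A] D.M i) →
      ∃ g', g' ∉ s ∧ g ∣ g' ∧ Rep d g' (D.B i) (D.M i) := by
  intro k
  induction k using Nat.strong_induction_on with
  | _ k ih =>
    intro i hi g hg hflat
    have hi' : i < D.n := by omega
    haveI := D.smooth i hi'
    have hgi := D.geomIrred i hi'
    haveI := DevissageProj.fp_M D i hi'
    obtain ⟨e, he⟩ := hdim i hi'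
    rcases lt_trichotomy e d with hlt | rfl | hgt
    · refine ⟨g, hg, dvd_rfl, rep_of_forall d g fun A' _ _ _ Q _ _ hQ => ?_⟩
      exfalso
      letI : Algebra (D.B i) (A' ⊗[A] D.B i) := Algebra.TensorProduct.rightAlgebra
      have h1 := FlatDimBridge.rdeg_le (A := A')
        (Flatmor4.smoothRelDim_baseChange (R := A) (R' := A') (D := D.B i) (D' := A' ⊗[A] D.B i) he)
        (Flatmor4.geomIrredFibres_baseChange (R := A) (R' := A') (D := D.B i) (D' := A' ⊗[A] D.B i) hgi) Q
      exact absurd (hQ.trans h1) (not_le.mpr (by exact_mod_cast hlt))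
    · obtain ⟨Z, j, h1, h2, h3, h4, h5⟩ := FlatDimBridge.exists_rep (M := D.M i) he hgi
      exact ⟨g, hg, dvd_rfl, Z, j, h1, h2, h3, h4, fun A' _ _ _ => h5 A'⟩
    -- the extended prime is in the range where the module is flat
    haveI := DevissageProj.isPrime_map hgi s
    haveI hover := DevissageProj.liesOver_map hgi s
    have hplain : FDOn (fun t : Ideal A => g ∉ t) (d + 1) (D.B i) (D.M i) := (fdOn_self_iff _ _).mpr hflat
    have hP : FlatPred.Pred A (s.map (algebraMap A (D.B i))).primeCompl (D.M i) := hplain _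
      (show g ∉ (s.map (algebraMap A (D.B i))).comap (algebraMap A (D.B i)) from fun h => hg (hover.over ▸ h))
      (by rw [FlatDimBridge.rdeg_map he hgi s hover.over.symm]; exact_mod_cast hgt)
    obtain ⟨b, β, hb, hβ⟩ := exists_inverse hgi (D.α i) s (D.fibreIso i hi') hP
    obtain ⟨g₁, hg₁, hgood⟩ := exists_good_nbhd hgi s hb
    have hgg : g * g₁ ∉ s := fun h => (Ideal.IsPrime.mem_or_mem inferInstance h).elim hg hg₁
    have hV : ∀ (t : Ideal A), t.IsPrime → g * g₁ ∉ t → b ∉ t.map (algebraMap A (D.B i)) := fun t ht h =>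
      hgood t ht fun h' => h (t.mul_mem_left _ h')
    by_cases hlast : i + 1 = D.n
    · have hsur : Function.Surjective (D.α i) := by
        obtain rfl : i = D.n - 1 := by omega
        exact D.cokerLast
      have hex : Function.Exact (D.α i) (0 : D.M i →ₗ[D.B i] PUnit.{u + 1}) := fun y =>
        ⟨fun _ => hsur y, fun _ => Subsingleton.elim _ _⟩
      refine ⟨g * g₁, hgg, dvd_mul_right g g₁, rep_of_forall d _ fun A' _ _ hu => ?_⟩
      refine (fdOn_step hgi (D.α i) 0 hex (fun y => ⟨0, Subsingleton.elim _ _⟩) β hβ _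
        (fun t' ht' _ => hV _ inferInstance (notMem_comap_of_isUnit hu ht')) d).mpr fun Q _ _ _ => ?_
      exact FlatPred.pred_of_flat _
    have hi1 : i + 1 < D.n := by omega
    haveI := DevissageProj.tower_A D (i + 1)
    haveI := DevissageProj.tower_B D i
    haveI : Algebra.IsIntegral (D.B i) (D.A (i + 1)) :=
      ⟨fun x => by obtain ⟨y, rfl⟩ := D.surjBA' i hi1 x; exact isIntegral_algebraMap⟩
    haveI := D.finiteBA (i + 1) hi1
    haveI : Algebra.IsIntegral (D.B (i + 1)) (D.A (i + 1)) := Algebra.IsIntegral.of_finite _ _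
    let π : D.M i →ₗ[D.B i] D.M (i + 1) := (D.isoCoker i hi1).toLinearMap ∘ₗ (LinearMap.range (D.α i)).mkQ
    have hπ : Function.Surjective π := (D.isoCoker i hi1).surjective.comp (Submodule.mkQ_surjective _)
    have hex : Function.Exact (D.α i) π := LinearMap.exact_iff.mpr (by
      rw [LinearMap.ker_comp, LinearEquiv.ker, Submodule.comap_bot, Submodule.ker_mkQ])
    have htrans : ∀ (A' : Type u) [CommRing A'] [Algebra A A'] (V : Ideal A' → Prop),
        (∀ t' : Ideal A', t'.IsPrime → V t' → g * g₁ ∉ t'.comap (algebraMap A A')) → ∀ n,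
        (FDOn V n (A' ⊗[A] D.B i) (A' ⊗[A] D.M i) ↔ FDOn V n (A' ⊗[A] D.B (i + 1)) (A' ⊗[A] D.M (i + 1))) :=
      fun A' _ _ V hVA n => (fdOn_step hgi (D.α i) π hex hπ β hβ V
        (fun t' ht' hVt => hV _ inferInstance (hVA t' ht' hVt)) n).trans
        ((fdOn_tensor_iff_of_integral (C := D.A (i + 1)) V n).trans
          (fdOn_tensor_iff_of_integral (B := D.B (i + 1)) (C := D.A (i + 1)) V n).symm)
    obtain ⟨g', hg', hdvd, Z, j, h1, h2, h3, h4, h5⟩ := ih (k - 1) (by omega) (i + 1) (by omega) (g * g₁) hgg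
      ((htrans A (fun t => g * g₁ ∉ t) (fun t _ h => by rwa [Algebra.algebraMap_self, Ideal.comap_id]) _).mp
        (hflat.mono (fun t h h' => h (t.mul_mem_right _ h')) le_rfl))
    refine ⟨g', hg', (dvd_mul_right g g₁).trans hdvd, Z, j, h1, h2, h3, h4, fun A' _ _ hu => ?_⟩
    refine (htrans A' _ (fun t' ht' _ => notMem_comap_of_isUnit ?_ ht') d).trans (h5 A' hu)
    obtain ⟨w, rfl⟩ := hdvd
    exact isUnit_of_mul_isUnit_left (by rwa [map_mul] at hu)

include D in
/-- Representability near the base point. -/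
theorem exists_rep (d : ℕ) (hdim : ∀ i, i < D.n → ∃ e : ℕ, FlatCA.SmoothRelDim e A (D.B i))
    (hflat : FlatCA.FlatInDimGE (d + 1) A S N) : ∃ g, g ∉ s ∧ Rep d g S N := by
  haveI := DevissageProj.tower_A D 0
  haveI : IsScalarTower A S (D.M 0) := IsScalarTower.of_algebraMap_smul fun r m => by
    rw [← algebraMap_smul (D.A 0) (algebraMap A S r) m, ← IsScalarTower.algebraMap_apply, algebraMap_smul]
  haveI : Algebra.IsIntegral S (D.A 0) :=
    ⟨fun x => by obtain ⟨y, rfl⟩ := D.surjSA x; exact isIntegral_algebraMap⟩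
  haveI := D.finiteBA 0 D.pos
  haveI : Algebra.IsIntegral (D.B 0) (D.A 0) := Algebra.IsIntegral.of_finite _ _
  have htrans : ∀ (A' : Type u) [CommRing A'] [Algebra A A'] (V : Ideal A' → Prop) (n : ℕ),
      FDOn V n (A' ⊗[A] S) (A' ⊗[A] N) ↔ FDOn V n (A' ⊗[A] D.B 0) (A' ⊗[A] D.M 0) := fun A' _ _ V n =>
    (fdOn_tensor_of_equiv D.isoN V n).trans ((fdOn_tensor_iff_of_integral (C := D.A 0) V n).trans
      (fdOn_tensor_iff_of_integral (B := D.B 0) (C := D.A 0) V n).symm)
  obtain ⟨m, hm⟩ : ∃ m, D.n = m + 1 := ⟨D.n - 1, by have := D.pos; omega⟩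
  obtain ⟨g, hg, -, Z, j, h1, h2, h3, h4, h5⟩ := exists_rep_stage D d hdim m 0 (by omega) 1
    (fun h => ‹s.IsPrime›.ne_top ((Ideal.eq_top_iff_one _).mpr h))
    ((htrans A _ _).mp ((fdOn_self_iff _ _).mp (((flatInDimGE_iff _).mp hflat).mono (fun _ _ => trivial) le_rfl)))
  exact ⟨g, hg, Z, j, h1, h2, h3, h4, fun A' _ _ hu => (htrans A' _ d).trans (h5 A' hu)⟩

end induction

end Groth.RaynaudGruson.FlatDimDevissage
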