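import Groth.Agent.RaynaudGruson.FlatDimAffine
import Groth.Agent.RaynaudGruson.FlatDimDevissage
import Groth.Agent.RaynaudGruson.DevissageCover
import Groth.Agent.Ega43Geom.AssLocus
import Groth.Agent.FibreDim.OpenFibre
import Groth.Agent.PropsBasic.FPSections
import Groth.Agent.S9027
import Mathlib

/-!
Étale local representability of flatness in dimensions `≥ d` for pure modules flat in dimensions `≥ d + 1`.
-/

set_option autoImplicit false
set_option linter.style.haveILetI false
universe u

open TensorProduct CategoryTheory CategoryTheory.Limits AlgebraicGeometry Opposite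

namespace Groth.RaynaudGruson.FlatDimLocal

open FlatDimTransfer FlatDimAffine

attribute [local instance] TensorAction.tModule

/-- A finite family of monomorphisms of finite presentation has an intersection. -/
theorem exists_inter {S : Scheme.{u}} : ∀ (k : ℕ) (Z : Fin k → Scheme.{u}) (i : ∀ j, Z j ⟶ S),
    (∀ j, Mono (i j) ∧ LocallyOfFinitePresentation (i j) ∧ QuasiCompact (i j)) →
    ∃ (W : Scheme.{u}) (w : W ⟶ S), Mono w ∧ LocallyOfFinitePresentation w ∧ QuasiCompact w ∧
      ∀ (T : Scheme.{u}) (h : T ⟶ S), (∃ l, l ≫ w = h) ↔ ∀ j, ∃ l, l ≫ i j = h := by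
  intro k
  induction k with
  | zero =>
    exact fun Z i _ => ⟨S, 𝟙 S, inferInstance, inferInstance, inferInstance,
      fun T h => ⟨fun _ j => j.elim0, fun _ => ⟨h, Category.comp_id h⟩⟩⟩
  | succ k ih =>
    intro Z i hi
    obtain ⟨W, w, hw1, hw2, hw3, hw⟩ := ih (fun j => Z j.succ) (fun j => i j.succ) fun j => hi j.succ
    obtain ⟨h1, h2, h3⟩ := hi 0
    refine ⟨pullback (i 0) w, pullback.fst (i 0) w ≫ i 0, mono_comp _ _, inferInstance, inferInstance, fun T h => ⟨?_, ?_⟩⟩
    · rintro ⟨l, rfl⟩ j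
      refine Fin.cases ⟨l ≫ pullback.fst _ _, Category.assoc _ _ _⟩ (fun j => ?_) j
      exact (hw T _).1 ⟨l ≫ pullback.snd _ _, by rw [Category.assoc, ← pullback.condition]⟩ j
    · intro hall
      obtain ⟨a, ha⟩ := hall 0
      obtain ⟨b, hb⟩ := (hw T h).2 fun j => hall j.succ
      exact ⟨pullback.lift a b (ha.trans hb.symm), by rw [pullback.lift_fst_assoc, ha]⟩

/-- Base change in two steps. -/
theorem fdOn_tower_iff {A B N : Type u} [CommRing A] [CommRing B] [Algebra A B] [AddCommGroup N] [Module B N]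
    [Module A N] [IsScalarTower A B N] {R BR NR : Type u} [CommRing R] [CommRing BR] [Algebra A R] [Algebra B BR]
    [Algebra R BR] [Algebra A BR] [IsScalarTower A B BR] [IsScalarTower A R BR] [Algebra.IsPushout A B R BR]
    [AddCommGroup NR] [Module BR NR] [Module B NR] [IsScalarTower B BR NR] [Module R NR] [IsScalarTower R BR NR]
    (f : N →ₗ[B] NR) (hf : IsBaseChange BR f) (T : Type u) [CommRing T] [Algebra A T] [Algebra R T]
    [IsScalarTower A R T] (V : Ideal T → Prop) (n : ℕ) :
    FDOn V n (T ⊗[R] BR) (T ⊗[R] NR) ↔ FDOn V n (T ⊗[A] B) (T ⊗[A] N) := by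
  obtain ⟨BT, _, _, _, _, _, _, hpush⟩ := EtalePushout.exists_pushout R BR T
  haveI := hpush
  haveI : Algebra.IsPushout R BR T BT := Algebra.IsPushout.symm hpush
  obtain ⟨NT, _, _, _, _, fT, hfT⟩ := EtalePushout.exists_baseChange BR BT NR
  letI : Module T NT := Module.compHom NT (algebraMap T BT)
  haveI : IsScalarTower T BT NT := IsScalarTower.of_algebraMap_smul fun _ _ => rfl
  refine (fdOn_model_iff fT hfT V n).symm.trans ?_
  letI : Algebra B BT := ((algebraMap BR BT).comp (algebraMap B BR)).toAlgebra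
  haveI : IsScalarTower B BR BT := .of_algebraMap_eq fun _ => rfl
  letI : Algebra A BT := ((algebraMap B BT).comp (algebraMap A B)).toAlgebra
  haveI : IsScalarTower A B BT := .of_algebraMap_eq fun _ => rfl
  haveI : IsScalarTower A BR BT := .of_algebraMap_eq fun r => by
    show algebraMap BR BT (algebraMap B BR (algebraMap A B r)) = _
    rw [← IsScalarTower.algebraMap_apply A B BR]
  haveI : IsScalarTower A T BT := .of_algebraMap_eq fun r => by
    show algebraMap BR BT (algebraMap B BR (algebraMap A B r)) = _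
    rw [← IsScalarTower.algebraMap_apply A B BR, IsScalarTower.algebraMap_apply A R BR,
      ← IsScalarTower.algebraMap_apply R BR BT, IsScalarTower.algebraMap_apply R T BT,
      ← IsScalarTower.algebraMap_apply A R T]
  letI : Module B NT := Module.compHom NT (algebraMap B BR)
  haveI : IsScalarTower B BR NT := IsScalarTower.of_algebraMap_smul fun _ _ => rfl
  haveI : IsScalarTower B BT NT := IsScalarTower.of_algebraMap_smul fun b y => by
    rw [IsScalarTower.algebraMap_apply B BR BT, algebraMap_smul, algebraMap_smul]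
  haveI : Algebra.IsPushout A R B BR := Algebra.IsPushout.symm inferInstance
  haveI : Algebra.IsPushout A B T BT :=
    Algebra.IsPushout.symm ((Algebra.IsPushout.comp_iff A R B BR (T := T) (T' := BT)).mpr inferInstance)
  exact fdOn_model_iff (fT.restrictScalars B ∘ₗ f) (hf.comp hfT) V n

set_option maxHeartbeats 2000000 in
/-- **Étale local representability.** -/
theorem exists_local_rep {A B : Type u} [CommRing A] [CommRing B] [Algebra A B] [Algebra.FinitePresentation A B]
    (N : Type u) [AddCommGroup N] [Module B N] [Module A N] [IsScalarTower A B N] [Module.FinitePresentation B N]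
    (hpure : FlatCA.IsPure A B N) (d : ℕ)
    (hd : ∀ (A' : Type u) [CommRing A'] [Algebra A A'], FDOn (fun _ : Ideal A' => True) (d + 1) (A' ⊗[A] B) (A' ⊗[A] N))
    (p : Ideal A) [p.IsPrime] :
    ∃ (R : Type u) (_ : CommRing R) (_ : Algebra A R), Algebra.Etale A R ∧
      (∃ r : Ideal R, r.IsPrime ∧ r.comap (algebraMap A R) = p) ∧
      ∃ (Z : Scheme.{u}) (i : Z ⟶ Spec (CommRingCat.of R)), Mono i ∧ LocallyOfFinitePresentation i ∧ QuasiCompact i ∧
        ∀ (T : Type u) [CommRing T] [Algebra A T] [Algebra R T] [IsScalarTower A R T],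
          FDOn (fun _ : Ideal T => True) d (T ⊗[A] B) (T ⊗[A] N) ↔
            ∃ k : Spec (CommRingCat.of T) ⟶ Z, k ≫ i = Spec.map (CommRingCat.ofHom (algebraMap R T)) := by
  classical
  obtain ⟨R, _, _, r, _, hnhd, hall⟩ := DevissageCover.exists_cover' (A := A) (B := B) N p
  obtain ⟨het, hro, -⟩ := id hnhd
  haveI := het; haveI := hro
  obtain ⟨BR, _, _, _, _, _, _, hpush⟩ := EtalePushout.exists_pushout A B R
  haveI := hpush
  haveI hpush' : Algebra.IsPushout A B R BR := Algebra.IsPushout.symm hpush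
  obtain ⟨NR, _, _, _, _, fR, hfR⟩ := EtalePushout.exists_baseChange B BR N
  letI : Module R NR := Module.compHom NR (algebraMap R BR)
  haveI : IsScalarTower R BR NR := IsScalarTower.of_algebraMap_smul fun _ _ => rfl
  haveI : Algebra.FinitePresentation R BR := Algebra.FinitePresentation.equiv (Algebra.IsPushout.equiv A R B BR)
  haveI : Module.FinitePresentation BR NR := Module.FinitePresentation.of_equiv hfR.equiv
  obtain ⟨k, C, _, _, _, _, Nc, _, _, _, _, g, hg, hcov⟩ := hall BR NR fR hfR
  haveI hCet : ∀ i, Algebra.Etale BR (C i) := fun i => (hg i).1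
  haveI : ∀ i, Algebra.FinitePresentation R (C i) := fun i => Algebra.FinitePresentation.trans R BR (C i)
  haveI : ∀ i, Module.FinitePresentation (C i) (Nc i) := fun i => Module.FinitePresentation.of_equiv (hg i).2.1.equiv
  letI : ∀ i, Module R (Nc i) := fun i => Module.compHom (Nc i) (algebraMap R (C i))
  haveI : ∀ i, IsScalarTower R (C i) (Nc i) := fun i => IsScalarTower.of_algebraMap_smul fun _ _ => rfl
  let f := Spec.map (CommRingCat.ofHom (algebraMap R BR))
  let F := tilde (R := CommRingCat.of BR) (ModuleCat.of BR NR)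
  let h := fun i => Spec.map (CommRingCat.ofHom (algebraMap BR (C i)))
  haveI : LocallyOfFinitePresentation f :=
    (HasRingHomProperty.Spec_iff (P := @LocallyOfFinitePresentation)).mpr
      (RingHom.finitePresentation_algebraMap.mpr inferInstance)
  haveI hqc : F.IsQuasicoherent := inferInstance
  haveI : Coh.IsQCoh F := hqc
  have hFP : CohB1.IsFP F := PropsBasic.FPSections.isFP_tilde _
  have hFT : CohB1.IsFT F := Groth.PropsBasic.LocFree.isFT_of_isFP F hFP
  haveI hhet : ∀ i, Etale (h i) := fun i =>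
    (HasRingHomProperty.Spec_iff (P := @Etale)).mpr (RingHom.etale_algebraMap.mpr (hCet i))
  -- the image of the cover
  let U : (Spec (CommRingCat.of BR)).Opens :=
    ⟨⋃ i, Set.range (h i).base, isOpen_iUnion fun i => (h i).isOpenMap.isOpen_range⟩
  haveI : CompactSpace U.toScheme :=
    isCompact_iff_compactSpace.1 (isCompact_iUnion fun i => isCompact_range (h i).continuous)
  haveI : QuasiCompact (U.ι ≫ f) := (quasiCompact_iff_compactSpace _).2 inferInstance
  have hE := Ega43Geom.isLocallyConstructible_relAss_subset f F hFP U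
  obtain ⟨_, ⟨g₀, rfl⟩, hrg, hg₀⟩ := PrimeSpectrum.isTopologicalBasis_basic_opens.mem_nhds_iff.1
    (FibreDim.mem_nhds_of_isLocallyConstructible hE (y := (⟨r, inferInstance⟩ : PrimeSpectrum R)) fun t ht x hx hxt => by
      have hxass := (mem_relAss_tilde_iff (A := R) (B := BR) NR x).1 hx
      haveI : x.asIdeal.LiesOver (x.asIdeal.comap (algebraMap R BR)) := ⟨rfl⟩
      have hle : x.asIdeal.comap (algebraMap R BR) ≤ r := by
        have h1 := (PrimeSpectrum.le_iff_specializes t (⟨r, inferInstance⟩ : PrimeSpectrum R)).2 ht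
        rw [← hxt] at h1
        exact h1
      obtain ⟨P', hP'p, hxP', hP'r⟩ : ∃ P' : Ideal BR, P'.IsPrime ∧ x.asIdeal ≤ P' ∧ P'.LiesOver r := by
        by_contra! hcon
        exact hpure p R BR NR fR (x.asIdeal.comap (algebraMap R BR)) r x.asIdeal hnhd
          ⟨hpush', hfR, hle, hro, inferInstance, hxass, fun P' hP' hle' => hcon P' hP' hle'⟩
      haveI := hP'p
      obtain ⟨i, Q', hQ'p, hQ'⟩ := hcov P' hP'r
      have hPU : (⟨P', inferInstance⟩ : PrimeSpectrum BR) ∈ ⋃ i, Set.range (PrimeSpectrum.comap (algebraMap BR (C i))) :=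
        Set.mem_iUnion.2 ⟨i, (⟨Q', hQ'p⟩ : PrimeSpectrum (C i)), PrimeSpectrum.ext hQ'⟩
      exact U.2.stableUnderGeneralization ((PrimeSpectrum.le_iff_specializes x (⟨P', inferInstance⟩ : PrimeSpectrum BR)).mp hxP') hPU)
  have hg₀r : g₀ ∉ r := hrg
  -- the condition on the pieces
  have toPiece : ∀ (T : Type u) [CommRing T] [Algebra R T] (n : ℕ),
      FDOn (fun _ : Ideal T => True) n (T ⊗[R] BR) (T ⊗[R] NR) →
      ∀ i, FDOn (fun _ : Ideal T => True) n (T ⊗[R] C i) (T ⊗[R] Nc i) := by
    intro T _ _ n hT i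
    haveI := hhet i
    exact (dimFibresLT_piece_iff (A := R) (B := BR) (C i) (g i) (hg i).2.1 n T).1
      (Groth.Agent.S9027.result f F hFT (h i) n _ ((FlatDimBridge.dimFibresLT_iff n).2 hT))
  have ofPieces : ∀ (T : Type u) [CommRing T] [Algebra R T] (n : ℕ), IsUnit (algebraMap R T g₀) →
      (∀ i, FDOn (fun _ : Ideal T => True) n (T ⊗[R] C i) (T ⊗[R] Nc i)) →
      FDOn (fun _ : Ideal T => True) n (T ⊗[R] BR) (T ⊗[R] NR) := by
    intro T _ _ n hu hT
    refine (FlatDimBridge.dimFibresLT_iff n).1 (dimFibresLT_of_cover f F hFT _ h hhet n _ (fun y hy hyT => ?_)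
      fun i => (dimFibresLT_piece_iff (A := R) (B := BR) (C i) (g i) (hg i).2.1 n T).2 (hT i))
    obtain ⟨t, ht⟩ := hyT
    have hyU : y ∈ U := hg₀ (show f y ∈ PrimeSpectrum.basicOpen g₀ from by
      rw [← ht]
      exact fun h' => (PrimeSpectrum.isPrime t).ne_top (Ideal.eq_top_of_isUnit_mem _ h' hu)) y hy rfl
    exact Set.mem_iUnion.1 hyU
  have hflat : ∀ i, FlatCA.FlatInDimGE (d + 1) R (C i) (Nc i) := fun i =>
    (flatInDimGE_iff (d + 1)).2 ((fdOn_self_iff _ _).2
      (toPiece R (d + 1) ((fdOn_tower_iff fR hfR R _ _).2 (hd R)) i))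
  choose D hD using fun i => (hg i).2.2
  choose gi hgi Zi ii hmono hlfp hqcp hqs hrep using fun i => FlatDimDevissage.exists_rep (D i) d (hD i) (hflat i)
  let G := g₀ * ∏ i, gi i
  have hG : G ∉ r := fun hmem => by
    rcases Ideal.IsPrime.mem_or_mem ‹r.IsPrime› hmem with h1 | h1
    · exact hg₀r h1
    · obtain ⟨i, -, hi⟩ := (Ideal.IsPrime.prod_mem_iff).1 h1
      exact hgi i hi
  let R' := Localization.Away G
  haveI : Algebra.Etale R R' := Algebra.Etale.of_isLocalizationAway G
  haveI : Algebra.Etale A R' := Algebra.Etale.comp A R R'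
  have hdis : Disjoint (Submonoid.powers G : Set R) r :=
    (Ideal.disjoint_powers_iff_notMem_of_isPrime (y := G)).mpr hG
  obtain ⟨W, w, hw1, hw2, hw3, hW⟩ := exists_inter k Zi ii fun i => ⟨hmono i, hlfp i, hqcp i⟩
  let j := Spec.map (CommRingCat.ofHom (algebraMap R R'))
  refine ⟨R', inferInstance, inferInstance, inferInstance, ⟨r.map (algebraMap R R'),
    IsLocalization.isPrime_of_isPrime_disjoint (Submonoid.powers G) _ _ ‹_› hdis, ?_⟩,
    pullback w j, pullback.snd w j, inferInstance, inferInstance, inferInstance, ?_⟩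
  · rw [IsScalarTower.algebraMap_eq A R R', ← Ideal.comap_comap]
    exact (congrArg (Ideal.comap (algebraMap A R))
      (IsLocalization.under_map_of_isPrime_disjoint (Submonoid.powers G) R' ‹_› hdis)).trans hro.over.symm
  intro T _ _ _ _
  letI : Algebra R T := ((algebraMap R' T).comp (algebraMap R R')).toAlgebra
  haveI : IsScalarTower R R' T := .of_algebraMap_eq fun _ => rfl
  haveI : IsScalarTower A R T := .of_algebraMap_eq fun a => by
    rw [IsScalarTower.algebraMap_apply A R' T, IsScalarTower.algebraMap_apply A R R']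
    rfl
  have hu : IsUnit (algebraMap R T G) := by
    rw [IsScalarTower.algebraMap_apply R R' T]
    exact (IsLocalization.Away.algebraMap_isUnit G).map _
  have hu₀ : IsUnit (algebraMap R T g₀) := isUnit_of_mul_isUnit_left (by rw [← map_mul]; exact hu)
  have hui : ∀ i, IsUnit (algebraMap R T (gi i)) := fun i => isUnit_of_dvd_unit
    (map_dvd (algebraMap R T) ((Finset.dvd_prod_of_mem gi (Finset.mem_univ i)).trans (Dvd.intro_left g₀ rfl))) hu
  refine (fdOn_tower_iff (R := R) (BR := BR) (NR := NR) fR hfR T (fun _ : Ideal T => True) d).symm.trans ?_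
  have hj : Spec.map (CommRingCat.ofHom (algebraMap R' T)) ≫ j = Spec.map (CommRingCat.ofHom (algebraMap R T)) := by
    rw [← Spec.map_comp, ← CommRingCat.ofHom_comp, ← IsScalarTower.algebraMap_eq]
  constructor
  · intro hT
    obtain ⟨l, hl⟩ := (hW _ (Spec.map (CommRingCat.ofHom (algebraMap R T)))).2 fun i =>
      (hrep i T (hui i)).1 (toPiece T d hT i)
    exact ⟨pullback.lift l _ (hl.trans hj.symm), pullback.lift_snd _ _ _⟩
  · rintro ⟨l, hl⟩
    refine ofPieces T d hu₀ fun i => (hrep i T (hui i)).2 ?_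
    exact (hW _ _).1 ⟨l ≫ pullback.fst w j, by rw [Category.assoc, pullback.condition, ← Category.assoc, hl, hj]⟩ i

end Groth.RaynaudGruson.FlatDimLocal
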