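import Groth.Agent.RaynaudGruson.FlatDimScheme
import Mathlib

/-!
Representability of flatness in dimensions `≥ n` for a finitely presented module on a proper scheme of finite
presentation: properness takes the place of purity.
-/

set_option autoImplicit false
set_option linter.style.haveILetI false
universe u

open TensorProduct CategoryTheory CategoryTheory.Limits AlgebraicGeometry Opposite

namespace Groth.RaynaudGruson.FlatDimProper

open FlatDimTransfer SubtermRep FlatDimScheme

attribute [local instance] TensorAction.tModule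

variable {X S : Scheme.{u}}

/-- A representation on affine test schemes is a representation. -/
theorem monoRep_of_affine (f : X ⟶ S) [LocallyOfFiniteType f] (F : X.Modules) [F.IsQuasicoherent] (n : ℕ) {V : Over S}
    {W : Scheme.{u}} (w : W ⟶ V.left) [Mono w] [LocallyOfFinitePresentation w] [QuasiCompact w]
    (h : ∀ (R : Type u) [CommRing R] (x : Spec (CommRingCat.of R) ⟶ V.left),
      P f F n (Over.mk (x ≫ V.hom)) ↔ ∃ k, k ≫ w = x) :
    MonoRep (P f F n) V := by
  refine ⟨Over.mk (w ≫ V.hom), Over.homMk w, ‹_›, ‹_›, ‹_›, fun T hTV => ?_⟩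
  constructor
  · intro hP
    have hcov : ∀ t : T.left, ∃ (U : T.left.Opens), IsAffineOpen U ∧ t ∈ U := fun t => by
      obtain ⟨_, ⟨U, hU, rfl⟩, htU, -⟩ := T.left.isBasis_affineOpens.exists_subset_of_mem_open
        (Set.mem_univ t) isOpen_univ
      exact ⟨U, hU, htU⟩
    choose U hU htU using hcov
    have hk : ∀ t, ∃ k : Spec Γ(T.left, U t) ⟶ W, k ≫ w = (hU t).fromSpec ≫ hTV.left := fun t =>
      (h Γ(T.left, U t) _).1 (stable f F n (Over.homMk (hU t).fromSpec (by simp [Over.w hTV])) hP)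
    choose k hk using hk
    let 𝒰 : T.left.OpenCover := Scheme.Cover.mkOfCovers _ (fun t => Spec Γ(T.left, U t)) (fun t => (hU t).fromSpec)
      (fun t => ⟨t, (hU t).range_fromSpec.ge (htU t)⟩) fun t => (hU t).isOpenImmersion_fromSpec
    have hk' : ∀ a : 𝒰.I₀, k a ≫ w = 𝒰.f a ≫ hTV.left := hk
    let l : T.left ⟶ W := 𝒰.glueMorphisms k fun a b => by
      rw [← cancel_mono w, Category.assoc, Category.assoc]
      refine (congrArg (_ ≫ ·) (hk' a)).trans (Eq.trans ?_ (congrArg (_ ≫ ·) (hk' b)).symm)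
      exact (Category.assoc _ _ _).symm.trans ((congrArg (· ≫ hTV.left) pullback.condition).trans (Category.assoc _ _ _))
    have hl : l ≫ w = hTV.left := 𝒰.hom_ext _ _ fun a => by
      rw [← Category.assoc, Scheme.Cover.ι_glueMorphisms]
      exact hk' a
    refine ⟨Over.homMk l (by
      show l ≫ w ≫ V.hom = T.hom
      rw [← Category.assoc, hl, Over.w hTV]), Over.OverMorphism.ext hl⟩
  · rintro ⟨k, hk⟩
    refine of_affine_local f F n T fun R _ j _ => ?_
    have hk' : k.left ≫ w = hTV.left := congrArg CommaMorphism.left hk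
    have h1 := (h R (j ≫ hTV.left)).2 ⟨j ≫ k.left, by rw [Category.assoc, hk']⟩
    rwa [Category.assoc, Over.w hTV] at h1

/-- A representation after base change is a representation over the new base. -/
theorem monoRep_baseChange {X' S' : Scheme.{u}} {f : X ⟶ S} [LocallyOfFiniteType f] {f' : X' ⟶ S'} {g : S' ⟶ S}
    {g' : X' ⟶ X} (H : IsPullback g' f' f g) (F : X.Modules) [F.IsQuasicoherent] (n : ℕ) {V : Over S'}
    (hrep : MonoRep (P f' ((Scheme.Modules.pullback g').obj F) n) V) :
    MonoRep (P f F n) (Over.mk (V.hom ≫ g)) := by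
  obtain ⟨W, w, hw1, hw2, hw3, hW⟩ := hrep
  haveI : Mono (w.left : W.left ⟶ (Over.mk (V.hom ≫ g)).left) := hw1
  haveI : LocallyOfFinitePresentation (w.left : W.left ⟶ (Over.mk (V.hom ≫ g)).left) := hw2
  haveI : QuasiCompact (w.left : W.left ⟶ (Over.mk (V.hom ≫ g)).left) := hw3
  refine monoRep_of_affine f F n (V := Over.mk (V.hom ≫ g)) w.left fun R _ x => ?_
  have h1 := P_baseChange_self H F n (Over.mk (x ≫ V.hom))
  show P f F n (Over.mk (x ≫ V.hom ≫ g)) ↔ _
  rw [← Category.assoc]
  refine h1.symm.trans ((hW (Over.homMk x : Over.mk (x ≫ V.hom) ⟶ V)).trans ?_)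
  constructor
  · rintro ⟨k, hk⟩
    exact ⟨k.left, congrArg CommaMorphism.left hk⟩
  · rintro ⟨k, hk⟩
    exact ⟨Over.homMk k (by
      show k ≫ W.hom = x ≫ V.hom
      rw [← Over.w w, ← Category.assoc]
      exact congrArg (· ≫ V.hom) hk), Over.OverMorphism.ext hk⟩

/-- A finite affine cover. -/
theorem exists_charts {A : Type u} [CommRing A] (f : X ⟶ Spec (CommRingCat.of A)) [QuasiCompact f] :
    ∃ (k : ℕ) (B : Fin k → Type u) (_ : ∀ a, CommRing (B a)) (_ : ∀ a, Algebra A (B a))
      (j : ∀ a, Spec (CommRingCat.of (B a)) ⟶ X), (∀ a, IsOpenImmersion (j a)) ∧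
      (∀ a, j a ≫ f = Spec.map (CommRingCat.ofHom (algebraMap A (B a)))) ∧ ∀ x : X, ∃ a, x ∈ Set.range (j a) := by
  classical
  haveI : CompactSpace X := QuasiCompact.compactSpace_of_compactSpace f
  have hcov : (Set.univ : Set X) ⊆ ⋃ U : X.affineOpens, (U.1 : Set X) := fun x _ => by
    obtain ⟨_, ⟨U, hU, rfl⟩, hxU, -⟩ := X.isBasis_affineOpens.exists_subset_of_mem_open (Set.mem_univ x) isOpen_univ
    exact Set.mem_iUnion.2 ⟨⟨U, hU⟩, hxU⟩
  obtain ⟨t, ht⟩ := isCompact_univ.elim_finite_subcover _ (fun U : X.affineOpens => U.1.2) hcov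
  let e := t.equivFin.symm
  have hφ : ∀ a, ∃ φ : CommRingCat.of A ⟶ Γ(X, (e a).1.1), Spec.map φ = (e a).1.2.fromSpec ≫ f := fun a =>
    Spec.map_surjective _
  choose φ hφ using hφ
  refine ⟨t.card, fun a => Γ(X, (e a).1.1), fun a => inferInstance, fun a => (φ a).hom.toAlgebra,
    fun a => (e a).1.2.fromSpec, fun a => (e a).1.2.isOpenImmersion_fromSpec, fun a => (hφ a).symm, fun x => ?_⟩
  obtain ⟨U, hUt, hxU⟩ : ∃ U : X.affineOpens, U ∈ t ∧ x ∈ U.1 := by simpa using ht (Set.mem_univ x)
  exact ⟨t.equivFin ⟨U, hUt⟩, (e (t.equivFin ⟨U, hUt⟩)).1.2.range_fromSpec.ge (by simpa [e] using hxU)⟩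

/-- Above the dimension of the fibres the condition is empty. -/
theorem exists_bound {A : Type u} [CommRing A] (f : X ⟶ Spec (CommRingCat.of A)) [QuasiCompact f]
    [LocallyOfFinitePresentation f] (F : X.Modules) (hF : CohB1.IsFP F) :
    ∃ m : ℕ, ∀ T, P f F m T := by
  classical
  haveI := isQuasicoherent_of_isFP hF
  have hFT : CohB1.IsFT F := Groth.PropsBasic.LocFree.isFT_of_isFP F hF
  obtain ⟨k, B, _, _, j, hj, hjf, hcov⟩ := exists_charts f
  haveI := hj
  have hft : ∀ a, Algebra.FiniteType A (B a) := fun a => by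
    haveI : LocallyOfFiniteType (Spec.map (CommRingCat.ofHom (algebraMap A (B a)))) := hjf a ▸ inferInstance
    exact RingHom.finiteType_algebraMap.mp ((HasRingHomProperty.Spec_iff (P := @LocallyOfFiniteType)).mp ‹_›)
  choose m φ hφ using fun a => Algebra.FiniteType.iff_quotient_mvPolynomial''.mp (hft a)
  refine ⟨Finset.univ.sum m + 1, fun T => of_affine_local f F _ T fun R _ x _ => ?_⟩
  obtain ⟨ψ, hψ⟩ := Spec.map_surjective (x ≫ T.hom)
  letI : Algebra A R := ψ.hom.toAlgebra
  have hψ' : Spec.map (CommRingCat.ofHom (algebraMap A R)) = x ≫ T.hom := hψ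
  rw [← hψ']
  refine P_of_pieces f F hFT j (fun a => inferInstance) _ _ (fun y _ => hcov y) fun a => ?_
  obtain ⟨N, _, _, _, ⟨e⟩⟩ := exists_iso_tilde (j a) F hF
  letI : Module A N := Module.compHom N (algebraMap A (B a))
  haveI : IsScalarTower A (B a) N := IsScalarTower.of_algebraMap_smul fun _ _ => rfl
  exact (P_affine_iff (hjf a) e _).2 (FlatDimRep.fdOn_of_lt (φ a) (hφ a)
    (Nat.lt_succ_of_le (Finset.single_le_sum (fun _ _ => Nat.zero_le _) (Finset.mem_univ a))) R)

set_option maxHeartbeats 4000000 in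
/-- **Étale local representability.** -/
theorem exists_local_rep {A : Type u} [CommRing A] (f : X ⟶ Spec (CommRingCat.of A)) [IsProper f]
    [LocallyOfFinitePresentation f] (F : X.Modules) (hF : CohB1.IsFP F) (d : ℕ) (hd : ∀ T, P f F (d + 1) T)
    (p : Ideal A) [p.IsPrime] :
    ∃ (R : Type u) (_ : CommRing R) (_ : Algebra A R), Algebra.Etale A R ∧
      (∃ r : Ideal R, r.IsPrime ∧ r.comap (algebraMap A R) = p) ∧
      MonoRep (P f F d) (Over.mk (Spec.map (CommRingCat.ofHom (algebraMap A R)))) := by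
  classical
  haveI := isQuasicoherent_of_isFP hF
  have hFT : CohB1.IsFT F := Groth.PropsBasic.LocFree.isFT_of_isFP F hF
  obtain ⟨k, B, _, _, j, hj, hjf, hcovX⟩ := exists_charts f
  haveI := hj
  haveI hBfp : ∀ a, Algebra.FinitePresentation A (B a) := fun a => by
    haveI : LocallyOfFinitePresentation (Spec.map (CommRingCat.ofHom (algebraMap A (B a)))) := hjf a ▸ inferInstance
    exact RingHom.finitePresentation_algebraMap.mp
      ((HasRingHomProperty.Spec_iff (P := @LocallyOfFinitePresentation)).mp ‹_›)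
  choose N iN1 iN2 hNfp eN using fun a => exists_iso_tilde (j a) F hF
  haveI := hNfp
  choose Ra iR1 iR2 ra hra hnhd hall using fun a => DevissageCover.exists_cover' (A := A) (B := B a) (N a) p
  choose BR iB1 iB2 iB3 iB4 iB5 iB6 hpush using fun a => EtalePushout.exists_pushout A (B a) (Ra a)
  have hpush' : ∀ a, Algebra.IsPushout A (B a) (Ra a) (BR a) := fun a => by
    haveI := hpush a; exact Algebra.IsPushout.symm inferInstance
  choose NR iM1 iM2 iM3 iM4 fR hfR using fun a => EtalePushout.exists_baseChange (B a) (BR a) (N a)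
  choose kk C iC1 iC2 iC3 iC4 Nc iP1 iP2 iP3 iP4 g hg hcov using fun a =>
    haveI := hpush' a; hall a (BR a) (NR a) (fR a) (hfR a)
  -- the pieces over the étale neighbourhoods
  let ga := fun a => Spec.map (CommRingCat.ofHom (algebraMap A (Ra a)))
  let Xa := fun a => pullback f (ga a)
  let cB := fun a => Spec.map (CommRingCat.ofHom (algebraMap (B a) (BR a)))
  let ca : ∀ a, Spec (CommRingCat.of (BR a)) ⟶ Xa a := fun a =>
    pullback.lift (cB a ≫ j a) (Spec.map (CommRingCat.ofHom (algebraMap (Ra a) (BR a)))) (by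
      rw [Category.assoc, hjf a, ← Spec.map_comp, ← Spec.map_comp, ← CommRingCat.ofHom_comp, ← CommRingCat.ofHom_comp,
        ← IsScalarTower.algebraMap_eq, ← IsScalarTower.algebraMap_eq])
  have hca : ∀ a, IsPullback (cB a) (ca a) (j a) (pullback.fst f (ga a)) := fun a => by
    haveI := hpush' a
    refine IsPullback.of_bot ?_ (pullback.lift_fst _ _ _).symm (IsPullback.of_hasPullback f (ga a))
    rw [pullback.lift_snd, hjf a]
    exact isPullback_SpecMap_of_isPushout _ _ _ _ (CommRingCat.isPushout_of_isPushout A (B a) (Ra a) (BR a))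
  haveI hcaO : ∀ a, IsOpenImmersion (ca a) := fun a =>
    MorphismProperty.of_isPullback (P := @IsOpenImmersion) (hca a) (hj a)
  let h := fun a i => Spec.map (CommRingCat.ofHom (algebraMap (BR a) (C a i))) ≫ ca a
  haveI hh : ∀ a i, Etale (h a i) := fun a i => by
    haveI : Etale (Spec.map (CommRingCat.ofHom (algebraMap (BR a) (C a i)))) :=
      (HasRingHomProperty.Spec_iff (P := @Etale)).mpr (RingHom.etale_algebraMap.mpr (hg a i).1)
    exact inferInstanceAs (Etale (_ ≫ ca a))
  let y := fun a i => h a i ≫ pullback.fst f (ga a)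
  let q := fun a i => h a i ≫ pullback.snd f (ga a)
  have hq : ∀ a i, q a i = Spec.map (CommRingCat.ofHom (algebraMap (Ra a) (C a i))) := fun a i => by
    simp only [q, h, ca, Category.assoc, pullback.lift_snd]
    rw [← Spec.map_comp, ← CommRingCat.ofHom_comp, ← IsScalarTower.algebraMap_eq]
  letI : ∀ a i, Module (Ra a) (Nc a i) := fun a i => Module.compHom (Nc a i) (algebraMap (Ra a) (C a i))
  haveI : ∀ a i, IsScalarTower (Ra a) (C a i) (Nc a i) := fun a i => IsScalarTower.of_algebraMap_smul fun _ _ => rfl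
  have he : ∀ a i, Nonempty ((Scheme.Modules.pullback (y a i)).obj F ≅
      tilde (R := CommRingCat.of (C a i)) (ModuleCat.of (C a i) (Nc a i))) := fun a i => by
    obtain ⟨e0⟩ := eN a
    obtain ⟨e1⟩ := exists_iso_tilde_baseChange (fR a) (hfR a) e0
    obtain ⟨e2⟩ := exists_iso_tilde_baseChange (g a i) (hg a i).2.1 e1
    have : y a i = Spec.map (CommRingCat.ofHom (algebraMap (BR a) (C a i))) ≫ cB a ≫ j a := by
      simp only [y, h, ca, Category.assoc, pullback.lift_fst]
    exact ⟨(Scheme.Modules.pullbackCongr this).app F ≪≫ e2⟩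
  -- the condition on a piece
  have hpiece : ∀ a i n (T : Over (Spec (CommRingCat.of (Ra a)))), P f F n (Over.mk (T.hom ≫ ga a)) →
      P (q a i) ((Scheme.Modules.pullback (y a i)).obj F) n T := fun a i n T hT => by
    haveI : LocallyOfFiniteType (pullback.snd f (ga a)) := inferInstance
    refine (P_congr rfl ((Scheme.Modules.pullbackComp (h a i) (pullback.fst f (ga a))).app F) n T).1 ?_
    exact P_piece (pullback.snd f (ga a)) _ (Groth.QCohMod.isFT_pullback _ F hFT) (h a i) n
      ((P_baseChange_self (IsPullback.of_hasPullback f (ga a)) F n T).2 hT)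
  have hflat : ∀ a i, FlatCA.FlatInDimGE (d + 1) (Ra a) (C a i) (Nc a i) := fun a i => by
    obtain ⟨e⟩ := he a i
    exact (flatInDimGE_iff (d + 1)).2 ((fdOn_self_iff _ _).2
      ((P_affine_iff (hq a i) e (d + 1)).1 (hpiece a i (d + 1) _ (hd _))))
  haveI : ∀ a i, Algebra.FinitePresentation (Ra a) (C a i) := fun a i => by
    haveI := (hg a i).1
    haveI := hpush' a
    haveI : Algebra.FinitePresentation (Ra a) (BR a) :=
      Algebra.FinitePresentation.equiv (Algebra.IsPushout.equiv A (Ra a) (B a) (BR a))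
    exact Algebra.FinitePresentation.trans (Ra a) (BR a) (C a i)
  haveI : ∀ a i, Module.FinitePresentation (C a i) (Nc a i) := fun a i => by
    haveI : Module.FinitePresentation (BR a) (NR a) := Module.FinitePresentation.of_equiv (hfR a).equiv
    exact Module.FinitePresentation.of_equiv (hg a i).2.1.equiv
  choose D hD using fun a i => (hg a i).2.2
  choose gi hgi Zi ii hmono hlfp hqcp hqs hrep using fun a i => FlatDimDevissage.exists_rep (D a i) d (hD a i) (hflat a i)
  -- the common neighbourhood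
  obtain ⟨R, _, _, r, _, φ, hR, hφ⟩ := CommonNbhd.exists_common p k Ra ra hra hnhd
  haveI := hR.1
  let σ := Spec.map (CommRingCat.ofHom (algebraMap A R))
  let s := fun a => Spec.map (CommRingCat.ofHom (φ a).toRingHom)
  have hsg : ∀ a, s a ≫ ga a = σ := fun a => by
    rw [← Spec.map_comp, ← CommRingCat.ofHom_comp]
    exact congrArg (fun w => Spec.map (CommRingCat.ofHom w)) (φ a).comp_algebraMap
  let fst := pullback.fst f σ
  let snd := pullback.snd f σ
  let ua : ∀ a, pullback f σ ⟶ Xa a := fun a => pullback.lift fst (snd ≫ s a) (by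
    rw [Category.assoc, hsg a]; exact pullback.condition)
  have hua : ∀ a, IsPullback (ua a) snd (pullback.snd f (ga a)) (s a) := fun a => by
    refine IsPullback.of_right ?_ (pullback.lift_snd _ _ _) (IsPullback.of_hasPullback f (ga a))
    rw [pullback.lift_fst, hsg a]
    exact IsPullback.of_hasPullback f σ
  let ι := (a : Fin k) × Fin (kk a)
  let Y := fun x : ι => pullback (h x.1 x.2) (ua x.1)
  let h' : ∀ x : ι, Y x ⟶ pullback f σ := fun x => pullback.snd _ _
  haveI hh' : ∀ x, Etale (h' x) := fun x => inferInstance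
  let U : (pullback f σ).Opens := ⟨⋃ x, Set.range (h' x), isOpen_iUnion fun x => (h' x).isOpenMap.isOpen_range⟩
  have hfib : ∀ x, snd x = (⟨r, inferInstance⟩ : PrimeSpectrum R) → x ∈ U := by
    intro x hx
    obtain ⟨a, b, hb⟩ := hcovX (fst x)
    obtain ⟨z, -, hz⟩ := Scheme.exists_preimage_of_isPullback (hca a) b (ua a x) (by
      rw [hb]
      exact (congr($(pullback.lift_fst fst (snd ≫ s a) _) x)).symm.trans rfl)
    have hzr : PrimeSpectrum.comap (algebraMap (Ra a) (BR a)) z =
        PrimeSpectrum.comap (φ a).toRingHom ⟨r, inferInstance⟩ := by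
      show Spec.map (CommRingCat.ofHom (algebraMap (Ra a) (BR a))) z = s a _
      rw [← hx, ← Scheme.Hom.comp_apply snd (s a), ← show ua a ≫ pullback.snd f (ga a) = snd ≫ s a from
        pullback.lift_snd _ _ _, Scheme.Hom.comp_apply, ← hz, ← Scheme.Hom.comp_apply]
      exact congr($((pullback.lift_snd _ _ _ : ca a ≫ pullback.snd f (ga a) = _).symm) z)
    haveI : (z : PrimeSpectrum (BR a)).asIdeal.LiesOver (ra a) :=
      ⟨((congrArg PrimeSpectrum.asIdeal hzr).trans (hφ a)).symm⟩
    obtain ⟨i, Q', hQ', hQ⟩ := hcov a (z : PrimeSpectrum (BR a)).asIdeal inferInstance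
    have hzQ : h a i (⟨Q', hQ'⟩ : PrimeSpectrum (C a i)) = ua a x := by
      rw [← hz]
      exact congrArg (ca a) (PrimeSpectrum.ext hQ)
    obtain ⟨w, -, hw⟩ := Scheme.exists_preimage_of_isPullback (IsPullback.of_hasPullback (h a i) (ua a))
      (⟨Q', hQ'⟩ : PrimeSpectrum (C a i)) x hzQ
    exact Set.mem_iUnion.2 ⟨⟨a, i⟩, w, hw⟩
  haveI : UniversallyClosed snd := inferInstanceAs (UniversallyClosed (pullback.snd f σ))
  have hcl : IsClosed (snd '' (U : Set ↥(pullback f σ))ᶜ) := snd.isClosedMap _ U.2.isClosed_compl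
  obtain ⟨_, ⟨g₀, rfl⟩, hrg, hg₀⟩ := PrimeSpectrum.isTopologicalBasis_basic_opens.mem_nhds_iff.1
    (hcl.isOpen_compl.mem_nhds (x := (⟨r, inferInstance⟩ : PrimeSpectrum R))
      fun ⟨x, hx, hxr⟩ => hx (hfib x hxr))
  have hg₀r : g₀ ∉ r := hrg
  -- shrink it
  let G := g₀ * ∏ x : ι, φ x.1 (gi x.1 x.2)
  have hG : G ∉ r := fun hmem => by
    rcases Ideal.IsPrime.mem_or_mem ‹r.IsPrime› hmem with h1 | h1
    · exact hg₀r h1
    · obtain ⟨x, -, hx⟩ := (Ideal.IsPrime.prod_mem_iff).1 h1
      exact hgi x.1 x.2 (by rw [← hφ x.1]; exact hx)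
  let R' := Localization.Away G
  haveI : Algebra.Etale R R' := Algebra.Etale.of_isLocalizationAway G
  haveI : Algebra.Etale A R' := Algebra.Etale.comp A R R'
  have hdis : Disjoint (Submonoid.powers G : Set R) r :=
    (Ideal.disjoint_powers_iff_notMem_of_isPrime (y := G)).mpr hG
  let jl := Spec.map (CommRingCat.ofHom (algebraMap R R'))
  haveI : ∀ a i, Mono (ii a i) := hmono
  haveI : ∀ a i, LocallyOfFinitePresentation (ii a i) := hlfp
  haveI : ∀ a i, QuasiCompact (ii a i) := hqcp
  let eι := Fintype.equivFin ι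
  let Zp := fun m : Fin (Fintype.card ι) => pullback (ii (eι.symm m).1 (eι.symm m).2) (jl ≫ s (eι.symm m).1)
  obtain ⟨W, w, hw1, hw2, hw3, hW⟩ := FlatDimLocal.exists_inter _ Zp (fun m => pullback.snd _ _)
    fun m => ⟨inferInstance, inferInstance, inferInstance⟩
  haveI := hw1; haveI := hw2; haveI := hw3
  have hσ' : Spec.map (CommRingCat.ofHom (algebraMap A R')) = jl ≫ σ := by
    rw [← Spec.map_comp, ← CommRingCat.ofHom_comp, ← IsScalarTower.algebraMap_eq]
  have hrp : r.comap (algebraMap A R) = p := hR.2.choose.over.symm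
  refine ⟨R', inferInstance, inferInstance, inferInstance, ⟨r.map (algebraMap R R'),
    IsLocalization.isPrime_of_isPrime_disjoint (Submonoid.powers G) _ _ ‹_› hdis, ?_⟩, ?_⟩
  · rw [IsScalarTower.algebraMap_eq A R R', ← Ideal.comap_comap]
    exact (congrArg (Ideal.comap (algebraMap A R))
      (IsLocalization.under_map_of_isPrime_disjoint (Submonoid.powers G) R' ‹_› hdis)).trans hrp
  refine monoRep_of_affine f F d w fun R₀ _ x => ?_
  show P f F d (Over.mk (x ≫ Spec.map (CommRingCat.ofHom (algebraMap A R')))) ↔ _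
  rw [hσ', ← Category.assoc]
  let T : Over (Spec (CommRingCat.of R)) := Over.mk (x ≫ jl)
  refine (P_baseChange_self (IsPullback.of_hasPullback f σ) F d T).symm.trans ?_
  let FR := (Scheme.Modules.pullback fst).obj F
  have hFR : CohB1.IsFT FR := Groth.QCohMod.isFT_pullback fst F hFT
  obtain ⟨ψ, hψ⟩ := Spec.map_surjective x
  have hcovT : ∀ y, snd y ∈ Set.range T.hom → ∃ i, y ∈ Set.range (h' i) := fun z ⟨t, ht⟩ => by
    refine Set.mem_iUnion.1 (by_contra fun hz => hg₀ (a := snd z) ?_ ⟨z, hz, rfl⟩)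
    have hgu : IsUnit (algebraMap R R' g₀) :=
      isUnit_of_dvd_unit (map_dvd _ (Dvd.intro _ rfl)) (IsLocalization.Away.algebraMap_isUnit G)
    rw [← ht]
    exact fun h' => (x t).isPrime.ne_top (Ideal.eq_top_of_isUnit_mem _ h' hgu)
  have hpc : ∀ z : ι, P (h' z ≫ snd) ((Scheme.Modules.pullback (h' z)).obj FR) d T ↔
      ∃ k, k ≫ ii z.1 z.2 = x ≫ jl ≫ s z.1 := fun z => by
    have H : IsPullback (pullback.fst (h z.1 z.2) (ua z.1)) (h' z ≫ snd) (q z.1 z.2) (s z.1) :=
      (IsPullback.of_hasPullback (h z.1 z.2) (ua z.1)).paste_vert (hua z.1)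
    haveI : LocallyOfFiniteType (q z.1 z.2) := inferInstanceAs (LocallyOfFiniteType (_ ≫ _))
    have hy : h' z ≫ fst = pullback.fst (h z.1 z.2) (ua z.1) ≫ y z.1 z.2 := by
      have := congrArg (· ≫ pullback.fst f (ga z.1)) (pullback.condition (f := h z.1 z.2) (g := ua z.1))
      simp only [Category.assoc, ua, pullback.lift_fst] at this
      exact this.symm
    refine (P_congr rfl ((Scheme.Modules.pullbackComp (h' z) fst).app F ≪≫
      (Scheme.Modules.pullbackCongr hy).app F) d T).trans ((P_baseChange H (y z.1 z.2) F d T).trans ?_)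
    letI : Algebra (Ra z.1) R₀ := ((ψ.hom.comp (algebraMap R R')).comp (φ z.1).toRingHom).toAlgebra
    have hx' : Spec.map (CommRingCat.ofHom (algebraMap (Ra z.1) R₀)) = (x ≫ jl) ≫ s z.1 := by
      rw [← hψ, ← Spec.map_comp, ← Spec.map_comp]
      rfl
    show P _ _ d (Over.mk ((x ≫ jl) ≫ s z.1)) ↔ _
    rw [← hx']
    obtain ⟨e⟩ := he z.1 z.2
    refine (P_affine_iff (hq z.1 z.2) e d).trans ((hrep z.1 z.2 R₀ ?_).trans ?_)
    · exact (isUnit_of_dvd_unit (map_dvd (algebraMap R R') ((Finset.dvd_prod_of_mem (fun x : ι => φ x.1 (gi x.1 x.2))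
        (Finset.mem_univ z)).trans (Dvd.intro_left g₀ rfl))) (IsLocalization.Away.algebraMap_isUnit G)).map ψ.hom
    · rw [hx', Category.assoc]
  constructor
  · intro hT
    refine (hW _ x).2 fun m => ?_
    obtain ⟨l, hl⟩ := (hpc (eι.symm m)).1 (P_piece snd FR hFR (h' _) d hT)
    exact ⟨pullback.lift l x hl, pullback.lift_snd _ _ _⟩
  · intro hk
    refine P_of_pieces snd FR hFR h' hh' d T hcovT fun z => (hpc z).2 ?_
    obtain ⟨l, hl⟩ := (hW _ x).1 hk (eι z)
    have hl' : (l ≫ pullback.fst _ _) ≫ ii (eι.symm (eι z)).1 (eι.symm (eι z)).2 = x ≫ jl ≫ s (eι.symm (eι z)).1 := by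
      rw [Category.assoc, pullback.condition, ← Category.assoc, hl]
    exact (congrArg (fun v : ι => ∃ k, k ≫ ii v.1 v.2 = x ≫ jl ≫ s v.1) (eι.symm_apply_apply z)).mp
      ⟨l ≫ pullback.fst _ _, hl'⟩

end Groth.RaynaudGruson.FlatDimProper
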