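import Groth.Agent.RaynaudGruson.ImpurityEtale
import Mathlib

/-!
Purity is stable under quasi-finite base change of finite type.
-/

set_option autoImplicit false
set_option linter.style.haveILetI false
universe u

namespace Groth.RaynaudGruson

open TensorProduct

variable {A B : Type u} [CommRing A] [CommRing B] [Algebra A B] {N : Type u} [AddCommGroup N]
  [Module B N] [Module A N] [IsScalarTower A B N]

/-- Purity passes to a base change along a quasi-finite algebra of finite type. -/
theorem isPure_of_quasiFinite [Algebra.FiniteType A B] (hpure : FlatCA.IsPure A B N)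
    {A' B' N' : Type u} [CommRing A'] [CommRing B'] [Algebra A A'] [Algebra B B'] [Algebra A' B'] [Algebra A B']
    [IsScalarTower A B B'] [IsScalarTower A A' B'] [Algebra.IsPushout A B A' B']
    [Algebra.FiniteType A A'] [Algebra.QuasiFinite A A']
    [AddCommGroup N'] [Module B' N'] [Module B N'] [IsScalarTower B B' N'] [Module A' N'] [IsScalarTower A' B' N']
    (f : N →ₗ[B] N') (hf : IsBaseChange B' f) : FlatCA.IsPure A' B' N' := by
  intro p' _ A'' B'' N'' _ _ _ _ _ _ _ _ _ _ _ _ _ _ g t' t _ _ P _ hnhd himp
  obtain ⟨hpush, hg, htt, ht, hP, hass, hno⟩ := himp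
  haveI := ht
  letI : Algebra A A'' := ((algebraMap A' A'').comp (algebraMap A A')).toAlgebra
  letI : Algebra B B'' := ((algebraMap B' B'').comp (algebraMap B B')).toAlgebra
  letI : Algebra A B'' := ((algebraMap B B'').comp (algebraMap A B)).toAlgebra
  haveI : IsScalarTower A A' A'' := .of_algebraMap_eq fun _ => rfl
  haveI : IsScalarTower B B' B'' := .of_algebraMap_eq fun _ => rfl
  haveI : IsScalarTower A B B'' := .of_algebraMap_eq fun _ => rfl
  haveI : IsScalarTower A B' B'' := .of_algebraMap_eq fun r => by
    show algebraMap B' B'' (algebraMap B B' (algebraMap A B r)) = _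
    rw [← IsScalarTower.algebraMap_apply A B B']
  haveI : IsScalarTower A A'' B'' := .of_algebraMap_eq fun r => by
    show algebraMap B' B'' (algebraMap B B' (algebraMap A B r)) = algebraMap A'' B'' (algebraMap A' A'' (algebraMap A A' r))
    rw [← IsScalarTower.algebraMap_apply A B B', ← IsScalarTower.algebraMap_apply A' A'' B'',
      IsScalarTower.algebraMap_apply A A' B', ← IsScalarTower.algebraMap_apply A' B' B'']
  letI : Module B N'' := Module.compHom N'' (algebraMap B B')
  haveI : IsScalarTower B B' N'' := IsScalarTower.of_algebraMap_smul fun _ _ => rfl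
  haveI : IsScalarTower B B'' N'' := IsScalarTower.of_algebraMap_smul fun b y => by
    rw [IsScalarTower.algebraMap_apply B B' B'', algebraMap_smul, algebraMap_smul]
  let p := p'.comap (algebraMap A A')
  haveI : p'.LiesOver p := ⟨rfl⟩
  haveI : t.LiesOver p := Ideal.LiesOver.trans t p' p
  haveI : Algebra.IsPushout A A' B B' := Algebra.IsPushout.symm inferInstance
  haveI : Algebra.IsPushout A' A'' B' B'' := Algebra.IsPushout.symm hpush
  haveI hpush' : Algebra.IsPushout A B A'' B'' :=
    Algebra.IsPushout.symm ((Algebra.IsPushout.comp_iff A A' B B' (T := A'') (T' := B'')).mpr inferInstance)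
  have hw : Wit (A := A) (B := B) N t' t :=
    wit_of_isImpurity (A := A) (B := B) (N := N) A'' B'' N'' (g.restrictScalars B ∘ₗ f) p t' t P
      ⟨hpush', hf.comp hg, htt, inferInstance, hP, hass, hno⟩
  haveI : Algebra.Etale A' A'' := hnhd.1
  haveI : Algebra.FiniteType A A'' := Algebra.FiniteType.trans (S := A') inferInstance inferInstance
  haveI : Algebra.QuasiFinite A' A'' := inferInstance
  haveI : Algebra.QuasiFiniteAt A p' := inferInstance
  haveI : Algebra.QuasiFiniteAt A t := quasiFiniteAt_trans p' t
  obtain ⟨D, _, _, s', s, _, _, hD, hwD⟩ := hw.exists_etaleNhd_of_quasiFinite p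
  haveI := hD.2.1
  obtain ⟨D', B₁, N₁, _, _, _, _, _, _, _, _, _, _, _, _, _, _, g₁, u', u, _, _, Q, _, himp₁, hQ⟩ :=
    hasImpurity_of_wit p (Q := fun D _ _ s => ∀ [s.IsPrime], FlatCA.IsEtaleNhd A D p s) s' s inferInstance hwD
      (fun {_} => hD)
  exact hpure p D' B₁ N₁ g₁ u' u Q hQ himp₁

end Groth.RaynaudGruson
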