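import Groth.Agent.AlgSpBasic.SepLQF
import Groth.Agent.AlgSp2.AffineRows
import Groth.Prelude.Def_FlatFun
import Mathlib

/-!
Representability by monomorphisms of finite presentation is étale local, for subfunctors of the final functor.
-/

set_option autoImplicit false
set_option linter.style.haveILetI false
set_option backward.isDefEq.respectTransparency.types false
universe u

open CategoryTheory CategoryTheory.Limits AlgebraicGeometry Opposite AlgSp

namespace Groth.RaynaudGruson.SubtermRep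

open Groth.AlgSpBasic

variable {S : Scheme.{u}}

/-- The condition `P` over `V` is represented by a monomorphism of finite presentation. -/
def MonoRep (P : Over S → Prop) (V : Over S) : Prop :=
  ∃ (W : Over S) (w : W ⟶ V), Mono w.left ∧ LocallyOfFinitePresentation w.left ∧ QuasiCompact w.left ∧
    ∀ ⦃T : Over S⦄ (h : T ⟶ V), P T ↔ ∃ k : T ⟶ W, k ≫ w = h

section

variable (P : Over S → Prop) (hst : ∀ ⦃T T₀ : Over S⦄ (_ : T ⟶ T₀), P T₀ → P T)
  (hsh : Presheaf.IsSheaf (QuotSh.J Scheme.fpqcPrecoverage S) (FlatFun.genPSp S P))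

/-- The subfunctor as an fppf sheaf. -/
def spOf : Sp S :=
  ⟨FlatFun.genPSp S P, by
    rw [isSheaf_iff_isSheaf_of_type] at hsh ⊢
    exact Presieve.isSheaf_of_le _
      (fun T R hR => (GrothendieckTopology.mem_over_iff _ R).2 (Precoverage.toGrothendieck_mono Scheme.fppfPrecoverage_le_fpqcPrecoverage _ ((GrothendieckTopology.mem_over_iff _ R).1 hR))) hsh⟩

include hst in
theorem nonempty_hom_spOf_iff (T : Over S) : Nonempty ((yon S).obj T ⟶ spOf P hsh) ↔ P T := by
  rw [← FlatFun.genPSp_nonempty_iff_of_stable P hst T]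
  exact (yEquiv (U := T) (F := spOf P hsh)).nonempty_congr

theorem subsingleton_hom_spOf (T : Over S) : Subsingleton ((yon S).obj T ⟶ spOf P hsh) :=
  haveI : Subsingleton ((spOf P hsh).obj.obj (op T)) := FlatFun.genPSp_subsingleton _ _ _
  (yEquiv (U := T) (F := spOf P hsh)).injective.subsingleton

include hst hsh in
/-- **Representability by monomorphisms of finite presentation is étale local.** -/
theorem monoRep_of_etale_local (Z : Over S) [Mono Z.hom] (hZ : ∀ T, P T → Nonempty (T ⟶ Z))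
    (hloc : ∀ z : Z.left, ∃ (V : Over S) (b : V ⟶ Z), Etale b.left ∧ z ∈ Set.range b.left ∧ MonoRep P V) :
    MonoRep P Z := by
  classical
  let G := spOf P hsh
  have uniq : ∀ {T : Over S} (f g : T ⟶ Z), f = g := fun f g =>
    Over.OverMorphism.ext ((cancel_mono Z.hom).1 ((Over.w f).trans (Over.w g).symm))
  have secP : ∀ {T : Over S}, ((yon S).obj T ⟶ G) → P T := fun {T} x =>
    (nonempty_hom_spOf_iff P hst hsh T).1 ⟨x⟩
  let u : G ⟶ (yon S).obj Z :=
    ⟨{ app := fun T => ↾fun x => ULift.up (hZ T.unop ((FlatFun.genPSp_nonempty_iff_of_stable P hst T.unop).1 ⟨x⟩)).some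
       naturality := fun T T' g => by ext x; exact congrArg ULift.up (uniq _ _) }⟩
  have key : ∀ (V W : Over S) (b : V ⟶ Z) (w : W ⟶ V), Mono w.left →
      (∀ ⦃T : Over S⦄ (h : T ⟶ V), P T ↔ ∃ k : T ⟶ W, k ≫ w = h) →
      ∃ fst : (yon S).obj W ⟶ G, IsPullback fst ((yon S).map w) u ((yon S).map b) := by
    intro V W b w hw hrep
    haveI : Mono w := (Over.forget S).mono_of_mono_map hw
    obtain ⟨fst⟩ := (nonempty_hom_spOf_iff P hst hsh W).2 ((hrep w).2 ⟨𝟙 W, Category.id_comp w⟩)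
    have ext : ∀ {T : Over S} (f g : (yon S).obj T ⟶ (yon S).obj Z), f = g := fun f g => by
      obtain ⟨f, rfl⟩ := (yon S).map_surjective f
      obtain ⟨g, rfl⟩ := (yon S).map_surjective g
      rw [uniq f g]
    refine ⟨fst, isPullback_of_lifts (ext _ _) (fun T x c _ => ?_) fun T a a' _ h2 => ?_⟩
    · obtain ⟨h, rfl⟩ := (yon S).map_surjective c
      obtain ⟨k, hk⟩ := (hrep h).1 (secP x)
      exact ⟨(yon S).map k, @Subsingleton.elim _ (subsingleton_hom_spOf P hsh T) _ _,
        by rw [← Functor.map_comp, hk]⟩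
    · obtain ⟨a, rfl⟩ := (yon S).map_surjective a
      obtain ⟨a', rfl⟩ := (yon S).map_surjective a'
      rw [← Functor.map_comp, ← Functor.map_comp] at h2
      rw [(cancel_mono w).1 ((yon S).map_injective h2)]
  have main : ∀ (Q : MorphismProperty Scheme.{u}) [Q.IsStableUnderBaseChange] [IsZariskiLocalAtTarget Q]
      [Q.DescendsAlong (@Surjective ⊓ @Flat ⊓ @QuasiCompact)],
      (∀ {X Y : Scheme.{u}} (f : X ⟶ Y) [Mono f] [LocallyOfFinitePresentation f] [QuasiCompact f], Q f) →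
      RepWith Q u := by
    intro Q _ _ _ hQ
    refine repWith_of_local fun T g t => ?_
    obtain ⟨g', rfl⟩ := (yon S).map_surjective g
    obtain ⟨V, b, hb, hzb, W, w, hw1, hw2, hw3, hrep⟩ := hloc (g'.left t)
    haveI := hb; haveI := hw1; haveI := hw2; haveI := hw3
    let O : Z.left.Opens := ⟨Set.range b.left, b.left.isOpenMap.isOpen_range⟩
    let Z₀ : Over S := Over.mk (O.ι ≫ Z.hom)
    let j : Z₀ ⟶ Z := Over.homMk O.ι rfl
    let b₀l : V.left ⟶ O.toScheme := IsOpenImmersion.lift O.ι b.left (by rw [Scheme.Opens.range_ι]; rfl)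
    have hb₀ : b₀l ≫ O.ι = b.left := IsOpenImmersion.lift_fac _ _ _
    let b₀ : V ⟶ Z₀ := Over.homMk b₀l (by
      show b₀l ≫ O.ι ≫ Z.hom = V.hom
      rw [← Category.assoc, hb₀, Over.w b])
    haveI : Etale b₀.left := by
      haveI : Etale (b₀l ≫ O.ι) := by rw [hb₀]; exact hb
      exact Etale.of_comp b₀l O.ι
    haveI : Surjective b₀.left := ⟨fun o => by
      obtain ⟨v, hv⟩ := (show (O.ι o) ∈ Set.range b.left from o.2)
      exact ⟨v, O.ι.isOpenEmbedding.injective (by rw [← Scheme.Hom.comp_apply]; exact (congrArg (fun f => f v) hb₀).trans hv)⟩⟩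
    -- over the open image
    obtain ⟨P₀, p₁, p₂, sqP⟩ : ∃ (P₀ : Sp S) (p₁ : P₀ ⟶ G) (p₂ : P₀ ⟶ (yon S).obj Z₀),
        IsPullback p₁ p₂ u ((yon S).map j) := ⟨_, _, _, IsPullback.of_hasPullback _ _⟩
    obtain ⟨fst, sq⟩ := key V W (b₀ ≫ j) w hw1 hrep
    have sq₀ : IsPullback (sqP.lift fst ((yon S).map w ≫ (yon S).map b₀) (by
        rw [Category.assoc, ← Functor.map_comp]; exact sq.w)) ((yon S).map w) p₂ ((yon S).map b₀) :=
      IsPullback.of_right (by rw [sqP.lift_fst, ← Functor.map_comp]; exact sq) (sqP.lift_snd _ _ _) sqP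
    haveI : Sheaf.IsLocallySurjective ((yon S).map b₀) := isLocallySurjective_of_repWith _
      ((repWith_yon_map_iff _ b₀).2 (inferInstance : Flat b₀.left))
      ((repWith_yon_map_iff _ b₀).2 (inferInstance : LocallyOfFinitePresentation b₀.left))
      ((repWith_yon_map_iff _ b₀).2 (inferInstance : Surjective b₀.left))
    have hp₂ : RepWith Q p₂ := repWith_of_sepLQF ((yon S).map b₀) sq₀ (hQ w.left)
    let T' : Over S := Over.mk ((g'.left ⁻¹ᵁ O).ι ≫ T.hom)
    let c : T' ⟶ T := Over.homMk (g'.left ⁻¹ᵁ O).ι rfl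
    let d : T' ⟶ Z₀ := Over.homMk (g'.left.resLE O (g'.left ⁻¹ᵁ O) le_rfl) (by
      show g'.left.resLE O (g'.left ⁻¹ᵁ O) le_rfl ≫ O.ι ≫ Z.hom = (g'.left ⁻¹ᵁ O).ι ≫ T.hom
      rw [← Category.assoc, Scheme.Hom.resLE_comp_ι, Category.assoc, Over.w g'])
    obtain ⟨W', w', a, hW'⟩ := hp₂.rep ((yon S).map d)
    refine ⟨T', c, W', w', a ≫ p₁, inferInstanceAs (IsOpenImmersion (g'.left ⁻¹ᵁ O).ι), ⟨⟨t, hzb⟩, rfl⟩, ?_,
      hp₂.property _ _ _ hW'⟩
    have := hW'.paste_horiz sqP
    rwa [← Functor.map_comp, show d ≫ j = c ≫ g' from uniq _ _, Functor.map_comp] at this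
  have h1 := main @LocallyOfFinitePresentation fun f _ _ _ => inferInstance
  have h2 := main @QuasiCompact fun f _ _ _ => inferInstance
  obtain ⟨W, w, fst, sq⟩ := h1.rep (𝟙 ((yon S).obj Z))
  haveI : IsIso fst := sq.isIso_fst_of_isIso
  refine ⟨W, w, ?_, h1.property _ _ _ sq, h2.property _ _ _ sq, fun T h => ⟨fun hP => ?_, fun ⟨k, _⟩ => ?_⟩⟩
  · refine ⟨fun {R} a b hab => ?_⟩
    let R' : Over S := Over.mk (a ≫ W.hom)
    let a' : R' ⟶ W := Over.homMk a rfl
    let b' : R' ⟶ W := Over.homMk b (by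
      show b ≫ W.hom = a ≫ W.hom
      rw [← Over.w w, reassoc_of% hab])
    have h3 : (yon S).map a' ≫ fst = (yon S).map b' ≫ fst := @Subsingleton.elim _ (subsingleton_hom_spOf P hsh R') _ _
    rw [cancel_mono] at h3
    exact congrArg CommaMorphism.left ((yon S).map_injective h3)
  · obtain ⟨x⟩ := (nonempty_hom_spOf_iff P hst hsh T).2 hP
    obtain ⟨k, -⟩ := (yon S).map_surjective (x ≫ inv fst)
    exact ⟨k, uniq _ _⟩
  · exact secP ((yon S).map k ≫ fst)

end

end Groth.RaynaudGruson.SubtermRep
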