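import Groth.Agent.RaynaudGruson.FlatDimLocal
import Groth.Agent.RaynaudGruson.PurityQuasiFinite
import Groth.Agent.RaynaudGruson.SubtermRep
import Groth.Agent.S9023
import Mathlib

/-!
Representability of flatness in dimensions `≥ n` for pure modules of finite presentation.
-/

set_option autoImplicit false
set_option linter.style.haveILetI false
universe u

open TensorProduct CategoryTheory CategoryTheory.Limits AlgebraicGeometry Opposite

namespace Groth.RaynaudGruson.FlatDimRep

open FlatDimTransfer SubtermRep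

attribute [local instance] TensorAction.tModule

/-- The residue fields of an algebra with `n` generators have transcendence degree at most `n`. -/
theorem rdeg_le_of_surjective {A B : Type u} [CommRing A] [CommRing B] [Algebra A B] {n : ℕ}
    (φ : MvPolynomial (Fin n) A →ₐ[A] B) (hφ : Function.Surjective φ) (Q : Ideal B) [Q.IsPrime] :
    rdeg A Q ≤ (n : Cardinal.{u}) := by
  rw [rdeg, Groth.DualCore.resTrdeg_spec]
  letI := (Ideal.ResidueField.map (Q.comap (algebraMap A B)) Q (algebraMap A B) rfl).toAlgebra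
  let K := (Q.comap (algebraMap A B)).ResidueField
  let y : Fin n → Q.ResidueField := fun i => algebraMap B Q.ResidueField (φ (MvPolynomial.X i))
  have hmem : ∀ b : B, algebraMap B Q.ResidueField b ∈ Algebra.adjoin K (Set.range y) := by
    intro b
    obtain ⟨P, rfl⟩ := hφ b
    induction P using MvPolynomial.induction_on with
    | C a =>
      rw [← MvPolynomial.algebraMap_eq, φ.commutes]
      have h1 : algebraMap B Q.ResidueField (algebraMap A B a) = algebraMap K Q.ResidueField (algebraMap A K a) :=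
        (Ideal.ResidueField.map_algebraMap (Q.comap (algebraMap A B)) Q (algebraMap A B) rfl a).symm
      rw [h1]
      exact Subalgebra.algebraMap_mem _ _
    | add p q hp hq => rw [map_add, map_add]; exact add_mem hp hq
    | mul_X p i hp => rw [map_mul, map_mul]; exact mul_mem hp (Algebra.subset_adjoin ⟨i, rfl⟩)
  haveI halg : Algebra.IsAlgebraic (Algebra.adjoin K (Set.range y)) Q.ResidueField := ⟨fun z => by
    obtain ⟨a, b, hb, rfl⟩ := IsFractionRing.div_surjective (B ⧸ Q) z
    obtain ⟨a, rfl⟩ := Ideal.Quotient.mk_surjective a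
    obtain ⟨b, rfl⟩ := Ideal.Quotient.mk_surjective b
    have hb0 : algebraMap (B ⧸ Q) Q.ResidueField (Ideal.Quotient.mk Q b) ≠ 0 :=
      IsLocalization.map_units Q.ResidueField (⟨_, hb⟩ : nonZeroDivisors (B ⧸ Q)) |>.ne_zero
    refine ⟨Polynomial.C ⟨_, hmem b⟩ * Polynomial.X - Polynomial.C ⟨_, hmem a⟩, fun h0 => hb0 ?_, ?_⟩
    · simpa using congrArg (fun p => ((p.coeff 1 : Algebra.adjoin K (Set.range y)) : Q.ResidueField)) h0
    · simp only [map_sub, map_mul, Polynomial.aeval_C, Polynomial.aeval_X]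
      rw [sub_eq_zero]
      show algebraMap B Q.ResidueField b * (_ / _) = algebraMap B Q.ResidueField a
      have e : ∀ c, algebraMap (B ⧸ Q) Q.ResidueField (Ideal.Quotient.mk Q c) = algebraMap B Q.ResidueField c := fun c =>
        (IsScalarTower.algebraMap_apply B (B ⧸ Q) Q.ResidueField c).symm
      rw [← e a, ← e b]
      field_simp⟩
  refine (Algebra.IsAlgebraic.trdeg_le_cardinalMk K (Set.range y)).trans ?_
  have := Cardinal.mk_range_le_lift (f := y)
  rw [Cardinal.lift_uzero, Cardinal.mk_fin, Cardinal.lift_natCast] at this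
  exact this

/-- Above the number of generators the condition is empty. -/
theorem fdOn_of_lt {A B N : Type u} [CommRing A] [CommRing B] [Algebra A B] [AddCommGroup N] [Module B N]
    [Module A N] [IsScalarTower A B N] {m : ℕ} (φ : MvPolynomial (Fin m) A →ₐ[A] B) (hφ : Function.Surjective φ)
    {n : ℕ} (hn : m < n) (A' : Type u) [CommRing A'] [Algebra A A'] :
    FDOn (fun _ : Ideal A' => True) n (A' ⊗[A] B) (A' ⊗[A] N) := by
  intro Q _ _ hQ
  let ψ : MvPolynomial (Fin m) A' →ₐ[A'] A' ⊗[A] B := MvPolynomial.aeval fun i => (1 : A') ⊗ₜ φ (MvPolynomial.X i)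
  have hψ : Function.Surjective ψ := by
    intro w
    induction w with
    | zero => exact ⟨0, map_zero _⟩
    | add x y hx hy =>
      obtain ⟨a, rfl⟩ := hx; obtain ⟨b, rfl⟩ := hy
      exact ⟨a + b, map_add _ _ _⟩
    | tmul a b =>
      obtain ⟨P, rfl⟩ := hφ b
      induction P using MvPolynomial.induction_on generalizing a with
      | C r =>
        refine ⟨MvPolynomial.C (r • a), ?_⟩
        rw [← MvPolynomial.algebraMap_eq, ← MvPolynomial.algebraMap_eq, ψ.commutes, φ.commutes,
          Algebra.TensorProduct.algebraMap_apply, Algebra.algebraMap_self, RingHom.id_apply,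
          TensorProduct.smul_tmul, Algebra.smul_def, mul_one]
      | add p q hp hq =>
        obtain ⟨x, hx⟩ := hp a; obtain ⟨y, hy⟩ := hq a
        exact ⟨x + y, by rw [map_add, hx, hy, map_add, tmul_add]⟩
      | mul_X p i hp =>
        obtain ⟨x, hx⟩ := hp a
        exact ⟨x * MvPolynomial.X i, by
          rw [map_mul, hx, map_mul]
          simp [ψ, Algebra.TensorProduct.tmul_mul_tmul]⟩
  exact absurd (hQ.trans (rdeg_le_of_surjective ψ hψ Q)) (by exact_mod_cast hn.not_ge)

section scheme

variable {A B : Type u} [CommRing A] [CommRing B] [Algebra A B] (N : Type u) [AddCommGroup N] [Module B N]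

/-- Flatness in dimensions `≥ n` of the base change to a scheme over `Spec A`. -/
def P (A : Type u) [CommRing A] [Algebra A B] (n : ℕ) (T : Over (Spec (CommRingCat.of A))) : Prop :=
  FlatFun.DimFibresLT n (PicF.XTproj (Spec.map (CommRingCat.ofHom (algebraMap A B))) T)
    {x | ¬ FlatMod.IsFlatOverAt (PicF.XTproj (Spec.map (CommRingCat.ofHom (algebraMap A B))) T)
      (FGA.ET (Spec.map (CommRingCat.ofHom (algebraMap A B))) (tilde (R := CommRingCat.of B) (ModuleCat.of B N)) T) x}

variable [Algebra.FiniteType A B] [Module.Finite B N]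

omit [Module.Finite B N] in
theorem stable (n : ℕ) ⦃T T₀ : Over (Spec (CommRingCat.of A))⦄ (g : T ⟶ T₀) (h : P (B := B) N A n T₀) :
    P (B := B) N A n T := by
  let f := Spec.map (CommRingCat.ofHom (algebraMap A B))
  haveI : LocallyOfFiniteType f := (HasRingHomProperty.Spec_iff (P := @LocallyOfFiniteType)).mpr
    (RingHom.finiteType_algebraMap.mpr inferInstance)
  intro x hx
  have h1 := h _ (fun hf => hx (Groth.FlatMorOne.isFlatOverAt_of_square _ (Groth.Flatmor4.isPullback_XTmap f g)
    (FGA.XTmap_fst f g) x hf))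
  exact lt_of_le_of_lt (Groth.Flatmor4.resTrdeg_baseChange_le (Groth.Flatmor4.isPullback_XTmap f g) x) h1

omit [Module.Finite B N] in
theorem of_local (n : ℕ) (T : Over (Spec (CommRingCat.of A)))
    (hT : ∀ t : T.left, ∃ (T' : Over (Spec (CommRingCat.of A))) (g : T' ⟶ T) (t' : T'.left),
      Flat g.left ∧ g.left t' = t ∧ P (B := B) N A n T') : P (B := B) N A n T := by
  let f := Spec.map (CommRingCat.ofHom (algebraMap A B))
  haveI : LocallyOfFiniteType f := (HasRingHomProperty.Spec_iff (P := @LocallyOfFiniteType)).mpr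
    (RingHom.finiteType_algebraMap.mpr inferInstance)
  let F := tilde (R := CommRingCat.of B) (ModuleCat.of B N)
  haveI : F.IsQuasicoherent := inferInstance
  intro x hx
  obtain ⟨T', g, t', hg, ht, hP⟩ := hT (PicF.XTproj f T x)
  haveI := hg
  obtain ⟨x', hx1, hx2, hx3⟩ := Groth.Flatmor4.exists_resTrdeg_eq (Groth.Flatmor4.isPullback_XTmap f g) x t' ht.symm
  subst hx1
  have hn : ¬ FlatMod.IsFlatOverAt (PicF.XTproj f T') (FGA.ET f F T') x' := fun h =>
    hx (Groth.Flatmor4.isFlatOverAt_of_flat_baseChange (Groth.Flatmor4.isPullback_XTmap f g) _ x'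
      ((Groth.Flatmor4.isFlatOverAt_ET f g F x').mpr h))
  have h1 : Dual3.resTrdeg (PicF.XTproj f T') x' < (n : Cardinal) := hP x' hn
  rw [hx3] at h1
  exact h1

theorem isSheaf (n : ℕ) : Presheaf.IsSheaf (QuotSh.J Scheme.fpqcPrecoverage (Spec (CommRingCat.of A)))
    (FlatFun.genPSp (Spec (CommRingCat.of A)) (P (B := B) N A n)) := by
  let f := Spec.map (CommRingCat.ofHom (algebraMap A B))
  haveI : LocallyOfFiniteType f := (HasRingHomProperty.Spec_iff (P := @LocallyOfFiniteType)).mpr
    (RingHom.finiteType_algebraMap.mpr inferInstance)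
  let F := tilde (R := CommRingCat.of B) (ModuleCat.of B N)
  haveI hqc : F.IsQuasicoherent := inferInstance
  haveI : Coh.IsQCoh F := hqc
  haveI : Module.Finite (CommRingCat.of B) (ModuleCat.of B N) := ‹Module.Finite B N›
  exact Groth.Agent.S9023.result f F (Groth.Flatmor4.isFT_tilde _) n

variable [Module A N] [IsScalarTower A B N]

omit [Algebra.FiniteType A B] [Module.Finite B N] in
theorem P_spec_iff (n : ℕ) (A' : Type u) [CommRing A'] [Algebra A A'] :
    P (B := B) N A n (Over.mk (Spec.map (CommRingCat.ofHom (algebraMap A A')))) ↔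
      FDOn (fun _ : Ideal A' => True) n (A' ⊗[A] B) (A' ⊗[A] N) :=
  FlatDimBridge.dimFibresLT_iff n

omit [Module.Finite B N] in
/-- A representation on affine test schemes is a representation. -/
theorem monoRep_of_affine (n : ℕ) {V : Over (Spec (CommRingCat.of A))} {W : Scheme.{u}} (w : W ⟶ V.left) [Mono w]
    [LocallyOfFinitePresentation w] [QuasiCompact w]
    (h : ∀ (T : Type u) [CommRing T] [Algebra A T] (x : Spec (CommRingCat.of T) ⟶ V.left),
      x ≫ V.hom = Spec.map (CommRingCat.ofHom (algebraMap A T)) →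
      (FDOn (fun _ : Ideal T => True) n (T ⊗[A] B) (T ⊗[A] N) ↔ ∃ k, k ≫ w = x)) :
    MonoRep (P (B := B) N A n) V := by
  refine ⟨Over.mk (w ≫ V.hom), Over.homMk w, ‹_›, ‹_›, ‹_›, fun T hTV => ?_⟩
  have key : ∀ (U : T.left.Opens) (hU : IsAffineOpen U), ∃ (T' : Over (Spec (CommRingCat.of A))) (g : T' ⟶ T),
      IsOpenImmersion g.left ∧ Set.range g.left = (U : Set T.left) ∧
        (P (B := B) N A n T' ↔ ∃ k : T'.left ⟶ W, k ≫ w = g.left ≫ hTV.left) := by
    intro U hU
    obtain ⟨φ, hφ⟩ := Spec.map_surjective (hU.fromSpec ≫ T.hom)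
    letI : Algebra A Γ(T.left, U) := φ.hom.toAlgebra
    have hφ' : Spec.map (CommRingCat.ofHom (algebraMap A Γ(T.left, U))) = hU.fromSpec ≫ T.hom := hφ
    refine ⟨Over.mk (Spec.map (CommRingCat.ofHom (algebraMap A Γ(T.left, U)))), Over.homMk hU.fromSpec hφ'.symm,
      hU.isOpenImmersion_fromSpec, hU.range_fromSpec, ?_⟩
    exact (P_spec_iff N n Γ(T.left, U)).trans (h Γ(T.left, U) (hU.fromSpec ≫ hTV.left)
      ((Category.assoc _ _ _).trans ((congrArg (hU.fromSpec ≫ ·) (Over.w hTV)).trans hφ'.symm)))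
  constructor
  · intro hP
    have hcov : ∀ t : T.left, ∃ (U : T.left.Opens), IsAffineOpen U ∧ t ∈ U := fun t => by
      obtain ⟨_, ⟨U, hU, rfl⟩, htU, -⟩ := T.left.isBasis_affineOpens.exists_subset_of_mem_open
        (Set.mem_univ t) isOpen_univ
      exact ⟨U, hU, htU⟩
    choose U hU htU using hcov
    choose T' g hg hgr hiff using fun t => key (U t) (hU t)
    choose k hk using fun t => (hiff t).1 (stable N n (g t) hP)
    let 𝒰 : T.left.OpenCover := Scheme.Cover.mkOfCovers _ (fun t => (T' t).left) (fun t => (g t).left)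
      (fun t => ⟨t, (hgr t).ge (htU t)⟩) hg
    have hk' : ∀ a : 𝒰.I₀, k a ≫ w = 𝒰.f a ≫ hTV.left := hk
    let l : T.left ⟶ W := 𝒰.glueMorphisms k fun a b => by
      rw [← cancel_mono w, Category.assoc, Category.assoc]
      refine (congrArg (_ ≫ ·) (hk' a)).trans (Eq.trans ?_ (congrArg (_ ≫ ·) (hk' b)).symm)
      exact (Category.assoc _ _ _).symm.trans ((congrArg (· ≫ hTV.left) pullback.condition).trans (Category.assoc _ _ _))
    have hl : l ≫ w = hTV.left := 𝒰.hom_ext _ _ fun a => by
      rw [← Category.assoc, Scheme.Cover.ι_glueMorphisms]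
      exact hk' a
    refine ⟨Over.homMk l (by
      show l ≫ w ≫ V.hom = T.hom
      rw [← Category.assoc, hl, Over.w hTV]), Over.OverMorphism.ext hl⟩
  · rintro ⟨k, hk⟩
    refine of_local N n T fun t => ?_
    obtain ⟨_, ⟨U, hU, rfl⟩, htU, -⟩ := T.left.isBasis_affineOpens.exists_subset_of_mem_open
      (Set.mem_univ t) isOpen_univ
    obtain ⟨T', g, hg, hgr, hiff⟩ := key U hU
    haveI := hg
    obtain ⟨t', ht'⟩ := hgr.ge htU
    exact ⟨T', g, t', inferInstance, ht', hiff.2 ⟨g.left ≫ k.left, by
      rw [Category.assoc]; exact congrArg (g.left ≫ ·) (congrArg CommaMorphism.left hk)⟩⟩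

end scheme

set_option maxHeartbeats 2000000 in
/-- **Representability by descending induction.** -/
theorem exists_monoRep {A B : Type u} [CommRing A] [CommRing B] [Algebra A B] [Algebra.FinitePresentation A B]
    (N : Type u) [AddCommGroup N] [Module B N] [Module A N] [IsScalarTower A B N] [Module.FinitePresentation B N]
    (hpure : FlatCA.IsPure A B N) : ∀ (m n : ℕ),
      (∀ (A' : Type u) [CommRing A'] [Algebra A A'], FDOn (fun _ : Ideal A' => True) (n + m) (A' ⊗[A] B) (A' ⊗[A] N)) →
      MonoRep (P (B := B) N A n) (Over.mk (𝟙 (Spec (CommRingCat.of A)))) := by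
  intro m
  induction m with
  | zero =>
    intro n h
    exact monoRep_of_affine N n (𝟙 _) fun T _ _ x _ => iff_of_true (h T) ⟨x, Category.comp_id x⟩
  | succ m ih =>
    intro n h
    obtain ⟨W, w, hw1, hw2, hw3, hW⟩ := ih (n + 1) fun A' _ _ => by
      have h' := h A'
      rwa [show n + (m + 1) = n + 1 + m by omega] at h'
    haveI := hw1; haveI := hw2; haveI := hw3
    have hWhom : W.hom = w.left := (Over.w w).symm.trans (Category.comp_id _)
    haveI : Mono W.hom := hWhom ▸ hw1
    haveI : LocallyOfFinitePresentation W.hom := hWhom ▸ hw2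
    haveI : QuasiCompact W.hom := hWhom ▸ hw3
    have hZ : ∀ T, P (B := B) N A n T → Nonempty (T ⟶ W) := fun T hT => by
      obtain ⟨k, -⟩ := (hW (T := T) (Over.homMk T.hom (Category.comp_id _))).1
        fun x hx => lt_of_lt_of_le (hT x hx) (by exact_mod_cast n.le_succ)
      exact ⟨k⟩
    refine let ⟨Z, z, hz1, hz2, hz3, hZr⟩ := monoRep_of_etale_local (P (B := B) N A n) (stable N n) (isSheaf N n) W hZ ?_
      ⟨Z, z ≫ w, mono_comp z.left w.left, inferInstanceAs (LocallyOfFinitePresentation (z.left ≫ w.left)),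
        inferInstanceAs (QuasiCompact (z.left ≫ w.left)), fun T hT => ?_⟩
    rotate_left
    · constructor
      · intro hP
        obtain ⟨l⟩ := hZ T hP
        obtain ⟨k, -⟩ := (hZr l).1 hP
        exact ⟨k, Over.OverMorphism.ext (((Category.comp_id _).symm.trans (Over.w (k ≫ z ≫ w))).trans
          ((Over.w hT).symm.trans (Category.comp_id _)))⟩
      · rintro ⟨k, -⟩
        exact (hZr (k ≫ z)).2 ⟨k, rfl⟩
    intro z
    obtain ⟨_, ⟨U, hU, rfl⟩, hzU, -⟩ := W.left.isBasis_affineOpens.exists_subset_of_mem_open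
      (Set.mem_univ z) isOpen_univ
    obtain ⟨φ, hφ⟩ := Spec.map_surjective (hU.fromSpec ≫ W.hom)
    let Az : Type u := Γ(W.left, U)
    letI : Algebra A Az := φ.hom.toAlgebra
    have hφ' : Spec.map (CommRingCat.ofHom (algebraMap A Az)) = hU.fromSpec ≫ W.hom := hφ
    haveI := hU.isOpenImmersion_fromSpec
    haveI hlfp : LocallyOfFinitePresentation (Spec.map (CommRingCat.ofHom (algebraMap A Az))) := by
      rw [hφ']; infer_instance
    haveI : Algebra.FinitePresentation A Az := RingHom.finitePresentation_algebraMap.mp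
      ((HasRingHomProperty.Spec_iff (P := @LocallyOfFinitePresentation)).mp hlfp)
    haveI hlqf : LocallyQuasiFinite (Spec.map (CommRingCat.ofHom (algebraMap A Az))) := by
      rw [hφ']; infer_instance
    haveI : Algebra.QuasiFinite A Az := RingHom.quasiFinite_algebraMap.mp
      ((HasRingHomProperty.Spec_iff (P := @LocallyQuasiFinite)).mp hlqf)
    obtain ⟨Bz, _, _, _, _, _, _, hpush⟩ := EtalePushout.exists_pushout A B Az
    haveI := hpush
    haveI : Algebra.IsPushout A B Az Bz := Algebra.IsPushout.symm hpush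
    obtain ⟨Nz, _, _, _, _, fz, hfz⟩ := EtalePushout.exists_baseChange B Bz N
    letI : Module Az Nz := Module.compHom Nz (algebraMap Az Bz)
    haveI : IsScalarTower Az Bz Nz := IsScalarTower.of_algebraMap_smul fun _ _ => rfl
    haveI : Algebra.FinitePresentation Az Bz := Algebra.FinitePresentation.equiv (Algebra.IsPushout.equiv A Az B Bz)
    haveI : Module.FinitePresentation Bz Nz := Module.FinitePresentation.of_equiv hfz.equiv
    have hd : ∀ (A' : Type u) [CommRing A'] [Algebra Az A'],
        FDOn (fun _ : Ideal A' => True) (n + 1) (A' ⊗[Az] Bz) (A' ⊗[Az] Nz) := by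
      intro A' _ _
      letI : Algebra A A' := ((algebraMap Az A').comp (algebraMap A Az)).toAlgebra
      haveI : IsScalarTower A Az A' := .of_algebraMap_eq fun _ => rfl
      refine (FlatDimLocal.fdOn_tower_iff (A := A) (R := Az) (BR := Bz) (NR := Nz) fz hfz A' _ _).2 ((P_spec_iff N (n + 1) A').1 ?_)
      let T : Over (Spec (CommRingCat.of A)) := Over.mk (Spec.map (CommRingCat.ofHom (algebraMap A A')))
      let k : T ⟶ W := Over.homMk (Spec.map (CommRingCat.ofHom (algebraMap Az A')) ≫ hU.fromSpec) (by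
        show _ = Spec.map (CommRingCat.ofHom (algebraMap A A'))
        rw [Category.assoc, ← hφ', ← Spec.map_comp, ← CommRingCat.ofHom_comp, ← IsScalarTower.algebraMap_eq])
      exact (hW (k ≫ w)).2 ⟨k, rfl⟩
    let pz : Ideal Az := (hU.primeIdealOf ⟨z, hzU⟩).asIdeal
    haveI : pz.IsPrime := (hU.primeIdealOf ⟨z, hzU⟩).isPrime
    obtain ⟨R, _, _, het, ⟨r, hr, hrp⟩, Zr, ir, h1, h2, h3, hrep⟩ :=
      FlatDimLocal.exists_local_rep Nz (isPure_of_quasiFinite hpure fz hfz) n hd pz
    haveI := het
    letI : Algebra A R := ((algebraMap Az R).comp (algebraMap A Az)).toAlgebra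
    haveI : IsScalarTower A Az R := .of_algebraMap_eq fun _ => rfl
    haveI hetale : Etale (Spec.map (CommRingCat.ofHom (algebraMap Az R))) :=
      (HasRingHomProperty.Spec_iff (P := @Etale)).mpr (RingHom.etale_algebraMap.mpr het)
    let b : Over.mk (Spec.map (CommRingCat.ofHom (algebraMap A R))) ⟶ W :=
      Over.homMk (Spec.map (CommRingCat.ofHom (algebraMap Az R)) ≫ hU.fromSpec) (by
        show _ = Spec.map (CommRingCat.ofHom (algebraMap A R))
        rw [Category.assoc, ← hφ', ← Spec.map_comp, ← CommRingCat.ofHom_comp, ← IsScalarTower.algebraMap_eq])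
    refine ⟨_, b, inferInstanceAs (Etale (Spec.map (CommRingCat.ofHom (algebraMap Az R)) ≫ hU.fromSpec)), ⟨(⟨r, hr⟩ : PrimeSpectrum R), ?_⟩, ?_⟩
    · show hU.fromSpec (PrimeSpectrum.comap (algebraMap Az R) ⟨r, hr⟩) = z
      rw [show PrimeSpectrum.comap (algebraMap Az R) ⟨r, hr⟩ = hU.primeIdealOf ⟨z, hzU⟩ from PrimeSpectrum.ext hrp]
      exact hU.fromSpec_primeIdealOf ⟨z, hzU⟩
    refine monoRep_of_affine N n ir fun T _ _ x hx => ?_
    obtain ⟨ψ, rfl⟩ := Spec.map_surjective x
    letI : Algebra R T := ψ.hom.toAlgebra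
    letI : Algebra Az T := (ψ.hom.comp (algebraMap Az R)).toAlgebra
    haveI : IsScalarTower Az R T := .of_algebraMap_eq fun _ => rfl
    haveI : IsScalarTower A Az T := .of_algebraMap_eq fun a => by
      have e : CommRingCat.ofHom (algebraMap A R) ≫ ψ = CommRingCat.ofHom (algebraMap A T) :=
        Spec.map_injective ((Spec.map_comp _ _).trans hx)
      exact (congr($e a)).symm
    exact (FlatDimLocal.fdOn_tower_iff (A := A) (R := Az) (BR := Bz) (NR := Nz) fz hfz T _ _).symm.trans (hrep T)

end Groth.RaynaudGruson.FlatDimRep
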