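import Groth.Agent.RaynaudGruson.TensorAction
import Groth.Agent.RaynaudGruson.DevissageProj
import Groth.Agent.RaynaudGruson.ContentFitting
import Groth.Agent.DualCore.CMGrade
import Groth.Agent.Misc1.InsepCycles.Trdeg
import Groth.Prelude.Def_Dual3
import Mathlib

/-!
Flatness in dimensions `≥ n` along the steps of a dévissage.
-/

set_option autoImplicit false
set_option linter.style.haveILetI false
universe u

open TensorProduct CategoryTheory AlgebraicGeometry

namespace Groth.RaynaudGruson.FlatDimTransfer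

open TensorAction

attribute [local instance] TensorAction.tModule

/-- The transcendence degree of the residue field of a prime over that of the prime below it. -/
noncomputable def rdeg (A : Type u) [CommRing A] {B : Type u} [CommRing B] [Algebra A B] (Q : Ideal B) [Q.IsPrime] :
    Cardinal.{u} :=
  Dual3.resTrdeg (Spec.map (CommRingCat.ofHom (algebraMap A B))) (⟨Q, inferInstance⟩ : PrimeSpectrum B)

/-- Flatness in dimensions `≥ n` above the primes of the base in `V`. -/
def FDOn {A : Type u} [CommRing A] (V : Ideal A → Prop) (n : ℕ) (B : Type u) [CommRing B] [Algebra A B] (M : Type u)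
    [AddCommGroup M] [Module B M] [Module A M] : Prop :=
  ∀ (Q : Ideal B) [Q.IsPrime], V (Q.comap (algebraMap A B)) → (n : Cardinal.{u}) ≤ rdeg A Q →
    FlatPred.Pred A Q.primeCompl M

theorem flatInDimGE_iff {A B M : Type u} [CommRing A] [CommRing B] [Algebra A B] [AddCommGroup M] [Module B M]
    [Module A M] [IsScalarTower A B M] (n : ℕ) :
    FlatCA.FlatInDimGE n A B M ↔ FDOn (fun _ : Ideal A => True) n B M := by
  constructor
  · intro h Q _ _ hQ
    by_contra hf
    haveI : Q.LiesOver (Q.comap (algebraMap A B)) := ⟨rfl⟩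
    have h1 := h (Q.comap (algebraMap A B)) Q (fun h' => hf ((FlatPred.flatAt_iff Q).mp h'))
    refine absurd hQ (not_le.mpr ?_)
    rw [rdeg, Groth.DualCore.resTrdeg_spec]
    exact h1
  · intro h t Q _ _ hover hf
    obtain rfl : t = Q.comap (algebraMap A B) := hover.over
    by_contra hlt
    refine hf ((FlatPred.flatAt_iff Q).mpr (h Q trivial ?_))
    rw [rdeg, Groth.DualCore.resTrdeg_spec]
    exact not_lt.mp hlt

theorem FDOn.mono {A B M : Type u} [CommRing A] [CommRing B] [Algebra A B] [AddCommGroup M] [Module B M]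
    [Module A M] {V W : Ideal A → Prop} {m n : ℕ} (hWV : ∀ t, W t → V t) (hmn : m ≤ n) (h : FDOn V m B M) :
    FDOn W n B M := fun Q _ hW hQ => h Q (hWV _ hW) (le_trans (by exact_mod_cast hmn) hQ)

section finite

variable {A B C M : Type u} [CommRing A] [CommRing B] [Algebra A B] [CommRing C] [Algebra A C] [Algebra B C]
  [IsScalarTower A B C] [Algebra.IsIntegral B C]

theorem rdeg_comap (Q : Ideal C) [Q.IsPrime] : rdeg A (Q.comap (algebraMap B C)) = rdeg A Q := by
  haveI : IsIntegralHom (Spec.map (CommRingCat.ofHom (algebraMap B C))) :=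
    IsIntegralHom.SpecMap_iff.mpr (algebraMap_isIntegral_iff.mpr ‹_›)
  haveI : IsIntegralHom (𝟙 (Spec (CommRingCat.of A))) := inferInstance
  exact Groth.InsepCycles.resTrdeg_fst (π := Spec.map (CommRingCat.ofHom (algebraMap B C)))
    (g := 𝟙 _) (f' := Spec.map (CommRingCat.ofHom (algebraMap A C))) (by
      rw [Category.comp_id, ← Spec.map_comp, ← CommRingCat.ofHom_comp, ← IsScalarTower.algebraMap_eq]) ⟨Q, inferInstance⟩

variable [AddCommGroup M] [Module C M] [Module B M] [Module A M] [IsScalarTower B C M]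
  [SMulCommClass B A M] [SMulCommClass C A M]

/-- Flatness in dimensions `≥ n` is insensitive to integral maps of the acting rings. -/
theorem fdOn_iff_of_integral (V : Ideal A → Prop) (n : ℕ) : FDOn V n B M ↔ FDOn V n C M := by
  constructor
  · intro h Q _ hV hQ
    refine (h (Q.comap (algebraMap B C)) ?_ ((rdeg_comap (A := A) (B := B) Q).symm ▸ hQ)).of_dvd
      fun (u : B) hu => ⟨algebraMap B C u, 1, hu, fun m => by rw [one_smul, algebraMap_smul]⟩
    rwa [Ideal.comap_comap, ← IsScalarTower.algebraMap_eq]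
  · intro h y _ hV hy
    refine DevissageProj.pred_of_forall_prime_over (A := C) y fun Q _ hQ => ?_
    obtain rfl : y = Q.comap (algebraMap B C) := hQ.over
    refine h Q ?_ ((rdeg_comap (A := A) (B := B) Q) ▸ hy)
    rwa [Ideal.comap_comap, ← IsScalarTower.algebraMap_eq] at hV

end finite

theorem fdOn_of_equiv {A B M N : Type u} [CommRing A] [CommRing B] [Algebra A B] [AddCommGroup M] [Module B M]
    [Module A M] [IsScalarTower A B M] [AddCommGroup N] [Module B N] [Module A N] [IsScalarTower A B N] (e : M ≃+ N) (hA : ∀ (a : A) m, e (a • m) = a • e m)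
    (hB : ∀ (b : B) m, e (b • m) = b • e m) (V : Ideal A → Prop) (n : ℕ) :
    FDOn V n B M ↔ FDOn V n B N :=
  ⟨fun h Q _ hV hQ => (h Q hV hQ).of_equiv e hA hB, fun h Q _ hV hQ => (h Q hV hQ).of_equiv e.symm
    (fun a m => e.injective (by rw [hA, e.apply_symm_apply, e.apply_symm_apply]))
    (fun b m => e.injective (by rw [hB, e.apply_symm_apply, e.apply_symm_apply]))⟩

/-- Along a right exact sequence whose first map is universally injective at a submonoid, flatness there passes
between the middle and the last term. -/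
theorem pred_iff_of_exact {A B F M L : Type u} [CommRing A] [CommRing B] [Algebra A B]
    [AddCommGroup F] [Module B F] [Module A F] [IsScalarTower A B F] [Module.Flat A F]
    [AddCommGroup M] [Module B M] [Module A M] [IsScalarTower A B M]
    [AddCommGroup L] [Module B L] [Module A L] [IsScalarTower A B L]
    (U : Submonoid B) (α : F →ₗ[B] M) (π : M →ₗ[B] L) (hex : Function.Exact α π) (hπ : Function.Surjective π)
    (hα : ∀ (J : Ideal A) (x : F), α x ∈ J • (⊤ : Submodule A M) → ∃ w ∈ U, w • x ∈ J • (⊤ : Submodule A F)) :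
    FlatPred.Pred A U M ↔ FlatPred.Pred A U L := by
  constructor
  · intro hM l f a ⟨u, hu, hua⟩
    choose m hm using fun i => hπ (a i)
    obtain ⟨g, hg⟩ := (hex _).mp (show π (u • ∑ i, f i • m i) = 0 by
      rw [map_smul, map_sum, ← hua]
      exact congrArg _ (Finset.sum_congr rfl fun i _ => by rw [LinearMap.map_smul_of_tower, hm]))
    obtain ⟨w, hw, hgJ⟩ := hα (Ideal.span (Set.range f)) g (by
      rw [hg, Finset.smul_sum]
      exact Submodule.sum_mem _ fun i _ => by
        rw [smul_comm]; exact Submodule.smul_mem_smul (Ideal.subset_span ⟨i, rfl⟩) trivial)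
    obtain ⟨c, -, hc⟩ := KeyLemma.exists_sum_of_mem_span_smul f _ hgJ
    obtain ⟨v, hv, k, d, y, hy, hd⟩ := hM l f (fun i => (w * u) • m i - α (c i)) ⟨1, one_mem U, by
      simp only [one_smul, smul_sub, Finset.sum_sub_distrib]
      rw [sub_eq_zero]
      calc ∑ i, f i • (w * u) • m i = w • u • ∑ i, f i • m i := by
            rw [Finset.smul_sum, Finset.smul_sum]
            exact Finset.sum_congr rfl fun i _ => by rw [mul_smul, smul_comm u (f i), smul_comm w (f i)]
        _ = α (w • g) := by rw [map_smul, hg]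
        _ = ∑ i, f i • α (c i) := by rw [hc, map_sum]; simp only [LinearMap.map_smul_of_tower]⟩
    refine ⟨v * (w * u), mul_mem hv (mul_mem hw hu), k, d, fun j => π (y j), fun i => ?_, hd⟩
    have h0 : π (α (c i)) = 0 := (hex _).mpr ⟨c i, rfl⟩
    calc (v * (w * u)) • a i = π (v • ((w * u) • m i - α (c i))) := by
          rw [map_smul, map_sub, h0, sub_zero, map_smul, hm, ← mul_smul]
      _ = ∑ j, d i j • π (y j) := by rw [hy, map_sum]; simp only [LinearMap.map_smul_of_tower]
  · intro hL l f a ⟨u, hu, hua⟩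
    obtain ⟨v, hv, k, d, y, hy, hd⟩ := hL l f (fun i => π (u • a i)) ⟨1, one_mem U, by
      rw [one_smul, ← map_zero π, ← hua, Finset.smul_sum, map_sum]
      exact Finset.sum_congr rfl fun i _ => by rw [← LinearMap.map_smul_of_tower, smul_comm]⟩
    choose m hm using fun j => hπ (y j)
    choose x hx using fun i => (hex (v • u • a i - ∑ j, d i j • m j)).mp (by
      rw [map_sub, map_smul, hy, map_sum, sub_eq_zero]
      exact Finset.sum_congr rfl fun j _ => by rw [LinearMap.map_smul_of_tower, hm])
    obtain ⟨w, hw, hw0⟩ := hα ⊥ (∑ i, f i • x i) (by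
      rw [Submodule.bot_smul, Submodule.mem_bot, map_sum]
      simp only [LinearMap.map_smul_of_tower, hx, smul_sub, Finset.sum_sub_distrib]
      have h1 : ∑ i, f i • v • u • a i = 0 := by
        rw [← smul_zero (v : B), ← hua, Finset.smul_sum, Finset.smul_sum]
        exact Finset.sum_congr rfl fun i _ => by rw [smul_comm u (f i), smul_comm v (f i)]
      have h2 : ∑ i, f i • ∑ j, d i j • m j = 0 := by
        simp only [Finset.smul_sum, smul_smul]
        rw [Finset.sum_comm]
        simp only [← Finset.sum_smul, hd, zero_smul, Finset.sum_const_zero]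
      rw [h1, h2, sub_zero])
    rw [Submodule.bot_smul, Submodule.mem_bot] at hw0
    obtain ⟨k', e, z, hz, he⟩ := Module.Flat.isTrivialRelation_of_sum_smul_eq_zero
      (f := f) (x := fun i => w • x i) (by
        rw [← hw0, Finset.smul_sum]
        exact Finset.sum_congr rfl fun i _ => smul_comm (f i) w (x i))
    simp only at hz
    refine ⟨w * (v * u), mul_mem hw (mul_mem hv hu), k + k', fun i => Fin.append (d i) (e i),
      Fin.append (fun j => w • m j) (fun j => α (z j)), fun i => ?_, fun j => ?_⟩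
    · rw [Fin.sum_univ_add, mul_smul, mul_smul, ← sub_add_cancel (v • u • a i) (∑ j, d i j • m j), ← hx, smul_add,
        ← map_smul, hz, map_sum, Finset.smul_sum, add_comm]
      simp only [Fin.append_left, Fin.append_right, LinearMap.map_smul_of_tower, smul_comm w]
    · refine Fin.addCases (fun j => ?_) (fun j => ?_) j
      · simpa using hd j
      · simpa using he j

section model

attribute [local instance] Algebra.TensorProduct.rightAlgebra

/-- Any model of a base change gives the same condition as the tensor product. -/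
theorem fdOn_model_iff {A B M A' B' M' : Type u} [CommRing A] [CommRing B] [Algebra A B]
    [AddCommGroup M] [Module B M] [Module A M] [IsScalarTower A B M]
    [CommRing A'] [CommRing B'] [Algebra A A'] [Algebra B B'] [Algebra A' B'] [Algebra A B'] [IsScalarTower A B B']
    [IsScalarTower A A' B'] [Algebra.IsPushout A B A' B']
    [AddCommGroup M'] [Module B' M'] [Module B M'] [IsScalarTower B B' M'] [Module A' M'] [IsScalarTower A' B' M']
    (φ : M →ₗ[B] M') (hφ : IsBaseChange B' φ) (V : Ideal A' → Prop) (n : ℕ) :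
    FDOn V n B' M' ↔ FDOn V n (A' ⊗[A] B) (A' ⊗[A] M) := by
  haveI : Algebra.IsPushout A A' B B' := Algebra.IsPushout.symm ‹_›
  let ψ := Algebra.IsPushout.equiv A A' B B'
  letI : Algebra (A' ⊗[A] B) B' := ψ.toAlgHom.toRingHom.toAlgebra
  have hψ : ∀ a b, algebraMap (A' ⊗[A] B) B' (a ⊗ₜ b) = a • algebraMap B B' b := fun a b => by
    show ψ (a ⊗ₜ b) = _
    rw [Algebra.IsPushout.equiv_tmul, Algebra.smul_def]
  haveI : IsScalarTower A' (A' ⊗[A] B) B' := .of_algebraMap_eq fun a => (ψ.commutes a).symm
  haveI : Algebra.IsIntegral (A' ⊗[A] B) B' :=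
    ⟨fun x => by obtain ⟨y, rfl⟩ := ψ.surjective x; exact isIntegral_algebraMap⟩
  letI : Module (A' ⊗[A] B) M' := Module.compHom _ (algebraMap (A' ⊗[A] B) B')
  haveI : IsScalarTower (A' ⊗[A] B) B' M' := .of_algebraMap_smul fun _ _ => rfl
  haveI : IsScalarTower A' (A' ⊗[A] B) M' := .of_algebraMap_smul fun a m => by
    rw [← algebraMap_smul B' (algebraMap A' (A' ⊗[A] B) a) m, ← IsScalarTower.algebraMap_apply, algebraMap_smul]
  rw [← fdOn_iff_of_integral (B := A' ⊗[A] B) (C := B')]
  letI : Module B (A' ⊗[A] M) :=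
    Module.compHom _ (Algebra.TensorProduct.includeRight : B →ₐ[A] A' ⊗[A] B).toRingHom
  haveI : IsScalarTower B (A' ⊗[A] B) (A' ⊗[A] M) := IsScalarTower.of_algebraMap_smul fun _ _ => rfl
  haveI : IsScalarTower B (A' ⊗[A] B) M' := .of_algebraMap_smul fun b m => by
    rw [← algebraMap_smul B' b m]
    show algebraMap (A' ⊗[A] B) B' ((1 : A') ⊗ₜ b) • m = _
    rw [hψ, one_smul]
  let gY : M →ₗ[B] A' ⊗[A] M :=
    { toFun := fun m => (1 : A') ⊗ₜ[A] m
      map_add' := tmul_add _
      map_smul' := fun b m => by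
        show (1 : A') ⊗ₜ[A] (b • m) = ((1 : A') ⊗ₜ[A] b) • ((1 : A') ⊗ₜ[A] m)
        simp }
  have hgY : IsBaseChange (A' ⊗[A] B) gY := isBaseChange_mk gY fun _ => rfl
  have hid : IsBaseChange (A' ⊗[A] B) φ := by
    refine IsBaseChange.of_lift_unique φ fun Q _ _ _ _ g => ?_
    letI : Module B' Q := Module.compHom _ ψ.symm.toAlgHom.toRingHom
    have hsm : ∀ (w : A' ⊗[A] B) (q : Q), algebraMap (A' ⊗[A] B) B' w • q = w • q := fun w q => by
      show ψ.symm (ψ w) • q = _
      rw [ψ.symm_apply_apply]
    haveI : IsScalarTower B B' Q := .of_algebraMap_smul fun b q => by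
      have h1 : algebraMap B B' b = algebraMap (A' ⊗[A] B) B' ((1 : A') ⊗ₜ b) := by rw [hψ, one_smul]
      rw [h1, hsm, ← algebraMap_smul (A' ⊗[A] B) b q]
      rfl
    refine ⟨{ toFun := hφ.lift g, map_add' := map_add _, map_smul' := fun w m => ?_ }, hφ.lift_comp g, fun h hh => ?_⟩
    · rw [RingHom.id_apply, ← algebraMap_smul B' w m, map_smul, hsm]
    · ext m
      induction m using hφ.inductionOn with
      | zero => rw [map_zero, map_zero]
      | tmul x => exact (LinearMap.congr_fun hh x).trans (hφ.lift_eq g x).symm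
      | smul r x hx =>
        obtain ⟨w, rfl⟩ := ψ.surjective r
        change h (algebraMap (A' ⊗[A] B) B' w • x) = hφ.lift g (algebraMap (A' ⊗[A] B) B' w • x)
        rw [algebraMap_smul B' w x, map_smul, hx, ← algebraMap_smul B' w x, map_smul, hsm]
        rfl
      | add x y hx hy => rw [map_add, map_add, hx, hy]
  let e := hgY.equiv.symm.trans hid.equiv
  exact fdOn_of_equiv e.symm.toAddEquiv (fun a m => LinearMap.map_smul_of_tower e.symm.toLinearMap a m)
    (fun b m => map_smul e.symm b m) V n

/-- The identity model. -/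
theorem fdOn_self_iff {A B M : Type u} [CommRing A] [CommRing B] [Algebra A B] [AddCommGroup M] [Module B M]
    [Module A M] [IsScalarTower A B M] (V : Ideal A → Prop) (n : ℕ) :
    FDOn V n B M ↔ FDOn V n (A ⊗[A] B) (A ⊗[A] M) := by
  haveI : Algebra.IsPushout A B A B := Algebra.IsPushout.symm (h := ⟨IsBaseChange.of_equiv
    (TensorProduct.lid A B) fun x => by simp⟩)
  exact fdOn_model_iff (LinearMap.id : M →ₗ[B] M) (IsBaseChange.of_equiv (TensorProduct.lid B M) fun x => by simp) V n

end model

section steps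

attribute [local instance] Algebra.TensorProduct.rightAlgebra

variable {A A' : Type u} [CommRing A] [CommRing A'] [Algebra A A'] {B C : Type u} [CommRing B] [Algebra A B]
  [CommRing C] [Algebra A C] [Algebra B C] [IsScalarTower A B C]

/-- An integral map of the acting rings, after base change. -/
theorem fdOn_tensor_iff_of_integral [Algebra.IsIntegral B C] {M : Type u} [AddCommGroup M] [Module B M] [Module C M]
    [IsScalarTower B C M] [Module A M] [IsScalarTower A B M] [IsScalarTower A C M] (V : Ideal A' → Prop) (n : ℕ) :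
    FDOn V n (A' ⊗[A] B) (A' ⊗[A] M) ↔ FDOn V n (A' ⊗[A] C) (A' ⊗[A] M) := by
  let G := Algebra.TensorProduct.map (AlgHom.id A' A') (IsScalarTower.toAlgHom A B C)
  letI : Algebra (A' ⊗[A] B) (A' ⊗[A] C) := G.toRingHom.toAlgebra
  haveI : IsScalarTower A' (A' ⊗[A] B) (A' ⊗[A] C) := .of_algebraMap_eq fun a => (G.commutes a).symm
  haveI : IsScalarTower (A' ⊗[A] B) (A' ⊗[A] C) (A' ⊗[A] M) := .of_algebraMap_smul fun w z => map_smul_eq w z
  haveI : Algebra.IsIntegral (A' ⊗[A] B) (A' ⊗[A] C) := by
    refine ⟨fun z => ?_⟩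
    induction z with
    | zero => exact isIntegral_zero
    | add x y hx hy => exact hx.add hy
    | tmul r c =>
      rw [show r ⊗ₜ[A] c = algebraMap (A' ⊗[A] B) (A' ⊗[A] C) (r ⊗ₜ 1) * ((1 : A') ⊗ₜ c) by
        show _ = G (r ⊗ₜ 1) * _
        simp [G, Algebra.TensorProduct.tmul_mul_tmul]]
      refine isIntegral_algebraMap.mul ?_
      obtain ⟨p, hp, hpc⟩ := Algebra.IsIntegral.isIntegral (R := B) c
      refine ⟨p.map (Algebra.TensorProduct.includeRight : B →ₐ[A] A' ⊗[A] B).toRingHom, hp.map _, ?_⟩
      rw [Polynomial.eval₂_map]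
      have hcomp : (algebraMap (A' ⊗[A] B) (A' ⊗[A] C)).comp (Algebra.TensorProduct.includeRight : B →ₐ[A] A' ⊗[A] B).toRingHom =
          (Algebra.TensorProduct.includeRight : C →ₐ[A] A' ⊗[A] C).toRingHom.comp (algebraMap B C) := by
        ext b
        show G ((1 : A') ⊗ₜ b) = (1 : A') ⊗ₜ algebraMap B C b
        simp [G]
      rw [hcomp, show ((1 : A') ⊗ₜ[A] c) = (Algebra.TensorProduct.includeRight : C →ₐ[A] A' ⊗[A] C).toRingHom c from rfl,
        ← Polynomial.hom_eval₂, hpc, map_zero]
  exact fdOn_iff_of_integral V n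

variable [Algebra.Smooth A B] (hgi : FlatCA.GeomIrredFibres A B) {r : ℕ} {M L : Type u}
  [AddCommGroup M] [Module B M] [Module A M] [IsScalarTower A B M]
  [AddCommGroup L] [Module B L] [Module A L] [IsScalarTower A B L]

include hgi in
/-- A vector killed on the fibres by an element off the extended prime dies near the prime. -/
theorem exists_smul_eq_zero {b : B} (t' : Ideal A') [t'.IsPrime]
    (hb : b ∉ (t'.comap (algebraMap A A')).map (algebraMap A B)) {y : A' ⊗[A] (Fin r → B)}
    (hy : ((1 : A') ⊗ₜ[A] b) • y = 0) : ∃ u ∉ t', u • y = 0 := by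
  classical
  haveI := SmoothProjective.projective_of_smooth A B hgi
  let t := t'.comap (algebraMap A A')
  haveI : t'.LiesOver t := ⟨rfl⟩
  obtain ⟨σ, hσ⟩ := ContentFitting.exists_coord (R := A') (S := A' ⊗[A] B)
  have hint := Groth.RaynaudGruson.geomIntegralFibres_baseChange (R := A) (S := B) A' (A' ⊗[A] B)
    (SmoothProjective.geomIntegralFibres_of_smooth hgi)
  have hb' : (1 : A') ⊗ₜ[A] b ∉ t'.map (algebraMap A' (A' ⊗[A] B)) := fun h => hb (by
    rw [Groth.Flatmor4.map_eq_under_map_baseChange (B' := A' ⊗[A] B) t t']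
    exact h)
  let Φ := TensorProduct.piRight A A' A' (fun _ : Fin r => B)
  have hΦ : ∀ z i, Φ (((1 : A') ⊗ₜ[A] b) • z) i = ((1 : A') ⊗ₜ[A] b) * Φ z i := fun z i => by
    induction z with
    | zero => simp
    | add x z hx hz => simp [smul_add, hx, hz, mul_add]
    | tmul c f => simp [Φ, Algebra.TensorProduct.tmul_mul_tmul]
  choose u hu hu0 using fun i => ContentFitting.exists_smul_eq_zero hσ hint t' hb'
    (x := Φ y i) (by rw [← hΦ, hy]; simp)
  refine ⟨∏ i, u i, fun h => ?_, Φ.injective (funext fun i => ?_)⟩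
  · obtain ⟨i, -, hi⟩ := (Ideal.IsPrime.prod_mem_iff).mp h
    exact hu i hi
  · rw [map_smul, map_zero, Pi.smul_apply, ← Finset.prod_erase_mul _ _ (Finset.mem_univ i), mul_smul, hu0, smul_zero,
      Pi.zero_apply]

include hgi in
/-- One step of the dévissage, after base change. -/
theorem fdOn_step (α : (Fin r → B) →ₗ[B] M) (π : M →ₗ[B] L) (hex : Function.Exact α π) (hπ : Function.Surjective π)
    {b : B} (β : M →ₗ[B] (Fin r → B)) (hβ : ∀ x, β (α x) = b • x) (V : Ideal A' → Prop)
    (hV : ∀ (t' : Ideal A'), t'.IsPrime → V t' → b ∉ (t'.comap (algebraMap A A')).map (algebraMap A B)) (n : ℕ) :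
    FDOn V n (A' ⊗[A] B) (A' ⊗[A] M) ↔ FDOn V n (A' ⊗[A] B) (A' ⊗[A] L) := by
  haveI := SmoothProjective.projective_of_smooth A B hgi
  suffices key : ∀ (Q : Ideal (A' ⊗[A] B)) [Q.IsPrime], V (Q.comap (algebraMap A' (A' ⊗[A] B))) →
      (FlatPred.Pred A' Q.primeCompl (A' ⊗[A] M) ↔ FlatPred.Pred A' Q.primeCompl (A' ⊗[A] L)) from
    ⟨fun h Q _ hVQ hQ => (key Q hVQ).mp (h Q hVQ hQ), fun h Q _ hVQ hQ => (key Q hVQ).mpr (h Q hVQ hQ)⟩
  haveI : Module.Flat A (Fin r → B) := Module.Flat.of_linearEquiv (DFinsupp.linearEquivFunOnFintype (R := A) (M := fun _ : Fin r => B)).symm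
  intro Q _ hVQ
  refine pred_iff_of_exact Q.primeCompl (tMap α) (tMap π) ?_
    (LinearMap.lTensor_surjective A' (g := π.restrictScalars A) hπ) fun J x hx => ?_
  · exact lTensor_exact A' (f := α.restrictScalars A) (g := π.restrictScalars A) hex hπ
  let t' := Q.comap (algebraMap A' (A' ⊗[A] B))
  suffices hgoal : ∃ u ∉ t', u • x ∈ J • (⊤ : Submodule A' (A' ⊗[A] (Fin r → B))) by
    obtain ⟨u, hu, hux⟩ := hgoal
    exact ⟨algebraMap A' (A' ⊗[A] B) u, hu, by rw [algebraMap_smul]; exact hux⟩
  by_cases hJ : J ≤ t'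
  swap
  · obtain ⟨u, huJ, hut⟩ := SetLike.not_le_iff_exists.mp hJ
    exact ⟨u, hut, Submodule.smul_mem_smul huJ trivial⟩
  have hbx : ((1 : A') ⊗ₜ[A] b) • x ∈ J • (⊤ : Submodule A' (A' ⊗[A] (Fin r → B))) := by
    have h1 := Submodule.mem_map_of_mem (f := ((tMap β).restrictScalars A')) hx
    rw [Submodule.map_smul''] at h1
    have h2 : ∀ z : A' ⊗[A] (Fin r → B), tMap β (tMap α z) = ((1 : A') ⊗ₜ[A] b) • z := fun z => by
      induction z with
      | zero => simp
      | add x y hx hy => rw [map_add, map_add, hx, hy, smul_add]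
      | tmul c f => simp [tMap_apply, hβ]
    rw [← h2]
    exact Submodule.smul_mono le_rfl le_top h1
  let A'' := A' ⧸ J
  let μ : A' →ₐ[A] A'' := IsScalarTower.toAlgHom A A' A''
  have hker : ∀ z : A' ⊗[A] (Fin r → B), μ.toLinearMap.rTensor (Fin r → B) z = 0 ↔
      z ∈ J • (⊤ : Submodule A' (A' ⊗[A] (Fin r → B))) := by
    intro z
    constructor
    · intro hz
      have hexμ : Function.Exact ((J.restrictScalars A).subtype) μ.toLinearMap := fun a => by
        simp [μ, Ideal.Quotient.eq_zero_iff_mem, A'']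
      obtain ⟨w, rfl⟩ := (rTensor_exact (Fin r → B) hexμ Ideal.Quotient.mk_surjective z).mp hz
      induction w with
      | zero => simp
      | add p q hp hq =>
        rw [map_add]
        exact add_mem (hp (by rw [← LinearMap.comp_apply, ← LinearMap.rTensor_comp, hexμ.linearMap_comp_eq_zero]; simp))
          (hq (by rw [← LinearMap.comp_apply, ← LinearMap.rTensor_comp, hexμ.linearMap_comp_eq_zero]; simp))
      | tmul a f =>
        rw [LinearMap.rTensor_tmul, show (J.restrictScalars A).subtype a ⊗ₜ[A] f = (a : A') • ((1 : A') ⊗ₜ[A] f) by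
          rw [smul_tmul', smul_eq_mul, mul_one]; rfl]
        exact Submodule.smul_mem_smul a.2 trivial
    · intro hz
      refine Submodule.smul_induction_on hz (fun a ha w hw => ?_) (fun p q hp hq => by rw [map_add, hp, hq, add_zero])
      clear hw
      induction w with
      | zero => simp
      | add p q hp hq => rw [smul_add, map_add, hp, hq, add_zero]
      | tmul c f => simp [smul_tmul', μ, A'', Ideal.Quotient.eq_zero_iff_mem.mpr ha]
  have hsmul : ∀ (w : A' ⊗[A] B) z, μ.toLinearMap.rTensor (Fin r → B) (w • z) =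
      μ.toLinearMap.rTensor B w • μ.toLinearMap.rTensor (Fin r → B) z := by
    intro w z
    induction w with
    | zero => simp
    | add p q hp hq => rw [add_smul, map_add, map_add, add_smul, hp, hq]
    | tmul a f =>
      induction z with
      | zero => simp
      | add p q hp hq => rw [smul_add, map_add, map_add, smul_add, hp, hq]
      | tmul c g => simp
  haveI : (t'.map (Ideal.Quotient.mk J)).IsPrime := Ideal.map_isPrime_of_surjective Ideal.Quotient.mk_surjective (by
    rw [Ideal.mk_ker]; exact hJ)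
  obtain ⟨u, hu, hu0⟩ := exists_smul_eq_zero hgi (A' := A'') (b := b) (t'.map (Ideal.Quotient.mk J)) (fun h => by
    refine hV t' inferInstance hVQ ?_
    convert h using 2
    rw [IsScalarTower.algebraMap_eq A A' A'', ← Ideal.comap_comap]
    congr 1
    show t' = Ideal.comap (Ideal.Quotient.mk J) (t'.map (Ideal.Quotient.mk J))
    rw [Ideal.comap_map_of_surjective _ Ideal.Quotient.mk_surjective, ← RingHom.ker_eq_comap_bot, Ideal.mk_ker,
      sup_eq_left.mpr hJ]) (y := μ.toLinearMap.rTensor (Fin r → B) x) (by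
    have := (hker _).mpr hbx
    rw [hsmul] at this
    have e : μ.toLinearMap.rTensor B ((1 : A') ⊗ₜ[A] b) = (1 : A'') ⊗ₜ[A] b := by
      rw [LinearMap.rTensor_tmul, AlgHom.toLinearMap_apply, map_one]
    rwa [e] at this)
  obtain ⟨u, rfl⟩ := Ideal.Quotient.mk_surjective u
  refine ⟨u, fun h => hu (Ideal.mem_map_of_mem _ h), (hker _).mp ?_⟩
  rw [← algebraMap_smul (A' ⊗[A] B) u x, hsmul]
  refine Eq.trans ?_ hu0
  rw [← algebraMap_smul (A'' ⊗[A] B) (Ideal.Quotient.mk J u)]
  rfl

end steps

end Groth.RaynaudGruson.FlatDimTransfer
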