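import Groth.Agent.RaynaudGruson.StalkFP
import Groth.Agent.RaynaudGruson.FlatPred
import Mathlib

/-!
Flat stalks of finite type algebras are essentially of finite presentation.
-/

set_option autoImplicit false
universe u

namespace Groth.RaynaudGruson.StalkEssFP

theorem pred_of_flat_localization {R S : Type u} [CommRing R] [CommRing S] [Algebra R S] (q : Ideal S) [q.IsPrime]
    [Module.Flat R (Localization.AtPrime q)] : FlatPred.Pred R q.primeCompl S := by
  haveI : Module.Flat R (LocalizedModule q.primeCompl S) := by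
    haveI : IsLocalizedModule q.primeCompl (Algebra.linearMap S (Localization.AtPrime q)) :=
      inferInstance
    exact Module.Flat.of_linearEquiv
      ((IsLocalizedModule.iso q.primeCompl (Algebra.linearMap S (Localization.AtPrime q))).restrictScalars R)
  exact (FlatPred.flat_iff _).mp inferInstance

theorem essFinitePresentation {R S : Type u} [CommRing R] [CommRing S] [Algebra R S] [Algebra.FiniteType R S]
    (q : Ideal S) [q.IsPrime] [Module.Flat R (Localization.AtPrime q)] :
    FlatCA.EssFinitePresentation R (Localization.AtPrime q) := by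
  classical
  obtain ⟨n, π, hπ⟩ := Algebra.FiniteType.iff_quotient_mvPolynomial''.1 (inferInstance : Algebra.FiniteType R S)
  obtain ⟨P, _, _, _, _, _, hPS⟩ : ∃ (P : Type u) (_ : CommRing P) (_ : Algebra R P) (_ : Algebra.FinitePresentation R P)
      (_ : Algebra P S) (_ : IsScalarTower R P S), Function.Surjective (algebraMap P S) :=
    letI : Algebra (MvPolynomial (Fin n) R) S := π.toRingHom.toAlgebra
    ⟨MvPolynomial (Fin n) R, inferInstance, inferInstance, inferInstance, π.toRingHom.toAlgebra,
      .of_algebraMap_eq fun r => (π.commutes r).symm, hπ⟩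
  haveI : Module.Finite P S := Module.Finite.of_surjective (Algebra.linearMap P S) hPS
  let qP := q.comap (algebraMap P S)
  have hflat : FlatCA.FlatAt R qP S :=
    (FlatPred.flatAt_iff qP).mpr ((pred_of_flat_localization q).of_dvd fun u hu => by
      obtain ⟨w, rfl⟩ := hPS u
      exact ⟨w, 1, hu, fun m => by rw [one_smul, algebraMap_smul]⟩)
  haveI := StalkFP.finitePresentation_stalk (R := R) (S := P) S qP hflat
  let Pq := Localization.AtPrime qP
  let φ : Pq →ₗ[Pq] LocalizedModule qP.primeCompl S :=
    LinearMap.toSpanSingleton Pq _ (LocalizedModule.mk (1 : S) 1)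
  have hφ : ∀ (a : P) (s : qP.primeCompl), φ (Localization.mk a s) = LocalizedModule.mk (algebraMap P S a) s :=
    fun a s => by
      rw [LinearMap.toSpanSingleton_apply, LocalizedModule.mk_smul_mk, mul_one, ← Algebra.algebraMap_eq_smul_one]
  have hφs : Function.Surjective φ := fun z => by
    induction z using LocalizedModule.induction_on with
    | h m s => obtain ⟨a, rfl⟩ := hPS m; exact ⟨Localization.mk a s, hφ a s⟩
  obtain ⟨K, hK⟩ := Module.FinitePresentation.fg_ker φ hφs
  have hchoose : ∀ k : K, ∃ (c : P) (t : qP.primeCompl), algebraMap P S c = 0 ∧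
      algebraMap P Pq (t : P) * (k : Pq) = algebraMap P Pq c := by
    rintro ⟨k, hk⟩
    induction k using Localization.induction_on with
    | H p =>
      obtain ⟨a, s⟩ := p
      have hker : φ (Localization.mk a s) = 0 := LinearMap.mem_ker.mp (hK ▸ Submodule.subset_span hk)
      rw [hφ, ← LocalizedModule.zero_mk s, LocalizedModule.mk_eq] at hker
      obtain ⟨u, hu⟩ := hker
      refine ⟨(u : P) * s * a, u * s * s, ?_, ?_⟩
      · rw [map_mul, map_mul, mul_assoc, ← Algebra.smul_def, ← Algebra.smul_def]
        simpa [Submonoid.smul_def] using hu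
      · show algebraMap P Pq ((u : P) * s * s) * Localization.mk a s = _
        rw [Localization.mk_eq_mk', map_mul, mul_assoc, IsLocalization.mk'_spec'_mk, ← map_mul]
  choose c t hc hct using hchoose
  let J : Ideal P := Ideal.span (Finset.univ.image c : Set P)
  have hJker : J ≤ RingHom.ker (algebraMap P S) := Ideal.span_le.mpr fun x hx => by
    obtain ⟨k, -, rfl⟩ := Finset.mem_image.mp (Finset.mem_coe.mp hx)
    exact hc k
  let S₀ := P ⧸ J
  let θ : S₀ →ₐ[P] S := Ideal.Quotient.liftₐ J (Algebra.ofId P S) fun a ha => hJker ha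
  letI : Algebra S₀ (Localization.AtPrime q) :=
    ((algebraMap S (Localization.AtPrime q)).comp θ.toRingHom).toAlgebra
  have hmap : ∀ a : P, algebraMap S₀ (Localization.AtPrime q) (Ideal.Quotient.mk J a) =
      algebraMap S (Localization.AtPrime q) (algebraMap P S a) := fun a => rfl
  refine ⟨S₀, inferInstance, inferInstance, inferInstance, IsScalarTower.of_algebraMap_eq fun r => ?_,
    qP.primeCompl.map (Ideal.Quotient.mk J).toMonoidHom,
    Algebra.FinitePresentation.quotient (Submodule.fg_span (Finset.finite_toSet _)), ?_⟩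
  · show algebraMap R (Localization.AtPrime q) r = algebraMap S (Localization.AtPrime q) (algebraMap P S (algebraMap R P r))
    rw [← IsScalarTower.algebraMap_apply R P S, ← IsScalarTower.algebraMap_apply]
  refine ⟨?_, fun z => ?_, fun {x y} h => ?_⟩
  · rintro ⟨_, a, ha, rfl⟩
    exact IsLocalization.map_units (Localization.AtPrime q) (⟨algebraMap P S a, ha⟩ : q.primeCompl)
  · obtain ⟨⟨x, s⟩, hxs⟩ := IsLocalization.surj q.primeCompl z
    obtain ⟨a, ha⟩ := hPS x
    obtain ⟨b, hb⟩ := hPS s
    exact ⟨(Ideal.Quotient.mk J a, ⟨_, b, show b ∈ qP.primeCompl from fun h => s.2 (hb ▸ h), rfl⟩), by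
      show z * algebraMap S₀ _ (Ideal.Quotient.mk J b) = algebraMap S₀ _ (Ideal.Quotient.mk J a)
      rw [hmap, hmap, ha, hb]; exact hxs⟩
  · obtain ⟨a, rfl⟩ := Ideal.Quotient.mk_surjective x
    obtain ⟨b, rfl⟩ := Ideal.Quotient.mk_surjective y
    rw [hmap, hmap] at h
    obtain ⟨u, hu⟩ := IsLocalization.exists_of_eq (M := q.primeCompl) h
    obtain ⟨u', hu'⟩ := hPS u
    have hd : algebraMap P S (u' * (a - b)) = 0 := by
      rw [map_mul, map_sub, hu', mul_sub, hu, sub_self]
    have hmem : algebraMap P Pq (u' * (a - b)) ∈ J.map (algebraMap P Pq) := by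
      have h1 : algebraMap P Pq (u' * (a - b)) ∈ LinearMap.ker φ := by
        rw [LinearMap.mem_ker, ← Localization.mk_one_eq_algebraMap, hφ, hd, LocalizedModule.zero_mk]
      rw [← hK] at h1
      refine Submodule.span_le.mpr (fun k hk => ?_) h1
      refine (Ideal.unit_mul_mem_iff_mem (J.map (algebraMap P Pq)) (IsLocalization.map_units Pq (t ⟨k, hk⟩))).mp ?_
      rw [hct ⟨k, hk⟩]
      exact Ideal.mem_map_of_mem _ (Ideal.subset_span (Finset.mem_coe.mpr (Finset.mem_image_of_mem c (Finset.mem_univ _))))
    obtain ⟨v, hv, hvJ⟩ := (IsLocalization.algebraMap_mem_map_algebraMap_iff qP.primeCompl _ _ _).mp hmem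
    refine ⟨⟨_, v * u', mul_mem (s := qP.primeCompl) hv (fun h => u.2 (hu' ▸ h)), rfl⟩, ?_⟩
    show Ideal.Quotient.mk J (v * u') * Ideal.Quotient.mk J a = Ideal.Quotient.mk J (v * u') * Ideal.Quotient.mk J b
    rw [← map_mul, ← map_mul, Ideal.Quotient.eq, ← mul_sub, mul_assoc]
    exact hvJ

end Groth.RaynaudGruson.StalkEssFP
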