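import Groth.Agent.RaynaudGruson.FlatNbhd
import Groth.Agent.RaynaudGruson.StalkEssFP
import Mathlib

/-!
A finite type algebra flat at a point is flat of finite presentation near it after étale localisation.
-/

set_option autoImplicit false
universe u

open TensorProduct

namespace Groth.RaynaudGruson.FlatFPAlgebra

/-- A basic open which is finitely presented as a module over a basic open of a finitely presented algebra. -/
theorem transfer {A SP SA : Type u} [CommRing A] [CommRing SP] [CommRing SA] [Algebra A SP] [Algebra A SA]
    [Algebra SP SA] [IsScalarTower A SP SA] [Algebra.FinitePresentation A SP] (g : SP)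
    [Module.FinitePresentation (Localization.Away g) (LocalizedModule (Submonoid.powers g) SA)]
    [Module.Flat A (LocalizedModule (Submonoid.powers g) SA)] :
    Module.Flat A (Localization.Away (algebraMap SP SA g)) ∧
      Algebra.FinitePresentation A (Localization.Away (algebraMap SP SA g)) := by
  let U := Submonoid.powers g
  let B := Localization.Away g
  let T := Localization.Away (algebraMap SP SA g)
  haveI : IsLocalization (Algebra.algebraMapSubmonoid SA U) T := by
    rw [Algebra.algebraMapSubmonoid_powers]
    infer_instance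
  let l : SA →ₗ[SP] T := (IsScalarTower.toAlgHom SP SA T).toLinearMap
  haveI : IsLocalizedModule U l := isLocalizedModule_iff_isLocalization.mpr inferInstance
  letI : Algebra B T := (IsLocalization.map T (algebraMap SP SA)
    (show U ≤ (Algebra.algebraMapSubmonoid SA U).comap (algebraMap SP SA) from fun x hx => ⟨x, hx, rfl⟩) : B →+* T).toAlgebra
  haveI : IsScalarTower SP B T := .of_algebraMap_eq fun x => by
    rw [RingHom.algebraMap_toAlgebra, IsLocalization.map_eq]
    exact IsScalarTower.algebraMap_apply SP SA T x
  haveI : IsScalarTower A B T := .of_algebraMap_eq fun a => by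
    rw [IsScalarTower.algebraMap_apply A SP B, ← IsScalarTower.algebraMap_apply SP B T,
      ← IsScalarTower.algebraMap_apply A SP T]
  let e₀ := IsLocalizedModule.iso U l
  let e : LocalizedModule U SA ≃ₗ[B] T := e₀.extendScalarsOfIsLocalization U B
  haveI : IsScalarTower A SP T := IsScalarTower.of_algebraMap_eq fun a => by
    rw [IsScalarTower.algebraMap_apply A SA T, IsScalarTower.algebraMap_apply A SP SA,
      ← IsScalarTower.algebraMap_apply SP SA T]
  refine ⟨Module.Flat.of_linearEquiv (e₀.restrictScalars A).symm, ?_⟩
  haveI : Module.FinitePresentation B T := Module.FinitePresentation.of_equiv e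
  haveI : Algebra.FinitePresentation SP B := IsLocalization.Away.finitePresentation g
  haveI : Algebra.FinitePresentation A B := Algebra.FinitePresentation.trans A SP B
  exact Algebra.FinitePresentation.trans A B T

set_option maxHeartbeats 1600000 in
theorem exists_flat_fp {R S : Type u} [CommRing R] [CommRing S] [Algebra R S] [Algebra.FiniteType R S]
    (p : Ideal R) [p.IsPrime] (q : Ideal S) [q.IsPrime] [q.LiesOver p] [Module.Flat R (Localization.AtPrime q)] :
    ∃ (R' : Type u) (_ : CommRing R') (_ : Algebra R R') (p' : Ideal R') (_ : p'.IsPrime),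
      FlatCA.IsEtaleNhd R R' p p' ∧
      ∀ (SA : Type u) [CommRing SA] [Algebra R SA] [Algebra S SA] [Algebra (Localization.AtPrime p') SA]
        [IsScalarTower R S SA] [IsScalarTower R (Localization.AtPrime p') SA]
        [Algebra.IsPushout R S (Localization.AtPrime p') SA],
        ∃ g : SA, (∀ (Q : Ideal SA) [Q.IsPrime], Q.LiesOver q → Q.LiesOver (IsLocalRing.maximalIdeal (Localization.AtPrime p')) → g ∉ Q) ∧
          Module.Flat (Localization.AtPrime p') (Localization.Away g) ∧
          Algebra.FinitePresentation (Localization.AtPrime p') (Localization.Away g) := by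
  obtain ⟨n, π, hπ⟩ := Algebra.FiniteType.iff_quotient_mvPolynomial''.1 (inferInstance : Algebra.FiniteType R S)
  obtain ⟨P, _, _, _, _, _, hPS⟩ : ∃ (P : Type u) (_ : CommRing P) (_ : Algebra R P) (_ : Algebra.FinitePresentation R P)
      (_ : Algebra P S) (_ : IsScalarTower R P S), Function.Surjective (algebraMap P S) :=
    letI : Algebra (MvPolynomial (Fin n) R) S := π.toRingHom.toAlgebra
    ⟨MvPolynomial (Fin n) R, inferInstance, inferInstance, inferInstance, π.toRingHom.toAlgebra,
      .of_algebraMap_eq fun r => (π.commutes r).symm, hπ⟩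
  haveI : Module.Finite P S := Module.Finite.of_surjective (Algebra.linearMap P S) hPS
  let qP := q.comap (algebraMap P S)
  haveI : qP.LiesOver p := ⟨by
    show p = (q.comap (algebraMap P S)).comap (algebraMap R P)
    rw [Ideal.comap_comap, ← IsScalarTower.algebraMap_eq]
    exact Ideal.LiesOver.over (P := q) (p := p)⟩
  have hflat : FlatCA.FlatAt R qP S :=
    (FlatPred.flatAt_iff qP).mpr ((StalkEssFP.pred_of_flat_localization q).of_dvd fun u hu => by
      obtain ⟨w, rfl⟩ := hPS u
      exact ⟨w, 1, hu, fun m => by rw [one_smul, algebraMap_smul]⟩)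
  obtain ⟨R', _, _, p', _, hR, hmod⟩ := LocalStructure.exists_nbhd_free S p qP hflat
  refine ⟨R', inferInstance, inferInstance, p', inferInstance, hR, ?_⟩
  intro SA _ _ _ _ _ _ _
  obtain ⟨het, hp'o, hκ'⟩ := hR
  haveI := hp'o
  let A := Localization.AtPrime p'
  let m := IsLocalRing.maximalIdeal A
  haveI : m.LiesOver p' := ⟨(IsLocalization.AtPrime.under_maximalIdeal A p').symm⟩
  haveI : m.LiesOver p := Ideal.LiesOver.trans m p' p
  have hκ := EtalePushout.bijective_mapₐ_trans p p' m hκ' (LocalStructure.bijective_residue_atPrime p')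
  obtain ⟨SP, _, _, _, _, _, _, hpush⟩ := EtalePushout.exists_pushout R P A
  haveI := hpush
  haveI hpush' : Algebra.IsPushout R P A SP := Algebra.IsPushout.symm hpush
  letI : Algebra P SA := ((algebraMap S SA).comp (algebraMap P S)).toAlgebra
  haveI : IsScalarTower P S SA := .of_algebraMap_eq' rfl
  haveI : IsScalarTower R P SA := .of_algebraMap_eq fun r => by
    show algebraMap R SA r = algebraMap S SA (algebraMap P S (algebraMap R P r))
    rw [← IsScalarTower.algebraMap_apply R P S, ← IsScalarTower.algebraMap_apply]
  let σ : SP →ₐ[R] SA := Algebra.pushoutDesc SP (IsScalarTower.toAlgHom R P SA) (IsScalarTower.toAlgHom R A SA)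
    fun _ _ => Commute.all _ _
  letI : Algebra SP SA := σ.toRingHom.toAlgebra
  haveI : IsScalarTower P SP SA := .of_algebraMap_eq fun x =>
    (Algebra.pushoutDesc_left SP (IsScalarTower.toAlgHom R P SA) (IsScalarTower.toAlgHom R A SA) _ x).symm
  haveI : IsScalarTower A SP SA := .of_algebraMap_eq fun a =>
    (Algebra.pushoutDesc_right SP (IsScalarTower.toAlgHom R P SA) (IsScalarTower.toAlgHom R A SA) _ a).symm
  haveI : IsScalarTower R SP SA := .of_algebraMap_eq fun r => (σ.commutes r).symm
  haveI hpushS : Algebra.IsPushout P SP S SA := by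
    have h2 : Algebra.IsPushout R S A SA := inferInstance
    exact Algebra.IsPushout.symm ((Algebra.IsPushout.comp_iff (R := R) (S := P) (R' := A) (S' := SP) (T := S)
      (T' := SA)).mp h2)
  have hf : IsBaseChange SP ((IsScalarTower.toAlgHom P S SA).toLinearMap) := hpushS.out
  obtain ⟨C, _, _, _, _, _, _, x, _, hx, hetC, -, hxm, -, hfp, hfree⟩ :=
    hmod SP SA (IsScalarTower.toAlgHom P S SA).toLinearMap hf
  haveI := hetC; haveI := hx; haveI := hxm; haveI := hfp
  obtain ⟨g, hg, hflatg, hcov⟩ := FlatNbhd.exists_g p m hκ qP SA x hfree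
  haveI : Module.Finite SP SA := Module.Finite.equiv hf.equiv
  haveI := FlatNbhd.finitePresentation_away (B := SP) (C := C) (M := SA) g hcov
  haveI := hflatg
  haveI : Algebra.FinitePresentation A SP := Algebra.FinitePresentation.equiv (Algebra.IsPushout.equiv R A P SP)
  refine ⟨algebraMap SP SA g, fun Q _ hQq hQm hgQ => hg (Q.comap (algebraMap SP SA)) ⟨?_⟩ ⟨?_⟩ hgQ, transfer g⟩
  · show q.comap (algebraMap P S) = (Q.comap (algebraMap SP SA)).comap (algebraMap P SP)
    rw [show q = Q.comap (algebraMap S SA) from hQq.over, Ideal.comap_comap, ← IsScalarTower.algebraMap_eq, Ideal.comap_comap,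
      ← IsScalarTower.algebraMap_eq]
  · show m = (Q.comap (algebraMap SP SA)).comap (algebraMap A SP)
    rw [Ideal.comap_comap, ← IsScalarTower.algebraMap_eq]
    exact hQm.over

end Groth.RaynaudGruson.FlatFPAlgebra
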