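import Groth.Agent.RaynaudGruson.LocalStructure
import Mathlib

/-!
A finite module flat at a point has a finitely presented stalk there.
-/

set_option autoImplicit false
universe u

open TensorProduct

namespace Groth.RaynaudGruson.StalkFP

theorem finitePresentation_stalk {R S : Type u} [CommRing R] [CommRing S] [Algebra R S] [Algebra.FinitePresentation R S]
    (N : Type u) [AddCommGroup N] [Module S N] [Module R N] [IsScalarTower R S N] [Module.Finite S N]
    (q : Ideal S) [q.IsPrime] (h : FlatCA.FlatAt R q N) :
    Module.FinitePresentation (Localization.AtPrime q) (LocalizedModule q.primeCompl N) := by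
  let p := q.comap (algebraMap R S)
  haveI : q.LiesOver p := ⟨rfl⟩
  obtain ⟨R', _, _, p', _, hR', hmodels⟩ := LocalStructure.exists_nbhd_free N p q h
  haveI := hR'.1
  let A := Localization.AtPrime p'
  haveI : Module.Flat R A := Module.Flat.trans R R' A
  obtain ⟨SA, _, _, _, _, _, _, hpush⟩ := EtalePushout.exists_pushout R S A
  haveI := hpush
  haveI : Algebra.IsPushout R S A SA := Algebra.IsPushout.symm hpush
  haveI : Module.Flat S SA := Module.Flat.of_linearEquiv (Algebra.IsPushout.equiv R S A SA).symm.toLinearEquiv
  obtain ⟨NA, _, _, _, _, f, hf⟩ := EtalePushout.exists_baseChange S SA N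
  obtain ⟨C, _, _, _, _, _, _, x, _, hx, hetale, -, -, -, hfp, -⟩ := hmodels SA NA f hf
  haveI := hetale
  haveI : Module.Flat S C := Module.Flat.trans S SA C
  let Sq := Localization.AtPrime q
  let Tq := Localization.AtPrime x
  let φ : Sq →+* Tq := Localization.localRingHom q x (algebraMap S C) hx.over
  letI : Algebra Sq Tq := φ.toAlgebra
  haveI : IsScalarTower S Sq Tq := .of_algebraMap_eq fun a => by
    rw [RingHom.algebraMap_toAlgebra, Localization.localRingHom_to_map]
    exact IsScalarTower.algebraMap_apply S C Tq a
  haveI : Module.Flat C Tq := IsLocalization.flat Tq x.primeCompl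
  haveI : Module.Flat S Tq := Module.Flat.trans S C Tq
  haveI : Module.Flat Sq Tq := (Module.flat_iff_of_isLocalization Sq q.primeCompl (M := Tq)).mpr inferInstance
  haveI : IsLocalHom (algebraMap Sq Tq) := Localization.isLocalHom_localRingHom q x _ hx.over
  haveI : Module.FaithfullyFlat Sq Tq := Module.FaithfullyFlat.of_flat_of_isLocalHom
  haveI := hfp
  have hcomp : IsBaseChange C (((TensorProduct.mk SA C NA 1).restrictScalars S).comp f) :=
    IsBaseChange.comp hf (TensorProduct.isBaseChange SA NA C)
  haveI : Module.FinitePresentation C (C ⊗[S] N) := Module.FinitePresentation.of_equiv hcomp.equiv.symm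
  let e : Tq ⊗[Sq] LocalizedModule q.primeCompl N ≃ₗ[Tq] Tq ⊗[C] (C ⊗[S] N) :=
    ((LinearEquiv.baseChange Sq Tq _ _ (LocalizedModule.equivTensorProduct q.primeCompl N)).trans
      (AlgebraTensorModule.cancelBaseChange S Sq Tq Tq N)).trans
      (AlgebraTensorModule.cancelBaseChange S C Tq Tq N).symm
  haveI : Module.FinitePresentation Tq (Tq ⊗[Sq] LocalizedModule q.primeCompl N) :=
    Module.FinitePresentation.of_equiv e.symm
  haveI : Module.Finite Sq (LocalizedModule q.primeCompl N) := inferInstance
  exact LocalStructure.finitePresentation_of_tensor (T := Tq)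

end Groth.RaynaudGruson.StalkFP
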