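import Mathlib

/-!
Local rings of étale algebras are local rings of standard étale ones.
-/

set_option autoImplicit false
set_option linter.style.haveILetI false
universe u

open Polynomial

namespace Groth.RaynaudGruson.StdEtaleLocal

/-- The local ring at a prime of an étale algebra is that of a monic simple root. -/
theorem exists_standard {A R' : Type u} [CommRing A] [CommRing R'] [Algebra A R'] [Algebra.Etale A R'] (p' : Ideal R')
    [p'.IsPrime] :
    ∃ (f : A[X]) (𝔮 : Ideal (AdjoinRoot f)) (_ : 𝔮.IsPrime), f.Monic ∧ AdjoinRoot.mk f (derivative f) ∉ 𝔮 ∧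
      𝔮.comap (algebraMap A (AdjoinRoot f)) = p'.comap (algebraMap A R') ∧
      Nonempty (Localization.AtPrime 𝔮 ≃ₐ[A] Localization.AtPrime p') := by
  obtain ⟨r, hr, hstd⟩ := Algebra.IsEtaleAt.exists_isStandardEtale (R := A) p'
  obtain ⟨P⟩ := hstd.nonempty_standardEtalePresentation
  let Rr := Localization.Away r
  let gT := AdjoinRoot.mk P.P.f P.P.g
  let E : Rr ≃ₐ[A] Localization.Away gT := P.equivRing.trans P.P.equivAwayAdjoinRoot
  have hdisj : Disjoint (Submonoid.powers r : Set R') (p' : Set R') :=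
    (Ideal.disjoint_powers_iff_notMem_of_isPrime _).mpr hr
  let P₁ : Ideal Rr := p'.map (algebraMap R' Rr)
  haveI : P₁.IsPrime := IsLocalization.isPrime_of_isPrime_disjoint (Submonoid.powers r) Rr p' ‹_› hdisj
  have hP₁ : P₁.comap (algebraMap R' Rr) = p' :=
    IsLocalization.under_map_of_isPrime_disjoint (Submonoid.powers r) Rr ‹_› hdisj
  let P₂ : Ideal (Localization.Away gT) := P₁.comap E.symm
  haveI : P₂.IsPrime := Ideal.IsPrime.comap _
  let 𝔮 : Ideal (AdjoinRoot P.P.f) := P₂.comap (algebraMap _ (Localization.Away gT))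
  haveI : 𝔮.IsPrime := Ideal.IsPrime.comap _
  have hgT : gT ∉ 𝔮 := fun h =>
    (inferInstance : P₂.IsPrime).ne_top (Ideal.eq_top_of_isUnit_mem _ h (IsLocalization.Away.algebraMap_isUnit gT))
  refine ⟨P.P.f, 𝔮, inferInstance, P.P.monic_f, fun h => hgT ?_, ?_, ⟨?_⟩⟩
  · obtain ⟨p₁, p₂, n, hn⟩ := P.P.cond
    refine ‹𝔮.IsPrime›.mem_of_pow_mem n ?_
    rw [← map_pow, ← hn, map_add, map_mul, map_mul, AdjoinRoot.mk_self, zero_mul, add_zero]
    exact 𝔮.mul_mem_right _ h
  · ext a
    rw [Ideal.mem_comap, Ideal.mem_comap, Ideal.mem_comap, Ideal.mem_comap, ← IsScalarTower.algebraMap_apply]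
    show E.symm (algebraMap A _ a) ∈ P₁ ↔ _
    rw [E.symm.commutes, IsScalarTower.algebraMap_apply A R' Rr, ← Ideal.mem_comap, hP₁]
  · haveI := IsLocalization.isLocalization_atPrime_localization_atPrime (Submonoid.powers gT) P₂
    haveI : IsLocalization.AtPrime (Localization.AtPrime P₁) p' := by
      have h1 := IsLocalization.isLocalization_atPrime_localization_atPrime (Submonoid.powers r) P₁
      exact (show ∀ (I : Ideal R') [I.IsPrime], I = p' → IsLocalization.AtPrime (Localization.AtPrime P₁) I →
        IsLocalization.AtPrime (Localization.AtPrime P₁) p' from fun I _ e h => by subst e; exact h) _ hP₁ h1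
    exact ((IsLocalization.algEquiv 𝔮.primeCompl (Localization.AtPrime 𝔮)
        (Localization.AtPrime P₂)).restrictScalars A).trans
      ((Localization.localAlgEquiv (R := A) P₂ P₁ E.symm rfl).trans
      ((IsLocalization.algEquiv p'.primeCompl (Localization.AtPrime p') (Localization.AtPrime P₁)).symm.restrictScalars A))

end Groth.RaynaudGruson.StdEtaleLocal
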