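import Groth.Agent.RaynaudGruson.TorMinNbhd
import Groth.Agent.RaynaudGruson.EtaleUnivInj
import Groth.Agent.RaynaudGruson.StdEtaleLocal
import Groth.Agent.RaynaudGruson.StalkFP
import Groth.Agent.Calg1.InjModMaximal
import Mathlib

/-!
The source of a map into a flat module which is injective modulo the maximal ideal: its localised module satisfies
`TorMin`, hence is flat, and vanishing in it is detected in a standard étale neighbourhood.
-/

set_option autoImplicit false
set_option linter.style.haveILetI false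
universe u

open TensorProduct

namespace Groth.RaynaudGruson.InjModSetup

variable {A S : Type u} [CommRing A] [IsLocalRing A] [CommRing S] [Algebra A S]
  {N₀ N : Type u} [AddCommGroup N₀] [Module S N₀] [Module A N₀] [IsScalarTower A S N₀]
  [AddCommGroup N] [Module S N] [Module A N] [IsScalarTower A S N]
  (q : Ideal S) [q.IsPrime] (ι : N₀ →ₗ[S] N) [IsLocalizedModule q.primeCompl ι]

theorem rTensor_eq {Q : Type u} [AddCommGroup Q] [Module A Q] (z : N₀ ⊗[A] Q) :
    AlgebraTensorModule.rTensor A Q ι z = (ι.restrictScalars A).rTensor Q z := by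
  induction z with
  | zero => simp
  | tmul n x => rfl
  | add a b ha hb => simp only [map_add, ha, hb]

include ι in
/-- A map into a flat module, injective modulo the maximal ideal, gives `TorMin` before localising. -/
theorem torMin {M : Type u} [AddCommGroup M] [Module A M] [Module.Flat A M] (u : N →ₗ[A] M)
    (hu : Function.Injective (u.lTensor (IsLocalRing.ResidueField A))) : TorMin.TorMin A q.primeCompl N₀ := by
  intro Q Q' _ _ _ _ j hj z hz
  let z₁ := (ι.restrictScalars A).rTensor Q z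
  have h1 : j.lTensor N z₁ = 0 := by
    rw [← LinearMap.comp_apply, LinearMap.lTensor_comp_rTensor, ← LinearMap.rTensor_comp_lTensor,
      LinearMap.comp_apply, hz, map_zero]
  have h2 : u.rTensor Q z₁ = 0 := Module.Flat.lTensor_preserves_injective_linearMap (M := M) j hj (by
    rw [map_zero, ← LinearMap.comp_apply, LinearMap.lTensor_comp_rTensor, ← LinearMap.rTensor_comp_lTensor,
      LinearMap.comp_apply, h1, map_zero])
  let m := IsLocalRing.maximalIdeal A
  have hg : ∀ x, u x ∈ m • (⊤ : Submodule A M) → x ∈ m • (⊤ : Submodule A N) := fun x hx => by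
    have h3 : Ideal.Quotient.mk m (1 : A) ⊗ₜ[A] u x = 0 := by
      refine (TensorProduct.quotTensorEquivQuotSMul M m).injective ?_
      rw [map_zero, TensorProduct.quotTensorEquivQuotSMul_mk_tmul, one_smul, Submodule.Quotient.mk_eq_zero]
      exact hx
    have h4 : Ideal.Quotient.mk m (1 : A) ⊗ₜ[A] x = 0 := hu (h3.trans (map_zero (u.lTensor (IsLocalRing.ResidueField A))).symm)
    have h5 := congrArg (TensorProduct.quotTensorEquivQuotSMul N m) h4
    rwa [map_zero, TensorProduct.quotTensorEquivQuotSMul_mk_tmul, one_smul, Submodule.Quotient.mk_eq_zero] at h5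
  have h6 : z₁ ∈ m • (⊤ : Submodule A (N ⊗[A] Q)) := TorMin.mem_smul_top_of_mk_eq_zero
    (TorMin.rTensor_injective_of_mod u hg (V := Q ⧸ m • (⊤ : Submodule A Q)) (fun a ha v => by
      obtain ⟨v, rfl⟩ := Submodule.Quotient.mk_surjective _ v
      rw [← Submodule.Quotient.mk_smul, Submodule.Quotient.mk_eq_zero]
      exact Submodule.smul_mem_smul ha trivial) (by
      rw [map_zero, ← LinearMap.comp_apply, LinearMap.rTensor_comp_lTensor, ← LinearMap.lTensor_comp_rTensor,
        LinearMap.comp_apply, h2, map_zero]))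
  obtain ⟨v, hv, hmem⟩ := Groth.Calg1.exists_smul_mem_of_localized q.primeCompl
    (AlgebraTensorModule.rTensor A Q ι) m (x := z) (by rw [rTensor_eq]; exact h6)
  exact ⟨v, hv, hmem⟩

theorem smul_rTensor {Q : Type u} [AddCommGroup Q] [Module A Q] (s : S) (z : N₀ ⊗[A] Q) :
    AlgebraTensorModule.rTensor A Q ι (s • z) = s • AlgebraTensorModule.rTensor A Q ι z := map_smul _ _ _

theorem lTensor_smul {X Q Q' : Type u} [AddCommGroup X] [Module S X] [Module A X] [IsScalarTower A S X]
    [AddCommGroup Q] [Module A Q] [AddCommGroup Q'] [Module A Q'] (h : Q →ₗ[A] Q') (s : S) (z : X ⊗[A] Q) :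
    h.lTensor X (s • z) = s • h.lTensor X z := map_smul (AlgebraTensorModule.lTensor S X h) s z

include ι in
/-- `N` is flat and has coordinates in a standard étale neighbourhood. -/
theorem flat_and_hasCoord [Algebra.FinitePresentation A S] [Module.Finite S N₀]
    [q.LiesOver (IsLocalRing.maximalIdeal A)] (hT : TorMin.TorMin A q.primeCompl N₀) :
    Module.Flat A N ∧ ∃ (f : Polynomial A) (𝔮 : Ideal (AdjoinRoot f)) (_ : 𝔮.IsPrime), f.Monic ∧
      𝔮.comap (algebraMap A (AdjoinRoot f)) = IsLocalRing.maximalIdeal A ∧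
      AdjoinRoot.mk f (Polynomial.derivative f) ∉ 𝔮 ∧ EtaleCoord.HasCoord N f 𝔮 := by
  classical
  obtain ⟨R', _, _, p', _, hRet, hp'o, NC, _, _, _, _, g, hfree, hP1, hP2⟩ := TorMinNbhd.exists_local N₀ q hT
  haveI := hRet
  haveI := hfree
  let A' := Localization.AtPrime p'
  haveI : Module.Flat A A' := Module.Flat.trans A R' A'
  haveI : Module.Flat A NC := Module.Flat.trans A A' NC
  let ιQ : ∀ (Q : Type u) [AddCommGroup Q] [Module A Q], N₀ ⊗[A] Q →ₗ[S] N ⊗[A] Q :=
    fun Q _ _ => AlgebraTensorModule.rTensor A Q ι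
  haveI hιQ : ∀ (Q : Type u) [AddCommGroup Q] [Module A Q], IsLocalizedModule q.primeCompl (ιQ Q) :=
    fun Q _ _ => inferInstanceAs (IsLocalizedModule q.primeCompl (AlgebraTensorModule.rTensor A Q ι))
  -- vanishing after localising
  have hcrit : ∀ (Q : Type u) [AddCommGroup Q] [Module A Q] (z : N₀ ⊗[A] Q), ιQ Q z = 0 ↔ g.rTensor Q z = 0 := by
    intro Q _ _ z
    rw [IsLocalizedModule.eq_zero_iff q.primeCompl (ιQ Q)]
    constructor
    · rintro ⟨v, hv⟩
      exact hP2 Q z v v.2 (by rw [← Submonoid.smul_def, hv, map_zero])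
    · intro h
      obtain ⟨v, hv, hv0⟩ := hP1 Q z h
      exact ⟨⟨v, hv⟩, hv0⟩
  have hzero : ∀ (Q : Type u) [AddCommGroup Q] [Module A Q] (s : q.primeCompl) (z : N ⊗[A] Q),
      (s : S) • z = 0 → z = 0 := by
    intro Q _ _ s z h
    exact ((Module.End.isUnit_iff _).mp (IsLocalizedModule.map_units (ιQ Q) s)).1 (h.trans (map_zero _).symm)
  have hnat : ∀ (Q Q' : Type u) [AddCommGroup Q] [Module A Q] [AddCommGroup Q'] [Module A Q'] (h : Q →ₗ[A] Q')
      (z : N₀ ⊗[A] Q), h.lTensor N (ιQ Q z) = ιQ Q' (h.lTensor N₀ z) := fun Q Q' _ _ _ _ h z => by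
    induction z with
    | zero => simp
    | tmul n x => rfl
    | add a b ha hb => simp only [map_add, ha, hb]
  have hgnat : ∀ (Q Q' : Type u) [AddCommGroup Q] [Module A Q] [AddCommGroup Q'] [Module A Q'] (h : Q →ₗ[A] Q')
      (z : N₀ ⊗[A] Q), g.rTensor Q' (h.lTensor N₀ z) = h.lTensor NC (g.rTensor Q z) := fun Q Q' _ _ _ _ h z => by
    rw [← LinearMap.comp_apply, ← LinearMap.comp_apply, LinearMap.rTensor_comp_lTensor, LinearMap.lTensor_comp_rTensor]
  have hsurj : ∀ (Q : Type u) [AddCommGroup Q] [Module A Q] (z : N ⊗[A] Q), ∃ (s : q.primeCompl) (z₀ : N₀ ⊗[A] Q),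
      ∀ (Q' : Type u) [AddCommGroup Q'] [Module A Q'] (h : Q →ₗ[A] Q'),
        h.lTensor N z = 0 ↔ h.lTensor NC (g.rTensor Q z₀) = 0 := by
    intro Q _ _ z
    obtain ⟨⟨z₀, s⟩, hs⟩ := IsLocalizedModule.surj q.primeCompl (ιQ Q) z
    refine ⟨s, z₀, fun Q' _ _ h => ?_⟩
    rw [← hgnat, ← hcrit, ← hnat, ← hs, Submonoid.smul_def, lTensor_smul h]
    exact ⟨fun h0 => by rw [h0, smul_zero], hzero Q' s _⟩
  refine ⟨Module.Flat.iff_lTensor_preserves_injective_linearMap.mpr fun Q Q' _ _ _ _ j hj => ?_, ?_⟩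
  · refine (injective_iff_map_eq_zero _).mpr fun z hz => ?_
    obtain ⟨s, z₀, hs⟩ := hsurj Q z
    have h1 : g.rTensor Q z₀ = 0 :=
      Module.Flat.lTensor_preserves_injective_linearMap (M := NC) j hj (((hs Q' j).mp hz).trans (map_zero _).symm)
    simpa using (hs Q LinearMap.id).mpr (by rw [h1, map_zero])
  obtain ⟨f, 𝔮, h𝔮p, hf, hd, h𝔮, ⟨e⟩⟩ := StdEtaleLocal.exists_standard (A := A) p'
  refine ⟨f, 𝔮, h𝔮p, hf, h𝔮.trans hp'o.over.symm, hd, fun Q _ _ z => ?_⟩
  let T := AdjoinRoot f
  let Tq := Localization.AtPrime 𝔮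
  obtain ⟨s, z₀, hs⟩ := hsurj Q z
  let b := Module.Free.chooseBasis A' NC
  let c : ∀ (Q : Type u) [AddCommGroup Q] [Module A Q], NC ⊗[A'] (A' ⊗[A] Q) ≃ₗ[A'] NC ⊗[A] Q :=
    fun Q _ _ => AlgebraTensorModule.cancelBaseChange A A' A' NC Q
  let co := TensorProduct.equivFinsuppOfBasisLeft b ((c Q).symm (g.rTensor Q z₀))
  have hco : ∀ (Q' : Type u) [AddCommGroup Q'] [Module A Q'] (h : Q →ₗ[A] Q'),
      h.lTensor NC (g.rTensor Q z₀) = 0 ↔ ∀ l ∈ co.support, h.lTensor A' (co l) = 0 := by
    intro Q' _ _ h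
    have k1 : ∀ w, c Q' ((h.baseChange A').lTensor NC w) = h.lTensor NC (c Q w) := fun w => by
      induction w using TensorProduct.induction_on with
      | zero => simp
      | add a b ha hb => simp only [map_add, ha, hb]
      | tmul y t =>
        induction t using TensorProduct.induction_on with
        | zero => simp
        | add a b ha hb => simp only [tmul_add, map_add, ha, hb]
        | tmul a r => simp [c]
    have k2 : ∀ w l, TensorProduct.equivFinsuppOfBasisLeft b ((h.baseChange A').lTensor NC w) l =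
        h.baseChange A' (TensorProduct.equivFinsuppOfBasisLeft b w l) := fun w l => by
      induction w using TensorProduct.induction_on with
      | zero => simp
      | add a b ha hb => simp only [map_add, Finsupp.add_apply, ha, hb]
      | tmul y t => simp
    conv_lhs => rw [← (c Q).apply_symm_apply (g.rTensor Q z₀)]
    rw [← k1, (c Q').map_eq_zero_iff,
      ← (TensorProduct.equivFinsuppOfBasisLeft b).map_eq_zero_iff, Finsupp.ext_iff]
    refine forall_congr' fun l => ?_
    rw [k2, Finsupp.zero_apply]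
    constructor
    · exact fun h0 _ => h0
    · intro h0
      by_cases hl : l ∈ co.support
      · exact h0 hl
      · rw [show TensorProduct.equivFinsuppOfBasisLeft b ((c Q).symm (g.rTensor Q z₀)) l = 0 from
          Finsupp.notMem_support_iff.mp hl, map_zero]
  let ιT : T →ₗ[T] Tq := Algebra.linearMap T Tq
  have ha : ∀ y : A' ⊗[A] Q, ∃ a : T ⊗[A] Q, ∀ (Q' : Type u) [AddCommGroup Q'] [Module A Q'] (h : Q →ₗ[A] Q'),
      h.lTensor A' y = 0 ↔ ∃ σ : T, σ ∉ 𝔮 ∧ σ • h.lTensor T a = 0 := by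
    intro y
    let y' : Tq ⊗[A] Q := e.symm.toLinearMap.rTensor Q y
    obtain ⟨⟨a, σ⟩, hσ⟩ := IsLocalizedModule.surj 𝔮.primeCompl (AlgebraTensorModule.rTensor A Q ιT) y'
    refine ⟨a, fun Q' _ _ h => ?_⟩
    have k1 : h.lTensor Tq y' = e.symm.toLinearMap.rTensor Q' (h.lTensor A' y) := by
      rw [← LinearMap.comp_apply, ← LinearMap.comp_apply, LinearMap.lTensor_comp_rTensor,
        LinearMap.rTensor_comp_lTensor]
    have k2' : ∀ w, h.lTensor Tq (AlgebraTensorModule.rTensor A Q ιT w) =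
        AlgebraTensorModule.rTensor A Q' ιT (h.lTensor T w) := fun w => by
      induction w with
      | zero => simp
      | tmul t x => rfl
      | add a b ha hb => simp only [map_add, ha, hb]
    have k2 := k2' a
    have k3 : h.lTensor A' y = 0 ↔ h.lTensor Tq y' = 0 := by
      rw [k1]
      exact ((LinearEquiv.rTensor Q' e.symm.toLinearEquiv).map_eq_zero_iff).symm
    rw [k3]
    have k4 : h.lTensor Tq y' = 0 ↔ AlgebraTensorModule.rTensor A Q' ιT (h.lTensor T a) = 0 := by
      rw [← k2, ← hσ, Submonoid.smul_def, lTensor_smul h]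
      exact ⟨fun h0 => by rw [h0, smul_zero], fun h0 => ((Module.End.isUnit_iff _).mp
        (IsLocalizedModule.map_units (AlgebraTensorModule.rTensor A Q' ιT) σ)).1 (h0.trans (map_zero _).symm)⟩
    rw [k4, IsLocalizedModule.eq_zero_iff 𝔮.primeCompl (AlgebraTensorModule.rTensor A Q' ιT)]
    exact ⟨fun ⟨τ, h0⟩ => ⟨τ, τ.2, h0⟩, fun ⟨τ, hτ, h0⟩ => ⟨⟨τ, hτ⟩, h0⟩⟩
  choose a ha using ha
  let en := co.support.equivFin
  refine ⟨co.support.card, fun i => a (co (en.symm i : co.support).1), fun Q' _ _ h => ?_⟩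
  rw [hs Q' h, hco Q' h]
  constructor
  · exact fun h0 i => (ha _ Q' h).mp (h0 _ (en.symm i).2)
  · intro h0 l hl
    refine (ha _ Q' h).mpr ?_
    have := h0 (en ⟨l, hl⟩)
    simp only [Equiv.symm_apply_apply] at this
    exact this

end Groth.RaynaudGruson.InjModSetup
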