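import Groth.Agent.RaynaudGruson.FlatPred
import Groth.Agent.S0407
import Groth.Agent.FlatMor2.FibreGenericAss.Main
import Mathlib

/-!
Flatness at a point follows from flatness at the associated points of the fibre through it which generize it
(no Noetherian hypothesis on the base).
-/

set_option autoImplicit false
set_option linter.style.haveILetI false
universe u

open TensorProduct IsLocalRing

namespace Groth.RaynaudGruson.FlatFibreAss

variable {A B : Type u} [CommRing A] [CommRing B] [Algebra A B]
  (N : Type u) [AddCommGroup N] [Module B N] [Module A N] [IsScalarTower A B N]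

/-- `t` witnesses that `P` is an associated point of the fibre module at `p`. -/
def IsWitness (p : Ideal A) (P : Ideal B) (t : N) : Prop :=
  (∀ c, c ∉ P → c • t ∉ p.map (algebraMap A B) • (⊤ : Submodule B N)) ∧
    ∀ r ∈ P, ∃ (n : ℕ) (c : B), c ∉ P ∧ (c * r ^ n) • t ∈ p.map (algebraMap A B) • (⊤ : Submodule B N)

variable [Module.Finite B N]

/-- **Flatness from the associated points of the fibre.** -/
theorem flat_localized [Algebra.FiniteType A B] (q : Ideal B) [q.IsPrime]
    (h : ∀ (P : Ideal B) [P.IsPrime], P ≤ q → P.comap (algebraMap A B) = q.comap (algebraMap A B) →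
      ∀ t : N, IsWitness N (q.comap (algebraMap A B)) P t → Module.Flat A (LocalizedModule P.primeCompl N)) :
    Module.Flat A (LocalizedModule q.primeCompl N) := by
  classical
  let p := q.comap (algebraMap A B)
  haveI : p.IsPrime := Ideal.IsPrime.comap _
  let Ap := Localization.AtPrime p
  let R := Localization.AtPrime q
  let Nq := LocalizedModule q.primeCompl N
  let g : N →ₗ[B] Nq := LocalizedModule.mkLinearMap q.primeCompl N
  letI : Algebra Ap R := (Localization.localRingHom p q (algebraMap A B) rfl).toAlgebra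
  haveI : IsLocalHom (algebraMap Ap R) := Localization.isLocalHom_localRingHom p q _ rfl
  haveI : IsScalarTower A Ap R := .of_algebraMap_eq fun a => by
    rw [RingHom.algebraMap_toAlgebra, Localization.localRingHom_to_map, ← IsScalarTower.algebraMap_apply]
  haveI : Algebra.EssFiniteType B R := .of_isLocalization R q.primeCompl
  haveI : Algebra.EssFiniteType A R := Algebra.EssFiniteType.comp A B R
  haveI : Algebra.EssFiniteType Ap R := Algebra.EssFiniteType.of_comp A Ap R
  letI : Module Ap Nq := Module.compHom Nq (algebraMap Ap R)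
  haveI : IsScalarTower Ap R Nq := IsScalarTower.of_algebraMap_smul fun _ _ => rfl
  haveI : IsScalarTower A Ap Nq := IsScalarTower.of_algebraMap_smul fun a x => by
    show algebraMap Ap R (algebraMap A Ap a) • x = a • x
    rw [← IsScalarTower.algebraMap_apply A Ap R, IsScalarTower.algebraMap_apply A B R, algebraMap_smul,
      algebraMap_smul]
  haveI : Module.Finite R Nq := inferInstance
  -- the fibre
  let I := p.map (algebraMap A B)
  let J : Ideal R := I.map (algebraMap B R)
  have hJm : J ≤ maximalIdeal R := by
    refine Ideal.map_le_iff_le_comap.mpr (Ideal.map_le_iff_le_comap.mpr fun a ha => ?_)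
    exact (IsLocalization.AtPrime.to_map_mem_maximal_iff R q _).mpr ha
  let Rbar := R ⧸ J
  have hJ : (maximalIdeal Ap).map (algebraMap Ap R) = J := by
    show _ = (p.map (algebraMap A B)).map (algebraMap B R)
    rw [← Localization.AtPrime.map_eq_maximalIdeal, Ideal.map_map, Ideal.map_map, ← IsScalarTower.algebraMap_eq,
      ← IsScalarTower.algebraMap_eq]
  haveI : IsNoetherianRing Rbar := by
    letI : Field (ResidueField Ap) := inferInstance
    letI : Algebra (ResidueField Ap) Rbar := (Ideal.Quotient.lift (maximalIdeal Ap)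
      ((Ideal.Quotient.mk J).comp (algebraMap Ap R)) fun a ha =>
      Ideal.Quotient.eq_zero_iff_mem.mpr (hJ ▸ Ideal.mem_map_of_mem _ ha)).toAlgebra
    haveI : IsScalarTower Ap (ResidueField Ap) Rbar := .of_algebraMap_eq fun _ => rfl
    haveI : Algebra.EssFiniteType R Rbar := Algebra.EssFiniteType.of_finiteType R Rbar
    haveI : Algebra.EssFiniteType Ap Rbar := Algebra.EssFiniteType.comp Ap R Rbar
    haveI : Algebra.EssFiniteType (ResidueField Ap) Rbar := Algebra.EssFiniteType.of_comp Ap (ResidueField Ap) Rbar
    exact Algebra.EssFiniteType.isNoetherianRing (ResidueField Ap) Rbar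
  let Z := Nq ⧸ (J • (⊤ : Submodule R Nq))
  let mk : Nq →ₗ[R] Z := (J • (⊤ : Submodule R Nq)).mkQ
  have hmem : ∀ t : N, mk (g t) = 0 ↔ ∃ c, c ∉ q ∧ c • t ∈ I • (⊤ : Submodule B N) := fun t =>
    (Submodule.Quotient.mk_eq_zero _).trans (Groth.FlatMor2.FibreGenericAss.mem_map_smul_top_iff q g I t)
  haveI : Module.Finite Rbar Z := Module.Finite.of_restrictScalars_finite R Rbar Z
  let pre : Ideal Rbar → Ideal B := fun P => (P.comap (Ideal.Quotient.mk J)).comap (algebraMap B R)
  have hfin : (associatedPrimes Rbar Z).Finite := associatedPrimes.finite Rbar Z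
  haveI : Finite (associatedPrimes Rbar Z) := hfin.to_subtype
  haveI : ∀ P : associatedPrimes Rbar Z, (pre P.1).IsPrime := fun P =>
    haveI := P.2.1
    Ideal.IsPrime.comap _
  have hsmul : ∀ (b : B) (x : Nq), (algebraMap B R b) • x = b • x := fun b x => algebraMap_smul R b x
  have hle : ∀ P : associatedPrimes Rbar Z, pre P.1 ≤ q := fun P b hb => by
    haveI := P.2.1
    exact (IsLocalization.AtPrime.to_map_mem_maximal_iff R q b).mp
      (le_maximalIdeal (Ideal.IsPrime.comap (K := P.1) (Ideal.Quotient.mk J)).ne_top hb)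
  have hflat : ∀ P : associatedPrimes Rbar Z, Module.Flat A (LocalizedModule (pre P.1).primeCompl N) := by
    intro P
    obtain ⟨z, hz⟩ := P.2.2
    obtain ⟨x, rfl⟩ := Submodule.Quotient.mk_surjective _ z
    obtain ⟨⟨t, s⟩, hs⟩ := IsLocalizedModule.surj q.primeCompl g x
    have hs' : mk (g t) = algebraMap B R s • mk x := by
      rw [← hs, Submonoid.smul_def, ← hsmul, map_smul]
    have hu : IsUnit (algebraMap B R s) := IsLocalization.map_units R s
    have key : ∀ b : B, Ideal.Quotient.mk J (algebraMap B R b) ∈ (⊥ : Submodule Rbar Z).colon {Submodule.Quotient.mk x} ↔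
        ∃ c, c ∉ q ∧ (c * b) • t ∈ I • (⊤ : Submodule B N) := fun b => by
      rw [Submodule.mem_colon_singleton, Submodule.mem_bot]
      show algebraMap B R b • mk x = 0 ↔ _
      rw [← hu.smul_eq_zero (M := Z), smul_comm, ← hs', ← map_smul, hsmul, ← map_smul, hmem]
      simp only [mul_smul]
    refine h (pre P.1) (hle P) (le_antisymm (fun a ha => ?_) fun a ha => ?_) t ⟨fun c hc hct => ?_, fun r hr => ?_⟩
    · exact hle P (Ideal.mem_comap.mp ha)
    · show Ideal.Quotient.mk J (algebraMap B R (algebraMap A B a)) ∈ P.1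
      rw [Ideal.Quotient.eq_zero_iff_mem.mpr (Ideal.mem_map_of_mem _ (Ideal.mem_map_of_mem _ ha))]
      exact zero_mem _
    · refine hc (hz.symm ▸ Ideal.le_radical ((key c).mpr ⟨1, q.primeCompl.one_mem, by rwa [one_mul]⟩) :)
    · have hr' : Ideal.Quotient.mk J (algebraMap B R r) ∈ ((⊥ : Submodule Rbar Z).colon
          {Submodule.Quotient.mk x}).radical := hz ▸ hr
      obtain ⟨n, hn⟩ := hr'
      rw [← map_pow, ← map_pow, key] at hn
      obtain ⟨c, hc, hcn⟩ := hn
      exact ⟨n, c, fun h1 => hc (hle P h1), hcn⟩
  -- the map to the flat module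
  let M := Π P : associatedPrimes Rbar Z, LocalizedModule (pre P.1).primeCompl N
  have hext : ∀ P : associatedPrimes Rbar Z, ∀ x : q.primeCompl,
      IsUnit (algebraMap B (Module.End B (LocalizedModule (pre P.1).primeCompl N)) x) := fun P x =>
    IsLocalizedModule.map_units (LocalizedModule.mkLinearMap (pre P.1).primeCompl N)
      (⟨x.1, fun h1 => x.2 (hle P h1)⟩ : (pre P.1).primeCompl)
  let uB : ∀ P : associatedPrimes Rbar Z, Nq →ₗ[B] LocalizedModule (pre P.1).primeCompl N := fun P =>
    IsLocalizedModule.lift q.primeCompl g (LocalizedModule.mkLinearMap (pre P.1).primeCompl N) (hext P)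
  haveI : ∀ P : associatedPrimes Rbar Z, Module.Flat A (LocalizedModule (pre P.1).primeCompl N) := hflat
  haveI : Fintype (associatedPrimes Rbar Z) := Fintype.ofFinite _
  haveI : Module.Flat A M :=
    Module.Flat.of_linearEquiv (DirectSum.linearEquivFunOnFintype A _ _).symm
  let uA : Nq →ₗ[A] M := LinearMap.pi fun P => (uB P).restrictScalars A
  have hpunit : ∀ P : associatedPrimes Rbar Z, ∀ x : p.primeCompl,
      IsUnit (algebraMap A (Module.End A (LocalizedModule (pre P.1).primeCompl N)) x) := fun P x => by
    have hx : algebraMap A B x.1 ∉ pre P.1 := fun h1 => x.2 (hle P h1)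
    obtain h1 := (Module.End.isUnit_iff _).mp (IsLocalizedModule.map_units
      (LocalizedModule.mkLinearMap (pre P.1).primeCompl N) (⟨_, hx⟩ : (pre P.1).primeCompl))
    rw [Module.End.isUnit_iff]
    convert h1 using 1
    funext y
    exact (algebraMap_smul B x.1 y).symm
  let M' := LocalizedModule p.primeCompl M
  haveI : Module.Flat A Ap := IsLocalization.flat Ap p.primeCompl
  haveI : Module.Flat A M' :=
    Module.Flat.of_linearEquiv (LocalizedModule.equivTensorProduct p.primeCompl M |>.restrictScalars A)
  haveI : Module.Flat Ap M' := (Module.flat_iff_of_isLocalization Ap p.primeCompl (M := M')).mpr inferInstance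
  let ιM : M →ₗ[A] M' := LocalizedModule.mkLinearMap p.primeCompl M
  let u : Nq →ₗ[Ap] M' := LinearMap.extendScalarsOfIsLocalization p.primeCompl Ap (ιM.comp uA)
  have hinj : ∀ x : Nq, u x ∈ maximalIdeal Ap • (⊤ : Submodule Ap M') →
      x ∈ maximalIdeal Ap • (⊤ : Submodule Ap Nq) := by
    intro x hx
    have hP : ∀ P : associatedPrimes Rbar Z,
        uB P x ∈ I • (⊤ : Submodule B (LocalizedModule (pre P.1).primeCompl N)) := by
      intro P
      let π : M' →ₗ[A] LocalizedModule (pre P.1).primeCompl N :=
        IsLocalizedModule.lift p.primeCompl ιM (LinearMap.proj P) (hpunit P)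
      have hπ : ∀ y ∈ maximalIdeal Ap • (⊤ : Submodule Ap M'),
          π y ∈ I • (⊤ : Submodule B (LocalizedModule (pre P.1).primeCompl N)) := fun y hy => by
        refine Submodule.smul_induction_on hy (fun r hr w _ => ?_) fun a b ha hb => by
          rw [map_add]; exact add_mem ha hb
        obtain ⟨a, s, rfl⟩ := IsLocalization.exists_mk'_eq p.primeCompl r
        rw [IsLocalization.mk'_eq_mul_mk'_one, mul_smul, algebraMap_smul, map_smul, ← algebraMap_smul B a]
        exact Submodule.smul_mem_smul (Ideal.mem_map_of_mem _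
          ((IsLocalization.AtPrime.mk'_mem_maximal_iff Ap p a s).mp hr)) trivial
      have h1 := hπ _ hx
      rwa [show π (u x) = uB P x from congrFun (congrArg DFunLike.coe (IsLocalizedModule.lift_comp p.primeCompl
        ιM (LinearMap.proj P) (hpunit P))) (uA x)] at h1
    obtain ⟨⟨t, s⟩, hs⟩ := IsLocalizedModule.surj q.primeCompl g x
    have hu : IsUnit (algebraMap B R s) := IsLocalization.map_units R s
    have hx0 : mk x = 0 := by
      by_contra hne
      obtain ⟨P, hP', hPle⟩ := exists_le_isAssociatedPrime_of_isNoetherianRing Rbar (mk x) hne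
      haveI : (pre P).IsPrime := inferInstanceAs ((pre (⟨P, hP'⟩ : associatedPrimes Rbar Z).1).IsPrime)
      have h1 : uB ⟨P, hP'⟩ (g t) ∈ I • (⊤ : Submodule B (LocalizedModule (pre P).primeCompl N)) := by
        rw [← hs, Submonoid.smul_def, map_smul]
        exact Submodule.smul_mem _ _ (hP ⟨P, hP'⟩)
      rw [IsLocalizedModule.lift_apply] at h1
      obtain ⟨c, hc, hct⟩ := Groth.Calg1.exists_smul_mem_of_localized (pre P).primeCompl
        (LocalizedModule.mkLinearMap (pre P).primeCompl N) I h1
      refine hc (hPle ?_)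
      rw [Submodule.mem_colon_singleton, Submodule.mem_bot]
      show algebraMap B R c • mk x = 0
      rw [← hu.smul_eq_zero (M := Z), smul_comm, ← map_smul, hsmul, ← Submonoid.smul_def, hs, ← map_smul, hsmul,
        ← map_smul, hmem]
      exact ⟨1, q.primeCompl.one_mem, by rwa [one_smul]⟩
    have h2 : x ∈ J • (⊤ : Submodule R Nq) := (Submodule.Quotient.mk_eq_zero _).mp hx0
    rw [← hJ, ← Submodule.restrictScalars_mem Ap, Ideal.smul_restrictScalars,
      Submodule.restrictScalars_top] at h2
    exact h2
  have hmod : Function.Injective (u.lTensor (ResidueField Ap)) :=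
    (LinearMap.lTensor_inj_iff_rTensor_inj _ _).mpr (Groth.RaynaudGruson.TorMin.rTensor_injective_of_mod u hinj
      (V := ResidueField Ap) fun a ha v => by
        rw [Algebra.smul_def, show algebraMap Ap (ResidueField Ap) a = 0 from
          (residue_eq_zero_iff a).mpr ha, zero_mul])
  haveI : Module.Flat Ap Nq := (Groth.Agent.S0407.result (A := Ap) (B := R) u hmod).2.2
  exact Module.Flat.trans A Ap Nq

end Groth.RaynaudGruson.FlatFibreAss
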