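import Groth.Agent.RaynaudGruson.FlatNbhd
import Groth.Agent.FlatmorThree.FlatAtDescent
import Mathlib

/-!
The flat locus of a finite module is open in every fibre.
-/

set_option autoImplicit false
universe u

open TensorProduct

namespace Groth.RaynaudGruson.FlatFibreOpen

theorem exists_toFiber {R S A SA : Type u} [CommRing R] [CommRing S] [CommRing A] [CommRing SA] [Algebra R S]
    [Algebra R A] [Algebra S SA] [Algebra A SA] [Algebra R SA] [IsScalarTower R S SA] [IsScalarTower R A SA]
    [Algebra.IsPushout R S A SA] (p : Ideal R) [p.IsPrime] (m : Ideal A) [m.IsMaximal] [hm : m.LiesOver p]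
    (hκ : Function.Bijective (Ideal.ResidueField.mapₐ p m (Algebra.ofId R A) hm.over)) :
    ∃ σ : SA →ₐ[R] p.Fiber S,
      (∀ s, σ (algebraMap S SA s) = (Algebra.TensorProduct.includeRight (R := R) (A := p.ResidueField) (B := S)) s) ∧
      ∀ (x : Ideal (p.Fiber S)), x.IsPrime → (x.comap σ.toRingHom).comap (algebraMap A SA) = m := by
  let a := AlgEquiv.ofBijective _ hκ
  let ψA : A →ₐ[R] p.Fiber S :=
    ((Algebra.TensorProduct.includeLeft (R := R) (S := R) (A := p.ResidueField) (B := S)).comp
      (a.symm.toAlgHom.restrictScalars R)).comp (IsScalarTower.toAlgHom R A m.ResidueField)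
  refine ⟨Algebra.pushoutDesc SA Algebra.TensorProduct.includeRight ψA fun _ _ => Commute.all _ _,
    fun s => Algebra.pushoutDesc_left SA _ _ _ s, fun x hx => ?_⟩
  haveI := hx
  symm
  refine Ideal.IsMaximal.eq_of_le inferInstance ((Ideal.IsPrime.comap _).comap _).ne_top fun z hz => ?_
  show Algebra.pushoutDesc SA _ ψA _ (algebraMap A SA z) ∈ x
  rw [Algebra.pushoutDesc_right]
  have : algebraMap A m.ResidueField z = 0 := Ideal.algebraMap_residueField_eq_zero.mpr hz
  show (Algebra.TensorProduct.includeLeft (R := R) (S := R) (A := p.ResidueField) (B := S))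
    (a.symm (algebraMap A m.ResidueField z)) ∈ x
  rw [this, map_zero, map_zero]
  exact zero_mem _

theorem isOpen_flat_fibre {R S : Type u} [CommRing R] [CommRing S] [Algebra R S] [Algebra.FiniteType R S]
    (N : Type u) [AddCommGroup N] [Module S N] [Module R N] [IsScalarTower R S N] [Module.Finite S N]
    (p : Ideal R) [p.IsPrime] :
    IsOpen {x : PrimeSpectrum (p.Fiber S) |
      FlatCA.FlatAt R (x.asIdeal.comap (Algebra.TensorProduct.includeRight (R := R) (A := p.ResidueField) (B := S)).toRingHom) N} := by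
  refine isOpen_iff_forall_mem_open.mpr fun x hx => ?_
  let incl := (Algebra.TensorProduct.includeRight (R := R) (A := p.ResidueField) (B := S)).toRingHom
  have hover : ∀ y : PrimeSpectrum (p.Fiber S), (y.asIdeal.comap incl).LiesOver p := fun y => ⟨by
    ext r
    show r ∈ p ↔ incl (algebraMap R S r) ∈ y.asIdeal
    rw [show incl (algebraMap R S r) = algebraMap p.ResidueField (p.Fiber S) (algebraMap R p.ResidueField r) from by
      show (Algebra.TensorProduct.includeRight (R := R) (A := p.ResidueField) (B := S)) (algebraMap R S r) = _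
      rw [AlgHom.commutes, IsScalarTower.algebraMap_apply R p.ResidueField (p.Fiber S)]]
    constructor
    · intro hr
      rw [Ideal.algebraMap_residueField_eq_zero.mpr hr, map_zero]
      exact zero_mem _
    · intro hr
      by_contra hrp
      exact y.2.ne_top (Ideal.eq_top_of_isUnit_mem _ hr
        ((IsUnit.mk0 _ fun h => hrp (Ideal.algebraMap_residueField_eq_zero.mp h)).map _))⟩
  let q := x.asIdeal.comap incl
  haveI : q.LiesOver p := hover x
  obtain ⟨R', _, _, p', _, ⟨het, hp'o, hκ'⟩, hmod⟩ := LocalStructureFT.exists_nbhd_free N p q hx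
  haveI := het; haveI := hp'o
  let A := Localization.AtPrime p'
  let m := IsLocalRing.maximalIdeal A
  haveI : m.LiesOver p' := ⟨(IsLocalization.AtPrime.under_maximalIdeal A p').symm⟩
  haveI : m.LiesOver p := Ideal.LiesOver.trans m p' p
  have hκ := EtalePushout.bijective_mapₐ_trans p p' m hκ' (LocalStructure.bijective_residue_atPrime p')
  obtain ⟨SA, _, _, _, _, _, _, hpush⟩ := EtalePushout.exists_pushout R S A
  haveI := hpush
  haveI : Algebra.IsPushout R S A SA := Algebra.IsPushout.symm hpush
  obtain ⟨NA, _, _, _, _, f, hf⟩ := EtalePushout.exists_baseChange S SA N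
  obtain ⟨C, _, _, _, _, _, _, x', _, hx'q, hetC, hx'm, -, hfree⟩ := hmod SA NA f hf
  haveI := hetC; haveI := hx'q; haveI := hx'm
  letI : Module A NA := Module.compHom NA (algebraMap A SA)
  haveI : IsScalarTower A SA NA := IsScalarTower.of_algebraMap_smul fun _ _ => rfl
  obtain ⟨g, hg, hflat, -⟩ := FlatNbhd.exists_g p m hκ q NA x' hfree
  obtain ⟨σ, hσS, hσA⟩ := exists_toFiber (S := S) (SA := SA) p m hκ
  have hQ : ∀ y : PrimeSpectrum (p.Fiber S), (y.asIdeal.comap σ.toRingHom).comap (algebraMap S SA) = y.asIdeal.comap incl := by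
    intro y
    ext s
    show σ (algebraMap S SA s) ∈ y.asIdeal ↔ incl s ∈ y.asIdeal
    rw [hσS]; rfl
  refine ⟨PrimeSpectrum.basicOpen (σ g), fun y hy => ?_, (PrimeSpectrum.basicOpen (σ g)).isOpen, ?_⟩
  · let Q := y.asIdeal.comap σ.toRingHom
    have hgQ : g ∉ Q := hy
    have h1 : FlatCA.FlatAt A Q NA := (FlatPred.flatAt_iff Q).mpr (((FlatPred.flat_iff _).mp hflat).mono
      (Submonoid.powers_le.mpr hgQ))
    haveI : Module.Flat A (Localization.AtPrime m) := IsLocalization.flat _ m.primeCompl
    haveI : Module.Flat R A := Module.Flat.trans R R' A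
    exact FlatmorThree.flatAt_descend f hf (y.asIdeal.comap incl) Q (hQ y) m (hσA _ y.2)
      (Module.Flat.trans R A (Localization.AtPrime m)) h1
  · exact hg (x.asIdeal.comap σ.toRingHom) ⟨(hQ x).symm⟩ ⟨(hσA _ x.2).symm⟩

end Groth.RaynaudGruson.FlatFibreOpen
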