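import Groth.Agent.RaynaudGruson.FlatLocusHensel
import Groth.Agent.S1229
import Groth.Agent.S6928
import Mathlib

/-!
The flattening ideal at a point of the closed fibre, tested on charts.
-/

set_option autoImplicit false
set_option linter.style.haveILetI false
universe u

open IsLocalRing TensorProduct

namespace Groth.RaynaudGruson.FlatIdealLocal

set_option maxHeartbeats 800000 in
/-- The comparison, for given localisations. -/
theorem chart_core {A B₀ Bx C A' W : Type u} [CommRing A] [IsLocalRing A] [CommRing B₀] [Algebra A B₀]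
    [CommRing Bx] [IsLocalRing Bx] [Algebra B₀ Bx] [Algebra A Bx] [IsScalarTower A B₀ Bx] [CommRing C] [Algebra A C]
    [CommRing A'] [IsLocalRing A'] [Algebra C A'] [Algebra A A'] [IsScalarTower A C A'] [IsLocalHom (algebraMap A A')]
    [CommRing W] [Algebra B₀ W] [Algebra C W] [Algebra A W] [IsScalarTower A B₀ W] [IsScalarTower A C W]
    [Algebra.IsPushout A B₀ C W]
    (qx : Ideal B₀) [qx.IsPrime] [IsLocalization.AtPrime Bx qx] (P : Ideal C) [P.IsPrime] [IsLocalization.AtPrime A' P]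
    {N Nx NW : Type u} [AddCommGroup N] [Module B₀ N] [AddCommGroup Nx] [Module Bx Nx] [Module A Nx] [Module B₀ Nx]
    [IsScalarTower A Bx Nx] [IsScalarTower B₀ Bx Nx] (ℓ : N →ₗ[B₀] Nx) [IsLocalizedModule qx.primeCompl ℓ]
    [AddCommGroup NW] [Module W NW] [Module B₀ NW] [IsScalarTower B₀ W NW] [Module C NW] [IsScalarTower C W NW]
    (g : N →ₗ[B₀] NW) (hg : IsBaseChange W g) (I : Ideal A)
    {W₂ M₂ : Type u} [CommRing W₂] [Algebra W W₂] [Algebra Bx W₂] [Algebra A' W₂] [Algebra A W₂] [Algebra B₀ W₂]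
    [Algebra C W₂] [IsScalarTower B₀ W W₂] [IsScalarTower C W W₂] [IsScalarTower B₀ Bx W₂] [IsScalarTower C A' W₂]
    [IsScalarTower A Bx W₂] [IsScalarTower A A' W₂] [Algebra.IsPushout A Bx A' W₂] [Module.Flat W W₂]
    (hext : ∀ (Q : Ideal W) [Q.IsPrime], Q.comap (algebraMap B₀ W) = qx → Q.comap (algebraMap C W) = P →
      ∃ (Q₂ : Ideal W₂) (_ : Q₂.IsPrime), Q₂.comap (algebraMap W W₂) = Q)
    [AddCommGroup M₂] [Module W₂ M₂] [Module W M₂] [IsScalarTower W W₂ M₂] [Module Bx M₂] [IsScalarTower Bx W₂ M₂]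
    [Module A' M₂] [IsScalarTower A' W₂ M₂] [Module B₀ M₂] [IsScalarTower B₀ W M₂] [IsScalarTower B₀ W₂ M₂]
    [IsScalarTower B₀ Bx M₂] [Module C M₂] [IsScalarTower C W₂ M₂] [IsScalarTower C A' M₂]
    (g₂ : NW →ₗ[W] M₂) (hg₂ : IsBaseChange W₂ g₂)
    (hI : ∀ (A' B' M' : Type u) [CommRing A'] [IsLocalRing A'] [Algebra A A'] [IsLocalHom (algebraMap A A')]
        [CommRing B'] [Algebra Bx B'] [Algebra A' B'] [Algebra A B'] [IsScalarTower A Bx B'] [IsScalarTower A A' B']
        [Algebra.IsPushout A Bx A' B']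
        [AddCommGroup M'] [Module B' M'] [Module Bx M'] [IsScalarTower Bx B' M'] [Module A' M'] [IsScalarTower A' B' M']
        (f : Nx →ₗ[Bx] M'), IsBaseChange B' f →
        ((∀ (q : Ideal B') [q.IsPrime], (maximalIdeal A').map (algebraMap A' B') ⊔ (maximalIdeal Bx).map (algebraMap Bx B') ≤ q →
            FlatCA.FlatAt A' q M') ↔ I.map (algebraMap A A') = ⊥)) :
    (∀ (Q : Ideal W) [Q.IsPrime], Q.comap (algebraMap B₀ W) = qx → Q.comap (algebraMap C W) = P →
        Module.Flat C (LocalizedModule Q.primeCompl NW)) ↔ I.map (algebraMap A A') = ⊥ := by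
  obtain ⟨f, hf⟩ := FlatLocusHensel.exists_lift (IsLocalizedModule.isBaseChange qx.primeCompl Bx ℓ)
    (IsBaseChange.comp hg hg₂ : IsBaseChange W₂ (g₂.restrictScalars B₀ ∘ₗ g))
  rw [← hI A' W₂ M₂ f hf]
  have key : ∀ (q : Ideal W₂) [q.IsPrime], Module.Flat C (LocalizedModule (q.comap (algebraMap W W₂)).primeCompl NW) ↔
      FlatCA.FlatAt A' q M₂ := fun q _ =>
    (Groth.Agent.S6928.flatAt_iff_of_flat (B := C) hg₂ q).trans
      ((Module.flat_iff_of_isLocalization A' P.primeCompl (LocalizedModule q.primeCompl M₂)).symm)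
  constructor
  · intro h q _ hq
    refine (key q).mp (h _ ?_ ?_)
    · refine le_antisymm (fun b hb => ?_) fun b hb => ?_
      · by_contra hbq
        refine Ideal.IsPrime.ne_top ‹q.IsPrime› (Ideal.eq_top_of_isUnit_mem q hb ?_)
        rw [← IsScalarTower.algebraMap_apply B₀ W W₂, IsScalarTower.algebraMap_apply B₀ Bx W₂]
        exact (IsLocalization.map_units Bx (⟨b, hbq⟩ : qx.primeCompl)).map _
      · show algebraMap W W₂ (algebraMap B₀ W b) ∈ q
        rw [← IsScalarTower.algebraMap_apply B₀ W W₂, IsScalarTower.algebraMap_apply B₀ Bx W₂]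
        exact (le_sup_right.trans hq) (Ideal.mem_map_of_mem _
          ((IsLocalization.AtPrime.to_map_mem_maximal_iff Bx qx b).mpr hb))
    · refine le_antisymm (fun c hc => ?_) fun c hc => ?_
      · by_contra hcP
        refine Ideal.IsPrime.ne_top ‹q.IsPrime› (Ideal.eq_top_of_isUnit_mem q hc ?_)
        rw [← IsScalarTower.algebraMap_apply C W W₂, IsScalarTower.algebraMap_apply C A' W₂]
        exact (IsLocalization.map_units A' (⟨c, hcP⟩ : P.primeCompl)).map _
      · show algebraMap W W₂ (algebraMap C W c) ∈ q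
        rw [← IsScalarTower.algebraMap_apply C W W₂, IsScalarTower.algebraMap_apply C A' W₂]
        exact (le_sup_left.trans hq) (Ideal.mem_map_of_mem _
          ((IsLocalization.AtPrime.to_map_mem_maximal_iff A' P c).mpr hc))
  · intro h Q _ hQb hQc
    obtain ⟨Q₂, hQ₂, hQ₂W⟩ := hext Q hQb hQc
    have h4 := (key Q₂).mpr (h Q₂ ?_)
    · exact (show ∀ (Q' : Ideal W) [Q'.IsPrime], Q' = Q → Module.Flat C (LocalizedModule Q'.primeCompl NW) →
        Module.Flat C (LocalizedModule Q.primeCompl NW) from fun Q' _ e h' => by subst e; exact h') _ hQ₂W h4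
    refine sup_le (Ideal.map_le_iff_le_comap.mpr fun a ha => ?_) (Ideal.map_le_iff_le_comap.mpr fun b hb => ?_)
    · obtain ⟨c, s, rfl⟩ := IsLocalization.exists_mk'_eq P.primeCompl a
      have hc : c ∈ P := (IsLocalization.AtPrime.mk'_mem_maximal_iff A' P c s).mp ha
      rw [Ideal.mem_comap, IsLocalization.mk'_eq_mul_mk'_one, map_mul, ← IsScalarTower.algebraMap_apply C A' W₂]
      refine Q₂.mul_mem_right _ ?_
      rw [IsScalarTower.algebraMap_apply C W W₂, ← Ideal.mem_comap, hQ₂W, ← Ideal.mem_comap, hQc]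
      exact hc
    · obtain ⟨c, s, rfl⟩ := IsLocalization.exists_mk'_eq qx.primeCompl b
      have hc : c ∈ qx := (IsLocalization.AtPrime.mk'_mem_maximal_iff Bx qx c s).mp hb
      rw [Ideal.mem_comap, IsLocalization.mk'_eq_mul_mk'_one, map_mul, ← IsScalarTower.algebraMap_apply B₀ Bx W₂]
      refine Q₂.mul_mem_right _ ?_
      rw [IsScalarTower.algebraMap_apply B₀ W W₂, ← Ideal.mem_comap, hQ₂W, ← Ideal.mem_comap, hQb]
      exact hc

/-- The chart localised upstairs and downstairs. -/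
theorem exists_chart_localization {A B₀ Bx C A' W : Type u} [CommRing A] [IsLocalRing A] [CommRing B₀] [Algebra A B₀]
    [CommRing Bx] [IsLocalRing Bx] [Algebra B₀ Bx] [Algebra A Bx] [IsScalarTower A B₀ Bx] [CommRing C] [Algebra A C]
    [CommRing A'] [IsLocalRing A'] [Algebra C A'] [Algebra A A'] [IsScalarTower A C A'] [IsLocalHom (algebraMap A A')]
    [CommRing W] [Algebra B₀ W] [Algebra C W] [Algebra A W] [IsScalarTower A B₀ W] [IsScalarTower A C W]
    [Algebra.IsPushout A B₀ C W]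
    (qx : Ideal B₀) [qx.IsPrime] [IsLocalization.AtPrime Bx qx] (P : Ideal C) [P.IsPrime] [IsLocalization.AtPrime A' P]
    :
    ∃ (W₂ : Type u) (_ : CommRing W₂) (_ : Algebra W W₂) (_ : Algebra Bx W₂) (_ : Algebra A' W₂) (_ : Algebra A W₂)
      (_ : Algebra B₀ W₂) (_ : Algebra C W₂) (_ : IsScalarTower B₀ W W₂) (_ : IsScalarTower C W W₂)
      (_ : IsScalarTower B₀ Bx W₂) (_ : IsScalarTower C A' W₂) (_ : IsScalarTower A Bx W₂) (_ : IsScalarTower A A' W₂)
      (_ : Algebra.IsPushout A Bx A' W₂) (_ : Module.Flat W W₂),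
      ∀ (Q : Ideal W) [Q.IsPrime], Q.comap (algebraMap B₀ W) = qx → Q.comap (algebraMap C W) = P →
        ∃ (Q₂ : Ideal W₂) (_ : Q₂.IsPrime), Q₂.comap (algebraMap W W₂) = Q := by
  -- localise the chart at the point upstairs
  let S₁ := Algebra.algebraMapSubmonoid W qx.primeCompl
  let W₁ := Localization S₁
  letI : Algebra Bx W₁ := localizationAlgebra qx.primeCompl W
  haveI : IsScalarTower B₀ Bx W₁ := isScalarTower_localizationAlgebra qx.primeCompl W
  haveI : IsScalarTower A Bx W₁ := .of_algebraMap_eq fun a => by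
    rw [IsScalarTower.algebraMap_apply A B₀ Bx, ← IsScalarTower.algebraMap_apply B₀ Bx W₁,
      ← IsScalarTower.algebraMap_apply A B₀ W₁]
  haveI h1 : Algebra.IsPushout B₀ W Bx W₁ := Algebra.isPushout_of_isLocalization qx.primeCompl _ _ _
  haveI : Algebra.IsPushout B₀ Bx W W₁ := Algebra.IsPushout.symm h1
  haveI hA1 : Algebra.IsPushout A Bx C W₁ :=
    (Algebra.IsPushout.comp_iff A B₀ C W (T := Bx) (T' := W₁)).mpr inferInstance
  -- and downstairs
  let S₂ := Algebra.algebraMapSubmonoid W₁ P.primeCompl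
  let W₂ := Localization S₂
  letI : Algebra A' W₂ := localizationAlgebra P.primeCompl W₁
  haveI : IsScalarTower C A' W₂ := isScalarTower_localizationAlgebra P.primeCompl W₁
  haveI : IsScalarTower A A' W₂ := .of_algebraMap_eq fun a => by
    rw [IsScalarTower.algebraMap_apply A C A', ← IsScalarTower.algebraMap_apply C A' W₂,
      ← IsScalarTower.algebraMap_apply A C W₂]
  haveI : IsScalarTower A Bx W₂ := .of_algebraMap_eq fun a => by
    rw [IsScalarTower.algebraMap_apply A W₁ W₂, IsScalarTower.algebraMap_apply A Bx W₁,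
      ← IsScalarTower.algebraMap_apply Bx W₁ W₂]
  haveI h2 : Algebra.IsPushout C W₁ A' W₂ := Algebra.isPushout_of_isLocalization P.primeCompl _ _ _
  haveI : Algebra.IsPushout C A' W₁ W₂ := Algebra.IsPushout.symm h2
  haveI : Algebra.IsPushout A C Bx W₁ := Algebra.IsPushout.symm hA1
  haveI h3 : Algebra.IsPushout A A' Bx W₂ :=
    (Algebra.IsPushout.comp_iff A C Bx W₁ (T := A') (T' := W₂)).mpr inferInstance
  haveI : Algebra.IsPushout A Bx A' W₂ := Algebra.IsPushout.symm h3
  haveI : IsScalarTower W W₁ W₂ := inferInstance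
  haveI : Module.Flat W W₂ :=
    haveI : Module.Flat W W₁ := IsLocalization.flat _ S₁
    haveI : Module.Flat W₁ W₂ := IsLocalization.flat _ S₂
    Module.Flat.trans W W₁ W₂
  refine ⟨W₂, inferInstance, inferInstance, inferInstance, inferInstance, inferInstance, inferInstance, inferInstance,
    inferInstance, inferInstance, inferInstance, inferInstance, inferInstance, inferInstance, inferInstance,
    inferInstance, fun Q _ hQb hQc => ?_⟩
  have hd1 : Disjoint (S₁ : Set W) Q := Set.disjoint_left.mpr fun s ⟨b, hb, hbs⟩ hs =>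
      hb (hQb ▸ (Ideal.mem_comap.mpr (hbs ▸ hs) : b ∈ Q.comap (algebraMap B₀ W)))
  let Q₁ := Q.map (algebraMap W W₁)
  haveI : Q₁.IsPrime := IsLocalization.isPrime_of_isPrime_disjoint S₁ W₁ Q inferInstance hd1
  have hQ₁ : Q₁.comap (algebraMap W W₁) = Q := IsLocalization.comap_map_of_isPrime_disjoint S₁ W₁ inferInstance hd1
  have hQ₁c : ∀ c, algebraMap C W₁ c ∈ Q₁ ↔ c ∈ P := fun c => by
    rw [IsScalarTower.algebraMap_apply C W W₁, ← Ideal.mem_comap, hQ₁, ← Ideal.mem_comap, hQc]
  have hd2 : Disjoint (S₂ : Set W₁) Q₁ := Set.disjoint_left.mpr fun s ⟨c, hc, hcs⟩ hs =>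
      hc ((hQ₁c c).mp (hcs ▸ hs))
  let Q₂ := Q₁.map (algebraMap W₁ W₂)
  haveI : Q₂.IsPrime := IsLocalization.isPrime_of_isPrime_disjoint S₂ W₂ Q₁ inferInstance hd2
  have hQ₂ : Q₂.comap (algebraMap W₁ W₂) = Q₁ := IsLocalization.comap_map_of_isPrime_disjoint S₂ W₂ inferInstance hd2
  have hQ₂W : Q₂.comap (algebraMap W W₂) = Q := by
    rw [IsScalarTower.algebraMap_eq W W₁ W₂, ← Ideal.comap_comap, hQ₂, hQ₁]
  exact ⟨Q₂, inferInstance, hQ₂W⟩

set_option maxHeartbeats 1000000 in
set_option synthInstance.maxHeartbeats 100000 in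
/-- The universal property, transferred from local rings to a chart. -/
theorem flatAt_chart_iff {A B₀ Bx C A' W : Type u} [CommRing A] [IsLocalRing A] [CommRing B₀] [Algebra A B₀]
    [CommRing Bx] [IsLocalRing Bx] [Algebra B₀ Bx] [Algebra A Bx] [IsScalarTower A B₀ Bx] [CommRing C] [Algebra A C]
    [CommRing A'] [IsLocalRing A'] [Algebra C A'] [Algebra A A'] [IsScalarTower A C A'] [IsLocalHom (algebraMap A A')]
    [CommRing W] [Algebra B₀ W] [Algebra C W] [Algebra A W] [IsScalarTower A B₀ W] [IsScalarTower A C W]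
    [Algebra.IsPushout A B₀ C W]
    (qx : Ideal B₀) [qx.IsPrime] [IsLocalization.AtPrime Bx qx] (P : Ideal C) [P.IsPrime] [IsLocalization.AtPrime A' P]
    {N Nx NW : Type u} [AddCommGroup N] [Module B₀ N] [AddCommGroup Nx] [Module Bx Nx] [Module A Nx] [Module B₀ Nx]
    [IsScalarTower A Bx Nx] [IsScalarTower B₀ Bx Nx] (ℓ : N →ₗ[B₀] Nx) [IsLocalizedModule qx.primeCompl ℓ]
    [AddCommGroup NW] [Module W NW] [Module B₀ NW] [IsScalarTower B₀ W NW] [Module C NW] [IsScalarTower C W NW]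
    (g : N →ₗ[B₀] NW) (hg : IsBaseChange W g) (I : Ideal A)
    (hI : ∀ (A' B' M' : Type u) [CommRing A'] [IsLocalRing A'] [Algebra A A'] [IsLocalHom (algebraMap A A')]
        [CommRing B'] [Algebra Bx B'] [Algebra A' B'] [Algebra A B'] [IsScalarTower A Bx B'] [IsScalarTower A A' B']
        [Algebra.IsPushout A Bx A' B']
        [AddCommGroup M'] [Module B' M'] [Module Bx M'] [IsScalarTower Bx B' M'] [Module A' M'] [IsScalarTower A' B' M']
        (f : Nx →ₗ[Bx] M'), IsBaseChange B' f →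
        ((∀ (q : Ideal B') [q.IsPrime], (maximalIdeal A').map (algebraMap A' B') ⊔ (maximalIdeal Bx).map (algebraMap Bx B') ≤ q →
            FlatCA.FlatAt A' q M') ↔ I.map (algebraMap A A') = ⊥)) :
    (∀ (Q : Ideal W) [Q.IsPrime], Q.comap (algebraMap B₀ W) = qx → Q.comap (algebraMap C W) = P →
        Module.Flat C (LocalizedModule Q.primeCompl NW)) ↔ I.map (algebraMap A A') = ⊥ := by
  obtain ⟨W₂, _, _, _, _, _, _, _, _, _, _, _, _, _, _, _, hext⟩ :=
    exists_chart_localization (A := A) (Bx := Bx) (A' := A') (W := W) qx P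
  exact chart_core (A' := A') (W₂ := W₂) qx P ℓ g hg I hext (TensorProduct.mk W W₂ NW 1)
    (TensorProduct.isBaseChange W NW W₂) hI

end Groth.RaynaudGruson.FlatIdealLocal
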