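import Groth.Agent.RaynaudGruson.FlatIdealLocal
import Groth.Agent.FlatMorOne.GoodLocus
import Groth.Agent.Flatmor4.FreeFibre
import Groth.Agent.EgaInjFlat.Basic
import Mathlib

/-!
The flattening ideal of a point of the closed fibre of a scheme over a henselian local ring.
-/

set_option autoImplicit false
set_option linter.style.haveILetI false
universe u

open CategoryTheory CategoryTheory.Limits AlgebraicGeometry TensorProduct IsLocalRing

namespace Groth.RaynaudGruson.FlatIdealScheme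

variable {A : Type u} [CommRing A]

/-- A scalar of the base is a unit at a point exactly outside the prime below it. -/
theorem isUnit_germ_iff {T : Scheme.{u}} (g : T ⟶ Spec (CommRingCat.of A)) (t : T) (a : A) :
    IsUnit ((T.presheaf.germ ⊤ t trivial).hom (g.appTop.hom ((Scheme.ΓSpecIso (CommRingCat.of A)).inv.hom a))) ↔
      a ∉ (g.base t).asIdeal := by
  rw [← Scheme.mem_basicOpen T (U := ⊤) _ t trivial, ← Scheme.preimage_basicOpen_top, basicOpen_eq_of_affine']
  show g.base t ∈ PrimeSpectrum.basicOpen _ ↔ _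
  rw [Iso.inv_hom_id_apply]
  rfl

set_option maxHeartbeats 1000000 in
/-- The flattening ideal at one point. -/
theorem exists_point_ideal [HenselianLocalRing A] {X : Scheme.{u}} (f : X ⟶ Spec (CommRingCat.of A))
    [LocallyOfFiniteType f] (F : X.Modules) [F.IsQuasicoherent] (hF : CohB1.IsFT F) (x : X)
    (hx : f.base x = IsLocalRing.closedPoint A) :
    ∃ I : Ideal A,
      (∀ (T : Scheme.{u}) (g : T ⟶ Spec (CommRingCat.of A)) (t : T), g.base t = IsLocalRing.closedPoint A →
        ((∀ x' : ↑(pullback f g), (pullback.snd f g).base x' = t → (pullback.fst f g).base x' = x →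
            FlatMod.IsFlatOverAt (pullback.snd f g) ((Scheme.Modules.pullback (pullback.fst f g)).obj F) x') ↔
          ∀ a ∈ I, (T.presheaf.germ ⊤ t trivial).hom
            (g.appTop.hom ((Scheme.ΓSpecIso (CommRingCat.of A)).inv.hom a)) = 0)) ∧
      (LocallyOfFinitePresentation f → CohB1.IsFP F → I.FG) := by
  obtain ⟨W, hW, hxW, -⟩ := exists_isAffineOpen_mem_and_subset (U := (⊤ : X.Opens)) (x := x) trivial
  have hO : IsAffineOpen (⊤ : (Spec (CommRingCat.of A)).Opens) := isAffineOpen_top _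
  have e : W ≤ f ⁻¹ᵁ ⊤ := le_top
  let φW : A →+* Γ(X, W) := (f.appLE ⊤ W e).hom.comp (Scheme.ΓSpecIso (CommRingCat.of A)).inv.hom
  letI : Algebra A Γ(X, W) := φW.toAlgebra
  haveI : Module.Finite Γ(X, W) Γ(F, W) := Groth.QCohMod.finite_sections F hF hW
  have hiso : Function.Bijective (Scheme.ΓSpecIso (CommRingCat.of A)).inv.hom :=
    ConcreteCategory.bijective_of_isIso (Scheme.ΓSpecIso (CommRingCat.of A)).inv
  haveI : Algebra.FiniteType A Γ(X, W) :=
    (f.finiteType_appLE hO hW e).comp (RingHom.FiniteType.of_surjective _ hiso.2)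
  letI := Groth.QCohMod.stalkModule F x hxW
  letI : Algebra Γ(X, W) (X.presheaf.stalk x) := TopCat.Presheaf.algebra_section_stalk X.presheaf ⟨x, hxW⟩
  haveI : IsLocalization.AtPrime (X.presheaf.stalk x) (hW.primeIdealOf ⟨x, hxW⟩).asIdeal :=
    hW.isLocalization_stalk ⟨x, hxW⟩
  haveI : IsScalarTower Γ(X, W) (X.presheaf.stalk x) (F.presheaf.stalk x) := .of_algebraMap_smul fun _ _ => rfl
  haveI := Groth.QCohMod.isLocalizedModule_germ F hW x hxW
  letI : Algebra A (X.presheaf.stalk x) := ((algebraMap Γ(X, W) (X.presheaf.stalk x)).comp φW).toAlgebra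
  haveI : IsScalarTower A Γ(X, W) (X.presheaf.stalk x) := .of_algebraMap_eq' rfl
  have hgermx : ∀ a : A, algebraMap A (X.presheaf.stalk x) a = (X.presheaf.germ ⊤ x trivial).hom
      (f.appTop.hom ((Scheme.ΓSpecIso (CommRingCat.of A)).inv.hom a)) := fun a => by
    show X.presheaf.germ W x hxW (f.appLE ⊤ W e _) = _
    rw [Scheme.Hom.appLE]
    exact TopCat.Presheaf.germ_res_apply X.presheaf (homOfLE le_top) x hxW _
  haveI : IsLocalHom (algebraMap A (X.presheaf.stalk x)) := ⟨fun a ha => by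
    by_contra hna
    rw [hgermx, isUnit_germ_iff f x a, hx] at ha
    exact ha hna⟩
  letI : Module A (F.presheaf.stalk x) := Module.compHom _ (algebraMap A (X.presheaf.stalk x))
  haveI : IsScalarTower A (X.presheaf.stalk x) (F.presheaf.stalk x) := .of_algebraMap_smul fun _ _ => rfl
  haveI : Algebra.EssFiniteType Γ(X, W) (X.presheaf.stalk x) :=
    .of_isLocalization _ (hW.primeIdealOf ⟨x, hxW⟩).asIdeal.primeCompl
  haveI : Algebra.EssFiniteType A (X.presheaf.stalk x) := Algebra.EssFiniteType.comp A Γ(X, W) _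
  haveI : Module.Finite (X.presheaf.stalk x) (F.presheaf.stalk x) :=
    Module.Finite.of_isLocalizedModule (hW.primeIdealOf ⟨x, hxW⟩).asIdeal.primeCompl
      (Groth.QCohMod.germₗ F x hxW)
  obtain ⟨I, hI⟩ := Groth.Agent.S1229.exists_ideal (A := A) (B := X.presheaf.stalk x) (F.presheaf.stalk x)
  refine ⟨I, fun T g t ht => ?_, fun hf hP => ?_⟩
  swap
  · haveI : Module.FinitePresentation (X.presheaf.stalk x) (F.presheaf.stalk x) :=
      Groth.EgaInjFlat.finitePresentation_stalk F hP x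
    refine Groth.Agent.S1229.fg_of_ideal (F.presheaf.stalk x) ⟨Γ(X, W), inferInstance, inferInstance, inferInstance,
      inferInstance, (hW.primeIdealOf ⟨x, hxW⟩).asIdeal.primeCompl, ?_, inferInstance⟩ I hI
    exact (f.finitePresentation_appLE hO hW e).comp (RingHom.FinitePresentation.of_bijective hiso)
  obtain ⟨U, hU, htU, -⟩ := exists_isAffineOpen_mem_and_subset (U := (⊤ : T.Opens)) (x := t) trivial
  have eT : U ≤ g ⁻¹ᵁ ⊤ := le_top
  let q := pullback.fst f g
  let p := pullback.snd f g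
  obtain ⟨hW', hpo⟩ := Groth.FlatMorOne.exists_chart_of (IsPullback.of_hasPullback f g) hO hW e hU eT
  let W' := q ⁻¹ᵁ W ⊓ p ⁻¹ᵁ U
  let φU : A →+* Γ(T, U) := (g.appLE ⊤ U eT).hom.comp (Scheme.ΓSpecIso (CommRingCat.of A)).inv.hom
  letI : Algebra A Γ(T, U) := φU.toAlgebra
  letI : Algebra Γ(T, U) (T.presheaf.stalk t) := TopCat.Presheaf.algebra_section_stalk T.presheaf ⟨t, htU⟩
  haveI : IsLocalization.AtPrime (T.presheaf.stalk t) (hU.primeIdealOf ⟨t, htU⟩).asIdeal :=
    hU.isLocalization_stalk ⟨t, htU⟩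
  letI : Algebra A (T.presheaf.stalk t) := ((algebraMap Γ(T, U) (T.presheaf.stalk t)).comp φU).toAlgebra
  haveI : IsScalarTower A Γ(T, U) (T.presheaf.stalk t) := .of_algebraMap_eq' rfl
  have hgermt : ∀ a : A, algebraMap A (T.presheaf.stalk t) a = (T.presheaf.germ ⊤ t trivial).hom
      (g.appTop.hom ((Scheme.ΓSpecIso (CommRingCat.of A)).inv.hom a)) := fun a => by
    show T.presheaf.germ U t htU (g.appLE ⊤ U eT _) = _
    rw [Scheme.Hom.appLE]
    exact TopCat.Presheaf.germ_res_apply T.presheaf (homOfLE le_top) t htU _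
  haveI : IsLocalHom (algebraMap A (T.presheaf.stalk t)) := ⟨fun a ha => by
    by_contra hna
    rw [hgermt, isUnit_germ_iff g t a, ht] at ha
    exact ha hna⟩
  letI := Groth.QCohMod.sectionsAlg q (inf_le_left : W' ≤ q ⁻¹ᵁ W)
  letI := (p.appLE U W' inf_le_right).hom.toAlgebra
  letI : Algebra A Γ(pullback f g, W') := ((q.appLE W W' inf_le_left).hom.comp φW).toAlgebra
  haveI : IsScalarTower A Γ(X, W) Γ(pullback f g, W') := .of_algebraMap_eq' rfl
  haveI : IsScalarTower A Γ(T, U) Γ(pullback f g, W') := .of_algebraMap_eq fun a =>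
    congr($(hpo.w) ((Scheme.ΓSpecIso (CommRingCat.of A)).inv a))
  haveI : Algebra.IsPushout A Γ(X, W) Γ(T, U) Γ(pullback f g, W') := CommRingCat.isPushout_iff_isPushout.mp
    (hpo.of_iso (Scheme.ΓSpecIso (CommRingCat.of A)) (Iso.refl _) (Iso.refl _) (Iso.refl _)
      (by simp only [Iso.refl_hom, Category.comp_id]; exact (Iso.hom_inv_id_assoc _ _).symm)
      (by simp only [Iso.refl_hom, Category.comp_id]; exact (Iso.hom_inv_id_assoc _ _).symm)
      (by simp; rfl) (by simp; rfl))
  let F' := (Scheme.Modules.pullback q).obj F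
  haveI : F'.IsQuasicoherent := inferInstance
  letI := Groth.Flatmor4.sectionModule p F' (inf_le_right : W' ≤ p ⁻¹ᵁ U)
  haveI : IsScalarTower Γ(T, U) Γ(pullback f g, W') Γ(F', W') := .of_algebraMap_smul fun _ _ => rfl
  letI : Module Γ(X, W) Γ(F', W') := Module.compHom _ (q.appLE W W' inf_le_left).hom
  haveI : IsScalarTower Γ(X, W) Γ(pullback f g, W') Γ(F', W') := .of_algebraMap_smul fun _ _ => rfl
  let P := Groth.QCohMod.pullSecEquiv q F (inf_le_left : W' ≤ q ⁻¹ᵁ W) hW hW'
  have key := FlatIdealLocal.flatAt_chart_iff (A := A) (Bx := X.presheaf.stalk x) (C := Γ(T, U))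
    (A' := T.presheaf.stalk t) (W := Γ(pullback f g, W')) (hW.primeIdealOf ⟨x, hxW⟩).asIdeal
    (hU.primeIdealOf ⟨t, htU⟩).asIdeal (Groth.QCohMod.germₗ F x hxW)
    ((P.toLinearMap.restrictScalars Γ(X, W)).comp (TensorProduct.mk Γ(X, W) Γ(pullback f g, W') Γ(F, W) 1))
    (IsBaseChange.of_equiv P fun _ => rfl) I hI
  have hI' : I.map (algebraMap A (T.presheaf.stalk t)) = ⊥ ↔ ∀ a ∈ I, (T.presheaf.germ ⊤ t trivial).hom
      (g.appTop.hom ((Scheme.ΓSpecIso (CommRingCat.of A)).inv.hom a)) = 0 := by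
    rw [Ideal.map_eq_bot_iff_le_ker]
    exact ⟨fun h a ha => (hgermt a).symm.trans (RingHom.mem_ker.mp (h ha)),
      fun h a ha => RingHom.mem_ker.mpr ((hgermt a).trans (h a ha))⟩
  rw [← hI', ← key]
  constructor
  · intro h Q _ hQx hQt
    let x' : ↑(pullback f g) := hW'.fromSpec ⟨Q, inferInstance⟩
    have hx' : x' ∈ W' := hW'.range_fromSpec.le ⟨_, rfl⟩
    have hQ : hW'.primeIdealOf ⟨x', hx'⟩ = ⟨Q, inferInstance⟩ :=
      hW'.fromSpec.isOpenEmbedding.injective (hW'.fromSpec_primeIdealOf ⟨x', hx'⟩)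
    have hqx : q x' = x := by
      have h1 : hW.primeIdealOf ⟨q x', hx'.1⟩ = hW.primeIdealOf ⟨x, hxW⟩ := by
        rw [← IsAffineOpen.comap_primeIdealOf_appLE W hW W' hW' inf_le_left hx', hQ]
        exact PrimeSpectrum.ext hQx
      have h2 := congrArg hW.fromSpec h1
      rwa [hW.fromSpec_primeIdealOf, hW.fromSpec_primeIdealOf] at h2
    have hpt : p x' = t := by
      have h1 : hU.primeIdealOf ⟨p x', hx'.2⟩ = hU.primeIdealOf ⟨t, htU⟩ := by
        rw [← IsAffineOpen.comap_primeIdealOf_appLE U hU W' hW' inf_le_right hx', hQ]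
        exact PrimeSpectrum.ext hQt
      have h2 := congrArg hU.fromSpec h1
      rwa [hU.fromSpec_primeIdealOf, hU.fromSpec_primeIdealOf] at h2
    have h3 := (Groth.FlatMorOne.isFlatOverAt_iff_localized p F' hW' hU inf_le_right ⟨x', hx'⟩).mp (h x' hpt hqx)
    exact (show ∀ (Q' : Ideal Γ(pullback f g, W')) [Q'.IsPrime], Q' = Q →
        Module.Flat Γ(T, U) (LocalizedModule Q'.primeCompl Γ(F', W')) →
        Module.Flat Γ(T, U) (LocalizedModule Q.primeCompl Γ(F', W')) from fun Q' _ e h' => by subst e; exact h') _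
      (congrArg PrimeSpectrum.asIdeal hQ) h3
  · intro h x' hpt hqx
    have hx' : x' ∈ W' := ⟨show q x' ∈ W from hqx ▸ hxW, show p x' ∈ U from hpt ▸ htU⟩
    refine (Groth.FlatMorOne.isFlatOverAt_iff_localized p F' hW' hU inf_le_right ⟨x', hx'⟩).mpr (h _ ?_ ?_)
    · exact (congrArg PrimeSpectrum.asIdeal (IsAffineOpen.comap_primeIdealOf_appLE W hW W' hW' inf_le_left hx')).trans
        (congrArg (fun z => (hW.primeIdealOf z).asIdeal) (Subtype.ext hqx))
    · exact (congrArg PrimeSpectrum.asIdeal (IsAffineOpen.comap_primeIdealOf_appLE U hU W' hW' inf_le_right hx')).trans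
        (congrArg (fun z => (hU.primeIdealOf z).asIdeal) (Subtype.ext hpt))

end Groth.RaynaudGruson.FlatIdealScheme
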