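import Groth.Agent.RaynaudGruson.TensorAction
import Groth.Agent.RaynaudGruson.ContentIdeal
import Mathlib

/-!
The flattening ideal of a module with a complete dévissage at a point over a local ring.
-/

set_option autoImplicit false
set_option linter.style.haveILetI false
universe u

open TensorProduct IsLocalRing

namespace Groth.RaynaudGruson.FlatLocusDevissage

open TensorAction

attribute [local instance] TensorAction.tModule

variable {A S : Type u} [CommRing A] [IsLocalRing A] [CommRing S] [Algebra A S]
  {N : Type u} [AddCommGroup N] [Module S N] [Module A N] [IsScalarTower A S N]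
  {D : FlatCA.CompleteDevissage A S N (maximalIdeal A)} {q : Ideal S} [q.IsPrime]

theorem tower_next (D : FlatCA.CompleteDevissage A S N (maximalIdeal A)) (i : ℕ) :
    IsScalarTower A (D.B i) (D.M (i + 1)) :=
  haveI := DevissageFree.tower_A D (i + 1)
  IsScalarTower.of_algebraMap_smul fun r m => by
    rw [← algebraMap_smul (D.A (i + 1)) (algebraMap A (D.B i) r) m, ← IsScalarTower.algebraMap_apply, algebraMap_smul]

theorem flat_tensor_of_equiv {R : Type u} [CommRing R] [Algebra A R] {X Y : Type u} [AddCommGroup X] [Module A X]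
    [AddCommGroup Y] [Module A Y] (e : X ≃ₗ[A] Y) (h : Module.Flat R (R ⊗[A] Y)) : Module.Flat R (R ⊗[A] X) :=
  haveI := h
  Module.Flat.of_linearEquiv (LinearEquiv.baseChange A R X Y e)

theorem exists_ideal_stage (DD : FlatCA.CompleteDevissageAt A S N (maximalIdeal A) q D) : ∀ k i, i + k + 1 = D.n →
    ∃ I : Ideal A, Module.Flat (A ⧸ I) ((A ⧸ I) ⊗[A] D.M i) ∧
      ∀ (A' : Type u) [CommRing A'] [IsLocalRing A'] [Algebra A A'] [IsLocalHom (algebraMap A A')],
        (haveI := DevissageFree.tower_A D i; Above A (maximalIdeal A') (DD.qA i) (D.M i)) → I.map (algebraMap A A') = ⊥ := by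
  intro k
  induction k with
  | zero =>
    intro i hi
    have hi' : i < D.n := by omega
    haveI := DD.hqB
    haveI := DD.overB i
    haveI := D.hp i
    haveI := D.smooth i hi'
    haveI := D.finiteBA i hi'
    haveI := D.finiteM i hi'
    haveI := DevissageFree.free_B D hi'
    haveI : Module.Finite (D.B i) (D.M i) := Module.Finite.trans (D.A i) (D.M i)
    haveI := DevissageFree.tower_A D i
    haveI : Algebra.IsIntegral (D.B i) (D.A i) := Algebra.IsIntegral.of_finite (D.B i) (D.A i)
    let L := D.M i ⧸ LinearMap.range (D.α i)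
    let π : D.M i →ₗ[D.B i] L := (LinearMap.range (D.α i)).mkQ
    have hex : Function.Exact (D.α i) π := LinearMap.exact_iff.mpr (Submodule.ker_mkQ _)
    have hsur : Function.Surjective (D.α i) := by
      obtain rfl : i = D.n - 1 := by omega
      exact D.cokerLast
    haveI : Subsingleton L := Submodule.Quotient.subsingleton_iff.mpr (LinearMap.range_eq_top.mpr hsur)
    haveI : Module.Flat (A ⧸ (⊥ : Ideal A)) ((A ⧸ (⊥ : Ideal A)) ⊗[A] L) := inferInstance
    obtain ⟨I, hI, hI'⟩ := ContentIdeal.exists_ideal_step ((D.α i).restrictScalars A) (π.restrictScalars A) hex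
      (Submodule.mkQ_surjective _) ⊥
    refine ⟨I, hI, fun A' _ _ _ _ h => hI' A' Ideal.map_bot ?_⟩
    exact (step (D.geomIrred i hi') (D.α i) (D.fibreIso i hi') (DD.qB i) π (Submodule.mkQ_surjective _) hex
      (Above.down (DD.uniq i hi') h)).1
  | succ k ih =>
    intro i hi
    have hi' : i < D.n := by omega
    have hi1 : i + 1 < D.n := by omega
    obtain ⟨J, hJ, hJ'⟩ := ih (i + 1) (by omega)
    haveI := DD.hqB
    haveI := DD.overB i
    haveI := D.hp i
    haveI := D.smooth i hi'
    haveI := D.finiteBA i hi'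
    haveI := D.finiteM i hi'
    haveI := DevissageFree.free_B D hi'
    haveI : Module.Finite (D.B i) (D.M i) := Module.Finite.trans (D.A i) (D.M i)
    haveI := DevissageFree.tower_A D i
    haveI := DevissageFree.tower_A D (i + 1)
    haveI := tower_next D i
    haveI : Algebra.IsIntegral (D.B i) (D.A i) := Algebra.IsIntegral.of_finite (D.B i) (D.A i)
    let π : D.M i →ₗ[D.B i] D.M (i + 1) := (D.isoCoker i hi1).toLinearMap ∘ₗ (LinearMap.range (D.α i)).mkQ
    have hπ : Function.Surjective π := (D.isoCoker i hi1).surjective.comp (Submodule.mkQ_surjective _)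
    have hex : Function.Exact (D.α i) π := LinearMap.exact_iff.mpr (by
      rw [LinearMap.ker_comp, LinearEquiv.ker, Submodule.comap_bot, Submodule.ker_mkQ])
    haveI := hJ
    obtain ⟨I, hI, hI'⟩ := ContentIdeal.exists_ideal_step ((D.α i).restrictScalars A) (π.restrictScalars A) hex hπ J
    refine ⟨I, hI, fun A' _ _ _ _ h => ?_⟩
    obtain ⟨hinj, hL⟩ := step (D.geomIrred i hi') (D.α i) (D.fibreIso i hi') (DD.qB i) π hπ hex
      (Above.down (DD.uniq i hi') h)
    exact hI' A' (hJ' A' (hL.up (DD.qStep i hi1))) hinj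

/-- **The flattening ideal along a complete dévissage.** -/
theorem exists_ideal (DD : FlatCA.CompleteDevissageAt A S N (maximalIdeal A) q D) :
    ∃ I : Ideal A, Module.Flat (A ⧸ I) ((A ⧸ I) ⊗[A] N) ∧
      ∀ (A' : Type u) [CommRing A'] [IsLocalRing A'] [Algebra A A'] [IsLocalHom (algebraMap A A')],
        Above A (maximalIdeal A') q N → I.map (algebraMap A A') = ⊥ := by
  obtain ⟨m, hm⟩ : ∃ m, D.n = m + 1 := ⟨D.n - 1, by have := D.pos; omega⟩
  obtain ⟨I, hI, hI'⟩ := exists_ideal_stage DD m 0 (by omega)
  haveI := DevissageFree.tower_A D 0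
  haveI : IsScalarTower A S (D.M 0) := IsScalarTower.of_algebraMap_smul fun r z => by
    rw [← algebraMap_smul (D.A 0) (algebraMap A S r) z, ← IsScalarTower.algebraMap_apply, algebraMap_smul]
  let eR : N ≃ₗ[A] D.M 0 := { D.isoN.toAddEquiv with map_smul' := DevissageFree.isoN_smul D }
  refine ⟨I, flat_tensor_of_equiv eR hI, fun A' _ _ _ _ h => ?_⟩
  exact hI' A' ((h.of_equiv D.isoN).up DD.q0)

end Groth.RaynaudGruson.FlatLocusDevissage
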