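import Groth.Agent.RaynaudGruson.LocalStructureFT
import Mathlib

/-!
Flat and finitely presented neighbourhoods of a flat point after an elementary étale localisation.
-/

set_option autoImplicit false
universe u

open TensorProduct

namespace Groth.RaynaudGruson.FlatNbhd

/-- From a free étale cover to a flat basic neighbourhood of the point. -/
theorem exists_g {R S A SA C : Type u} [CommRing R] [CommRing S] [CommRing A] [CommRing SA] [CommRing C]
    [Algebra R S] [Algebra R A] [Algebra S SA] [Algebra A SA] [Algebra R SA] [IsScalarTower R S SA]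
    [IsScalarTower R A SA] [Algebra.IsPushout R S A SA] (p : Ideal R) [p.IsPrime] (m : Ideal A) [m.IsPrime]
    [hm : m.LiesOver p] (hκ : Function.Bijective (Ideal.ResidueField.mapₐ p m (Algebra.ofId R A) hm.over))
    (q : Ideal S) [q.IsPrime] [q.LiesOver p]
    [Algebra SA C] [Algebra A C] [IsScalarTower A SA C] [Algebra S C] [IsScalarTower S SA C] [Algebra.Etale SA C]
    (NA : Type u) [AddCommGroup NA] [Module SA NA] [Module A NA] [IsScalarTower A SA NA]
    (x : Ideal C) [x.IsPrime] [hxq : x.LiesOver q] [hxm : x.LiesOver m]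
    (hfree : Module.Free A (RestrictScalars A C (C ⊗[SA] NA))) :
    ∃ g : SA, (∀ (Q : Ideal SA) [Q.IsPrime], Q.LiesOver q → Q.LiesOver m → g ∉ Q) ∧
      Module.Flat A (LocalizedModule (Submonoid.powers g) NA) ∧
      ∀ (Q : Ideal SA) [Q.IsPrime], g ∉ Q → ∃ x' : Ideal C, x'.IsPrime ∧ x'.comap (algebraMap SA C) = Q := by
  haveI : SMulCommClass SA A C := ⟨fun a b c => by
    rw [Algebra.smul_def, Algebra.smul_def, Algebra.smul_def, Algebra.smul_def, mul_left_comm]⟩
  let e : RestrictScalars A C (C ⊗[SA] NA) ≃ₗ[A] C ⊗[SA] NA :=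
    { RestrictScalars.addEquiv A C (C ⊗[SA] NA) with
      map_smul' := fun a z => algebraMap_smul C a ((RestrictScalars.addEquiv A C (C ⊗[SA] NA)) z) }
  haveI := hfree
  haveI : Module.Free A (C ⊗[SA] NA) := Module.Free.of_equiv e
  obtain ⟨g, hg, hflat, hcov⟩ := LocalStructureFT.exists_flat_nbhd (A := A) NA (C ⊗[SA] NA) (TensorProduct.mk SA C NA 1)
    (TensorProduct.isBaseChange SA NA C) x
  let Q₀ := x.comap (algebraMap SA C)
  haveI : Q₀.LiesOver q := ⟨by
    show q = (x.comap (algebraMap SA C)).comap (algebraMap S SA)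
    rw [Ideal.comap_comap, ← IsScalarTower.algebraMap_eq]; exact hxq.over⟩
  haveI : Q₀.LiesOver m := ⟨by
    show m = (x.comap (algebraMap SA C)).comap (algebraMap A SA)
    rw [Ideal.comap_comap, ← IsScalarTower.algebraMap_eq]; exact hxm.over⟩
  refine ⟨g, fun Q _ hQq hQm hgQ => ?_, hflat, hcov⟩
  haveI := hQq; haveI := hQm
  obtain rfl := LocalStructureFT.eq_of_liesOver p m hκ q Q Q₀
  exact hg hgQ

/-- Finite presentation descends to a basic open covered by an étale algebra. -/
theorem finitePresentation_away {B C M : Type u} [CommRing B] [CommRing C] [Algebra B C] [Algebra.Etale B C]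
    [AddCommGroup M] [Module B M] [Module.Finite B M] [Module.FinitePresentation C (C ⊗[B] M)] (g : B)
    (hcov : ∀ (Q : Ideal B) [Q.IsPrime], g ∉ Q → ∃ x' : Ideal C, x'.IsPrime ∧ x'.comap (algebraMap B C) = Q) :
    Module.FinitePresentation (Localization.Away g) (LocalizedModule (Submonoid.powers g) M) := by
  let Bg := Localization.Away g
  obtain ⟨T, _, _, _, _, _, _, hT⟩ := EtalePushout.exists_pushout B C Bg
  haveI := hT
  haveI : Algebra.IsPushout B C Bg T := Algebra.IsPushout.symm hT
  haveI : Algebra.Etale Bg T := Algebra.Etale.of_equiv (Algebra.IsPushout.equiv B Bg C T)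
  haveI : Module.FaithfullyFlat Bg T := by
    refine Module.FaithfullyFlat.of_comap_surjective fun P => ?_
    have hgP : g ∉ P.asIdeal.comap (algebraMap B Bg) := fun h =>
      P.2.ne_top (Ideal.eq_top_of_isUnit_mem _ h (IsLocalization.Away.algebraMap_isUnit g))
    obtain ⟨x', hx'p, hx'⟩ := hcov _ hgP
    haveI := hx'p
    let ψB : Bg →ₐ[B] x'.ResidueField := IsLocalization.liftAlgHom (M := Submonoid.powers g)
      (f := Algebra.ofId B x'.ResidueField) fun y => isUnit_iff_ne_zero.mpr fun h => by
        have h' : algebraMap B x'.ResidueField (y : B) = 0 := h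
        rw [IsScalarTower.algebraMap_apply B C x'.ResidueField, Ideal.algebraMap_residueField_eq_zero] at h'
        obtain ⟨k, hk⟩ := y.2
        exact hgP (hx' ▸ Ideal.mem_comap.mpr (hx'p.mem_of_pow_mem k (by rwa [← map_pow, show g ^ k = (y : B) from hk])))
    let ψ : T →ₐ[B] x'.ResidueField :=
      Algebra.pushoutDesc T ψB (IsScalarTower.toAlgHom B C x'.ResidueField) fun _ _ => Commute.all _ _
    haveI : (RingHom.ker ψ.toRingHom).IsPrime := RingHom.ker_isPrime _
    refine ⟨⟨RingHom.ker ψ.toRingHom, inferInstance⟩, PrimeSpectrum.ext ?_⟩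
    rw [← IsLocalization.map_comap (Submonoid.powers g) Bg P.asIdeal]
    rw [← IsLocalization.map_comap (Submonoid.powers g) Bg
      (PrimeSpectrum.comap (algebraMap Bg T) ⟨RingHom.ker ψ.toRingHom, inferInstance⟩).asIdeal]
    congr 1
    show ((RingHom.ker ψ.toRingHom).comap (algebraMap Bg T)).comap (algebraMap B Bg) = P.asIdeal.comap (algebraMap B Bg)
    rw [← hx', Ideal.comap_comap, ← IsScalarTower.algebraMap_eq]
    ext b
    show ψ (algebraMap B T b) = 0 ↔ algebraMap B C b ∈ x'
    rw [AlgHom.commutes, IsScalarTower.algebraMap_apply B C x'.ResidueField, Ideal.algebraMap_residueField_eq_zero]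
  let e : T ⊗[Bg] LocalizedModule (Submonoid.powers g) M ≃ₗ[T] T ⊗[C] (C ⊗[B] M) :=
    ((LinearEquiv.baseChange Bg T _ _ (LocalizedModule.equivTensorProduct (Submonoid.powers g) M)).trans
      (AlgebraTensorModule.cancelBaseChange B Bg T T M)).trans
      (AlgebraTensorModule.cancelBaseChange B C T T M).symm
  haveI : Module.FinitePresentation T (T ⊗[Bg] LocalizedModule (Submonoid.powers g) M) :=
    Module.FinitePresentation.of_equiv e.symm
  exact LocalStructure.finitePresentation_of_tensor (T := T)

end Groth.RaynaudGruson.FlatNbhd
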