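import Groth.Agent.RaynaudGruson.CommonNbhd
import Groth.Agent.RaynaudGruson.FlatNbhd
import Groth.Agent.RaynaudGruson.FlatFibreOpen
import Mathlib

/-!
Freeness along a whole fibre after étale localisation.
-/

set_option autoImplicit false
universe u

open TensorProduct IsLocalRing

namespace Groth.RaynaudGruson.FreeCover

/-- A local piece of the cover of the fibre over `p` near the point `z`. -/
structure Piece (R S : Type u) [CommRing R] [CommRing S] [Algebra R S] (N : Type u) [AddCommGroup N] [Module S N]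
    (p : Ideal R) [p.IsPrime] (z : PrimeSpectrum (p.Fiber S)) : Type (u + 1) where
  R₁ : Type u
  [cR : CommRing R₁]
  [aR : Algebra R R₁]
  p₁ : Ideal R₁
  [hp : p₁.IsPrime]
  nhd : FlatCA.IsEtaleNhd R R₁ p p₁
  SA : Type u
  C : Type u
  [cSA : CommRing SA]
  [cC : CommRing C]
  [aRSA : Algebra R SA]
  [aSSA : Algebra S SA]
  [aASA : Algebra (Localization.AtPrime p₁) SA]
  [tRS : IsScalarTower R S SA]
  [tRA : IsScalarTower R (Localization.AtPrime p₁) SA]
  [push : Algebra.IsPushout R S (Localization.AtPrime p₁) SA]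
  [aSAC : Algebra SA C]
  [aAC : Algebra (Localization.AtPrime p₁) C]
  [tASC : IsScalarTower (Localization.AtPrime p₁) SA C]
  [aSC : Algebra S C]
  [tSSC : IsScalarTower S SA C]
  et : Algebra.Etale SA C
  U : Set (PrimeSpectrum (p.Fiber S))
  isOpen : IsOpen U
  mem : z ∈ U
  point : ∀ w ∈ U, ∃ x : Ideal C, x.IsPrime ∧
    x.comap (algebraMap S C) =
      w.asIdeal.comap (Algebra.TensorProduct.includeRight (R := R) (A := p.ResidueField) (B := S)).toRingHom ∧
    x.comap (algebraMap (Localization.AtPrime p₁) C) = maximalIdeal (Localization.AtPrime p₁)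
  free : Module.Free (Localization.AtPrime p₁) (RestrictScalars (Localization.AtPrime p₁) C (C ⊗[S] N))
  fp : Algebra.FinitePresentation R S → Module.FinitePresentation C (C ⊗[S] N)

attribute [instance] Piece.cR Piece.aR Piece.hp Piece.cSA Piece.cC Piece.aRSA Piece.aSSA Piece.aASA Piece.tRS
  Piece.tRA Piece.push Piece.aSAC Piece.aAC Piece.tASC Piece.aSC Piece.tSSC

/-- The tensor product with a model of the base change. -/
noncomputable def cancelEquiv {S SA C : Type u} [CommRing S] [CommRing SA] [CommRing C] [Algebra S SA] [Algebra SA C]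
    [Algebra S C] [IsScalarTower S SA C] {N NA : Type u} [AddCommGroup N] [Module S N] [AddCommGroup NA] [Module SA NA]
    [Module S NA] [IsScalarTower S SA NA] {f : N →ₗ[S] NA} (hf : IsBaseChange SA f) :
    C ⊗[SA] NA ≃ₗ[C] C ⊗[S] N :=
  (LinearEquiv.baseChange SA C _ _ hf.equiv.symm).trans (AlgebraTensorModule.cancelBaseChange S SA C C N)

theorem free_restrict_congr {A C M M' : Type u} [CommRing A] [CommRing C] [Algebra A C] [AddCommGroup M]
    [AddCommGroup M'] [Module C M] [Module C M'] (e : M ≃ₗ[C] M') (h : Module.Free A (RestrictScalars A C M)) :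
    Module.Free A (RestrictScalars A C M') := by
  haveI := h
  exact Module.Free.of_equiv (AddEquiv.toLinearEquiv
    ((RestrictScalars.addEquiv A C M).trans (e.toAddEquiv.trans (RestrictScalars.addEquiv A C M').symm)) fun a z => by
      refine (RestrictScalars.addEquiv A C M').injective ?_
      exact e.map_smul (algebraMap A C a) _)

set_option maxHeartbeats 1600000 in
theorem nonempty_piece {R S : Type u} [CommRing R] [CommRing S] [Algebra R S] [Algebra.FiniteType R S]
    (N : Type u) [AddCommGroup N] [Module S N] [Module R N] [IsScalarTower R S N] [Module.Finite S N]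
    (p : Ideal R) [p.IsPrime] (z : PrimeSpectrum (p.Fiber S))
    (hflat : FlatCA.FlatAt R
      (z.asIdeal.comap (Algebra.TensorProduct.includeRight (R := R) (A := p.ResidueField) (B := S)).toRingHom) N) :
    Nonempty (Piece R S N p z) := by
  classical
  let incl := (Algebra.TensorProduct.includeRight (R := R) (A := p.ResidueField) (B := S)).toRingHom
  have hover : ∀ y : PrimeSpectrum (p.Fiber S), (y.asIdeal.comap incl).LiesOver p := fun y =>
    ⟨(congrArg PrimeSpectrum.asIdeal (((PrimeSpectrum.preimageEquivFiber R S ⟨p, inferInstance⟩).symm y).2)).symm⟩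
  let q := z.asIdeal.comap incl
  haveI : q.LiesOver p := hover z
  have key : ∃ (R' : Type u) (_ : CommRing R') (_ : Algebra R R') (p' : Ideal R') (_ : p'.IsPrime),
      FlatCA.IsEtaleNhd R R' p p' ∧
      ∀ (SA NA : Type u) [CommRing SA] [Algebra R SA] [Algebra S SA] [Algebra (Localization.AtPrime p') SA]
        [IsScalarTower R S SA] [IsScalarTower R (Localization.AtPrime p') SA]
        [Algebra.IsPushout R S (Localization.AtPrime p') SA]
        [AddCommGroup NA] [Module SA NA] [Module S NA] [IsScalarTower S SA NA]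
        (f : N →ₗ[S] NA), IsBaseChange SA f →
        ∃ (C : Type u) (_ : CommRing C) (_ : Algebra SA C) (_ : Algebra (Localization.AtPrime p') C)
          (_ : IsScalarTower (Localization.AtPrime p') SA C) (_ : Algebra S C) (_ : IsScalarTower S SA C)
          (x' : Ideal C) (_ : x'.IsPrime) (_ : x'.LiesOver q),
          Algebra.Etale SA C ∧ x'.LiesOver (maximalIdeal (Localization.AtPrime p')) ∧
          (Algebra.FinitePresentation R S → Module.FinitePresentation C (C ⊗[SA] NA)) ∧
          Module.Free (Localization.AtPrime p') (RestrictScalars (Localization.AtPrime p') C (C ⊗[SA] NA)) := by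
    by_cases hfp : Algebra.FinitePresentation R S
    · obtain ⟨R', i1, i2, p', i3, hR, hmod⟩ := LocalStructure.exists_nbhd_free N p q hflat
      refine ⟨R', i1, i2, p', i3, hR, ?_⟩
      intro SA NA _ _ _ _ _ _ _ _ _ _ _ f hf
      obtain ⟨C, j1, j2, j3, j4, j5, j6, x', j7, hx, k1, -, k3, -, k5, k6⟩ := hmod SA NA f hf
      exact ⟨C, j1, j2, j3, j4, j5, j6, x', j7, hx, k1, k3, fun _ => k5, k6⟩
    · obtain ⟨R', i1, i2, p', i3, hR, hmod⟩ := LocalStructureFT.exists_nbhd_free N p q hflat
      refine ⟨R', i1, i2, p', i3, hR, ?_⟩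
      intro SA NA _ _ _ _ _ _ _ _ _ _ _ f hf
      obtain ⟨C, j1, j2, j3, j4, j5, j6, x', j7, hx, k1, k3, -, k6⟩ := hmod SA NA f hf
      exact ⟨C, j1, j2, j3, j4, j5, j6, x', j7, hx, k1, k3, fun h => absurd h hfp, k6⟩
  obtain ⟨R₁, _, _, p₁, _, hR, hmod⟩ := key
  obtain ⟨het, hp'o, hκ'⟩ := id hR
  haveI := het; haveI := hp'o
  let A := Localization.AtPrime p₁
  let m := maximalIdeal A
  haveI : m.LiesOver p₁ := ⟨(IsLocalization.AtPrime.under_maximalIdeal A p₁).symm⟩
  haveI : m.LiesOver p := Ideal.LiesOver.trans m p₁ p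
  have hκ := EtalePushout.bijective_mapₐ_trans p p₁ m hκ' (LocalStructure.bijective_residue_atPrime p₁)
  obtain ⟨SA, _, _, _, _, _, _, hpush⟩ := EtalePushout.exists_pushout R S A
  haveI := hpush
  haveI : Algebra.IsPushout R S A SA := Algebra.IsPushout.symm hpush
  obtain ⟨NA, _, _, _, _, f, hf⟩ := EtalePushout.exists_baseChange S SA N
  obtain ⟨C, _, _, _, _, _, _, x, _, hxq, hetC, hxm, hfpC, hfree⟩ := hmod SA NA f hf
  haveI := hetC; haveI := hxq; haveI := hxm
  letI : Module A NA := Module.compHom NA (algebraMap A SA)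
  haveI : IsScalarTower A SA NA := IsScalarTower.of_algebraMap_smul fun _ _ => rfl
  obtain ⟨g, hg, -, hcov⟩ := FlatNbhd.exists_g p m hκ q NA x hfree
  obtain ⟨σ, hσS, hσA⟩ := FlatFibreOpen.exists_toFiber (S := S) (SA := SA) p m hκ
  have hQ : ∀ y : PrimeSpectrum (p.Fiber S), (y.asIdeal.comap σ.toRingHom).comap (algebraMap S SA) = y.asIdeal.comap incl := by
    intro y
    ext s
    show σ (algebraMap S SA s) ∈ y.asIdeal ↔ incl s ∈ y.asIdeal
    rw [hσS]; rfl
  refine ⟨{ R₁ := R₁, p₁ := p₁, nhd := hR, SA := SA, C := C, et := hetC,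
            U := (PrimeSpectrum.basicOpen (σ g) : Set _), isOpen := (PrimeSpectrum.basicOpen (σ g)).isOpen,
            mem := ?_, point := fun w hw => ?_, free := free_restrict_congr (cancelEquiv hf) hfree,
            fp := fun h => ?_ }⟩
  · exact hg (z.asIdeal.comap σ.toRingHom) ⟨(hQ z).symm⟩ ⟨(hσA _ z.2).symm⟩
  · obtain ⟨x', hx'p, hx'⟩ := hcov (w.asIdeal.comap σ.toRingHom) hw
    refine ⟨x', hx'p, ?_, ?_⟩
    · rw [IsScalarTower.algebraMap_eq S SA C, ← Ideal.comap_comap, hx', hQ]
    · rw [IsScalarTower.algebraMap_eq A SA C, ← Ideal.comap_comap, hx']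
      exact hσA _ w.2
  · haveI := hfpC h
    exact Module.FinitePresentation.of_equiv (cancelEquiv hf)

/-- Change of the local base of one piece. -/
theorem exists_piece_baseChange {S A₁ A S₁ SA C₁ : Type u} [CommRing S] [CommRing A₁] [CommRing A] [CommRing S₁]
    [CommRing SA] [CommRing C₁] [Algebra A₁ A] [Algebra A₁ S₁] [Algebra A SA] [Algebra S₁ SA] [Algebra A₁ SA]
    [IsScalarTower A₁ A SA] [IsScalarTower A₁ S₁ SA] [hpush : Algebra.IsPushout A₁ A S₁ SA]
    [Algebra S S₁] [Algebra S SA] [IsScalarTower S S₁ SA]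
    [Algebra S₁ C₁] [Algebra A₁ C₁] [IsScalarTower A₁ S₁ C₁] [Algebra S C₁] [IsScalarTower S S₁ C₁]
    [Algebra.Etale S₁ C₁] (N : Type u) [AddCommGroup N] [Module S N]
    (hfree : Module.Free A₁ (RestrictScalars A₁ C₁ (C₁ ⊗[S] N))) (m : Ideal A) [m.IsPrime] :
    ∃ (T : Type u) (_ : CommRing T) (_ : Algebra SA T) (_ : Algebra A T) (_ : IsScalarTower A SA T)
      (_ : Algebra S T) (_ : IsScalarTower S SA T),
      Algebra.Etale SA T ∧ Module.Free A (RestrictScalars A T (T ⊗[S] N)) ∧
      (Module.FinitePresentation C₁ (C₁ ⊗[S] N) → Module.FinitePresentation T (T ⊗[S] N)) ∧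
      ∀ (x : Ideal C₁), x.IsPrime → x.comap (algebraMap A₁ C₁) = m.comap (algebraMap A₁ A) →
        ∃ x' : Ideal T, x'.IsPrime ∧ x'.comap (algebraMap S T) = x.comap (algebraMap S C₁) ∧
          x'.comap (algebraMap A T) = m := by
  obtain ⟨T, _, _, _, _, _, _, hT⟩ := EtalePushout.exists_pushout S₁ C₁ SA
  haveI := hT
  letI : Algebra A T := ((algebraMap SA T).comp (algebraMap A SA)).toAlgebra
  haveI : IsScalarTower A SA T := .of_algebraMap_eq' rfl
  letI : Algebra S T := ((algebraMap SA T).comp (algebraMap S SA)).toAlgebra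
  haveI : IsScalarTower S SA T := .of_algebraMap_eq' rfl
  letI : Algebra A₁ T := ((algebraMap A T).comp (algebraMap A₁ A)).toAlgebra
  haveI : IsScalarTower A₁ A T := .of_algebraMap_eq' rfl
  haveI : IsScalarTower A₁ SA T := .of_algebraMap_eq fun a => by
    show algebraMap A T (algebraMap A₁ A a) = _
    rw [IsScalarTower.algebraMap_apply A SA T, ← IsScalarTower.algebraMap_apply A₁ A SA]
  haveI : IsScalarTower A₁ S₁ T := .of_algebraMap_eq fun a => by
    rw [IsScalarTower.algebraMap_apply A₁ SA T, IsScalarTower.algebraMap_apply A₁ S₁ SA,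
      ← IsScalarTower.algebraMap_apply S₁ SA T]
  haveI : IsScalarTower A₁ C₁ T := .of_algebraMap_eq fun a => by
    rw [IsScalarTower.algebraMap_apply A₁ S₁ C₁, ← IsScalarTower.algebraMap_apply S₁ C₁ T,
      ← IsScalarTower.algebraMap_apply A₁ S₁ T]
  haveI : IsScalarTower S C₁ T := .of_algebraMap_eq fun s => by
    show algebraMap SA T (algebraMap S SA s) = _
    rw [IsScalarTower.algebraMap_apply S S₁ SA, ← IsScalarTower.algebraMap_apply S₁ SA T,
      IsScalarTower.algebraMap_apply S₁ C₁ T, ← IsScalarTower.algebraMap_apply S S₁ C₁]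
  haveI h' : Algebra.IsPushout S₁ C₁ SA T := Algebra.IsPushout.symm hT
  haveI : Algebra.IsPushout A₁ S₁ A SA := Algebra.IsPushout.symm hpush
  haveI hc : Algebra.IsPushout A₁ A C₁ T := Algebra.IsPushout.symm
    ((Algebra.IsPushout.comp_iff (R := A₁) (S := S₁) (R' := A) (S' := SA)
      (T := C₁) (T' := T)).mpr h')
  haveI hc' : Algebra.IsPushout A₁ C₁ A T := Algebra.IsPushout.symm hc
  haveI : Algebra.Etale SA T := Algebra.Etale.of_equiv (Algebra.IsPushout.equiv S₁ SA C₁ T)
  haveI : SMulCommClass S A₁ C₁ := ⟨fun s r x => by simp only [Algebra.smul_def]; ring⟩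
  haveI := hfree
  let e₀ : RestrictScalars A₁ C₁ (C₁ ⊗[S] N) ≃ₗ[A₁] C₁ ⊗[S] N :=
    AddEquiv.toLinearEquiv (RestrictScalars.addEquiv A₁ C₁ (C₁ ⊗[S] N)) fun r z => by
      rw [RestrictScalars.addEquiv_map_smul]
      exact algebraMap_smul C₁ r _
  haveI : Module.Free A₁ (C₁ ⊗[S] N) := Module.Free.of_equiv e₀
  let e₁ : T ⊗[C₁] (C₁ ⊗[S] N) ≃ₗ[A] A ⊗[A₁] (C₁ ⊗[S] N) := Algebra.IsPushout.cancelBaseChange A₁ A C₁ T _
  haveI : Module.Free A (T ⊗[C₁] (C₁ ⊗[S] N)) := Module.Free.of_equiv e₁.symm
  let e₂ : T ⊗[C₁] (C₁ ⊗[S] N) ≃ₗ[T] T ⊗[S] N := AlgebraTensorModule.cancelBaseChange S C₁ T T N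
  let e₃ : T ⊗[C₁] (C₁ ⊗[S] N) ≃ₗ[A] RestrictScalars A T (T ⊗[S] N) :=
    AddEquiv.toLinearEquiv (e₂.toAddEquiv.trans (RestrictScalars.addEquiv A T _).symm) fun a z => by
      refine (RestrictScalars.addEquiv A T (T ⊗[S] N)).injective ?_
      rw [RestrictScalars.addEquiv_map_smul, AddEquiv.trans_apply, AddEquiv.apply_symm_apply, AddEquiv.trans_apply,
        AddEquiv.apply_symm_apply]
      show e₂ (a • z) = algebraMap A T a • e₂ z
      rw [← map_smul]
      exact congrArg e₂ (algebraMap_smul T a z).symm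
  refine ⟨T, inferInstance, inferInstance, inferInstance, inferInstance, inferInstance, inferInstance,
    inferInstance, Module.Free.of_equiv e₃, fun h => ?_, fun x hxp hx => ?_⟩
  · haveI := h
    exact Module.FinitePresentation.of_equiv e₂
  · haveI := hxp
    obtain ⟨x', hx'p, hx'C, hx'A⟩ := FlatmorThree.exists_prime_over_both (R := A₁) (S := C₁) (R' := A) (S' := T)
      x m hx.symm
    exact ⟨x', hx'p, by rw [IsScalarTower.algebraMap_eq S C₁ T, ← Ideal.comap_comap, hx'C], hx'A⟩

/-- Finite presentation over a finite product of rings. -/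
theorem finitePresentation_pi {S : Type u} [CommRing S] {k : ℕ} (T : Fin k → Type u) [∀ i, CommRing (T i)]
    [∀ i, Algebra S (T i)] (N : Type u) [AddCommGroup N] [Module S N]
    (h : ∀ i, Module.FinitePresentation (T i) (T i ⊗[S] N)) :
    Module.FinitePresentation (∀ i, T i) ((∀ i, T i) ⊗[S] N) := by
  classical
  letI iA : ∀ i, Algebra (∀ j, T j) (T i) := fun i => (Pi.evalRingHom T i).toAlgebra
  haveI : ∀ i, SMulCommClass S (∀ j, T j) (T i) := fun i => ⟨fun s r x => by simp only [Algebra.smul_def]; ring⟩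
  haveI : ∀ i, Module.FinitePresentation (∀ j, T j) (T i ⊗[S] N) := fun i => by
    haveI : IsScalarTower (∀ j, T j) (T i) (T i ⊗[S] N) := inferInstance
    haveI : Module.FinitePresentation (∀ j, T j) (T i) := by
      refine Module.finitePresentation_of_surjective (Algebra.linearMap (∀ j, T j) (T i))
        (fun x => ⟨Pi.single i x, Pi.single_eq_same i x⟩) ?_
      have : LinearMap.ker (Algebra.linearMap (∀ j, T j) (T i)) = Submodule.span _ {1 - Pi.single i 1} := by
        ext a
        rw [LinearMap.mem_ker, Submodule.mem_span_singleton]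
        constructor
        · intro ha
          refine ⟨a, funext fun j => ?_⟩
          by_cases hj : j = i
          · subst hj
            simp [show a j = 0 from ha]
          · simp [hj]
        · rintro ⟨b, rfl⟩
          show b i * (1 - Pi.single i 1 : ∀ j, T j) i = 0
          simp
      rw [this]
      exact Submodule.fg_span_singleton _
    haveI := h i
    exact Module.FinitePresentation.trans (∀ j, T j) _ (T i)
  let π := TensorProduct.piLeft S N T
  have hπ : ∀ (a : ∀ i, T i) (z : (∀ i, T i) ⊗[S] N) (i), π (a • z) i = a i • π z i := by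
    intro a z i
    induction z using TensorProduct.induction_on with
    | zero => simp
    | tmul t n => simp [π, TensorProduct.smul_tmul']
    | add x y hx hy => simp only [smul_add, map_add, Pi.add_apply, hx, hy]
  letI : Module (∀ j, T j) (∀ i, T i ⊗[S] N) := Pi.module (Fin k) (fun i => T i ⊗[S] N) (∀ j, T j)
  let e : ((∀ i, T i) ⊗[S] N) ≃ₗ[∀ i, T i] (∀ i, T i ⊗[S] N) :=
    { π.toAddEquiv with
      map_smul' := fun a z => funext fun i => (hπ a z i).trans (algebraMap_smul (T i) a (π z i)) }
  exact Module.FinitePresentation.of_equiv e.symm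

/-- Freeness over the base of a finite product. -/
theorem free_pi {A S : Type u} [CommRing A] [CommRing S] {k : ℕ} (T : Fin k → Type u) [∀ i, CommRing (T i)]
    [∀ i, Algebra A (T i)] [∀ i, Algebra S (T i)] (N : Type u) [AddCommGroup N] [Module S N]
    (h : ∀ i, Module.Free A (RestrictScalars A (T i) (T i ⊗[S] N))) :
    Module.Free A (RestrictScalars A (∀ i, T i) ((∀ i, T i) ⊗[S] N)) := by
  haveI := h
  let π := TensorProduct.piLeft S N T
  let F := RestrictScalars A (∀ i, T i) ((∀ i, T i) ⊗[S] N)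
  let G := fun i => RestrictScalars A (T i) (T i ⊗[S] N)
  have hπ : ∀ (a : ∀ i, T i) (z : (∀ i, T i) ⊗[S] N) (i), π (a • z) i = a i • π z i := by
    intro a z i
    induction z using TensorProduct.induction_on with
    | zero => simp
    | tmul t n => simp [π, TensorProduct.smul_tmul']
    | add x y hx hy => simp only [smul_add, map_add, Pi.add_apply, hx, hy]
  let e : F ≃ₗ[A] (∀ i, G i) :=
    { (RestrictScalars.addEquiv A (∀ i, T i) _).trans (π.toAddEquiv.trans
        (AddEquiv.piCongrRight fun i => (RestrictScalars.addEquiv A (T i) (T i ⊗[S] N)).symm)) with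
      map_smul' := fun a z => funext fun i => by
        refine (RestrictScalars.addEquiv A (T i) (T i ⊗[S] N)).injective ?_
        exact hπ (algebraMap A (∀ i, T i) a) _ i }
  haveI : Module.Free A (∀ i, G i) :=
    Module.Free.of_equiv (DFinsupp.linearEquivFunOnFintype (R := A) (M := G))
  exact Module.Free.of_equiv e.symm

set_option maxHeartbeats 1600000 in
/-- **Freeness along a fibre after étale localisation.** -/
theorem exists_free_cover {R S : Type u} [CommRing R] [CommRing S] [Algebra R S] [Algebra.FiniteType R S]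
    (N : Type u) [AddCommGroup N] [Module S N] [Module R N] [IsScalarTower R S N] [Module.Finite S N]
    (p : Ideal R) [p.IsPrime] (hflat : ∀ (q : Ideal S) [q.IsPrime], q.LiesOver p → FlatCA.FlatAt R q N) :
    ∃ (R' : Type u) (_ : CommRing R') (_ : Algebra R R') (p' : Ideal R') (_ : p'.IsPrime), FlatCA.IsEtaleNhd R R' p p' ∧
      ∀ (SA NA : Type u) [CommRing SA] [Algebra R SA] [Algebra S SA] [Algebra (Localization.AtPrime p') SA]
        [IsScalarTower R S SA] [IsScalarTower R (Localization.AtPrime p') SA]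
        [Algebra.IsPushout R S (Localization.AtPrime p') SA]
        [AddCommGroup NA] [Module SA NA] [Module S NA] [IsScalarTower S SA NA]
        (f : N →ₗ[S] NA), IsBaseChange SA f →
        ∃ (C : Type u) (_ : CommRing C) (_ : Algebra SA C) (_ : Algebra (Localization.AtPrime p') C)
          (_ : IsScalarTower (Localization.AtPrime p') SA C) (_ : Algebra S C) (_ : IsScalarTower S SA C),
          Algebra.Etale SA C ∧
          (Algebra.FinitePresentation R S → Algebra.FinitePresentation (Localization.AtPrime p') C ∧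
            Module.FinitePresentation C (C ⊗[SA] NA)) ∧
          (∀ (q : Ideal S) [q.IsPrime], q.LiesOver p → ∃ x' : Ideal C, x'.IsPrime ∧ x'.comap (algebraMap S C) = q ∧
            x'.LiesOver (maximalIdeal (Localization.AtPrime p'))) ∧
          Module.Free (Localization.AtPrime p') (RestrictScalars (Localization.AtPrime p') C (C ⊗[SA] NA)) := by
  classical
  let incl := (Algebra.TensorProduct.includeRight (R := R) (A := p.ResidueField) (B := S)).toRingHom
  have hover : ∀ y : PrimeSpectrum (p.Fiber S), (y.asIdeal.comap incl).LiesOver p := fun y =>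
    ⟨(congrArg PrimeSpectrum.asIdeal (((PrimeSpectrum.preimageEquivFiber R S ⟨p, inferInstance⟩).symm y).2)).symm⟩
  let P := fun y : PrimeSpectrum (p.Fiber S) => Classical.choice (nonempty_piece N p y (hflat _ (hover y)))
  obtain ⟨t, ht⟩ := isCompact_univ.elim_finite_subcover (fun y => (P y).U) (fun y => (P y).isOpen)
    fun y _ => Set.mem_iUnion.mpr ⟨y, (P y).mem⟩
  let e := t.equivFin.symm
  let Q := fun i : Fin t.card => P (e i).1
  obtain ⟨R', _, _, p', _, φ, hR', hφ⟩ := CommonNbhd.exists_common p t.card (fun i => (Q i).R₁) (fun i => (Q i).p₁)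
    (fun i => (Q i).hp) fun i => (Q i).nhd
  refine ⟨R', inferInstance, inferInstance, p', inferInstance, hR', ?_⟩
  intro SA NA _ _ _ _ _ _ _ _ _ _ _ f hf
  let A := Localization.AtPrime p'
  have hT : ∀ i : Fin t.card, ∃ (T : Type u) (_ : CommRing T) (_ : Algebra SA T) (_ : Algebra A T)
      (_ : IsScalarTower A SA T) (_ : Algebra S T) (_ : IsScalarTower S SA T),
      Algebra.Etale SA T ∧ Module.Free A (RestrictScalars A T (T ⊗[S] N)) ∧
      (Algebra.FinitePresentation R S → Module.FinitePresentation T (T ⊗[S] N)) ∧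
      ∀ w ∈ (Q i).U, ∃ x' : Ideal T, x'.IsPrime ∧ x'.comap (algebraMap S T) = w.asIdeal.comap incl ∧
          x'.comap (algebraMap A T) = maximalIdeal A := by
    intro i
    let A₁ := Localization.AtPrime (Q i).p₁
    let ψ : A₁ →+* A := Localization.localRingHom (Q i).p₁ p' (φ i).toRingHom (hφ i).symm
    letI : Algebra A₁ A := ψ.toAlgebra
    haveI : IsScalarTower R A₁ A := .of_algebraMap_eq fun r => by
      show algebraMap R A r = ψ (algebraMap R A₁ r)
      rw [IsScalarTower.algebraMap_apply R (Q i).R₁ A₁, Localization.localRingHom_to_map,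
        IsScalarTower.algebraMap_apply R R' A]
      exact congrArg _ ((φ i).commutes r).symm
    let σ : (Q i).SA →ₐ[R] SA := Algebra.pushoutDesc (Q i).SA (IsScalarTower.toAlgHom R S SA)
      ((IsScalarTower.toAlgHom R A SA).comp (IsScalarTower.toAlgHom R A₁ A)) fun _ _ => Commute.all _ _
    letI : Algebra (Q i).SA SA := σ.toRingHom.toAlgebra
    haveI : IsScalarTower R (Q i).SA SA := .of_algebraMap_eq fun r => (σ.commutes r).symm
    letI : Algebra A₁ SA := ((algebraMap A SA).comp (algebraMap A₁ A)).toAlgebra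
    haveI : IsScalarTower A₁ A SA := .of_algebraMap_eq' rfl
    haveI : IsScalarTower R A₁ SA := .of_algebraMap_eq fun r => by
      show algebraMap R SA r = algebraMap A SA (algebraMap A₁ A (algebraMap R A₁ r))
      rw [← IsScalarTower.algebraMap_apply R A₁ A, ← IsScalarTower.algebraMap_apply R A SA]
    haveI : IsScalarTower S (Q i).SA SA := .of_algebraMap_eq fun s =>
      (Algebra.pushoutDesc_left (Q i).SA (IsScalarTower.toAlgHom R S SA) _ _ s).symm
    haveI : IsScalarTower A₁ (Q i).SA SA := .of_algebraMap_eq fun a =>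
      (Algebra.pushoutDesc_right (Q i).SA (IsScalarTower.toAlgHom R S SA)
        ((IsScalarTower.toAlgHom R A SA).comp (IsScalarTower.toAlgHom R A₁ A)) _ a).symm
    haveI hpush : Algebra.IsPushout A₁ A (Q i).SA SA := by
      have h1 : Algebra.IsPushout R A₁ S (Q i).SA := Algebra.IsPushout.symm inferInstance
      have h2 : Algebra.IsPushout R A S SA := Algebra.IsPushout.symm inferInstance
      exact (Algebra.IsPushout.comp_iff (R := R) (S := A₁) (R' := S) (S' := (Q i).SA) (T := A)
        (T' := SA)).mp h2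
    haveI := (Q i).et
    obtain ⟨T, j1, j2, j3, j4, j5, j6, hT1, hT2, hT3, hT4⟩ :=
      exists_piece_baseChange (A₁ := A₁) (S₁ := (Q i).SA) (SA := SA) (C₁ := (Q i).C) N (Q i).free (maximalIdeal A)
    refine ⟨T, j1, j2, j3, j4, j5, j6, hT1, hT2, fun h => hT3 ((Q i).fp h), fun w hw => ?_⟩
    obtain ⟨x, hxp, hxS, hxA⟩ := (Q i).point w hw
    haveI : IsLocalHom ψ := Localization.isLocalHom_localRingHom _ _ _ _
    obtain ⟨x', h1, h2, h3⟩ := hT4 x hxp (hxA.trans (IsLocalRing.maximalIdeal_comap ψ).symm)
    exact ⟨x', h1, h2.trans hxS, h3⟩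
  choose T iT1 iT2 iT3 iT4 iT5 iT6 het hfree hfp hpt using hT
  haveI := het
  haveI : IsScalarTower A SA (∀ i, T i) := .of_algebraMap_eq fun a => funext fun i =>
    IsScalarTower.algebraMap_apply A SA (T i) a
  haveI : IsScalarTower S SA (∀ i, T i) := .of_algebraMap_eq fun a => funext fun i =>
    IsScalarTower.algebraMap_apply S SA (T i) a
  refine ⟨∀ i, T i, inferInstance, inferInstance, inferInstance, inferInstance, inferInstance, inferInstance,
    inferInstance, fun h => ?_, fun q _ hq => ?_,
    free_restrict_congr (cancelEquiv hf).symm ?_⟩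
  · haveI := h
    haveI : Algebra.FinitePresentation A SA := by
      haveI : Algebra.IsPushout R A S SA := Algebra.IsPushout.symm inferInstance
      exact Algebra.FinitePresentation.equiv (Algebra.IsPushout.equiv R A S SA)
    refine ⟨Algebra.FinitePresentation.trans A SA _, ?_⟩
    haveI := finitePresentation_pi T N fun i => hfp i h
    exact Module.FinitePresentation.of_equiv (cancelEquiv hf).symm
  · obtain ⟨z, hz⟩ := Flatmor4.exists_fiber_prime p q
    obtain ⟨y, hy, hyz⟩ : ∃ y, y ∈ t ∧ z ∈ (P y).U := by simpa using ht (Set.mem_univ z)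
    obtain ⟨i, hi⟩ : ∃ i, e i = ⟨y, hy⟩ := ⟨t.equivFin ⟨y, hy⟩, Equiv.symm_apply_apply _ _⟩
    obtain rfl : (e i).1 = y := congrArg Subtype.val hi
    obtain ⟨x', hx'p, hx'S, hx'A⟩ := hpt i z hyz
    haveI := hx'p
    refine ⟨x'.comap (Pi.evalRingHom T i), inferInstance, ?_, ⟨?_⟩⟩
    · rw [Ideal.comap_comap]
      exact hx'S.trans hz
    · show maximalIdeal A = (x'.comap (Pi.evalRingHom T i)).comap (algebraMap A (∀ i, T i))
      rw [Ideal.comap_comap]
      exact hx'A.symm
  · exact free_pi T N hfree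

/-- A flat basic neighbourhood of every point of the closed fibre. -/
theorem exists_g_of_cover {R S R' SA : Type u} [CommRing R] [CommRing S] [CommRing R'] [CommRing SA] [Algebra R S]
    [Algebra R R'] (p : Ideal R) [p.IsPrime] (p' : Ideal R') [p'.IsPrime] (hp'o : p'.LiesOver p)
    (hκ' : Function.Bijective (Ideal.ResidueField.mapₐ p p' (Algebra.ofId R R') hp'o.over))
    [Algebra R SA] [Algebra S SA] [Algebra (Localization.AtPrime p') SA] [IsScalarTower R S SA]
    [IsScalarTower R (Localization.AtPrime p') SA] [Algebra.IsPushout R S (Localization.AtPrime p') SA]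
    (C : Type u) [CommRing C] [Algebra SA C] [Algebra (Localization.AtPrime p') C]
    [IsScalarTower (Localization.AtPrime p') SA C] [Algebra S C] [IsScalarTower S SA C] [Algebra.Etale SA C]
    (NA : Type u) [AddCommGroup NA] [Module SA NA] [Module (Localization.AtPrime p') NA]
    [IsScalarTower (Localization.AtPrime p') SA NA]
    (hcover : ∀ (q : Ideal S) [q.IsPrime], q.LiesOver p → ∃ x' : Ideal C, x'.IsPrime ∧ x'.comap (algebraMap S C) = q ∧
      x'.LiesOver (maximalIdeal (Localization.AtPrime p')))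
    (hfree : Module.Free (Localization.AtPrime p') (RestrictScalars (Localization.AtPrime p') C (C ⊗[SA] NA)))
    (Q : Ideal SA) [Q.IsPrime] (hQ : Q.LiesOver (maximalIdeal (Localization.AtPrime p'))) :
    ∃ g : SA, g ∉ Q ∧ Module.Flat (Localization.AtPrime p') (LocalizedModule (Submonoid.powers g) NA) ∧
      ∀ (Q : Ideal SA) [Q.IsPrime], g ∉ Q → ∃ x' : Ideal C, x'.IsPrime ∧ x'.comap (algebraMap SA C) = Q := by
  haveI := hp'o; haveI := hQ
  let A := Localization.AtPrime p'
  let m := maximalIdeal A
  haveI : m.LiesOver p' := ⟨(IsLocalization.AtPrime.under_maximalIdeal A p').symm⟩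
  haveI : m.LiesOver p := Ideal.LiesOver.trans m p' p
  have hκ := EtalePushout.bijective_mapₐ_trans p p' m hκ' (LocalStructure.bijective_residue_atPrime p')
  haveI : (Q.comap (algebraMap S SA)).LiesOver p := ⟨by
    show p = (Q.comap (algebraMap S SA)).comap (algebraMap R S)
    rw [Ideal.comap_comap, ← IsScalarTower.algebraMap_eq, IsScalarTower.algebraMap_eq R A SA, ← Ideal.comap_comap,
      show Q.comap (algebraMap A SA) = m from hQ.over.symm]
    exact Ideal.LiesOver.over (P := m) (p := p)⟩
  obtain ⟨x, hxp, hxS, hxm⟩ := hcover (Q.comap (algebraMap S SA)) inferInstance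
  haveI := hxp; haveI := hxm
  haveI : x.LiesOver (Q.comap (algebraMap S SA)) := ⟨hxS.symm⟩
  obtain ⟨g, hg, hflat, hcov⟩ := FlatNbhd.exists_g p m hκ (Q.comap (algebraMap S SA)) NA x hfree
  exact ⟨g, hg Q ⟨rfl⟩ hQ, hflat, hcov⟩

end Groth.RaynaudGruson.FreeCover
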