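import Groth.Agent.RaynaudGruson.GenericInjective
import Mathlib

/-!
Injective maps of algebras of finite type over a domain stay injective on the fibres over a dense open of the base.
-/

set_option autoImplicit false
universe u

namespace Groth.RaynaudGruson

open TensorProduct

theorem lTensor_localizationMap_injective {A B : Type u} [CommRing A] [CommRing B] [Algebra A B] (k : B)
    (F : Type u) [AddCommGroup F] [Module A F]
    (hk : Function.Injective (((LinearMap.lsmul B B k).restrictScalars A).lTensor F)) :
    Function.Injective ((IsScalarTower.toAlgHom A B (Localization.Away k)).toLinearMap.lTensor F) := by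
  let g : B →ₗ[B] Localization.Away k := Algebra.linearMap B (Localization.Away k)
  let G := AlgebraTensorModule.rTensor A F g
  have hsm : ∀ z : B ⊗[A] F, TensorProduct.comm A B F (k • z) =
      ((LinearMap.lsmul B B k).restrictScalars A).lTensor F (TensorProduct.comm A B F z) := fun z => by
    induction z with
    | zero => simp
    | tmul b x => rfl
    | add x y hx hy => simp only [smul_add, map_add, hx, hy]
  have hcomm : ∀ z : B ⊗[A] F, TensorProduct.comm A (Localization.Away k) F (G z) =
      (IsScalarTower.toAlgHom A B (Localization.Away k)).toLinearMap.lTensor F (TensorProduct.comm A B F z) :=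
    fun z => by
    induction z with
    | zero => simp
    | tmul b x => rfl
    | add x y hx hy => simp only [map_add, hx, hy]
  have hG : ∀ z, G z = 0 → z = 0 := fun z hz => by
    obtain ⟨⟨_, n, rfl⟩, hn⟩ := (IsLocalizedModule.eq_zero_iff (Submonoid.powers k) G).mp hz
    have hn' : k ^ n • z = 0 := hn
    clear hz hn
    induction n generalizing z with
    | zero => simpa using hn'
    | succ n ih =>
      rw [pow_succ, mul_smul] at hn'
      refine (TensorProduct.comm A B F).injective (hk ?_)
      rw [← hsm, ih _ hn', map_zero, map_zero]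
  refine (injective_iff_map_eq_zero _).mpr fun w hw => ?_
  obtain ⟨z, rfl⟩ := (TensorProduct.comm A B F).surjective w
  rw [← hcomm, LinearEquiv.map_eq_zero_iff] at hw
  rw [hG z hw, map_zero]

theorem exists_linearMap_comp_eq {A B H : Type u} [CommRing A] [CommRing B] [IsDomain B] [CommRing H] [IsDomain H]
    [Algebra A B] [Algebra A H] [Algebra.FiniteType A H] (σ : B →ₐ[A] H) (hσ : Function.Injective σ) :
    ∃ k : B, k ≠ 0 ∧ ∃ Ψ : H →ₗ[A] Localization.Away k,
      Ψ.comp σ.toLinearMap = (IsScalarTower.toAlgHom A B (Localization.Away k)).toLinearMap := by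
  letI : Algebra B H := σ.toRingHom.toAlgebra
  haveI : IsScalarTower A B H := IsScalarTower.of_algebraMap_eq fun a => (σ.commutes a).symm
  haveI : Algebra.FiniteType B H := Algebra.FiniteType.of_restrictScalars_finiteType A B H
  obtain ⟨k, hk, hfree, -⟩ := (Groth.GenericFree.gf_of_finiteType (R := B) H H).exists_free
  refine ⟨k, hk, ?_⟩
  haveI := hfree k hk dvd_rfl
  let R := Localization.Away k
  let Hk := LocalizedModule (Submonoid.powers k) H
  let g : H →ₗ[B] Hk := LocalizedModule.mkLinearMap (Submonoid.powers k) H
  have hne : g 1 ≠ 0 := fun h => by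
    obtain ⟨⟨_, n, rfl⟩, hn⟩ := (IsLocalizedModule.eq_zero_iff (Submonoid.powers k) g).mp h
    have hn' : k ^ n • (1 : H) = 0 := hn
    rw [Algebra.smul_def, mul_one] at hn'
    exact pow_ne_zero n hk (hσ (hn'.trans (map_zero σ).symm))
  haveI : Nontrivial Hk := nontrivial_of_ne _ _ hne
  obtain ⟨⟨ι, bas⟩⟩ := Module.Free.exists_basis (R := R) (M := Hk)
  obtain ⟨i⟩ := bas.index_nonempty
  obtain ⟨⟨h₀, s⟩, hs⟩ := IsLocalizedModule.surj (Submonoid.powers k) g (bas i)
  have hunit : IsUnit (algebraMap B R s.1) := IsLocalization.map_units R s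
  obtain ⟨c, hc⟩ := hunit
  let lam : Hk →ₗ[B] R := (bas.coord i).restrictScalars B
  have hlam : lam (g h₀) = algebraMap B R s.1 := by
    rw [show g h₀ = s.1 • bas i from hs.symm, map_smul, show lam (bas i) = 1 from by simp [lam],
      Algebra.smul_def, mul_one]
  refine ⟨(LinearMap.mulLeft A (↑c⁻¹ : R)).comp ((lam.restrictScalars A).comp ((g.restrictScalars A).comp
    (LinearMap.mulRight A h₀))), LinearMap.ext fun b => ?_⟩
  show (↑c⁻¹ : R) * lam (g (σ b * h₀)) = algebraMap B R b
  rw [show σ b * h₀ = b • h₀ from (Algebra.smul_def b h₀).symm, map_smul, map_smul, hlam, Algebra.smul_def,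
    ← hc, mul_left_comm, Units.inv_mul, mul_one]

/-- An injective map of domains of finite type over a domain is injective on almost all fibres. -/
theorem exists_forall_lTensor_algHom_injective {A B H : Type u} [CommRing A] [IsDomain A] [CommRing B] [IsDomain B]
    [CommRing H] [IsDomain H] [Algebra A B] [Algebra.FiniteType A B] [Algebra A H] [Algebra.FiniteType A H]
    (σ : B →ₐ[A] H) (hσ : Function.Injective σ) :
    ∃ r : A, r ≠ 0 ∧ ∀ (F : Type u) [Field F] [Algebra A F], algebraMap A F r ≠ 0 →
      Function.Injective (σ.toLinearMap.lTensor F) := by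
  obtain ⟨k, hk, Ψ, hΨ⟩ := exists_linearMap_comp_eq σ hσ
  obtain ⟨r, hr, hinj⟩ := exists_forall_baseChange_injective (A := A) (LinearMap.lsmul B B k)
    (fun x y h => mul_left_cancel₀ hk h)
  refine ⟨r, hr, fun F _ _ hF => ?_⟩
  have h1 := lTensor_localizationMap_injective k F (hinj F hF)
  rw [← hΨ, LinearMap.lTensor_comp, LinearMap.coe_comp] at h1
  exact h1.of_comp

end Groth.RaynaudGruson
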