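import Groth.Agent.RaynaudGruson.SmoothProjective
import Groth.Agent.RaynaudGruson.GeomIntegral
import Groth.Agent.RaynaudGruson.ContentFitting
import Groth.Agent.RaynaudGruson.ContentWeilRestriction
import Mathlib

/-!
The ideal cutting out freeness of a given rank at the generic points of the fibres, for a module with that
many generators.
-/

set_option autoImplicit false
set_option linter.style.haveILetI false
universe u

open TensorProduct

namespace Groth.RaynaudGruson.GenericFreeIdeal

/-- With `p` generators, a basis at a prime means that the coefficients of all relations vanish there. -/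
theorem nonempty_basis_iff {R N : Type u} [CommRing R] [AddCommGroup N] [Module R N] {p : ℕ} (v : Fin p → N)
    (hv : Submodule.span R (Set.range v) = ⊤) (Q : Ideal R) [Q.IsPrime] :
    Nonempty (Module.Basis (Fin p) (Localization.AtPrime Q) (LocalizedModule Q.primeCompl N)) ↔
      ∀ k : Fin p → R, ∑ i, k i • v i = 0 → ∀ i, ∃ u ∉ Q, u * k i = 0 := by
  let L := Localization.AtPrime Q
  let M := LocalizedModule Q.primeCompl N
  let ℓ := LocalizedModule.mkLinearMap Q.primeCompl N
  have hs : Submodule.span L (Set.range fun i => ℓ (v i)) = ⊤ := by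
    rw [Set.range_comp' ℓ v]
    exact span_eq_top_of_isLocalizedModule L Q.primeCompl ℓ hv
  let Φ : (Fin p → L) →ₗ[L] M := Fintype.linearCombination L fun i => ℓ (v i)
  have hΦ : Function.Surjective Φ := by
    rw [← LinearMap.range_eq_top, Fintype.range_linearCombination, hs]
  have hsum : ∀ k : Fin p → R, Φ (fun i => algebraMap R L (k i)) = ℓ (∑ i, k i • v i) := fun k => by
    simp only [Φ, Fintype.linearCombination_apply, map_sum, map_smul, algebraMap_smul]
  constructor
  · rintro ⟨b⟩ k hk i
    have hinj : Function.Injective Φ := by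
      have h1 := OrzechProperty.injective_of_surjective_endomorphism (b.equivFun.toLinearMap ∘ₗ Φ)
        (b.equivFun.surjective.comp hΦ)
      intro x y hxy
      exact h1 (by simp [hxy])
    have h0 : (fun i => algebraMap R L (k i)) = 0 := hinj (by rw [hsum, hk, map_zero, map_zero])
    obtain ⟨u, hu⟩ := (IsLocalization.map_eq_zero_iff Q.primeCompl L (k i)).mp (congrFun h0 i)
    exact ⟨u, u.2, hu⟩
  · intro h
    refine ⟨(Pi.basisFun L (Fin p)).map (LinearEquiv.ofBijective Φ ⟨(injective_iff_map_eq_zero _).mpr fun r hr => ?_, hΦ⟩)⟩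
    obtain ⟨s, hs'⟩ := IsLocalization.exist_integer_multiples_of_finite Q.primeCompl r
    choose k hk using hs'
    have hk' : (fun i => algebraMap R L (k i)) = (s : R) • r := funext fun i => hk i
    have h1 : ℓ (∑ i, k i • v i) = 0 := by
      rw [← hsum, hk', ← algebraMap_smul L (s : R) r, map_smul, hr, smul_zero]
    obtain ⟨t, ht⟩ := (IsLocalizedModule.eq_zero_iff Q.primeCompl ℓ).mp h1
    have h2 := h (fun i => (t : R) * k i) (by
      simp only [mul_smul, ← Finset.smul_sum]; exact ht)
    funext i
    obtain ⟨u, hu, hu0⟩ := h2 i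
    have h3 : algebraMap R L (u * (t * (s : R))) * r i = 0 := by
      rw [map_mul, map_mul, mul_assoc, mul_assoc, ← Algebra.smul_def (s : R) (r i), ← Pi.smul_apply, ← hk',
        ← map_mul, ← map_mul, hu0, map_zero]
    exact (((IsLocalization.map_units L (⟨u * (t * (s : R)), Q.primeCompl.mul_mem hu
      (Q.primeCompl.mul_mem t.2 s.2)⟩ : Q.primeCompl))).mul_right_eq_zero).mp h3

variable {A B : Type u} [CommRing A] [CommRing B] [Algebra A B]

set_option maxHeartbeats 800000 in
/-- The ideal. -/
theorem exists_ideal [Algebra.Smooth A B] (hgi : FlatCA.GeomIrredFibres A B) {N : Type u} [AddCommGroup N]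
    [Module B N] {p : ℕ} (v : Fin p → N) (hv : Submodule.span B (Set.range v) = ⊤) :
    ∃ I : Ideal A,
      (∀ (A' B' N' : Type u) [CommRing A'] [CommRing B'] [Algebra A A'] [Algebra B B'] [Algebra A' B'] [Algebra A B']
        [IsScalarTower A B B'] [IsScalarTower A A' B'] [Algebra.IsPushout A B A' B']
        [AddCommGroup N'] [Module B' N'] [Module B N'] [IsScalarTower B B' N'] (φ : N →ₗ[B] N'), IsBaseChange B' φ →
        ((∀ (p' : Ideal A') [p'.IsPrime] (Q : Ideal B') [Q.IsPrime], Q = p'.map (algebraMap A' B') →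
            Nonempty (Module.Basis (Fin p) (Localization.AtPrime Q) (LocalizedModule Q.primeCompl N'))) ↔
          I.map (algebraMap A A') = ⊥)) ∧
      (Module.FinitePresentation B N → I.FG) := by
  haveI := SmoothProjective.projective_of_smooth A B hgi
  have hint := SmoothProjective.geomIntegralFibres_of_smooth hgi
  let φ₀ : (Fin p → B) →ₗ[B] N := Fintype.linearCombination B v
  have hφ₀ : Function.Surjective φ₀ := by
    rw [← LinearMap.range_eq_top, Fintype.range_linearCombination, hv]
  let K := LinearMap.ker φ₀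
  let J : Ideal B := ⨆ i, K.map (LinearMap.proj i)
  obtain ⟨I, hI0, hImin, hIfg⟩ := Groth.RaynaudGruson.exists_content_ideal (A := A) J
  refine ⟨I, fun A' B' N' _ _ _ _ _ _ _ _ _ _ _ _ _ φ hφ => ?_, fun hfp => hIfg ?_⟩
  swap
  · refine Submodule.fg_iSup _ fun i => Submodule.FG.map _ ?_
    exact Module.FinitePresentation.fg_ker φ₀ hφ₀
  -- the coefficients of relations after base change
  let J' := J.map (algebraMap B B')
  let v' : Fin p → N' := fun i => φ (v i)
  have hv' : Submodule.span B' (Set.range v') = ⊤ := by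
    rw [eq_top_iff]
    rintro z -
    induction z using hφ.inductionOn with
    | zero => exact zero_mem _
    | tmul x =>
      have : x ∈ Submodule.span B (Set.range v) := hv ▸ Submodule.mem_top
      have h1 := Submodule.mem_map_of_mem (f := φ) this
      rw [Submodule.map_span, ← Set.range_comp] at h1
      exact Submodule.span_le_restrictScalars B B' _ h1
    | smul r x hx => exact Submodule.smul_mem _ r hx
    | add x y hx hy => exact add_mem hx hy
  have hrel : ∀ k : Fin p → B', ∑ i, k i • v' i = 0 → ∀ i, k i ∈ J' := by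
    intro k hk i
    let e : B' ⊗[B] (Fin p → B) ≃ₗ[B'] (Fin p → B') := TensorProduct.piScalarRight B B' B' (Fin p)
    let z := e.symm k
    have hcomp : ∀ w : B' ⊗[B] (Fin p → B), ∑ j, e w j • v' j = hφ.equiv (φ₀.baseChange B' w) := fun w => by
      induction w with
      | zero => simp
      | add a b ha hb => simp only [map_add, Pi.add_apply, add_smul, Finset.sum_add_distrib, ha, hb]
      | tmul b f =>
        rw [LinearMap.baseChange_tmul, hφ.equiv_tmul]
        simp only [e, TensorProduct.piScalarRight_apply, TensorProduct.piScalarRightHom_tmul, φ₀,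
          Fintype.linearCombination_apply, map_sum, Finset.smul_sum, map_smul, v']
        refine Finset.sum_congr rfl fun j _ => ?_
        rw [smul_assoc, smul_comm]
    have h0 : φ₀.baseChange B' z = 0 := by
      apply hφ.equiv.injective
      rw [← hcomp, map_zero]
      simpa [z] using hk
    obtain ⟨w, hw⟩ := (lTensor_exact B' (LinearMap.exact_subtype_ker_map φ₀) hφ₀ z).mp h0
    have hk' : k = e z := (e.apply_symm_apply k).symm
    rw [hk', ← hw]
    clear hw hk'
    induction w with
    | zero => simp
    | add a b ha hb => rw [map_add, map_add, Pi.add_apply]; exact add_mem ha hb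
    | tmul b f =>
      simp only [LinearMap.lTensor_tmul, e, TensorProduct.piScalarRight_apply, TensorProduct.piScalarRightHom_tmul]
      rw [Algebra.smul_def, mul_comm]
      exact J'.mul_mem_left _ (Ideal.mem_map_of_mem _
        (Submodule.mem_iSup_of_mem i ⟨f, f.2, rfl⟩))
  have hkill : ∀ Q : Ideal B', Q.IsPrime → ∀ x ∈ J, (∀ k : Fin p → B', ∑ i, k i • v' i = 0 → ∀ i, ∃ u ∉ Q, u * k i = 0) →
      ∃ u ∉ Q, u * algebraMap B B' x = 0 := by
    intro Q hQ x hx h
    induction hx using Submodule.iSup_induction' with
    | zero => exact ⟨1, fun h1 => hQ.ne_top ((Ideal.eq_top_iff_one Q).mpr h1), by rw [map_zero, mul_zero]⟩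
    | mem i x hx =>
      obtain ⟨f, hf, rfl⟩ := hx
      refine h (fun j => algebraMap B B' (f j)) ?_ i
      simp only [v', algebraMap_smul, ← map_smul, ← map_sum]
      rw [show ∑ j, f j • v j = 0 from hf, map_zero]
    | add x y _ _ hx hy =>
      obtain ⟨a, ha, hax⟩ := hx
      obtain ⟨b, hb, hby⟩ := hy
      exact ⟨a * b, fun h => (hQ.mem_or_mem h).elim ha hb, by
        rw [map_add, mul_add, mul_right_comm, hax, zero_mul, zero_add, mul_assoc, hby, mul_zero]⟩
  haveI : Algebra.IsPushout A A' B B' := Algebra.IsPushout.symm ‹_›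
  haveI : Module.Projective A' B' :=
    Module.Projective.of_equiv (Algebra.IsPushout.equiv A A' B B').toLinearEquiv
  have hint' := Groth.RaynaudGruson.geomIntegralFibres_baseChange (R := A) (S := B) A' B' hint
  obtain ⟨σ, hσ⟩ := ContentFitting.exists_coord (R := A') (S := B')
  have hJI : (∀ x ∈ J, algebraMap B B' x = 0) ↔ I.map (algebraMap A A') = ⊥ := by
    let e := Algebra.IsPushout.equiv A A' B B'
    have he : ∀ x : B, x ⊗ₜ[A] (1 : A') = 0 ↔ algebraMap B B' x = 0 := fun x => by
      have h1 : e.symm (algebraMap B B' x) = (1 : A') ⊗ₜ[A] x := Algebra.IsPushout.equiv_symm_algebraMap_right ..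
      rw [← LinearEquiv.map_eq_zero_iff (TensorProduct.comm A B A'), TensorProduct.comm_tmul, ← h1,
        map_eq_zero_iff _ e.symm.injective]
    rw [Ideal.map_eq_bot_iff_le_ker]
    refine ⟨fun h => hImin A' fun x hx => (he x).mpr (h x hx), fun h x hx => (he x).mp ?_⟩
    let π : (A ⧸ I) →ₐ[A] A' := Ideal.Quotient.liftₐ I (Algebra.ofId A A') fun a ha => h ha
    have := congrArg (π.toLinearMap.lTensor B) (hI0 x hx)
    rwa [LinearMap.lTensor_tmul, map_zero, AlgHom.toLinearMap_apply, map_one] at this
  rw [← hJI]
  constructor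
  · intro h x hx
    suffices H : ∀ (p' : Ideal A') [p'.IsPrime], ∃ u ∉ p', u • algebraMap B B' x = 0 by
      let Ann : Ideal A' := LinearMap.ker (LinearMap.toSpanSingleton A' B' (algebraMap B B' x))
      by_contra hne
      obtain ⟨M, hM, hle⟩ := Ideal.exists_le_maximal Ann fun h1 => hne (by
        have : (1 : A') ∈ Ann := h1 ▸ Submodule.mem_top
        simpa [Ann] using this)
      obtain ⟨u, hu, hu0⟩ := @H M hM.isPrime
      exact hu (hle (by simpa [Ann] using hu0))
    intro p' _
    haveI := ContentFitting.isPrime_map hσ hint' p'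
    obtain ⟨s, hs, hsx⟩ := hkill _ inferInstance x hx
      ((nonempty_basis_iff v' hv' _).mp (h p' (p'.map (algebraMap A' B')) rfl))
    exact ContentFitting.exists_smul_eq_zero hσ hint' p' hs hsx
  · intro h p' _ Q _ hQ
    refine (nonempty_basis_iff v' hv' Q).mpr fun k hk i => ⟨1, fun h1 => Ideal.IsPrime.ne_top ‹Q.IsPrime›
      ((Ideal.eq_top_iff_one Q).mpr h1), ?_⟩
    have hJ' : J' = ⊥ := (Ideal.map_eq_bot_iff_le_ker _).mpr fun x hx => h x hx
    rw [one_mul, ← Ideal.mem_bot, ← hJ']
    exact hrel k hk i

end Groth.RaynaudGruson.GenericFreeIdeal
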