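import Groth.Agent.RaynaudGruson.ImpurityEtale
import Mathlib

/-!
Purity descends along base changes which are flat at the point.
-/

set_option autoImplicit false
universe u

namespace Groth.RaynaudGruson

open TensorProduct

attribute [local instance] Algebra.TensorProduct.rightAlgebra

variable {A B : Type u} [CommRing A] [CommRing B] [Algebra A B] {N : Type u} [AddCommGroup N]
  [Module B N] [Module A N] [IsScalarTower A B N]

/-- A common field for two points over the same prime. -/
theorem exists_field_point {C A' : Type u} [CommRing C] [Algebra A C] [CommRing A'] [Algebra A A'] (p : Ideal A)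
    [p.IsPrime] (t : Ideal C) [t.IsPrime] [ht : t.LiesOver p] (p' : Ideal A') [p'.IsPrime] [hp : p'.LiesOver p] :
    ∃ (Ω : Type u) (_ : Field Ω) (_ : Algebra A Ω) (ι : C →ₐ[A] Ω) (φ : A' →ₐ[A] Ω),
      RingHom.ker ι = t ∧ RingHom.ker φ = p' := by
  let i1 := Ideal.ResidueField.mapₐ p t (Algebra.ofId A C) ht.over
  let i2 := Ideal.ResidueField.mapₐ p p' (Algebra.ofId A A') hp.over
  letI : Algebra p.ResidueField t.ResidueField := i1.toRingHom.toAlgebra
  letI : Algebra p.ResidueField p'.ResidueField := i2.toRingHom.toAlgebra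
  haveI : IsScalarTower A p.ResidueField t.ResidueField := .of_algebraMap_eq fun x => (i1.commutes x).symm
  haveI : IsScalarTower A p.ResidueField p'.ResidueField := .of_algebraMap_eq fun x => (i2.commutes x).symm
  obtain ⟨m, hm⟩ := Ideal.exists_maximal (t.ResidueField ⊗[p.ResidueField] p'.ResidueField)
  letI : Field ((t.ResidueField ⊗[p.ResidueField] p'.ResidueField) ⧸ m) := Ideal.Quotient.field m
  let Ω := (t.ResidueField ⊗[p.ResidueField] p'.ResidueField) ⧸ m
  let j1 : t.ResidueField →ₐ[A] Ω := ((Ideal.Quotient.mkₐ p.ResidueField m).comp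
    Algebra.TensorProduct.includeLeft).restrictScalars A
  let j2 : p'.ResidueField →ₐ[A] Ω := ((Ideal.Quotient.mkₐ p.ResidueField m).comp
    Algebra.TensorProduct.includeRight).restrictScalars A
  refine ⟨Ω, inferInstance, inferInstance, j1.comp (resMap A t), j2.comp (resMap A p'), ?_, ?_⟩
  · ext x
    rw [RingHom.mem_ker]
    show j1 (algebraMap C t.ResidueField x) = 0 ↔ _
    rw [map_eq_zero_iff j1 j1.toRingHom.injective, Ideal.algebraMap_residueField_eq_zero]
  · ext x
    rw [RingHom.mem_ker]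
    show j2 (algebraMap A' p'.ResidueField x) = 0 ↔ _
    rw [map_eq_zero_iff j2 j2.toRingHom.injective, Ideal.algebraMap_residueField_eq_zero]

/-- The point of `A' ⊗ C` given by a common field. -/
noncomputable def pointTensor {C A' Ω : Type u} [CommRing C] [Algebra A C] [CommRing A'] [Algebra A A'] [Field Ω]
    [Algebra A Ω] (ι : C →ₐ[A] Ω) (φ : A' →ₐ[A] Ω) : Ideal (A' ⊗[A] C) :=
  RingHom.ker (Algebra.TensorProduct.lift φ ι fun _ _ => .all _ _)

instance {C A' Ω : Type u} [CommRing C] [Algebra A C] [CommRing A'] [Algebra A A'] [Field Ω]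
    [Algebra A Ω] (ι : C →ₐ[A] Ω) (φ : A' →ₐ[A] Ω) : (pointTensor ι φ).IsPrime :=
  RingHom.ker_isPrime (Algebra.TensorProduct.lift φ ι fun _ _ => .all _ _)

theorem pointTensor_liesOver {C A' Ω : Type u} [CommRing C] [Algebra A C] [CommRing A'] [Algebra A A'] [Field Ω]
    [Algebra A Ω] (ι : C →ₐ[A] Ω) (φ : A' →ₐ[A] Ω) (p' : Ideal A') (hφ : RingHom.ker φ = p') :
    (pointTensor ι φ).LiesOver p' :=
  ⟨by ext x; simp [← hφ, pointTensor, Algebra.TensorProduct.algebraMap_apply, RingHom.mem_ker]⟩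

/-- A witness over `C` gives one over `A' ⊗ C` at a point over `p'`, if `A'` is flat at `p'`. -/
theorem Wit.baseChange_flatAt {C A' Ω : Type u} [CommRing C] [Algebra A C] [CommRing A'] [Algebra A A'] [Field Ω]
    [Algebra A Ω] (ι : C →ₐ[A] Ω) (φ : A' →ₐ[A] Ω) {t' t : Ideal C} [t'.IsPrime] [t.IsPrime]
    (p' : Ideal A') [p'.IsPrime] [Module.Flat A (Localization.AtPrime p')]
    (hι : RingHom.ker ι = t) (hφ : RingHom.ker φ = p') (h : Wit (A := A) (B := B) N t' t) :
    ∃ (s' : Ideal (A' ⊗[A] C)) (_ : s'.IsPrime), Wit (A := A) (B := B) N s' (pointTensor ι φ) := by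
  let L := Localization.AtPrime p'
  have hu : ∀ a : p'.primeCompl, IsUnit (φ a) := fun a => isUnit_iff_ne_zero.mpr fun h0 => a.2 (hφ ▸ h0)
  let φL : L →ₐ[A] Ω := IsLocalization.liftAlgHom (M := p'.primeCompl) (f := φ) hu
  let Φ : C ⊗[A] L →ₐ[A] Ω := Algebra.TensorProduct.lift ι φL fun _ _ => .all _ _
  haveI : (RingHom.ker Φ).IsPrime := RingHom.ker_isPrime Φ
  haveI : (RingHom.ker Φ).LiesOver t :=
    ⟨by ext x; rw [← hι]; show ι x = 0 ↔ Φ (x ⊗ₜ[A] (1 : L)) = 0; simp [Φ]⟩
  obtain ⟨s', hs'u, _, hs't'⟩ := Ideal.exists_ideal_le_liesOver_of_le (RingHom.ker Φ) h.1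
  let m : A' ⊗[A] C →ₐ[A] C ⊗[A] L := Algebra.TensorProduct.lift
    (Algebra.TensorProduct.includeRight.comp (IsScalarTower.toAlgHom A A' L)) Algebra.TensorProduct.includeLeft
    fun _ _ => .all _ _
  have hΦm : Φ.comp m = Algebra.TensorProduct.lift φ ι fun _ _ => .all _ _ := by
    ext x
    · simp [Φ, m, φL, IsLocalization.lift_eq]
    · simp [Φ, m]
  have hu' : pointTensor ι φ = (RingHom.ker Φ).comap m := by
    ext x
    show Algebra.TensorProduct.lift φ ι _ x = 0 ↔ Φ (m x) = 0
    rw [← hΦm]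
    rfl
  refine ⟨s'.comap m, inferInstance, Wit.map (Algebra.TensorProduct.includeRight : C →ₐ[A] A' ⊗[A] C)
    (hu' ▸ Ideal.comap_mono hs'u) ?_⟩
  have e1 : (s'.comap m).comap (Algebra.TensorProduct.includeRight : C →ₐ[A] A' ⊗[A] C) = t' := by
    rw [hs't'.over]
    ext x
    simp [m]
    rfl
  have e2 : (pointTensor ι φ).comap (Algebra.TensorProduct.includeRight : C →ₐ[A] A' ⊗[A] C) = t := by
    ext x
    simp [← hι, pointTensor, RingHom.mem_ker]
  simpa only [e1, e2] using h

/-- A witness over an `A'`-algebra is an impurity of the base change. -/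
theorem exists_isImpurity_baseChange [Algebra.FiniteType A B] (p : Ideal A) [p.IsPrime]
    {A' B' N' : Type u} [CommRing A'] [CommRing B'] [Algebra A A'] [Algebra B B'] [Algebra A' B'] [Algebra A B']
    [IsScalarTower A B B'] [IsScalarTower A A' B'] [Algebra.IsPushout A B A' B']
    [AddCommGroup N'] [Module B' N'] [Module B N'] [IsScalarTower B B' N'] (f : N →ₗ[B] N') (hf : IsBaseChange B' f)
    (p' : Ideal A') [p'.IsPrime] [p'.LiesOver p]
    {D : Type u} [CommRing D] [Algebra A D] [Algebra A' D] [IsScalarTower A A' D]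
    (s' s : Ideal D) [s'.IsPrime] [s.IsPrime] [s.LiesOver p'] (h : Wit (A := A) (B := B) N s' s) :
    ∃ (P : Ideal (D ⊗[A'] B')) (_ : P.IsPrime), FlatCA.IsImpurity A' B' N' p' D (D ⊗[A'] B') ((D ⊗[A'] B') ⊗[B'] N')
      ((TensorProduct.mk B' (D ⊗[A'] B') N') 1) s' s P := by
  haveI : s.LiesOver p := Ideal.LiesOver.trans s p' p
  letI : Algebra B (D ⊗[A'] B') := Algebra.compHom _ (algebraMap B B')
  haveI : IsScalarTower B B' (D ⊗[A'] B') := IsScalarTower.of_algebraMap_eq fun _ => rfl
  haveI : IsScalarTower A B' (D ⊗[A'] B') := IsScalarTower.of_algebraMap_eq fun x => by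
    rw [Algebra.TensorProduct.algebraMap_apply, IsScalarTower.algebraMap_apply A A' B',
      ← IsScalarTower.algebraMap_apply A' B' (D ⊗[A'] B'), Algebra.TensorProduct.algebraMap_apply,
      ← IsScalarTower.algebraMap_apply A A' D]
  haveI : IsScalarTower A B (D ⊗[A'] B') := IsScalarTower.of_algebraMap_eq fun x => by
    rw [IsScalarTower.algebraMap_apply A B' (D ⊗[A'] B'), IsScalarTower.algebraMap_apply A B B']
    rfl
  haveI : IsScalarTower B B' ((D ⊗[A'] B') ⊗[B'] N') := IsScalarTower.of_algebraMap_smul fun x y => by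
    rw [← algebraMap_smul (D ⊗[A'] B') (algebraMap B B' x) y, ← IsScalarTower.algebraMap_apply, algebraMap_smul]
  haveI : Algebra.IsPushout A A' B B' := Algebra.IsPushout.symm inferInstance
  haveI : Algebra.IsPushout A' D B' (D ⊗[A'] B') := inferInstance
  have hpush' : Algebra.IsPushout A B D (D ⊗[A'] B') :=
    Algebra.IsPushout.symm ((Algebra.IsPushout.comp_iff A A' B B' (T := D) (T' := D ⊗[A'] B')).mpr inferInstance)
  haveI := hpush'
  have hbc : IsBaseChange (D ⊗[A'] B')
      (((TensorProduct.mk B' (D ⊗[A'] B') N') 1).restrictScalars B ∘ₗ f) :=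
    hf.comp (TensorProduct.isBaseChange B' N' _)
  obtain ⟨P, hP, -, -, h3, -, h5, h6, h7⟩ := exists_isImpurity_of_wit (A := A) (B := B) (N := N) D (D ⊗[A'] B')
    ((D ⊗[A'] B') ⊗[B'] N') _ hbc p s' s inferInstance h
  exact ⟨P, hP, Algebra.IsPushout.symm (inferInstance : Algebra.IsPushout A' D B' (D ⊗[A'] B')),
    TensorProduct.isBaseChange B' N' _, h3, inferInstance, h5, h6, h7⟩

/-- Purity and universal purity descend along a base change flat at the point. -/
theorem pure_of_flatAt [Algebra.FiniteType A B] (p : Ideal A) [p.IsPrime]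
    {A' B' N' : Type u} [CommRing A'] [CommRing B'] [Algebra A A'] [Algebra B B'] [Algebra A' B'] [Algebra A B']
    [IsScalarTower A B B'] [IsScalarTower A A' B'] [Algebra.IsPushout A B A' B']
    [AddCommGroup N'] [Module B' N'] [Module B N'] [IsScalarTower B B' N'] (f : N →ₗ[B] N') (hf : IsBaseChange B' f)
    (p' : Ideal A') [p'.IsPrime] [hp : p'.LiesOver p] [Module.Flat A (Localization.AtPrime p')] :
    (FlatCA.IsPureAlong A' B' N' p' → FlatCA.IsPureAlong A B N p) ∧
      (FlatCA.IsUnivPureAlong A' B' N' p' → FlatCA.IsUnivPureAlong A B N p) := by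
  refine ⟨fun hpure A'' B'' N'' _ _ _ _ _ _ _ _ _ _ _ _ _ _ f'' t' t _ _ P _ hnhd himp => ?_,
    fun hpure A'' B'' N'' _ _ _ _ _ _ _ _ _ _ _ _ _ _ f'' t' t _ _ P _ himp => ?_⟩ <;>
  haveI : Algebra.IsPushout A B A'' B'' := himp.1 <;>
  have hw := wit_of_isImpurity (A := A) (B := B) (N := N) A'' B'' N'' f'' p t' t P himp
  · obtain ⟨het, htp, hbij⟩ := hnhd
    haveI := htp
    let e := AlgEquiv.ofBijective _ hbij
    let φ : A' →ₐ[A] p'.ResidueField := resMap A p'
    let i2 := Ideal.ResidueField.mapₐ p p' (Algebra.ofId A A') hp.over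
    let ι : A'' →ₐ[A] p'.ResidueField := i2.comp (e.symm.toAlgHom.comp (resMap A t))
    have hφ : RingHom.ker φ = p' := by
      ext x; exact Ideal.algebraMap_residueField_eq_zero
    have hι : RingHom.ker ι = t := by
      ext x
      rw [RingHom.mem_ker]
      show i2 (e.symm (algebraMap A'' t.ResidueField x)) = 0 ↔ _
      rw [map_eq_zero_iff i2 i2.toRingHom.injective, map_eq_zero_iff _ e.symm.injective,
        Ideal.algebraMap_residueField_eq_zero]
    obtain ⟨s', _, hws⟩ := Wit.baseChange_flatAt ι φ p' hι hφ hw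
    set u := pointTensor ι φ with hudef
    haveI hup : u.LiesOver p' := pointTensor_liesOver ι φ p' hφ
    obtain ⟨Q, _, hQ⟩ := exists_isImpurity_baseChange p f hf p' s' u hws
    refine hpure _ _ _ _ s' u Q ⟨inferInstance, hup, RingHom.injective _, fun c => ?_⟩ hQ
    let E : u.ResidueField →+* p'.ResidueField := Ideal.ResidueField.lift u
      (Algebra.TensorProduct.lift φ ι fun _ _ => .all _ _).toRingHom (fun x hx => hx)
      (fun x hx => isUnit_iff_ne_zero.mpr fun h0 => hx h0)
    have hE : ∀ r, E (algebraMap (A' ⊗[A] A'') u.ResidueField r) = Algebra.TensorProduct.lift φ ι (fun _ _ => .all _ _) r :=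
      fun r => Ideal.ResidueField.lift_algebraMap ..
    have hcomp : E.comp (Ideal.ResidueField.mapₐ p' u (Algebra.ofId A' (A' ⊗[A] A'')) hup.over).toRingHom =
        RingHom.id _ := by
      refine Ideal.ResidueField.ringHom_ext (RingHom.ext fun r => ?_)
      simp only [RingHom.comp_apply, RingHom.id_apply]
      show E (Ideal.ResidueField.mapₐ p' u (Algebra.ofId A' (A' ⊗[A] A'')) hup.over (algebraMap A' p'.ResidueField r)) = _
      rw [AlgHom.commutes, IsScalarTower.algebraMap_apply A' (A' ⊗[A] A'') u.ResidueField, hE]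
      simp [φ, resMap, Algebra.TensorProduct.algebraMap_apply]
    exact ⟨E c, E.injective (RingHom.congr_fun hcomp (E c))⟩
  · haveI : t.LiesOver p := himp.2.2.2.1
    obtain ⟨Ω, _, _, ι, φ, hι, hφ⟩ := exists_field_point p t p'
    obtain ⟨s', _, hws⟩ := Wit.baseChange_flatAt ι φ p' hι hφ hw
    haveI := pointTensor_liesOver ι φ p' hφ
    obtain ⟨Q, _, hQ⟩ := exists_isImpurity_baseChange p f hf p' s' (pointTensor ι φ) hws
    exact hpure _ _ _ _ s' (pointTensor ι φ) Q hQ

end Groth.RaynaudGruson
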