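import Groth.Agent.RaynaudGruson.ImpurityHensel
import Mathlib

/-!
Quasi-finite impurities give impurities over elementary étale neighbourhoods.
-/

set_option autoImplicit false
universe u

namespace Groth.RaynaudGruson

open TensorProduct

attribute [local instance] Algebra.TensorProduct.rightAlgebra

variable {A B : Type u} [CommRing A] [CommRing B] [Algebra A B] {N : Type u} [AddCommGroup N]
  [Module B N] [Module A N] [IsScalarTower A B N]

/-- A witness gives an impurity on the standard models. -/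
theorem hasImpurity_of_wit [Algebra.FiniteType A B] (p : Ideal A) [p.IsPrime]
    {Q : ∀ (A' : Type u) [CommRing A'] [Algebra A A'], Ideal A' → Prop} {D : Type u} [CommRing D] [Algebra A D]
    (s' s : Ideal D) [s'.IsPrime] [s.IsPrime] (hs : s.LiesOver p) (h : Wit (A := A) (B := B) N s' s) (hQ : Q D s) :
    FlatCA.HasImpurity A B N p Q := by
  haveI : Algebra.IsPushout A B D (D ⊗[A] B) :=
    Algebra.IsPushout.symm (inferInstance : Algebra.IsPushout A D B (D ⊗[A] B))
  obtain ⟨P, _, hP⟩ := exists_isImpurity_of_wit (A := A) (B := B) (N := N) D (D ⊗[A] B) ((D ⊗[A] B) ⊗[B] N)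
    ((TensorProduct.mk B (D ⊗[A] B) N) 1) (TensorProduct.isBaseChange B N _) p s' s hs h
  exact ⟨D, D ⊗[A] B, (D ⊗[A] B) ⊗[B] N, inferInstance, inferInstance, inferInstance, inferInstance, inferInstance,
    inferInstance, inferInstance, inferInstance, inferInstance, inferInstance, inferInstance, inferInstance,
    inferInstance, inferInstance, _, s', s, inferInstance, inferInstance, P, inferInstance, hP, hQ⟩

omit [Algebra A B] in
/-- Quasi-finiteness at a point composes with a quasi-finite algebra. -/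
theorem quasiFiniteAt_trans {A' A'' : Type u} [CommRing A'] [Algebra A A'] [CommRing A''] [Algebra A A'']
    [Algebra A' A''] [IsScalarTower A A' A''] [Algebra.QuasiFinite A' A''] (p' : Ideal A') [p'.IsPrime]
    (t : Ideal A'') [t.IsPrime] [t.LiesOver p'] [Algebra.QuasiFiniteAt A p'] : Algebra.QuasiFiniteAt A t := by
  letI := Localization.AtPrime.algebraOfLiesOver p' t
  haveI : Algebra.QuasiFinite A' (Localization.AtPrime t) := Algebra.QuasiFinite.of_isLocalization t.primeCompl
  haveI : Algebra.QuasiFinite (Localization.AtPrime p') (Localization.AtPrime t) :=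
    Algebra.QuasiFinite.of_restrictScalars A' _ _
  exact Algebra.QuasiFinite.trans A (Localization.AtPrime p') (Localization.AtPrime t)

/-- An impurity gives a witness on its base change ring. -/
theorem exists_wit_of_hasImpurity [Algebra.FiniteType A B] (p : Ideal A) [p.IsPrime]
    {Q : ∀ (A' : Type u) [CommRing A'] [Algebra A A'], Ideal A' → Prop} (h : FlatCA.HasImpurity A B N p Q) :
    ∃ (A' : Type u) (_ : CommRing A') (_ : Algebra A A') (t' t : Ideal A') (_ : t'.IsPrime) (_ : t.IsPrime),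
      t.LiesOver p ∧ Q A' t ∧ Wit (A := A) (B := B) N t' t := by
  obtain ⟨A', B', N', _, _, _, _, _, _, _, _, _, _, _, _, _, _, f, t', t, _, _, P, _, himp, hQ⟩ := h
  haveI : Algebra.IsPushout A B A' B' := himp.1
  exact ⟨A', inferInstance, inferInstance, t', t, inferInstance, inferInstance, himp.2.2.2.1, hQ,
    wit_of_isImpurity (A := A) (B := B) (N := N) A' B' N' f p t' t P himp⟩

/-- Every witness comes from one over a polynomial ring, at a point closed in its fibre. -/
theorem Wit.exists_fp_closed {A' : Type u} [CommRing A'] [Algebra A A'] {t' t : Ideal A'} [t'.IsPrime] [t.IsPrime]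
    (p : Ideal A) [p.IsPrime] [ht : t.LiesOver p] (h : Wit (A := A) (B := B) N t' t) :
    ∃ (n : ℕ) (s' s : Ideal (MvPolynomial (Fin n) A)) (_ : s'.IsPrime) (_ : s.IsPrime), s.LiesOver p ∧
      Wit (A := A) (B := B) N s' s ∧ (FlatCA.fiberIdeal p s).IsMaximal := by
  obtain ⟨C, hC, hwC⟩ := h.exists_finiteType
  obtain ⟨n, f, hf⟩ := Algebra.FiniteType.iff_quotient_mvPolynomial''.mp ((Subalgebra.fg_iff_finiteType C).mp hC)
  obtain ⟨htt, a, π, ⟨hat, hcong⟩, hz⟩ := hwC.comap_of_surjective f hf
  haveI : ((t.comap C.val.toRingHom).comap f).LiesOver p := ⟨Ideal.ext fun r => by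
    show r ∈ p ↔ (C.val (f (algebraMap A _ r))) ∈ t
    rw [AlgHom.commutes, AlgHom.commutes, ht.over]
    rfl⟩
  obtain ⟨u, hu, hup, htu, hau, hmax⟩ := exists_max_in_fibre p ((t.comap C.val.toRingHom).comap f) hat
  refine ⟨n, _, u, inferInstance, hu, hup, ⟨htt.trans htu, a, π, ⟨hau, Ideal.map_mono htu hcong⟩, hz⟩, ?_⟩
  let q := PrimeSpectrum.preimageEquivFiber A (MvPolynomial (Fin n) A) ⟨p, inferInstance⟩
    ⟨⟨u, hu⟩, PrimeSpectrum.ext hup.over.symm⟩
  have hqu : q.asIdeal.comap (algebraMap (MvPolynomial (Fin n) A) (p.Fiber (MvPolynomial (Fin n) A))) = u :=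
    congrArg (fun x => x.1.asIdeal) ((PrimeSpectrum.preimageEquivFiber A (MvPolynomial (Fin n) A) ⟨p, inferInstance⟩).symm_apply_apply
      ⟨⟨u, hu⟩, PrimeSpectrum.ext hup.over.symm⟩)
  have hfib : FlatCA.fiberIdeal p u = q.asIdeal := by rw [← hqu, fiberIdeal_comap]
  obtain ⟨m, hm, hle⟩ := Ideal.exists_le_maximal _ q.isPrime.ne_top
  have h1 := hmax (m.comap (algebraMap _ _)) (hm.isPrime.comap _) (hqu ▸ Ideal.comap_mono hle) (by
    have := congrArg PrimeSpectrum.asIdeal ((PrimeSpectrum.preimageEquivFiber A (MvPolynomial (Fin n) A)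
      ⟨p, inferInstance⟩).symm ⟨m, hm.isPrime⟩).2
    exact this)
  rwa [← h1, fiberIdeal_comap]

/-- A witness over a finite extension with a single point over `pD` descends. -/
theorem Wit.of_finite {D C : Type u} [CommRing D] [Algebra A D] [CommRing C] [Algebra A C] [Algebra D C]
    [IsScalarTower A D C] [Module.Finite D C] {s' u : Ideal C} [s'.IsPrime] [u.IsPrime]
    (huniq : ∀ v : Ideal C, v.IsPrime → v.comap (algebraMap D C) = u.comap (algebraMap D C) → v = u)
    (h : Wit (A := A) (B := B) N s' u) :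
    Wit (A := A) (B := B) N (s'.comap (IsScalarTower.toAlgHom A D C)) (u.comap (IsScalarTower.toAlgHom A D C)) := by
  classical
  obtain ⟨hsu, a, π, ⟨hau, hcong⟩, z, hz, hπz⟩ := h
  let γ := IsScalarTower.toAlgHom A D C
  let G := Algebra.TensorProduct.map γ (AlgHom.id A B)
  letI : Algebra (D ⊗[A] B) (C ⊗[A] B) := G.toRingHom.toAlgebra
  haveI : Algebra.IsIntegral (D ⊗[A] B) (C ⊗[A] B) := ⟨fun w => by
    induction w with
    | zero => exact isIntegral_zero
    | add x y hx hy => exact hx.add hy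
    | tmul c b =>
      have h1 : c ⊗ₜ[A] b = (c ⊗ₜ (1 : B)) * ((1 : C) ⊗ₜ b) := by simp
      rw [h1]
      refine IsIntegral.mul ?_ ?_
      · obtain ⟨f, hfm, hf⟩ := Algebra.IsIntegral.isIntegral (R := D) c
        refine ⟨f.map (algebraMap D (D ⊗[A] B)), hfm.map _, ?_⟩
        rw [Polynomial.eval₂_map, show (algebraMap (D ⊗[A] B) (C ⊗[A] B)).comp (algebraMap D (D ⊗[A] B)) =
          (algebraMap C (C ⊗[A] B)).comp (algebraMap D C) from RingHom.ext fun d => by
            simp [RingHom.algebraMap_toAlgebra, G, γ, Algebra.TensorProduct.algebraMap_apply]]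
        have h2 := congrArg (algebraMap C (C ⊗[A] B)) hf
        rw [Polynomial.hom_eval₂, map_zero] at h2
        exact h2
      · have : ((1 : C) ⊗ₜ[A] b) = algebraMap (D ⊗[A] B) (C ⊗[A] B) ((1 : D) ⊗ₜ b) := by
          simp [RingHom.algebraMap_toAlgebra, G]
        rw [this]
        exact isIntegral_algebraMap⟩
  let J := (Ideal.span {π}).comap (algebraMap (D ⊗[A] B) (C ⊗[A] B))
  let M := (u.comap γ).map (algebraMap D (D ⊗[A] B))
  obtain ⟨d, hd, hdJ⟩ : ∃ d, d ∉ u.comap γ ∧ algebraMap D (D ⊗[A] B) d ∈ J ⊔ M := by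
    by_contra! hcon
    obtain ⟨Q, hQ, hle, hdis⟩ := Ideal.exists_le_prime_disjoint (J ⊔ M)
      (Algebra.algebraMapSubmonoid (D ⊗[A] B) (u.comap γ).primeCompl) (Set.disjoint_left.mpr (by
        rintro _ hx ⟨d, hd, rfl⟩; exact hcon d hd hx))
    obtain ⟨Q', hQ'π, hQ', hQ'Q⟩ := Ideal.exists_ideal_over_prime_of_isIntegral Q (Ideal.span {π})
      (le_sup_left.trans hle)
    have hQD : Q.comap (algebraMap D (D ⊗[A] B)) = u.comap γ := le_antisymm (fun x hx => by
      by_contra hxu
      exact Set.disjoint_left.mp hdis hx ⟨x, hxu, rfl⟩) (Ideal.map_le_iff_le_comap.mp (le_sup_right.trans hle))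
    have hv := huniq (Q'.comap (algebraMap C (C ⊗[A] B))) (hQ'.comap _) (Ideal.ext fun x => by
      have h1 : x ∈ Q.comap (algebraMap D (D ⊗[A] B)) ↔ x ∈ u.comap γ := by rw [hQD]
      have h2 : algebraMap C (C ⊗[A] B) (algebraMap D C x) =
          algebraMap (D ⊗[A] B) (C ⊗[A] B) (algebraMap D (D ⊗[A] B) x) := by
        simp [RingHom.algebraMap_toAlgebra, G, γ, Algebra.TensorProduct.algebraMap_apply]
      rw [← hQ'Q] at h1
      rw [Ideal.mem_comap, Ideal.mem_comap, h2]
      exact h1)
    have hle' : u.map (algebraMap C (C ⊗[A] B)) ≤ Q' := Ideal.map_le_iff_le_comap.mpr hv.ge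
    have h3 := add_mem (hle' hcong) (hQ'π (Ideal.mem_span_singleton_self π))
    rw [sub_add_cancel] at h3
    exact hau (hv.le (show algebraMap C (C ⊗[A] B) a ∈ Q' by simpa [Algebra.TensorProduct.algebraMap_apply] using h3))
  obtain ⟨π₀, hπ₀, τ, hτ, hsum⟩ := Submodule.mem_sup.mp hdJ
  refine ⟨Ideal.comap_mono hsu, d, π₀, ⟨hd, ?_⟩, exists_zeroDivisor_comap γ _ s' rfl π₀ z hz ?_⟩
  · rw [show d ⊗ₜ[A] (1 : B) = algebraMap D (D ⊗[A] B) d from rfl, ← hsum, add_sub_cancel_left]
    exact hτ
  · obtain ⟨c, hc⟩ := Ideal.mem_span_singleton.mp (Ideal.mem_comap.mp hπ₀)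
    rw [show Algebra.TensorProduct.map γ (AlgHom.id A B) π₀ = c * π by rw [mul_comm]; exact hc, map_mul,
      Module.End.mul_apply, hπz, map_zero]

/-- A quasi-finite witness gives one over an elementary étale neighbourhood. -/
theorem Wit.exists_etaleNhd_of_quasiFinite {A' : Type u} [CommRing A'] [Algebra A A'] [Algebra.FiniteType A A']
    {t' t : Ideal A'} [t'.IsPrime] [t.IsPrime] (p : Ideal A) [p.IsPrime] [t.LiesOver p]
    [Algebra.QuasiFiniteAt A t] (h : Wit (A := A) (B := B) N t' t) :
    ∃ (D : Type u) (_ : CommRing D) (_ : Algebra A D) (s' s : Ideal D) (_ : s'.IsPrime) (_ : s.IsPrime),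
      FlatCA.IsEtaleNhd A D p s ∧ Wit (A := A) (B := B) N s' s := by
  obtain ⟨R', _, _, _, P, _, hPp, e, -, P', _, hP'P, hP'q, heP', hbij, hfin, huniq⟩ :=
    Algebra.exists_etale_isIdempotentElem_forall_liesOver_eq (R := A) (S := A') p t
  let C := Localization.Away e
  haveI : Module.Flat A' (R' ⊗[A] A') := by
    haveI : Module.Flat A R' := inferInstance
    exact Module.Flat.of_linearEquiv
      ({ Algebra.TensorProduct.comm A R' A' with
        map_smul' := fun a w => by
          induction w with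
          | zero => simp
          | add x y hx hy => simp_all [smul_add]
          | tmul r x => simp [Algebra.smul_def, RingHom.algebraMap_toAlgebra] } :
        (R' ⊗[A] A') ≃ₗ[A'] A' ⊗[A] R')
  haveI : Module.Flat (R' ⊗[A] A') C := IsLocalization.flat C (Submonoid.powers e)
  haveI : Module.Flat A' C := Module.Flat.trans A' (R' ⊗[A] A') C
  have hdis : Disjoint (Submonoid.powers e : Set (R' ⊗[A] A')) P' :=
    (Ideal.disjoint_powers_iff_notMem_of_isPrime (y := e)).mpr heP'
  let u := P'.map (algebraMap (R' ⊗[A] A') C)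
  haveI : u.IsPrime := IsLocalization.isPrime_of_isPrime_disjoint (Submonoid.powers e) _ _ ‹_› hdis
  have huc : u.comap (algebraMap (R' ⊗[A] A') C) = P' :=
    IsLocalization.comap_map_of_isPrime_disjoint (Submonoid.powers e) C ‹_› hdis
  haveI : u.LiesOver t := ⟨by
    rw [Ideal.under, IsScalarTower.algebraMap_eq A' (R' ⊗[A] A') C, ← Ideal.comap_comap, huc]
    exact hP'q.symm⟩
  obtain ⟨s', hs'u, _, hs't'⟩ := Ideal.exists_ideal_le_liesOver_of_le u h.1
  let δ : A' →ₐ[A] C := IsScalarTower.toAlgHom A A' C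
  have hwC : Wit (A := A) (B := B) N s' u := by
    refine Wit.map δ hs'u ?_
    have e1 : s'.comap δ = t' := hs't'.over.symm
    have e2 : u.comap δ = t := (Ideal.over_def u t).symm
    simpa only [e1, e2] using h
  have huP : u.comap (algebraMap R' C) = P := by
    rw [IsScalarTower.algebraMap_eq R' (R' ⊗[A] A') C, ← Ideal.comap_comap, huc]
    exact hP'P.over.symm
  have hD := Wit.of_finite (D := R') (C := C) (fun v hv hvu => by
    have h1 : e ∉ v.comap (algebraMap (R' ⊗[A] A') C) := fun he =>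
      hv.ne_top (Ideal.eq_top_of_isUnit_mem _ he (IsLocalization.Away.algebraMap_isUnit e))
    have h2 := huniq _ (hv.comap _) ⟨by
      rw [Ideal.under, Ideal.comap_comap, ← IsScalarTower.algebraMap_eq, hvu, huP]⟩ h1
    rw [← IsLocalization.map_comap (Submonoid.powers e) C v, Ideal.under, h2]) hwC
  have hus : u.comap (IsScalarTower.toAlgHom A R' C) = P := huP
  refine ⟨R', inferInstance, inferInstance, s'.comap (IsScalarTower.toAlgHom A R' C), P, inferInstance, inferInstance,
    ⟨inferInstance, hPp, hbij⟩, ?_⟩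
  simpa only [hus] using hD

end Groth.RaynaudGruson
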