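import Groth.Agent.RaynaudGruson.ImpurityQuasiFinite
import Groth.Agent.Hensel1.Universal
import Mathlib

/-!
Impurities over a henselization spread out to étale neighbourhoods.
-/

set_option autoImplicit false
universe u

namespace Groth.RaynaudGruson

open TensorProduct IsLocalRing Groth.Hensel1

attribute [local instance] Algebra.TensorProduct.rightAlgebra

variable {A B : Type u} [CommRing A] [CommRing B] [Algebra A B] {N : Type u} [AddCommGroup N]
  [Module B N] [Module A N] [IsScalarTower A B N]

theorem resMap_comp {A₀ A' : Type u} [CommRing A₀] [Algebra A A₀] [CommRing A'] [Algebra A A']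
    (γ : A₀ →ₐ[A] A') (t₀ : Ideal A₀) (t' : Ideal A') [t₀.IsPrime] [t'.IsPrime] (ht : t₀ = t'.comap γ) :
    (Ideal.ResidueField.mapₐ t₀ t' γ ht).comp (resMap A t₀) = (resMap A t').comp γ := AlgHom.ext fun c => by
  show Ideal.ResidueField.mapₐ t₀ t' γ ht (algebraMap A₀ t₀.ResidueField c) = algebraMap A' t'.ResidueField (γ c)
  simp

/-- A zero divisor on `κ(t')` is one on the residue field below. -/
theorem exists_zeroDivisor_comap {A₀ A' : Type u} [CommRing A₀] [Algebra A A₀] [CommRing A'] [Algebra A A']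
    (γ : A₀ →ₐ[A] A') (t₀ : Ideal A₀) (t' : Ideal A') [t₀.IsPrime] [t'.IsPrime] (ht : t₀ = t'.comap γ)
    (π₀ : A₀ ⊗[A] B) (z : t'.ResidueField ⊗[A] N) (hz : z ≠ 0)
    (hπz : act N (resMap A t') (Algebra.TensorProduct.map γ (AlgHom.id A B) π₀) z = 0) :
    ∃ y : t₀.ResidueField ⊗[A] N, y ≠ 0 ∧ act N (resMap A t₀) π₀ y = 0 := by
  let ψ := Ideal.ResidueField.mapₐ t₀ t' γ ht
  letI : Algebra t₀.ResidueField t'.ResidueField := ψ.toRingHom.toAlgebra
  haveI : IsScalarTower A t₀.ResidueField t'.ResidueField := .of_algebraMap_eq fun c => (ψ.commutes c).symm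
  by_contra hcon
  push Not at hcon
  have hinj : Function.Injective (act N (resMap A t₀) π₀) :=
    (injective_iff_map_eq_zero _).mpr fun y hy => by_contra fun hy0 => hcon y hy0 hy
  have := (lTensor_act_injective_iff (K := t'.ResidueField) (resMap A t₀) π₀).mp
    (Module.Flat.lTensor_preserves_injective_linearMap _ hinj)
  rw [show (IsScalarTower.toAlgHom A t₀.ResidueField t'.ResidueField).comp (resMap A t₀) =
    (resMap A t').comp γ from resMap_comp γ t₀ t' ht, ← act_map] at this
  exact hz ((injective_iff_map_eq_zero _).mp this z hπz)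

theorem map_tensor_le {A₀ A' : Type u} [CommRing A₀] [Algebra A A₀] [CommRing A'] [Algebra A A']
    (γ : A₀ →ₐ[A] A') (t : Ideal A') :
    ((t.comap γ).map (algebraMap A₀ (A₀ ⊗[A] B))).map (Algebra.TensorProduct.map γ (AlgHom.id A B)).toRingHom ≤
      t.map (algebraMap A' (A' ⊗[A] B)) := by
  rw [Ideal.map_map, Ideal.map_le_iff_le_comap]
  intro r hr
  rw [Ideal.mem_comap]
  have := Ideal.mem_map_of_mem (algebraMap A' (A' ⊗[A] B)) (Ideal.mem_comap.mp hr)
  simpa [Algebra.TensorProduct.algebraMap_apply] using this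

/-- Witnesses move along maps of base rings. -/
theorem Wit.map {A₀ A' : Type u} [CommRing A₀] [Algebra A A₀] [CommRing A'] [Algebra A A'] (γ : A₀ →ₐ[A] A')
    {t' t : Ideal A'} [t'.IsPrime] [t.IsPrime] (htt : t' ≤ t)
    (h : Wit (A := A) (B := B) N (t'.comap γ) (t.comap γ)) : Wit (A := A) (B := B) N t' t := by
  obtain ⟨-, a, π, ⟨hat, hcong⟩, z, hz, hπz⟩ := h
  refine ⟨htt, γ a, Algebra.TensorProduct.map γ (AlgHom.id A B) π, ⟨fun h => hat h, ?_⟩, ?_⟩
  · simpa using map_tensor_le γ t (Ideal.mem_map_of_mem _ hcong)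
  let ψ := Ideal.ResidueField.mapₐ (t'.comap γ) t' γ rfl
  have hψ : Function.Injective ψ := ψ.toRingHom.injective
  let b := Module.Free.chooseBasis (t'.comap γ).ResidueField ((t'.comap γ).ResidueField ⊗[A] N)
  refine ⟨ψ.toLinearMap.rTensor N z, ?_, ?_⟩
  · obtain ⟨i, hi⟩ : ∃ i, b.repr z i ≠ 0 := by
      by_contra! hall
      exact hz (b.repr.injective (Finsupp.ext fun i => by simpa using hall i))
    exact rTensor_ne_zero_of_coord ψ b z i ((map_ne_zero_iff _ hψ).mpr hi)
  · have h1 := act_natural (N := N) (resMap A (t'.comap γ)) ψ π z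
    rw [hπz, map_zero, resMap_comp γ _ t' rfl, ← act_map] at h1
    exact h1.symm

/-- Witnesses descend along surjections. -/
theorem Wit.comap_of_surjective {A₀ A' : Type u} [CommRing A₀] [Algebra A A₀] [CommRing A'] [Algebra A A']
    (γ : A₀ →ₐ[A] A') (hγ : Function.Surjective γ) {t' t : Ideal A'} [t'.IsPrime] [t.IsPrime]
    (h : Wit (A := A) (B := B) N t' t) : Wit (A := A) (B := B) N (t'.comap γ) (t.comap γ) := by
  obtain ⟨htt, a, π, ⟨hat, hcong⟩, z, hz, hπz⟩ := h
  obtain ⟨a, rfl⟩ := hγ a
  let G := Algebra.TensorProduct.map γ (AlgHom.id A B)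
  have hG : Function.Surjective G := Algebra.TensorProduct.map_surjective γ (AlgHom.id A B) hγ Function.surjective_id
  obtain ⟨π, rfl⟩ := hG π
  refine ⟨Ideal.comap_mono htt, a, π, ⟨fun h => hat h, ?_⟩, exists_zeroDivisor_comap γ _ t' rfl π z hz hπz⟩
  have hle : t.map (algebraMap A' (A' ⊗[A] B)) ≤ ((t.comap γ).map (algebraMap A₀ (A₀ ⊗[A] B))).map G.toRingHom := by
    rw [Ideal.map_le_iff_le_comap]
    intro r hr
    obtain ⟨r, rfl⟩ := hγ r
    rw [Ideal.mem_comap]
    have := Ideal.mem_map_of_mem G.toRingHom (Ideal.mem_map_of_mem (algebraMap A₀ (A₀ ⊗[A] B))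
      (show r ∈ t.comap γ from hr))
    simpa [G, Algebra.TensorProduct.algebraMap_apply] using this
  have hmem : G (a ⊗ₜ (1 : B) - π) ∈ ((t.comap γ).map (algebraMap A₀ (A₀ ⊗[A] B))).map G.toRingHom :=
    hle (by simpa [G] using hcong)
  obtain ⟨w, hw, hwG⟩ := (Ideal.mem_map_iff_of_surjective G.toRingHom hG).mp hmem
  have hker : a ⊗ₜ (1 : B) - π - w ∈ RingHom.ker G := by
    rw [RingHom.mem_ker, map_sub, sub_eq_zero]
    exact hwG.symm
  rw [Algebra.TensorProduct.rTensor_ker γ hγ] at hker
  have hkle : (RingHom.ker γ).map (Algebra.TensorProduct.includeLeft (R := A) (S := A) (A := A₀) (B := B)) ≤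
      (t.comap γ).map (algebraMap A₀ (A₀ ⊗[A] B)) := by
    rw [Ideal.map_le_iff_le_comap]
    intro r hr
    exact Ideal.mem_map_of_mem (algebraMap A₀ (A₀ ⊗[A] B))
      (show γ r ∈ t by rw [(RingHom.mem_ker.mp hr : γ r = 0)]; exact t.zero_mem)
  simpa using add_mem (hkle hker) hw

/-- An impurity over a henselization gives one over an elementary étale neighbourhood. -/
theorem exists_wit_etaleNhd [Algebra.FiniteType A B] (p : Ideal A) [p.IsPrime] {A' : Type u} [CommRing A'] [IsLocalRing A']
    [Algebra A A'] [Algebra (Localization.AtPrime p) A'] [IsScalarTower A (Localization.AtPrime p) A']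
    [IsLocalHom (algebraMap (Localization.AtPrime p) A')]
    (hA' : Hensel.IsHenselization (Localization.AtPrime p) A') (t' : Ideal A') [t'.IsPrime]
    (h : Wit (A := A) (B := B) N t' (maximalIdeal A')) :
    ∃ (D : Type u) (_ : CommRing D) (_ : Algebra A D) (s' s : Ideal D) (_ : s'.IsPrime) (_ : s.IsPrime),
      FlatCA.IsEtaleNhd A D p s ∧ Wit (A := A) (B := B) N s' s := by
  classical
  let H := Hens A p.ResidueField
  haveI := hA'.henselian
  have hu : ∀ a : p.primeCompl, IsUnit (algebraMap A H a) := fun a => by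
    rw [Hens.isUnit_iff, AlgHom.commutes, Ne, Ideal.algebraMap_residueField_eq_zero]
    exact a.2
  let f : Localization.AtPrime p →+* H := IsLocalization.lift hu
  have hf : ∀ z, Hens.pt (f z) = residue (Localization.AtPrime p) z := fun z => by
    have : (Hens.pt (R := A) (Ω := p.ResidueField)).toRingHom.comp f = residue (Localization.AtPrime p) := by
      refine IsLocalization.ringHom_ext p.primeCompl (RingHom.ext fun a => ?_)
      show Hens.pt (f (algebraMap A _ a)) = _
      rw [IsLocalization.lift_eq, AlgHom.commutes]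
      rfl
    exact RingHom.congr_fun this z
  have hfloc : IsLocalHom f := ⟨fun z hz => by
    rw [Hens.isUnit_iff, hf] at hz
    exact (residue_ne_zero_iff_isUnit z).mp hz⟩
  obtain ⟨g, hg, -⟩ := hA'.universal H f hfloc
  obtain ⟨back, hback, -⟩ := Hens.existsUnique_lift (R := A) (T := A') (Ω := p.ResidueField)
    (ResidueField.map (algebraMap (Localization.AtPrime p) A')) (fun r => by
      show ResidueField.map _ (residue _ (algebraMap A (Localization.AtPrime p) r)) = _
      rw [ResidueField.map_residue, ← IsScalarTower.algebraMap_apply])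
  have hid : back.toRingHom.comp g = RingHom.id A' := by
    refine (hA'.universal A' (algebraMap _ A') inferInstance).unique ?_ (RingHom.id_comp _)
    refine IsLocalization.ringHom_ext p.primeCompl (RingHom.ext fun a => ?_)
    have := RingHom.congr_fun hg (algebraMap A (Localization.AtPrime p) a)
    simp only [RingHom.comp_apply] at this ⊢
    rw [this, IsLocalization.lift_eq, ← IsScalarTower.algebraMap_apply]
    exact back.commutes a
  have hgc : ∀ a, g (algebraMap A A' a) = algebraMap A H a := fun a => by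
    have := RingHom.congr_fun hg (algebraMap A (Localization.AtPrime p) a)
    rw [RingHom.comp_apply, IsLocalization.lift_eq, ← IsScalarTower.algebraMap_apply] at this
    exact this
  let gₐ : A' →ₐ[A] H := { g with commutes' := hgc }
  have hbg : ∀ x, back (gₐ x) = x := fun x => RingHom.congr_fun hid x
  have hpull : ∀ J : Ideal A', (J.comap back).comap gₐ = J := fun J => Ideal.ext fun x => by
    simp [hbg]
  have hmax : (maximalIdeal H).comap gₐ = maximalIdeal A' := by
    ext x
    simp only [Ideal.mem_comap, mem_maximalIdeal, mem_nonunits_iff, not_iff_not]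
    exact ⟨fun hx => hbg x ▸ hx.map back, fun hx => hx.map gₐ⟩
  have htH : t'.comap back ≤ maximalIdeal H := le_maximalIdeal (Ideal.IsPrime.comap back).ne_top
  obtain ⟨C, hC, hwC⟩ := (Wit.map gₐ (t' := t'.comap back) (t := maximalIdeal H) htH
    (by simpa only [hpull, hmax] using h)).exists_finiteType
  obtain ⟨T, hT⟩ := hC
  obtain ⟨i, y, hy⟩ := Hens.exists_of_ring_fintype (fun x : T => (x : H))
  let γ : i.P.Ring →ₐ[A] H := (Hens.of i).comp (IsScalarTower.toAlgHom A _ _)
  have hCγ : C ≤ γ.range := by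
    rw [← hT, Algebra.adjoin_le_iff]
    exact fun x hx => ⟨y ⟨x, hx⟩, hy ⟨x, hx⟩⟩
  have hwE : Wit (A := A) (B := B) N ((t'.comap back).comap γ.range.val) ((maximalIdeal H).comap γ.range.val) :=
    Wit.map (Subalgebra.inclusion hCγ) (Ideal.comap_mono htH) hwC
  have hwD := hwE.comap_of_surjective γ.rangeRestrict γ.rangeRestrict_surjective
  refine ⟨i.P.Ring, inferInstance, inferInstance, _, _, inferInstance, inferInstance, ?_, hwD⟩
  have hs : ∀ x, x ∈ ((maximalIdeal H).comap γ.range.val).comap γ.rangeRestrict ↔ i.pt x = 0 := fun x => by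
    show γ x ∈ maximalIdeal H ↔ _
    rw [Hens.mem_maximalIdeal_iff]
    show Hens.pt (Hens.of i (algebraMap _ _ x)) = 0 ↔ _
    rw [Hens.pt_of, HensIdx.ptL_algebraMap]
  set s := ((maximalIdeal H).comap γ.range.val).comap γ.rangeRestrict with hsdef
  have hover : s.LiesOver p := ⟨Ideal.ext fun r => by
    rw [Ideal.under, Ideal.mem_comap, hs, AlgHom.commutes, Ideal.algebraMap_residueField_eq_zero]⟩
  refine ⟨inferInstance, hover, RingHom.injective _, fun c => ?_⟩
  have he0 : ∀ x ∈ s.primeCompl, IsUnit (i.pt x) := fun x hx => isUnit_iff_ne_zero.mpr fun h0 => hx ((hs x).mpr h0)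
  let e : s.ResidueField →+* p.ResidueField := Ideal.ResidueField.lift s i.pt.toRingHom
    (fun x hx => (hs x).mp hx) he0
  have he : ∀ r, e (algebraMap i.P.Ring s.ResidueField r) = i.pt r := fun r =>
    Ideal.ResidueField.lift_algebraMap ..
  have hcomp : e.comp (Ideal.ResidueField.mapₐ p s (Algebra.ofId A i.P.Ring) hover.over).toRingHom = RingHom.id _ := by
    refine Ideal.ResidueField.ringHom_ext (RingHom.ext fun r => ?_)
    simp only [RingHom.comp_apply, RingHom.id_apply]
    show e (Ideal.ResidueField.mapₐ p s (Algebra.ofId A i.P.Ring) hover.over (algebraMap A p.ResidueField r)) = _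
    rw [AlgHom.commutes, IsScalarTower.algebraMap_apply A i.P.Ring s.ResidueField, he, AlgHom.commutes]
  exact ⟨e c, e.injective (RingHom.congr_fun hcomp (e c))⟩

end Groth.RaynaudGruson
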