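import Groth.Agent.RaynaudGruson.ImpurityWit
import Groth.Agent.FlatMorOne.UnivInj
import Groth.Agent.GenericFree.Presentation
import Mathlib

/-!
Over a Noetherian base an impurity can be moved to a quasi-finite one.
-/

set_option autoImplicit false
universe u

namespace Groth.RaynaudGruson

open TensorProduct

attribute [local instance] Algebra.TensorProduct.rightAlgebra

variable {A B : Type u} [CommRing A] [CommRing B] [Algebra A B] {N : Type u} [AddCommGroup N]
  [Module B N] [Module A N] [IsScalarTower A B N]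

theorem act_baseChange {A' D K : Type u} [CommRing A'] [Algebra A A'] [CommRing D] [Algebra A D]
    [CommRing K] [Algebra A K] [Algebra D K] [IsScalarTower A D K] (φ : A' →ₐ[A] D) (π : A' ⊗[A] B)
    (w : K ⊗[D] (D ⊗[A] N)) :
    AlgebraTensorModule.cancelBaseChange A D K K N ((act N φ π).lTensor K w) =
      act N ((IsScalarTower.toAlgHom A D K).comp φ) π (AlgebraTensorModule.cancelBaseChange A D K K N w) := by
  induction π with
  | zero => simp
  | add a b ha hb => simp [map_add, ha, hb, LinearMap.lTensor_add]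
  | tmul a b =>
    induction w with
    | zero => simp
    | add x y hx hy => simp [map_add, hx, hy]
    | tmul k y =>
      induction y with
      | zero => simp
      | add x y hx hy => simp only [tmul_add, map_add, hx, hy]
      | tmul d n =>
        simp only [LinearMap.lTensor_tmul, act_tmul, AlgebraTensorModule.cancelBaseChange_tmul,
          AlgHom.comp_apply, IsScalarTower.coe_toAlgHom', Algebra.smul_def, map_mul]
        congr 1
        ring

theorem lTensor_act_injective_iff {A' D K : Type u} [CommRing A'] [Algebra A A'] [CommRing D] [Algebra A D]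
    [CommRing K] [Algebra A K] [Algebra D K] [IsScalarTower A D K] (φ : A' →ₐ[A] D) (π : A' ⊗[A] B) :
    Function.Injective ((act N φ π).lTensor K) ↔
      Function.Injective (act N ((IsScalarTower.toAlgHom A D K).comp φ) π) := by
  let e := AlgebraTensorModule.cancelBaseChange A D K K N
  constructor
  · intro h x y hxy
    obtain ⟨x, rfl⟩ := e.surjective x
    obtain ⟨y, rfl⟩ := e.surjective y
    rw [← act_baseChange, ← act_baseChange] at hxy
    exact congrArg e (h (e.injective hxy))
  · intro h x y hxy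
    exact e.injective (h (by rw [← act_baseChange, ← act_baseChange, hxy]))

/-- Witnesses descend to finitely generated subalgebras. -/
theorem Wit.exists_finiteType {A' : Type u} [CommRing A'] [Algebra A A'] {t' t : Ideal A'} [t'.IsPrime] [t.IsPrime]
    (h : Wit (A := A) (B := B) N t' t) :
    ∃ C : Subalgebra A A', C.FG ∧
      Wit (A := A) (B := B) N (t'.comap C.val.toRingHom) (t.comap C.val.toRingHom) := by
  classical
  obtain ⟨htt, a, π, ⟨hat, hcong⟩, z, hz, hπz⟩ := h
  rw [Ideal.map, Ideal.span, Submodule.mem_span_set'] at hcong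
  obtain ⟨k, x, g, hg⟩ := hcong
  choose r hr hgr using fun i => (g i).2
  choose s hs using fun i => TensorProduct.exists_finset (x i)
  let T : Finset A' := {a} ∪ Finset.univ.image r ∪ Finset.univ.biUnion fun i => (s i).image Prod.fst
  let C := Algebra.adjoin A (T : Set A')
  have hTC : ∀ y ∈ T, y ∈ C := fun y hy => Algebra.subset_adjoin hy
  have haC : a ∈ C := hTC a (by simp [T])
  have hrC : ∀ i, r i ∈ C := fun i => hTC _ (by
    simp only [T, Finset.mem_union, Finset.mem_image]; exact Or.inl (Or.inr ⟨i, Finset.mem_univ i, rfl⟩))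
  have hxC : ∀ i, ∃ x₀ : C ⊗[A] B, Algebra.TensorProduct.map C.val (AlgHom.id A B) x₀ = x i := fun i => by
    refine ⟨∑ m ∈ (s i).attach, (⟨m.1.1, hTC _ (by
      simp only [T, Finset.mem_union, Finset.mem_biUnion, Finset.mem_image]
      exact Or.inr ⟨i, Finset.mem_univ i, m.1, m.2, rfl⟩)⟩ : C) ⊗ₜ[A] m.1.2, ?_⟩
    rw [map_sum, hs i, ← Finset.sum_attach (s i)]
    exact Finset.sum_congr rfl fun m _ => by simp
  choose x₀ hx₀ using hxC
  let π₀ : C ⊗[A] B := (⟨a, haC⟩ : C) ⊗ₜ (1 : B) - ∑ i, x₀ i * algebraMap C (C ⊗[A] B) ⟨r i, hrC i⟩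
  have hπ₀ : Algebra.TensorProduct.map C.val (AlgHom.id A B) π₀ = π := by
    simp only [π₀, map_sub, map_sum, map_mul, hx₀, Algebra.TensorProduct.map_tmul, AlgHom.id_apply,
      Algebra.TensorProduct.algebraMap_apply, Algebra.algebraMap_self_apply]
    have : ∑ i, x i * ((C.val ⟨r i, hrC i⟩) ⊗ₜ[A] (1 : B)) = a ⊗ₜ (1 : B) - π := by
      rw [← hg]
      refine Finset.sum_congr rfl fun i _ => ?_
      rw [smul_eq_mul, ← hgr i]
      simp [Algebra.TensorProduct.algebraMap_apply]
    rw [this]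
    exact sub_sub_cancel _ _
  refine ⟨C, Subalgebra.fg_def.mpr ⟨T, T.finite_toSet, rfl⟩, Ideal.comap_mono htt, ⟨a, haC⟩, π₀, ⟨hat, ?_⟩, ?_⟩
  · have : (⟨a, haC⟩ : C) ⊗ₜ (1 : B) - π₀ = ∑ i, x₀ i * algebraMap C (C ⊗[A] B) ⟨r i, hrC i⟩ := sub_sub_cancel _ _
    rw [this]
    exact Ideal.sum_mem _ fun i _ => Ideal.mul_mem_left _ _ (Ideal.mem_map_of_mem _ (hr i))
  · let t₀ := t'.comap C.val.toRingHom
    let ψ : t₀.ResidueField →ₐ[A] t'.ResidueField := Ideal.ResidueField.mapₐ t₀ t' C.val rfl
    letI : Algebra t₀.ResidueField t'.ResidueField := ψ.toRingHom.toAlgebra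
    haveI : IsScalarTower A t₀.ResidueField t'.ResidueField := .of_algebraMap_eq fun c => (ψ.commutes c).symm
    have hcomm : (IsScalarTower.toAlgHom A t₀.ResidueField t'.ResidueField).comp (resMap A t₀) =
        (resMap A t').comp C.val := AlgHom.ext fun c => by
      show ψ (algebraMap C t₀.ResidueField c) = algebraMap A' t'.ResidueField c
      simp [ψ]
    by_contra hcon
    push Not at hcon
    have hinj : Function.Injective (act N (resMap A t₀) π₀) :=
      (injective_iff_map_eq_zero _).mpr fun y hy => by_contra fun hy0 => hcon y hy0 hy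
    have := (lTensor_act_injective_iff (K := t'.ResidueField) (resMap A t₀) π₀).mp
      (Module.Flat.lTensor_preserves_injective_linearMap _ hinj)
    rw [hcomm, ← act_map, hπ₀] at this
    exact hz ((injective_iff_map_eq_zero _).mp this z hπz)

/-- No witness over a field: if `p A' ⊆ t'` there is no witness with `t` over `p`. -/
theorem Wit.map_not_le {A' : Type u} [CommRing A'] [Algebra A A'] {t' t : Ideal A'} [t'.IsPrime] [t.IsPrime]
    (p : Ideal A) [p.IsPrime] [ht : t.LiesOver p] (h : Wit (A := A) (B := B) N t' t) :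
    ¬ p.map (algebraMap A A') ≤ t' := by
  intro hple
  obtain ⟨htt, a, π, ⟨hat, hcong⟩, z, hz, hπz⟩ := h
  let A₁ := A' ⧸ t'
  let t₁ : Ideal A₁ := t.map (Ideal.Quotient.mk t')
  haveI : t₁.IsPrime := Ideal.map_isPrime_of_surjective Ideal.Quotient.mk_surjective (by rwa [Ideal.mk_ker])
  have ht₁ : ∀ x : A', Ideal.Quotient.mk t' x ∈ t₁ ↔ x ∈ t := fun x => by
    rw [← Ideal.mem_comap, Ideal.comap_map_of_surjective _ Ideal.Quotient.mk_surjective,
      ← RingHom.ker_eq_comap_bot, Ideal.mk_ker, sup_eq_left.mpr htt]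
  let D := Localization.AtPrime t₁
  let φ : A' →ₐ[A] D := (IsScalarTower.toAlgHom A A₁ D).comp (Ideal.Quotient.mkₐ A t')
  have hpD : ∀ x ∈ p, algebraMap A D x = 0 := fun x hx => by
    rw [IsScalarTower.algebraMap_apply A A₁ D, IsScalarTower.algebraMap_apply A A' A₁,
      Ideal.Quotient.algebraMap_eq, Ideal.Quotient.eq_zero_iff_mem.mpr (hple (Ideal.mem_map_of_mem _ hx)), map_zero]
  let ρ : (A ⧸ p) →+* D := Ideal.Quotient.lift p (algebraMap A D) hpD
  have hρ : ∀ y : nonZeroDivisors (A ⧸ p), IsUnit (ρ y) := fun ⟨y, hy⟩ => by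
    obtain ⟨y, rfl⟩ := Ideal.Quotient.mk_surjective y
    have hyp : y ∉ p := fun h => nonZeroDivisors.ne_zero hy (Ideal.Quotient.eq_zero_iff_mem.mpr h)
    show IsUnit (algebraMap A D y)
    rw [IsScalarTower.algebraMap_apply A A₁ D]
    refine IsLocalization.map_units D (⟨_, fun h => hyp ?_⟩ : t₁.primeCompl)
    have h' : algebraMap A A' y ∈ t := (ht₁ _).mp (by
      rw [← Ideal.Quotient.algebraMap_eq, ← IsScalarTower.algebraMap_apply]; exact h)
    exact ht.over.ge h'
  letI : Algebra p.ResidueField D := (IsLocalization.lift (S := p.ResidueField) hρ).toAlgebra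
  haveI : IsScalarTower A p.ResidueField D := .of_algebraMap_eq fun x => by
    show _ = IsLocalization.lift (S := p.ResidueField) hρ (algebraMap A p.ResidueField x)
    rw [IsScalarTower.algebraMap_apply A (A ⧸ p) p.ResidueField, IsLocalization.lift_eq]
    rfl
  haveI : Module.Free D (D ⊗[A] N) :=
    Module.Free.of_equiv (AlgebraTensorModule.cancelBaseChange A p.ResidueField D D N)
  let k := IsLocalRing.ResidueField D
  let ψk := (IsScalarTower.toAlgHom A D k).comp φ
  have hk : ∀ x ∈ t, ψk x = 0 := fun x hx => by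
    show IsLocalRing.residue D (algebraMap A₁ D (Ideal.Quotient.mk t' x)) = 0
    rw [IsLocalRing.residue_eq_zero_iff]
    exact (IsLocalization.AtPrime.to_map_mem_maximal_iff D t₁ _).mpr ((ht₁ x).mpr hx)
  have hkill : ∀ w ∈ t.map (algebraMap A' (A' ⊗[A] B)), act N ψk w = 0 := fun w hw => by
    have : t.map (algebraMap A' (A' ⊗[A] B)) ≤ RingHom.ker (act N ψk).toRingHom := by
      rw [Ideal.map_le_iff_le_comap]
      intro x hx
      rw [Ideal.mem_comap, RingHom.mem_ker]
      exact TensorProduct.AlgebraTensorModule.ext fun c n => by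
        simp [Algebra.TensorProduct.algebraMap_apply, hk x hx]
    exact this hw
  have hunit : ψk a ≠ 0 := fun h => hat ((ht₁ a).mp ((IsLocalization.AtPrime.to_map_mem_maximal_iff D t₁ _).mp
    ((IsLocalRing.residue_eq_zero_iff _).mp h)))
  have hinjk : Function.Injective (act N ψk π) := by
    have he : act N ψk π = act N ψk (a ⊗ₜ (1 : B)) := by
      refine LinearMap.ext fun y => ?_
      have h0 := LinearMap.congr_fun (hkill _ hcong) y
      rw [map_sub, LinearMap.sub_apply, LinearMap.zero_apply, sub_eq_zero] at h0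
      exact h0.symm
    rw [he]
    refine (injective_iff_map_eq_zero _).mpr fun y hy => ?_
    have hsm : ∀ y, act N ψk (a ⊗ₜ (1 : B)) y = ψk a • y := fun y => by
      induction y with
      | zero => simp
      | add u v hu hv => simp only [map_add, hu, hv, smul_add]
      | tmul c n => simp [smul_tmul']
    rw [hsm] at hy
    exact (smul_eq_zero.mp hy).resolve_left hunit
  have huniv := fun Q [AddCommGroup Q] [Module D Q] =>
    Groth.FlatMorOne.rTensor_injective_of_free (R := D) (F := D ⊗[A] N) (N := D ⊗[A] N) (act N φ π)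
      ((lTensor_act_injective_iff (K := k) φ π).mpr hinjk) Q
  let ρK : D →+* t'.ResidueField := IsLocalization.lift (M := t₁.primeCompl)
    (g := algebraMap A₁ t'.ResidueField) fun y => isUnit_iff_ne_zero.mpr fun h0 => y.2 (by
      rw [(map_eq_zero_iff _ (IsFractionRing.injective A₁ t'.ResidueField)).mp h0]
      exact zero_mem _)
  letI : Algebra D t'.ResidueField := ρK.toAlgebra
  haveI : IsScalarTower A D t'.ResidueField := .of_algebraMap_eq fun x => by
    show _ = ρK (algebraMap A D x)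
    rw [IsScalarTower.algebraMap_apply A A₁ D, IsLocalization.lift_eq, ← IsScalarTower.algebraMap_apply]
  have hcomm : (IsScalarTower.toAlgHom A D t'.ResidueField).comp φ = resMap A t' := AlgHom.ext fun x => by
    show ρK (algebraMap A₁ D (Ideal.Quotient.mk t' x)) = algebraMap A' t'.ResidueField x
    rw [IsLocalization.lift_eq, ← Ideal.Quotient.algebraMap_eq, ← IsScalarTower.algebraMap_apply]
  have hK : Function.Injective ((act N φ π).lTensor t'.ResidueField) := by
    have e : (act N φ π).lTensor t'.ResidueField = (TensorProduct.comm D _ _).toLinearMap ∘ₗ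
        (act N φ π).rTensor t'.ResidueField ∘ₗ (TensorProduct.comm D _ _).toLinearMap :=
      TensorProduct.ext' fun _ _ => rfl
    rw [e]
    exact (TensorProduct.comm D _ _).injective.comp ((huniv _).comp (TensorProduct.comm D _ _).injective)
  have := (lTensor_act_injective_iff φ π).mp hK
  rw [hcomm] at this
  exact hz ((injective_iff_map_eq_zero _).mp this z hπz)

/-- Below `u` every nonzero prime contains `h` forces dimension one at `u`. -/
theorem eq_of_forall_mem_height_one {D : Type u} [CommRing D] [IsNoetherianRing D] [IsDomain D] (u : Ideal D)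
    [u.IsPrime] (h : D) (h0 : h ≠ 0) (hh : ∀ v : Ideal D, v.IsPrime → v ≤ u → v ≠ ⊥ → h ∈ v)
    (v : Ideal D) [v.IsPrime] (hv : v ≤ u) (hv0 : v ≠ ⊥) : v = u := by
  classical
  let M := (Ideal.span {h}).minimalPrimes
  have hfin : M.Finite := Ideal.finite_minimalPrimes_of_isNoetherianRing D _
  have hht : ∀ w ∈ M, w.height ≤ 1 := fun w hw => Ideal.height_le_one_of_isPrincipal_of_mem_minimalPrimes _ w hw
  have hone : ∀ w : Ideal D, w.IsPrime → w ≠ ⊥ → 1 ≤ w.height := fun w hw hw0 => by
    haveI := hw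
    rw [Order.one_le_iff_ne_zero]
    intro h
    rw [Ideal.height_eq_zero_iff, IsDomain.minimalPrimes_eq_singleton_bot] at h
    exact hw0 h
  have huM : u ∈ M := by
    by_contra huM
    have hnot : ¬ ((u : Set D) ⊆ ⋃ w ∈ hfin.toFinset.filter (fun w => w ≤ u), (w : Set D)) := fun hsub => by
      obtain ⟨w, hw, huw⟩ := (Ideal.subset_union_prime_finite
        (hfin.toFinset.filter (fun w => w ≤ u)).finite_toSet ⊥ ⊥ (fun w hw _ _ => by
          simp only [Finset.mem_coe, Finset.mem_filter, Set.Finite.mem_toFinset] at hw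
          exact hw.1.1.1)).mp hsub
      simp only [Finset.mem_coe, Finset.mem_filter, Set.Finite.mem_toFinset] at hw
      exact huM (le_antisymm huw hw.2 ▸ hw.1)
    obtain ⟨x, hxu, hx⟩ := Set.not_subset.mp hnot
    simp only [Set.mem_iUnion, Finset.mem_filter, Set.Finite.mem_toFinset, SetLike.mem_coe, exists_prop, not_exists, not_and] at hx
    obtain ⟨w, hw, hwu⟩ := Ideal.exists_minimalPrimes_le ((Ideal.span_singleton_le_iff_mem u).mpr hxu)
    haveI := hw.1.1
    have hxw : x ∈ w := hw.1.2 (Ideal.mem_span_singleton_self x)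
    by_cases hx0 : x = 0
    · have hne : u ≠ ⊥ := fun he => hv0 (le_bot_iff.mp (he ▸ hv))
      obtain ⟨W, hW, hWu⟩ := Ideal.exists_minimalPrimes_le
        ((Ideal.span_singleton_le_iff_mem u).mpr (hh u inferInstance le_rfl hne))
      exact hx W ⟨hW, hWu⟩ (hx0 ▸ W.zero_mem)
    have hw0 : w ≠ ⊥ := fun he => hx0 ((Submodule.mem_bot D).mp (he ▸ hxw))
    obtain ⟨W, hW, hWw⟩ := Ideal.exists_minimalPrimes_le ((Ideal.span_singleton_le_iff_mem w).mpr (hh w inferInstance hwu hw0))
    haveI := hW.1.1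
    have hW0 : W ≠ ⊥ := fun he => h0 ((Submodule.mem_bot D).mp (he ▸ hW.1.2 (Ideal.mem_span_singleton_self h)))
    by_cases hWeq : W = w
    · exact hx W ⟨hW, hWw.trans hwu⟩ (hWeq ▸ hxw)
    · haveI : W.FiniteHeight := Ideal.finiteHeight_of_isNoetherianRing W
      have h1 := Ideal.height_strict_mono_of_isPrime_of_isPrime (lt_of_le_of_ne hWw hWeq)
      have h2 : w.height ≤ 1 := Ideal.height_le_one_of_isPrincipal_of_mem_minimalPrimes _ w hw
      exact absurd (lt_of_le_of_lt (hone W hW.1.1 hW0) (lt_of_lt_of_le h1 h2)) (lt_irrefl _)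
  by_contra hne
  haveI : v.FiniteHeight := Ideal.finiteHeight_of_isNoetherianRing v
  have h1 := Ideal.height_strict_mono_of_isPrime_of_isPrime (lt_of_le_of_ne hv hne)
  exact absurd (lt_of_le_of_lt (hone v inferInstance hv0) (lt_of_lt_of_le h1 (hht u huM))) (lt_irrefl _)

/-- A point which is maximal and minimal in its fibre is quasi-finite. -/
theorem quasiFiniteAt_of_fiber_isolated {D : Type u} [CommRing D] [Algebra A D] [Algebra.FiniteType A D]
    (q : Ideal D) [q.IsPrime]
    (hmax : ∀ v : Ideal D, v.IsPrime → q ≤ v → v.comap (algebraMap A D) = q.comap (algebraMap A D) → v = q)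
    (hmin : ∀ v : Ideal D, v.IsPrime → v ≤ q → v.comap (algebraMap A D) = q.comap (algebraMap A D) → v = q) :
    Algebra.QuasiFiniteAt A q := by
  let Q : PrimeSpectrum D := ⟨q, inferInstance⟩
  let p₀ := PrimeSpectrum.comap (algebraMap A D) Q
  let e := PrimeSpectrum.preimageHomeomorphFiber A D p₀
  let o := PrimeSpectrum.preimageOrderIsoFiber A D p₀
  haveI : IsNoetherianRing (p₀.asIdeal.Fiber D) := Algebra.FiniteType.isNoetherianRing p₀.asIdeal.ResidueField _
  haveI : IsJacobsonRing (p₀.asIdeal.Fiber D) := isJacobsonRing_of_finiteType (A := p₀.asIdeal.ResidueField)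
  refine Algebra.QuasiFiniteAt.of_isOpen_singleton_fiber Q ?_
  rw [← e.isOpen_image, Set.image_singleton,
    (PrimeSpectrum.isOpen_singleton_tfae_of_isNoetherian_of_isJacobsonRing _).out 0 2 rfl rfl]
  refine ⟨(PrimeSpectrum.isClosed_singleton_iff_isMaximal _).mpr ?_, ?_⟩
  · obtain ⟨m, hm, hle⟩ := Ideal.exists_le_maximal _ (e ⟨Q, rfl⟩).isPrime.ne_top
    have h1 : o ⟨Q, rfl⟩ ≤ ⟨m, hm.isPrime⟩ := hle
    rw [← o.le_symm_apply] at h1
    have h2 := hmax _ (o.symm ⟨m, hm.isPrime⟩).1.isPrime h1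
      (congrArg PrimeSpectrum.asIdeal (o.symm ⟨m, hm.isPrime⟩).2)
    have h3 : o.symm ⟨m, hm.isPrime⟩ = ⟨Q, rfl⟩ := Subtype.ext (PrimeSpectrum.ext h2)
    rw [OrderIso.symm_apply_eq] at h3
    exact (congrArg PrimeSpectrum.asIdeal h3) ▸ hm
  · intro x y hxy hx
    rw [Set.mem_singleton_iff] at hx
    subst hx
    have h1 : y ≤ o ⟨Q, rfl⟩ := (PrimeSpectrum.le_iff_specializes _ _).mpr hxy
    rw [← o.symm_apply_le] at h1
    have h2 := hmin _ (o.symm y).1.isPrime h1 (congrArg PrimeSpectrum.asIdeal (o.symm y).2)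
    have h3 : o.symm y = ⟨Q, rfl⟩ := Subtype.ext (PrimeSpectrum.ext h2)
    rw [OrderIso.symm_apply_eq] at h3
    rw [Set.mem_singleton_iff, h3]
    rfl

/-- Points of the fibre avoiding `a` specialise to such points maximal in the fibre. -/
theorem exists_max_in_fibre {A' : Type u} [CommRing A'] [Algebra A A'] [Algebra.FiniteType A A'] (p : Ideal A)
    [p.IsPrime] (t : Ideal A') [t.IsPrime] [t.LiesOver p] {a : A'} (ha : a ∉ t) :
    ∃ u : Ideal A', u.IsPrime ∧ u.LiesOver p ∧ t ≤ u ∧ a ∉ u ∧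
      ∀ v : Ideal A', v.IsPrime → u ≤ v → v.comap (algebraMap A A') = p → v = u := by
  let o := PrimeSpectrum.preimageOrderIsoFiber A A' ⟨p, inferInstance⟩
  haveI : IsJacobsonRing (p.Fiber A') := isJacobsonRing_of_finiteType (A := p.ResidueField)
  let T : PrimeSpectrum.comap (algebraMap A A') ⁻¹' {⟨p, inferInstance⟩} :=
    ⟨⟨t, inferInstance⟩, PrimeSpectrum.ext (Ideal.over_def t p).symm⟩
  have hal : algebraMap A' (p.Fiber A') a ∉ (o T).asIdeal := fun h => by
    refine ha ?_
    have := congrArg (fun x : PrimeSpectrum.comap (algebraMap A A') ⁻¹' {⟨p, inferInstance⟩} => a ∈ x.1.asIdeal)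
      (o.symm_apply_apply T)
    exact this ▸ h
  have hJ : (o T).asIdeal.jacobson = (o T).asIdeal := IsJacobsonRing.out' _ (o T).isPrime.isRadical
  rw [← hJ, Ideal.jacobson, Ideal.mem_sInf] at hal
  push Not at hal
  obtain ⟨m, ⟨hle, hm⟩, hma⟩ := hal
  refine ⟨(o.symm ⟨m, hm.isPrime⟩).1.asIdeal, inferInstance,
    ⟨(congrArg PrimeSpectrum.asIdeal (o.symm ⟨m, hm.isPrime⟩).2).symm⟩, ?_, hma, fun v hv hle' hvp => ?_⟩
  · exact (o.le_symm_apply (x := T) (y := ⟨m, hm.isPrime⟩)).mpr hle
  · let V : PrimeSpectrum.comap (algebraMap A A') ⁻¹' {⟨p, inferInstance⟩} := ⟨⟨v, hv⟩, PrimeSpectrum.ext hvp⟩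
    have h1 : o.symm ⟨m, hm.isPrime⟩ ≤ V := hle'
    rw [o.symm_apply_le] at h1
    have h2 : o V = ⟨m, hm.isPrime⟩ := PrimeSpectrum.ext (hm.eq_of_le (o V).isPrime.ne_top h1).symm
    rw [← OrderIso.eq_symm_apply] at h2
    exact congrArg (fun z => z.1.asIdeal) h2

theorem rTensor_ne_zero_of_coord {R K : Type u} [CommRing R] [Algebra A R] [CommRing K] [Algebra A K]
    (ψ : R →ₐ[A] K) {ι : Type*} (b : Module.Basis ι R (R ⊗[A] N)) (x : R ⊗[A] N) (i : ι)
    (hi : ψ (b.repr x i) ≠ 0) : ψ.toLinearMap.rTensor N x ≠ 0 := by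
  letI : Algebra R K := ψ.toRingHom.toAlgebra
  haveI : IsScalarTower A R K := .of_algebraMap_eq fun c => (ψ.commutes c).symm
  have key : ∀ y : R ⊗[A] N,
      AlgebraTensorModule.cancelBaseChange A R K K N ((1 : K) ⊗ₜ y) = ψ.toLinearMap.rTensor N y := fun y => by
    induction y with
    | zero => simp
    | add y z hy hz => simp [tmul_add, map_add, hy, hz]
    | tmul r n => simp [Algebra.smul_def]; rfl
  intro h
  rw [← key, LinearEquiv.map_eq_zero_iff] at h
  have h' := congrArg (fun y => (b.baseChange K).repr y i) h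
  simp [Algebra.smul_def] at h'
  exact hi h'

/-- A zero divisor on the generic fibre stays one on all fibres in an open set of the base. -/
theorem exists_ne_zero_forall_zeroDivisor {A1 K0 : Type u} [CommRing A1] [IsDomain A1] [Algebra A A1]
    [Algebra.FiniteType A B] [Module.Finite B N] [Field K0] [Algebra A K0] [Algebra A1 K0] [IsScalarTower A A1 K0]
    [IsFractionRing A1 K0] (π : A1 ⊗[A] B) (z : K0 ⊗[A] N) (hz : z ≠ 0)
    (hπ : act N (IsScalarTower.toAlgHom A A1 K0) π z = 0) :
    ∃ h : A1, h ≠ 0 ∧ ∀ (K : Type u) [Field K] [Algebra A K] (φ : A1 →ₐ[A] K), φ h ≠ 0 →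
      ∃ w : K ⊗[A] N, w ≠ 0 ∧ act N φ π w = 0 := by
  classical
  have hgf := (Groth.GenericFree.gf_of_finiteType (R := A1) (A1 ⊗[A] B) ((A1 ⊗[A] B) ⊗[B] N)).of_equiv
    (Algebra.IsPushout.cancelBaseChange A A1 B (A1 ⊗[A] B) N)
  obtain ⟨f, hf, hfree, -⟩ := hgf.exists_free
  let R := Localization.Away f
  haveI : Module.Free R (LocalizedModule (Submonoid.powers f) (A1 ⊗[A] N)) := hfree f hf dvd_rfl
  haveI : Module.Free R (R ⊗[A] N) := Module.Free.of_equiv
    ((LocalizedModule.equivTensorProduct (Submonoid.powers f) (A1 ⊗[A] N)).trans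
      (AlgebraTensorModule.cancelBaseChange A A1 R R N))
  let b := Module.Free.chooseBasis R (R ⊗[A] N)
  let ι1 := IsScalarTower.toAlgHom A A1 R
  have hf0 : IsUnit ((IsScalarTower.toAlgHom A A1 K0) f) :=
    isUnit_iff_ne_zero.mpr (fun h => hf ((map_eq_zero_iff _ (IsFractionRing.injective A1 K0)).mp h))
  let ψ0 : R →ₐ[A] K0 :=
    IsLocalization.liftAlgHom (M := Submonoid.powers f) (f := IsScalarTower.toAlgHom A A1 K0) (by
      rintro ⟨_, n, rfl⟩
      simpa using hf0.pow n)
  have hψ0 : ∀ x : A1, ψ0 (algebraMap A1 R x) = algebraMap A1 K0 x := fun x => by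
    simp [ψ0, IsLocalization.lift_eq]
  have hψ0inj : Function.Injective ψ0 := (injective_iff_map_eq_zero _).mpr fun r hr => by
    obtain ⟨x, s, rfl⟩ := IsLocalization.exists_mk'_eq (Submonoid.powers f) r
    have h1 := congrArg ψ0 (IsLocalization.mk'_spec R x s)
    rw [map_mul, hr, zero_mul, hψ0] at h1
    rw [(map_eq_zero_iff _ (IsFractionRing.injective A1 K0)).mp h1.symm, IsLocalization.mk'_zero]
  have hden : ∀ w : K0 ⊗[A] N, ∃ (s : A1) (y : A1 ⊗[A] N), s ≠ 0 ∧
      (IsScalarTower.toAlgHom A A1 K0).toLinearMap.rTensor N y = algebraMap A1 K0 s • w := fun w => by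
    have hl : ∀ (s : A1) (y : A1 ⊗[A] N), (IsScalarTower.toAlgHom A A1 K0).toLinearMap.rTensor N (s • y) =
        algebraMap A1 K0 s • (IsScalarTower.toAlgHom A A1 K0).toLinearMap.rTensor N y := fun s y => by
      induction y with
      | zero => simp
      | add y z hy hz => simp [map_add, smul_add, hy, hz]
      | tmul r n => simp [smul_tmul', map_mul, Algebra.smul_def]
    induction w with
    | zero => exact ⟨1, 0, one_ne_zero, by simp⟩
    | add x y hx hy =>
      obtain ⟨s, u, hs, hu⟩ := hx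
      obtain ⟨s', v, hs', hv⟩ := hy
      refine ⟨s * s', s' • u + s • v, mul_ne_zero hs hs', ?_⟩
      rw [map_add, hl, hl, hu, hv, smul_smul, smul_smul, ← map_mul, ← map_mul, mul_comm s', ← smul_add]
    | tmul c n =>
      obtain ⟨x, s, hs, hxs⟩ := IsFractionRing.div_surjective (A := A1) c
      refine ⟨s, x ⊗ₜ n, nonZeroDivisors.ne_zero hs, ?_⟩
      have hs0 : algebraMap A1 K0 s ≠ 0 :=
        fun h => nonZeroDivisors.ne_zero hs ((map_eq_zero_iff _ (IsFractionRing.injective A1 K0)).mp h)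
      simp [← hxs, smul_tmul', Algebra.smul_def, mul_div_cancel₀ _ hs0]
  obtain ⟨s, y, hs, hy⟩ := hden z
  let z1 : R ⊗[A] N := ι1.toLinearMap.rTensor N y
  have hcomp : ψ0.comp ι1 = IsScalarTower.toAlgHom A A1 K0 := AlgHom.ext hψ0
  have hz1 : ψ0.toLinearMap.rTensor N z1 = algebraMap A1 K0 s • z := by
    rw [← hy, ← hcomp]
    exact (LinearMap.rTensor_comp_apply N ψ0.toLinearMap ι1.toLinearMap y).symm
  have hsz : algebraMap A1 K0 s • z ≠ 0 :=
    smul_ne_zero (fun h => hs ((map_eq_zero_iff _ (IsFractionRing.injective A1 K0)).mp h)) hz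
  obtain ⟨i, hi⟩ : ∃ i, b.repr z1 i ≠ 0 := by
    by_contra! hall
    have : z1 = 0 := b.repr.injective (Finsupp.ext fun i => by simpa using hall i)
    exact hsz (by rw [← hz1, this, map_zero])
  have hkill : act N ι1 π z1 = 0 := by
    by_contra h
    obtain ⟨j, hj⟩ : ∃ j, b.repr (act N ι1 π z1) j ≠ 0 := by
      by_contra! hall
      exact h (b.repr.injective (Finsupp.ext fun j => by simpa using hall j))
    refine rTensor_ne_zero_of_coord ψ0 b _ j ((map_ne_zero_iff _ hψ0inj).mpr hj) ?_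
    rw [act_natural, hcomp, hz1, map_smul, hπ, smul_zero]
  obtain ⟨num, ⟨den, k, rfl⟩, hnum⟩ := IsLocalization.exists_mk'_eq (Submonoid.powers f) (b.repr z1 i)
  have hnum0 : num ≠ 0 := fun h => hi (by rw [← hnum, h, IsLocalization.mk'_zero])
  refine ⟨f * num, mul_ne_zero hf hnum0, fun K _ _ φ hφ => ?_⟩
  rw [map_mul] at hφ
  have hφf : IsUnit (φ f) := isUnit_iff_ne_zero.mpr (left_ne_zero_of_mul hφ)
  let ψ : R →ₐ[A] K := IsLocalization.liftAlgHom (M := Submonoid.powers f) (f := φ) (by
    rintro ⟨_, n, rfl⟩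
    simpa using hφf.pow n)
  have hψ : ψ.comp ι1 = φ := AlgHom.ext fun x => by simp [ψ, ι1, IsLocalization.lift_eq]
  refine ⟨ψ.toLinearMap.rTensor N z1, rTensor_ne_zero_of_coord ψ b z1 i ?_, ?_⟩
  · intro h
    have h1 := congrArg ψ (IsLocalization.mk'_spec R num (⟨f ^ k, k, rfl⟩ : Submonoid.powers f))
    rw [map_mul, hnum, h, zero_mul] at h1
    exact right_ne_zero_of_mul hφ ((DFunLike.congr_fun hψ num).symm.trans h1.symm)
  · have h1 := act_natural (N := N) ι1 ψ π z1
    rw [hkill, map_zero, hψ] at h1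
    exact h1.symm

/-- Over a Noetherian base a witness can be moved to a quasi-finite one. -/
theorem Wit.exists_quasiFinite [IsNoetherianRing A] [Algebra.FiniteType A B] [Module.Finite B N] {A' : Type u}
    [CommRing A'] [Algebra A A'] [Algebra.FiniteType A A'] {t' t : Ideal A'} [t'.IsPrime] [t.IsPrime]
    (p : Ideal A) [p.IsPrime] [t.LiesOver p] (h : Wit (A := A) (B := B) N t' t) :
    ∃ (A'' : Type u) (_ : CommRing A'') (_ : Algebra A A'') (_ : Algebra.FiniteType A A'') (s' s : Ideal A'')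
      (_ : s'.IsPrime) (_ : s.IsPrime), s.LiesOver p ∧ Algebra.QuasiFiniteAt A s ∧ Wit (A := A) (B := B) N s' s := by
  classical
  haveI : IsNoetherianRing A' := Algebra.FiniteType.isNoetherianRing A A'
  have hnle := Wit.map_not_le p h
  obtain ⟨c, hcp, hct'⟩ := SetLike.not_le_iff_exists.mp hnle
  obtain ⟨htt, a, π, ⟨hat, hcong⟩, z, hz, hπz⟩ := h
  obtain ⟨u, hu, hup, htu, hau, humax⟩ := exists_max_in_fibre p t hat
  have hcu : c ∈ u := (Ideal.map_le_iff_le_comap.mpr hup.over.le) hcp
  let mk1 := Ideal.Quotient.mkₐ A t'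
  have hres : (IsScalarTower.toAlgHom A (A' ⧸ t') t'.ResidueField).comp mk1 = resMap A t' :=
    AlgHom.ext fun x => (IsScalarTower.algebraMap_apply A' (A' ⧸ t') t'.ResidueField x).symm
  obtain ⟨h1, hh1, hforall⟩ := exists_ne_zero_forall_zeroDivisor (K0 := t'.ResidueField)
    (Algebra.TensorProduct.map mk1 (AlgHom.id A B) π) z hz (by rw [act_map, hres, hπz])
  obtain ⟨h0, rfl⟩ := Ideal.Quotient.mk_surjective h1
  have hh0 : h0 ∉ t' := fun h => hh1 (Ideal.Quotient.eq_zero_iff_mem.mpr h)
  let S : Set (Ideal A') := {v | v.IsPrime ∧ t' ≤ v ∧ v ≤ u ∧ h0 * c ∉ v}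
  obtain ⟨t'', ⟨ht'', htt'', ht''u, ht''h⟩, hmaxS⟩ := set_has_maximal_iff_noetherian.mpr inferInstance S
    ⟨t', inferInstance, le_rfl, htt.trans htu, fun h => (Ideal.IsPrime.mem_or_mem inferInstance h).elim hh0 hct'⟩
  let mk2 := Ideal.Quotient.mkₐ A t''
  let A'' := A' ⧸ t''
  haveI : Algebra.FiniteType A A'' := Algebra.FiniteType.of_surjective mk2 (Ideal.Quotient.mkₐ_surjective A t'')
  haveI : IsNoetherianRing A'' := inferInstanceAs (IsNoetherianRing (A' ⧸ t''))
  let u'' : Ideal A'' := u.map (Ideal.Quotient.mk t'')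
  have hu'' : ∀ x : A', Ideal.Quotient.mk t'' x ∈ u'' ↔ x ∈ u := fun x => by
    rw [← Ideal.mem_comap, Ideal.comap_map_of_surjective _ Ideal.Quotient.mk_surjective,
      ← RingHom.ker_eq_comap_bot, Ideal.mk_ker, sup_eq_left.mpr ht''u]
  haveI : u''.IsPrime := Ideal.map_isPrime_of_surjective Ideal.Quotient.mk_surjective (by rwa [Ideal.mk_ker])
  haveI hup'' : u''.LiesOver p := ⟨by
    ext x
    rw [Ideal.under, Ideal.mem_comap, IsScalarTower.algebraMap_apply A A' A'', Ideal.Quotient.algebraMap_eq, hu'', hup.over]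
    rfl⟩
  refine ⟨A'', inferInstance, inferInstance, inferInstance, ⊥, u'', Ideal.isPrime_bot, inferInstance, hup'', ?_, ?_⟩
  · refine quasiFiniteAt_of_fiber_isolated u'' (fun v hv hle hvp => ?_) (fun v hv hle hvp => ?_)
    · rw [← Ideal.under, ← Ideal.under, ← hup''.over] at hvp
      have h1 := humax (v.comap (Ideal.Quotient.mk t'')) inferInstance
        (fun x hx => hle ((hu'' x).mpr hx)) (by rw [Ideal.comap_comap]; exact hvp)
      refine le_antisymm (fun y hy => ?_) hle
      obtain ⟨y, rfl⟩ := Ideal.Quotient.mk_surjective y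
      exact (hu'' y).mpr (h1 ▸ (hy : y ∈ v.comap (Ideal.Quotient.mk t'')))
    · rw [← Ideal.under, ← Ideal.under, ← hup''.over] at hvp
      refine eq_of_forall_mem_height_one u'' (Ideal.Quotient.mk t'' (h0 * c))
        (fun h => ht''h (Ideal.Quotient.eq_zero_iff_mem.mp h)) (fun w hw hwu hw0 => ?_) v hle fun hv0 => ?_
      · by_contra hhw
        refine hmaxS (w.comap (Ideal.Quotient.mk t'')) ⟨inferInstance, htt''.trans ?_, fun x hx => (hu'' x).mp (hwu hx), hhw⟩ ?_
        · intro x hx
          simp [Ideal.Quotient.eq_zero_iff_mem.mpr hx]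
        · refine lt_of_le_of_ne (fun x hx => by simp [Ideal.Quotient.eq_zero_iff_mem.mpr hx]) fun heq => hw0 ?_
          rw [← Ideal.map_comap_of_surjective _ Ideal.Quotient.mk_surjective w, ← heq, Ideal.map_quotient_self]
      · refine ht''h (Ideal.mul_mem_left _ _ ?_)
        rw [← Ideal.Quotient.eq_zero_iff_mem]
        have h2 : (p.map (algebraMap A A')).map (Ideal.Quotient.mk t'') ≤ v := by
          rw [Ideal.map_map, Ideal.map_le_iff_le_comap]
          exact hvp.ge
        have h3 := h2 (Ideal.mem_map_of_mem _ hcp)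
        rwa [hv0, Submodule.mem_bot] at h3
  · let K := (⊥ : Ideal A'').ResidueField
    let φ : A' ⧸ t' →ₐ[A] K := (resMap A (⊥ : Ideal A'')).comp (Ideal.Quotient.factorₐ A htt'')
    have hφ : φ.comp mk1 = (resMap A (⊥ : Ideal A'')).comp mk2 := AlgHom.ext fun x => rfl
    obtain ⟨w, hw, hπw⟩ := hforall K φ (fun h => ht''h (Ideal.mul_mem_right _ _ (by
      rw [← Ideal.Quotient.eq_zero_iff_mem]
      exact (Ideal.algebraMap_residueField_eq_zero.mp h : _ ∈ (⊥ : Ideal A'')))))
    rw [act_map, hφ] at hπw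
    refine ⟨bot_le, mk2 a, Algebra.TensorProduct.map mk2 (AlgHom.id A B) π, ⟨fun h => hau ((hu'' a).mp h), ?_⟩,
      w, hw, by rw [act_map]; exact hπw⟩
    have h4 : (t.map (algebraMap A' (A' ⊗[A] B))).map (Algebra.TensorProduct.map mk2 (AlgHom.id A B)).toRingHom ≤
        u''.map (algebraMap A'' (A'' ⊗[A] B)) := by
      rw [Ideal.map_map, Ideal.map_le_iff_le_comap]
      intro r hr
      rw [Ideal.mem_comap]
      have : algebraMap A'' (A'' ⊗[A] B) (mk2 r) ∈ u''.map (algebraMap A'' (A'' ⊗[A] B)) :=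
        Ideal.mem_map_of_mem _ ((hu'' r).mpr (htu hr))
      exact (by simpa using this : mk2 r ⊗ₜ[A] (1 : B) ∈ _)
    simpa using h4 (Ideal.mem_map_of_mem _ hcong)

end Groth.RaynaudGruson
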