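import Groth.Prelude.Def_FlatCA
import Groth.Agent.RaynaudGruson.FiberAssBridge
import Mathlib

/-!
Impurities described by operators: an element `π` of `A' ⊗ B`, congruent modulo `t` to an element
`a ∉ t` of `A'`, which is a zero divisor on `κ(t') ⊗ N`.
-/

set_option autoImplicit false
universe u

namespace Groth.RaynaudGruson

open TensorProduct

attribute [local instance] Algebra.TensorProduct.rightAlgebra

variable {A B : Type u} [CommRing A] [CommRing B] [Algebra A B] (N : Type u) [AddCommGroup N]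
  [Module B N] [Module A N] [IsScalarTower A B N]

/-- `b ↦ (1 ⊗ b •)`, as an algebra map. -/
noncomputable def actR (K : Type u) [CommRing K] [Algebra A K] : B →ₐ[A] Module.End K (K ⊗[A] N) :=
  AlgHom.ofLinearMap (LinearMap.baseChangeHom A K N N ∘ₗ (Algebra.lsmul A A N).toLinearMap)
    (TensorProduct.AlgebraTensorModule.ext fun c n => by simp)
    (fun x y => TensorProduct.AlgebraTensorModule.ext fun c n => by simp [mul_smul])

@[simp] theorem actR_tmul {K : Type u} [CommRing K] [Algebra A K] (b : B) (c : K) (n : N) :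
    actR (A := A) N K b (c ⊗ₜ n) = c ⊗ₜ (b • n) := rfl

/-- The action of `A' ⊗ B` on `K ⊗ N`. -/
noncomputable def act {A' K : Type u} [CommRing A'] [Algebra A A'] [CommRing K] [Algebra A K]
    (φ : A' →ₐ[A] K) : A' ⊗[A] B →ₐ[A] Module.End K (K ⊗[A] N) :=
  Algebra.TensorProduct.lift (((Algebra.ofId K (Module.End K (K ⊗[A] N))).restrictScalars A).comp φ)
    (actR N K) fun a b => Algebra.commutes (φ a) (actR N K b)

@[simp] theorem act_tmul {A' K : Type u} [CommRing A'] [Algebra A A'] [CommRing K] [Algebra A K]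
    (φ : A' →ₐ[A] K) (a : A') (b : B) (c : K) (n : N) :
    act N φ (a ⊗ₜ b) (c ⊗ₜ n) = (φ a * c) ⊗ₜ (b • n) := by
  simp [act, smul_tmul']

theorem act_natural {A' K L : Type u} [CommRing A'] [Algebra A A'] [CommRing K] [Algebra A K] [CommRing L]
    [Algebra A L] (φ : A' →ₐ[A] K) (ψ : K →ₐ[A] L) (π : A' ⊗[A] B) (z : K ⊗[A] N) :
    ψ.toLinearMap.rTensor N (act N φ π z) = act N (ψ.comp φ) π (ψ.toLinearMap.rTensor N z) := by
  induction π with
  | zero => simp
  | add a b ha hb => simp [map_add, ha, hb]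
  | tmul a b =>
    induction z with
    | zero => simp
    | add x y hx hy => simp [map_add, hx, hy]
    | tmul c n => simp

theorem act_map {A₀ A' K : Type u} [CommRing A₀] [Algebra A A₀] [CommRing A'] [Algebra A A'] [CommRing K]
    [Algebra A K] (φ : A' →ₐ[A] K) (ι : A₀ →ₐ[A] A') (π : A₀ ⊗[A] B) :
    act N φ (Algebra.TensorProduct.map ι (AlgHom.id A B) π) = act N (φ.comp ι) π := by
  induction π with
  | zero => simp
  | add a b ha hb => simp [map_add, ha, hb]
  | tmul a b => exact TensorProduct.AlgebraTensorModule.ext fun c n => by simp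

/-- `a ≡ π` modulo `t (A' ⊗ B)`, with `a ∉ t`. -/
def Cong {A' : Type u} [CommRing A'] [Algebra A A'] (t : Ideal A') (a : A') (π : A' ⊗[A] B) : Prop :=
  a ∉ t ∧ a ⊗ₜ[A] (1 : B) - π ∈ t.map (algebraMap A' (A' ⊗[A] B))

/-- The residue map as an `A`-algebra map. -/
noncomputable def resMap (A : Type u) [CommRing A] {A' : Type u} [CommRing A'] [Algebra A A'] (t : Ideal A')
    [t.IsPrime] : A' →ₐ[A] t.ResidueField :=
  IsScalarTower.toAlgHom A A' t.ResidueField

/-- An operator witness of an impurity: `(a, π)` with `π` a zero divisor on `κ(t') ⊗ N`. -/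
def Wit {A' : Type u} [CommRing A'] [Algebra A A'] (t' t : Ideal A') [t'.IsPrime] : Prop :=
  t' ≤ t ∧ ∃ (a : A') (π : A' ⊗[A] B), Cong (A := A) t a π ∧
    ∃ z : t'.ResidueField ⊗[A] N, z ≠ 0 ∧ act N (resMap A t') π z = 0

section Models

variable (A' B' N' : Type u) [CommRing A'] [CommRing B'] [Algebra A A'] [Algebra B B'] [Algebra A' B']
  [Algebra A B'] [IsScalarTower A B B'] [IsScalarTower A A' B'] [AddCommGroup N'] [Module B' N'] [Module B N']
  [IsScalarTower B B' N'] (f : N →ₗ[B] N')

/-- The comparison map `κ ⊗_A N → fibre`. -/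
noncomputable def toFiber (t' : Ideal A') [t'.IsPrime] :
    t'.ResidueField ⊗[A] N →ₗ[A] (t'.Fiber B') ⊗[B'] N' :=
  letI : Module A N' := Module.compHom N' (algebraMap A B')
  haveI : IsScalarTower A B' N' := IsScalarTower.of_algebraMap_smul fun _ _ => rfl
  TensorProduct.lift
    (LinearMap.mk₂ A (fun c n => ((c ⊗ₜ[A'] (1 : B')) : t'.Fiber B') ⊗ₜ[B'] f n)
      (fun c c' n => by simp [add_tmul])
      (fun r c n => by rw [smul_tmul', ← smul_tmul'])
      (fun c n n' => by simp [tmul_add])
      (fun r c n => by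
        rw [← algebraMap_smul B r n, map_smul, ← algebraMap_smul B' (algebraMap A B r) (f n),
          ← IsScalarTower.algebraMap_apply, tmul_smul, smul_tmul', smul_tmul',
          IsScalarTower.algebraMap_apply A A' B', algebraMap_smul B' (algebraMap A A' r), algebraMap_smul A' r]))

theorem toFiber_tmul (t' : Ideal A') [t'.IsPrime] (c : t'.ResidueField) (n : N) :
    toFiber (A := A) N A' B' N' f t' (c ⊗ₜ n) = ((c ⊗ₜ[A'] (1 : B')) : t'.Fiber B') ⊗ₜ[B'] f n := rfl

variable [hpush : Algebra.IsPushout A B A' B']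

theorem bijective_toFiber (hf : IsBaseChange B' f) (t' : Ideal A') [t'.IsPrime] :
    Function.Bijective (toFiber (A := A) N A' B' N' f t') := by
  let K := t'.ResidueField
  letI : Module A N' := Module.compHom N' (algebraMap A B')
  letI : Module A' N' := Module.compHom N' (algebraMap A' B')
  haveI : IsScalarTower A' B' N' := IsScalarTower.of_algebraMap_smul fun _ _ => rfl
  haveI : IsScalarTower A B' N' := IsScalarTower.of_algebraMap_smul fun _ _ => rfl
  haveI : Algebra.IsPushout A A' B B' := Algebra.IsPushout.symm hpush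
  let e₀ : N' ≃ₗ[A'] A' ⊗[A] N :=
    (hf.equiv.symm.restrictScalars A').trans (Algebra.IsPushout.cancelBaseChange A A' B B' N)
  let e₁ : (t'.Fiber B') ⊗[B'] N' ≃ₗ[K] K ⊗[A'] N' := Algebra.IsPushout.cancelBaseChange A' K B' (t'.Fiber B') N'
  let E := (e₁.trans (AlgebraTensorModule.congr (LinearEquiv.refl K K) e₀)).trans
    (AlgebraTensorModule.cancelBaseChange A A' K K N)
  have key : ∀ z, E (toFiber (A := A) N A' B' N' f t' z) = z := fun z => by
    induction z with
    | zero => simp
    | add a b ha hb => simp [map_add, ha, hb]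
    | tmul c n =>
      have h1 : ((c ⊗ₜ[A'] (1 : B')) : t'.Fiber B') ⊗ₜ[B'] f n =
          c • ((1 : t'.Fiber B') ⊗ₜ[B'] f n) := by
        rw [smul_tmul', Algebra.TensorProduct.one_def, smul_tmul', smul_eq_mul, mul_one]
      rw [toFiber_tmul, h1, map_smul]
      have h2 : e₀ (f n) = 1 ⊗ₜ n := by
        show Algebra.IsPushout.cancelBaseChange A A' B B' N (hf.equiv.symm (f n)) = _
        rw [hf.equiv_symm_apply, Algebra.IsPushout.cancelBaseChange_tmul]
      simp only [E, LinearEquiv.trans_apply, e₁, Algebra.IsPushout.cancelBaseChange_tmul]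
      simp [h2, AlgebraTensorModule.congr_tmul, smul_tmul']
  refine ⟨fun a b h => by rw [← key a, ← key b, h], fun y => ⟨E y, ?_⟩⟩
  exact E.injective (by rw [key])

/-- `A' ⊗ B → B'`. -/
noncomputable def toB' : A' ⊗[A] B →ₐ[A] B' :=
  Algebra.TensorProduct.lift (IsScalarTower.toAlgHom A A' B') (IsScalarTower.toAlgHom A B B') fun _ _ => .all _ _

omit hpush in
theorem toFiber_act (t' : Ideal A') [t'.IsPrime] (π : A' ⊗[A] B) (z : t'.ResidueField ⊗[A] N) :
    toFiber (A := A) N A' B' N' f t' (act N (resMap A t') π z) = toB' A' B' π • toFiber (A := A) N A' B' N' f t' z := by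
  induction π with
  | zero => simp
  | add a b ha hb => simp [map_add, ha, hb, add_smul]
  | tmul a b =>
    induction z with
    | zero => simp
    | add x y hx hy => simp [map_add, hx, hy, smul_add]
    | tmul c n =>
      rw [act_tmul, toFiber_tmul, toFiber_tmul]
      simp only [toB', Algebra.TensorProduct.lift_tmul, IsScalarTower.coe_toAlgHom', mul_smul]
      rw [map_smul, ← algebraMap_smul B' b (f n), tmul_smul, smul_comm (algebraMap A' B' a)]
      congr 1
      rw [algebraMap_smul, smul_tmul']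
      congr 1
      rw [smul_tmul']
      congr 1
      simp [resMap, Algebra.smul_def]

theorem toB'_surjective : Function.Surjective (toB' (A := A) (B := B) A' B') := fun y => by
  haveI : Algebra.IsPushout A A' B B' := Algebra.IsPushout.symm hpush
  refine ⟨(Algebra.IsPushout.equiv A A' B B').symm y, ?_⟩
  conv_rhs => rw [← (Algebra.IsPushout.equiv A A' B B').apply_symm_apply y]
  generalize (Algebra.IsPushout.equiv A A' B B').symm y = w
  induction w with
  | zero => simp
  | add a b ha hb => simp [map_add, ha, hb]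
  | tmul a b => simp [toB', Algebra.IsPushout.equiv_tmul]

/-- An impurity gives an operator witness. -/
theorem wit_of_isImpurity [Algebra.FiniteType A B] [Module A' N'] [IsScalarTower A' B' N'] (p : Ideal A) [p.IsPrime]
    (t' t : Ideal A') [t'.IsPrime] [t.IsPrime] (P : Ideal B') [P.IsPrime]
    (h : FlatCA.IsImpurity A B N p A' B' N' f t' t P) : Wit (A := A) (B := B) N t' t := by
  classical
  obtain ⟨-, hbc, htt, -, -, hass, hno⟩ := h
  haveI : Algebra.IsPushout A A' B B' := Algebra.IsPushout.symm hpush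
  haveI : Algebra.FiniteType A' B' := Algebra.FiniteType.equiv (inferInstance : Algebra.FiniteType A' (A' ⊗[A] B))
    (Algebra.IsPushout.equiv A A' B B')
  haveI : IsNoetherianRing (t'.Fiber B') := Algebra.FiniteType.isNoetherianRing t'.ResidueField _
  obtain ⟨a, hat, ha⟩ : ∃ a, a ∉ t ∧ algebraMap A' B' a ∈ P ⊔ t.map (algebraMap A' B') := by
    by_contra! hcon
    obtain ⟨P', hP', hle, hdis⟩ := Ideal.exists_le_prime_disjoint (P ⊔ t.map (algebraMap A' B'))
      (Algebra.algebraMapSubmonoid B' t.primeCompl) (Set.disjoint_left.mpr (by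
        rintro _ hx ⟨a, ha, rfl⟩; exact hcon a ha hx))
    refine hno P' (le_sup_left.trans hle) ⟨le_antisymm ?_ ?_⟩
    · exact Ideal.map_le_iff_le_comap.mp (le_sup_right.trans hle)
    · intro a ha
      by_contra hat
      exact Set.disjoint_left.mp hdis ha ⟨a, hat, rfl⟩
  obtain ⟨g, hg, τ, hτ, hgτ⟩ := Submodule.mem_sup.mp ha
  obtain ⟨τ₀, hτ₀, hτeq⟩ : ∃ τ₀ ∈ t.map (algebraMap A' (A' ⊗[A] B)), toB' A' B' τ₀ = τ := by
    have : t.map (algebraMap A' B') = (t.map (algebraMap A' (A' ⊗[A] B))).map (toB' (A := A) (B := B) A' B').toRingHom := by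
      rw [Ideal.map_map]
      congr 1
      ext r; simp [toB', Algebra.TensorProduct.algebraMap_apply]
    rw [this] at hτ
    obtain ⟨τ₀, h1, h2⟩ := (Ideal.mem_map_iff_of_surjective _ (toB'_surjective (A := A) (B := B) A' B')).mp hτ
    exact ⟨τ₀, h1, h2⟩
  obtain ⟨hprime, y, hy⟩ := mem_ass_of_mem_associatedPrimes hass
  obtain ⟨z, hz⟩ := (bijective_toFiber (A := A) N A' B' N' f hbc t').2 y
  refine ⟨htt, a, a ⊗ₜ (1 : B) - τ₀, ⟨hat, by rw [sub_sub_cancel]; exact hτ₀⟩, z, fun h0 => ?_,
    (bijective_toFiber (A := A) N A' B' N' f hbc t').1 ?_⟩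
  · refine hprime.ne_top (eq_top_iff.mpr fun w _ => ?_)
    rw [hy, Submodule.mem_annihilator_span_singleton, show y = 0 by rw [← hz, h0, map_zero]; rfl, smul_zero]
  · rw [toFiber_act, map_zero, hz]
    have hπ : toB' A' B' (a ⊗ₜ (1 : B) - τ₀) = g := by
      rw [map_sub, hτeq]
      simp [toB', ← hgτ]
    rw [hπ]
    have : algebraMap B' (t'.Fiber B') g ∈ FlatCA.fiberIdeal t' P := Ideal.mem_map_of_mem _ hg
    rw [hy, Submodule.mem_annihilator_span_singleton] at this
    rw [← algebraMap_smul (t'.Fiber B') g]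
    exact this

/-- A witness gives an impurity (any models). -/
theorem exists_isImpurity_of_wit [Algebra.FiniteType A B] [Module A' N'] [IsScalarTower A' B' N'] (hf : IsBaseChange B' f)
    (p : Ideal A) [p.IsPrime] (t' t : Ideal A') [t'.IsPrime] [t.IsPrime] (ht : t.LiesOver p)
    (h : Wit (A := A) (B := B) N t' t) :
    ∃ (P : Ideal B') (_ : P.IsPrime), FlatCA.IsImpurity A B N p A' B' N' f t' t P := by
  classical
  haveI : Algebra.IsPushout A A' B B' := Algebra.IsPushout.symm hpush
  haveI : Algebra.FiniteType A' B' := Algebra.FiniteType.equiv (inferInstance : Algebra.FiniteType A' (A' ⊗[A] B))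
    (Algebra.IsPushout.equiv A A' B B')
  haveI : IsNoetherianRing (t'.Fiber B') := Algebra.FiniteType.isNoetherianRing t'.ResidueField _
  obtain ⟨htt, a, π, ⟨hat, hcong⟩, z, hz, hπz⟩ := h
  let y : FlatCA.fiberMod t' B' N' := toFiber (A := A) N A' B' N' f t' z
  have hy0 : y ≠ 0 := fun h0 => hz ((bijective_toFiber (A := A) N A' B' N' f hf t').1 (h0.trans (map_zero _).symm))
  obtain ⟨Q, hQ, hle⟩ := exists_le_isAssociatedPrime_of_isNoetherianRing (t'.Fiber B') y hy0
  have hπQ : algebraMap B' (t'.Fiber B') (toB' A' B' π) ∈ Q := hle (by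
    rw [Submodule.mem_colon_singleton, Submodule.mem_bot, algebraMap_smul]
    show toB' A' B' π • toFiber (A := A) N A' B' N' f t' z = 0
    rw [← toFiber_act, hπz, map_zero])
  haveI := hQ.1
  let q := (PrimeSpectrum.preimageEquivFiber A' B' ⟨t', inferInstance⟩).symm ⟨Q, hQ.1⟩
  have hPover : (Q.comap (algebraMap B' (t'.Fiber B'))).LiesOver t' :=
    ⟨(congrArg PrimeSpectrum.asIdeal q.2).symm⟩
  refine ⟨Q.comap (algebraMap B' (t'.Fiber B')), inferInstance, hpush, hf, htt, ht, hPover, ?_, fun P' _ hle' hover => ?_⟩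
  · rw [fiberIdeal_comap]; exact hQ
  · have h1 : toB' A' B' π ∈ P' := hle' hπQ
    have h2 : toB' A' B' (a ⊗ₜ (1 : B) - π) ∈ P' := by
      have : (t.map (algebraMap A' (A' ⊗[A] B))).map (toB' (A := A) (B := B) A' B').toRingHom ≤ P' := by
        rw [Ideal.map_map, Ideal.map_le_iff_le_comap]
        intro r hr
        rw [Ideal.mem_comap]
        simp only [RingHom.comp_apply, AlgHom.toRingHom_eq_coe, RingHom.coe_coe,
          Algebra.TensorProduct.algebraMap_apply, toB', Algebra.TensorProduct.lift_tmul]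
        simpa using (Ideal.mem_comap.mp (hover.over.le hr) : algebraMap A' B' r ∈ P')
      exact this (Ideal.mem_map_of_mem _ hcong)
    have h3 := add_mem h2 h1
    rw [← map_add, sub_add_cancel] at h3
    exact hat (hover.over.ge (by simpa [toB'] using h3 : a ∈ P'.under A'))

end Models

end Groth.RaynaudGruson
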