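import Groth.Agent.RaynaudGruson.InjModFlatFibre
import Groth.Agent.RaynaudGruson.LocalStructure
import Groth.Agent.FlatMorOne.UnivInj
import Groth.Agent.Calg1.InjModMaximal
import Groth.Agent.S1277
import Groth.Agent.S1208
import Mathlib

/-!
A module map from a module of finite type into a module flat over the local base which is injective on the
closed fibre is universally injective, and its source is flat at the point.
-/

set_option autoImplicit false
set_option linter.style.haveILetI false
universe u

open TensorProduct IsLocalRing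

namespace Groth.RaynaudGruson.InjModFlat

attribute [local instance] Algebra.TensorProduct.rightAlgebra

/-- An element killed by a flat algebra with a prime over `q` is killed outside `q`. -/
theorem exists_notMem_smul_eq_zero {P C W : Type u} [CommRing P] [CommRing C] [Algebra P C] [Module.Flat P C]
    [AddCommGroup W] [Module P W] (q : Ideal P) (x : Ideal C) [x.IsPrime] [x.LiesOver q] (z : W)
    (h : (1 : C) ⊗ₜ[P] z = 0) : ∃ t ∉ q, t • z = 0 := by
  by_contra hcon
  push Not at hcon
  let I : Ideal P := LinearMap.ker (LinearMap.toSpanSingleton P W z)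
  have hI : I ≤ q := fun t ht => by_contra fun htq => hcon t htq (by simpa [I] using ht)
  let ι : (P ⧸ I) →ₗ[P] W := Submodule.liftQ I (LinearMap.toSpanSingleton P W z) le_rfl
  have hι : Function.Injective ι := LinearMap.ker_eq_bot.mp (Submodule.ker_liftQ_eq_bot _ _ _ le_rfl)
  have h1 : (1 : C) ⊗ₜ[P] (I.mkQ (1 : P)) = 0 :=
    Module.Flat.lTensor_preserves_injective_linearMap (M := C) ι hι (by
      rw [LinearMap.lTensor_tmul, map_zero]
      show (1 : C) ⊗ₜ[P] ((1 : P) • z) = 0
      rw [one_smul, h])
  obtain ⟨w, hw⟩ := (lTensor_exact C (LinearMap.exact_subtype_mkQ I) I.mkQ_surjective ((1 : C) ⊗ₜ[P] (1 : P))).mp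
    (by rw [LinearMap.lTensor_tmul]; exact h1)
  refine ‹x.IsPrime›.ne_top ((Ideal.eq_top_iff_one _).mpr ?_)
  have key : ∀ w : C ⊗[P] I, TensorProduct.rid P C (I.subtype.lTensor C w) ∈ x := by
    intro w
    induction w with
    | zero => simp
    | add a b ha hb => rw [map_add, map_add]; exact add_mem ha hb
    | tmul c i =>
      rw [LinearMap.lTensor_tmul, TensorProduct.rid_tmul, Algebra.smul_def]
      exact x.mul_mem_right _ ((Ideal.mem_of_liesOver x q (i : P)).mp (hI i.2))
  simpa [hw] using key w

set_option maxHeartbeats 1600000 in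
set_option synthInstance.maxHeartbeats 400000 in
/-- The core statement over a finitely presented algebra. -/
theorem main {A P : Type u} [CommRing A] [IsLocalRing A] [CommRing P] [Algebra A P] [Algebra.FinitePresentation A P]
    (q : Ideal P) [q.IsPrime] [q.LiesOver (maximalIdeal A)]
    (N₁ : Type u) [AddCommGroup N₁] [Module P N₁] [Module A N₁] [IsScalarTower A P N₁] [Module.Finite P N₁]
    (M : Type u) [AddCommGroup M] [Module P M] [Module A M] [IsScalarTower A P M] [Module.Flat A M]
    (v : N₁ →ₗ[P] M)
    (h : ∀ n, v n ∈ maximalIdeal A • (⊤ : Submodule A M) → ∃ t ∉ q, t • n ∈ maximalIdeal A • (⊤ : Submodule A N₁)) :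
    FlatCA.FlatAt A q N₁ ∧
      ∀ (Q : Type u) [AddCommGroup Q] [Module A Q] (z : N₁ ⊗[A] Q),
        (v.restrictScalars A).rTensor Q z = 0 → ∃ t ∉ q, t • z = 0 := by
  obtain ⟨R', S', _, _, _, _, _, _, _, _, p', q', _, _, hR, hS, hq'p', hdev⟩ :=
    LocalStructure.exists_nbhd N₁ (maximalIdeal A) q
  obtain ⟨hRet, hp'o, hκ⟩ := hR
  obtain ⟨hSet, hq'o, hκS⟩ := hS
  haveI := hRet; haveI := hp'o; haveI := hSet; haveI := hq'o; haveI := hq'p'
  haveI : Algebra.FinitePresentation A S' := Algebra.FinitePresentation.trans A P S'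
  haveI : Algebra.FinitePresentation R' S' :=
    Algebra.FinitePresentation.of_restrict_scalars_finitePresentation A R' S'
  let A' := Localization.AtPrime p'
  obtain ⟨C, _, _, _, _, _, _, hpush⟩ := EtalePushout.exists_pushout R' S' A'
  haveI := hpush
  letI : Algebra A C := ((algebraMap A' C).comp (algebraMap A A')).toAlgebra
  haveI : IsScalarTower A A' C := .of_algebraMap_eq' rfl
  have hRS'C : ∀ r : A, algebraMap A C r = algebraMap S' C (algebraMap A S' r) := fun r => by
    show algebraMap A' C (algebraMap A A' r) = _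
    rw [IsScalarTower.algebraMap_apply A R' A', IsScalarTower.algebraMap_apply A R' S',
      ← IsScalarTower.algebraMap_apply R' A' C, ← IsScalarTower.algebraMap_apply R' S' C]
  haveI : IsScalarTower A S' C := .of_algebraMap_eq hRS'C
  obtain ⟨SA, _, _, _, _, _, _, hpushA⟩ := EtalePushout.exists_pushout A P A'
  haveI := hpushA
  haveI : Algebra.IsPushout A P A' SA := Algebra.IsPushout.symm hpushA
  let j : P →ₐ[A] C := (IsScalarTower.toAlgHom A S' C).comp (IsScalarTower.toAlgHom A P S')
  let σ : SA →ₐ[A] C := Algebra.pushoutDesc SA j (IsScalarTower.toAlgHom A A' C) fun _ _ => Commute.all _ _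
  letI : Algebra SA C := σ.toRingHom.toAlgebra
  letI : Algebra P C := j.toRingHom.toAlgebra
  haveI : IsScalarTower P S' C := .of_algebraMap_eq fun s => rfl
  haveI : IsScalarTower P SA C := .of_algebraMap_eq fun s => (Algebra.pushoutDesc_left SA j _ _ s).symm
  haveI : IsScalarTower A' SA C := .of_algebraMap_eq fun a =>
    (Algebra.pushoutDesc_right SA j (IsScalarTower.toAlgHom A A' C) _ a).symm
  haveI : IsScalarTower A SA C := .of_algebraMap_eq fun r => by
    rw [IsScalarTower.algebraMap_apply A A' SA, ← IsScalarTower.algebraMap_apply A' SA C,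
      ← IsScalarTower.algebraMap_apply A A' C]
  haveI : IsScalarTower A P C := .of_algebraMap_eq fun r => by
    rw [hRS'C, IsScalarTower.algebraMap_apply A P S', IsScalarTower.algebraMap_apply P S' C]
  haveI : Algebra.FormallyEtale R' A' := Algebra.FormallyEtale.of_isLocalization p'.primeCompl
  haveI : Algebra.FormallyEtale A A' := Algebra.FormallyEtale.comp A R' A'
  haveI : Algebra.FormallyEtale P SA := Algebra.FormallyEtale.of_equiv (Algebra.IsPushout.equiv A P A' SA)
  haveI : Algebra.FormallyEtale S' C := by
    haveI : Algebra.IsPushout R' S' A' C := Algebra.IsPushout.symm inferInstance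
    exact Algebra.FormallyEtale.of_equiv (Algebra.IsPushout.equiv R' S' A' C)
  haveI : Algebra.FormallyEtale P C := Algebra.FormallyEtale.comp P S' C
  haveI : Algebra.FinitePresentation A' C :=
    Algebra.FinitePresentation.equiv (Algebra.IsPushout.equiv R' A' S' C)
  haveI : Algebra.FiniteType A' SA := by
    haveI : Algebra.IsPushout A A' P SA := Algebra.IsPushout.symm inferInstance
    exact Algebra.FiniteType.equiv (inferInstanceAs (Algebra.FiniteType A' (A' ⊗[A] P)))
      (Algebra.IsPushout.equiv A A' P SA)
  haveI hEtC : Algebra.Etale SA C :=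
    { formallyEtale := Algebra.FormallyEtale.of_restrictScalars (R := P)
      finitePresentation := Algebra.FinitePresentation.of_restrict_scalars_finitePresentation A' SA C }
  haveI hflatA' : Module.Flat A A' := Module.Flat.trans A R' A'
  haveI : Module.Flat P S' := inferInstance
  haveI : Module.Flat S' C := by
    haveI : Algebra.IsPushout R' S' A' C := Algebra.IsPushout.symm inferInstance
    exact Module.Flat.of_linearEquiv (Algebra.IsPushout.equiv R' S' A' C).symm.toLinearEquiv
  haveI : Module.Flat P C := Module.Flat.trans P S' C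
  -- the point
  haveI hmo : (IsLocalRing.maximalIdeal A').LiesOver p' :=
    ⟨(IsLocalization.AtPrime.under_maximalIdeal A' p').symm⟩
  let φA : A' →ₐ[R'] q'.ResidueField := IsLocalization.liftAlgHom (M := p'.primeCompl)
    (f := Algebra.ofId R' q'.ResidueField) fun y => isUnit_iff_ne_zero.mpr fun h => y.2 (by
      have h' : algebraMap R' q'.ResidueField (y : R') = 0 := h
      rw [IsScalarTower.algebraMap_apply R' S' q'.ResidueField, Ideal.algebraMap_residueField_eq_zero] at h'
      exact hq'p'.over ▸ h')
  let φ : C →ₐ[R'] q'.ResidueField :=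
    Algebra.pushoutDesc C φA (IsScalarTower.toAlgHom R' S' q'.ResidueField) fun _ _ => Commute.all _ _
  let x := RingHom.ker φ.toRingHom
  haveI hxp : x.IsPrime := RingHom.ker_isPrime _
  haveI hxq' : x.LiesOver q' := ⟨by
    ext s
    show s ∈ q' ↔ φ (algebraMap S' C s) = 0
    rw [Algebra.pushoutDesc_right]
    exact Ideal.algebraMap_residueField_eq_zero.symm⟩
  haveI hxm : x.LiesOver (IsLocalRing.maximalIdeal A') := ⟨by
    refine ((IsLocalRing.maximalIdeal.isMaximal A').eq_of_le (Ideal.IsPrime.under A' x).ne_top ?_)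
    rw [← Localization.AtPrime.map_eq_maximalIdeal, Ideal.map_le_iff_le_comap]
    intro r hr
    show φ (algebraMap A' C (algebraMap R' A' r)) = 0
    rw [← IsScalarTower.algebraMap_apply, φ.commutes, IsScalarTower.algebraMap_apply R' S' q'.ResidueField,
      Ideal.algebraMap_residueField_eq_zero]
    exact (Ideal.mem_of_liesOver q' p' r).mp hr⟩
  haveI hxq : x.LiesOver q := Ideal.LiesOver.trans x q' q
  haveI hA'o : (IsLocalRing.maximalIdeal A').LiesOver (maximalIdeal A) :=
    Ideal.LiesOver.trans _ p' (maximalIdeal A)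
  -- the modules
  let NC := C ⊗[P] N₁
  let MC := C ⊗[P] M
  let gC : NC →ₗ[C] MC := AlgebraTensorModule.lTensor C C v
  have hgC : ∀ w : NC, gC w = v.lTensor C w := fun w => rfl
  haveI : Module.Flat A' (SA ⊗[P] M) :=
    Module.Flat.of_linearEquiv (Algebra.IsPushout.cancelBaseChange A A' P SA M)
  haveI : IsScalarTower A' SA (C ⊗[SA] (SA ⊗[P] M)) := inferInstance
  haveI : Module.Flat A' (C ⊗[SA] (SA ⊗[P] M)) := Groth.Agent.S1277.flat_tensor_of_flat (A := SA) C (SA ⊗[P] M)
  haveI hMCflat : Module.Flat A' MC := Module.Flat.of_linearEquiv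
    ((AlgebraTensorModule.cancelBaseChange P SA C C M).restrictScalars A').symm
  -- the dévissage
  obtain ⟨N', _, _, _, _, f', hf'⟩ := EtalePushout.exists_baseChange P S' N₁
  haveI : IsScalarTower S' C NC := inferInstance
  haveI : IsScalarTower P S' NC := IsScalarTower.of_algebraMap_smul fun s z => by
    rw [← algebraMap_smul C (algebraMap P S' s) z, ← IsScalarTower.algebraMap_apply, algebraMap_smul]
  let g₀ : N₁ →ₗ[P] NC := TensorProduct.mk P C N₁ 1
  have hg₀ : IsBaseChange C g₀ := TensorProduct.isBaseChange P N₁ C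
  let h' : N' →ₗ[S'] NC := hf'.lift g₀
  have hh' : IsBaseChange C h' := IsBaseChange.of_comp hf' (by
    have : (h'.restrictScalars P).comp f' = g₀ := LinearMap.ext fun m => hf'.lift_eq _ m
    rw [show (h' : N' →ₗ[P] NC) ∘ₗ f' = g₀ from this]
    exact hg₀)
  haveI : Module.Finite S' N' := Module.Finite.equiv hf'.equiv
  have hfib : (∃ (G : Type u) (_ : AddCommGroup G) (_ : Module A' G) (Φ : G →ₗ[A'] NC), Module.Free A' G ∧
      Function.Surjective Φ ∧
      ∀ g, Φ g ∈ maximalIdeal A' • (⊤ : Submodule A' NC) → g ∈ maximalIdeal A' • (⊤ : Submodule A' G)) ∧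
    ∀ t ∉ x, ∀ y : NC, t • y ∈ maximalIdeal A' • (⊤ : Submodule A' NC) →
      y ∈ maximalIdeal A' • (⊤ : Submodule A' NC) := by
    rcases hdev N' f' hf' with hdev | hsub
    · haveI : Algebra.IsPushout R' A' S' C := inferInstance
      obtain ⟨D, ⟨DD⟩⟩ := DevissageOps.baseChange hdev A' (IsLocalRing.maximalIdeal A')
        (LocalStructure.bijective_residue_atPrime p') C NC h' hh' x
      exact exists_cover_main DD
    · haveI : Subsingleton NC := hh'.equiv.symm.toEquiv.subsingleton
      refine ⟨⟨PUnit, inferInstance, inferInstance, 0, inferInstance, fun y => ⟨0, Subsingleton.elim _ _⟩,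
        fun g _ => by rw [Subsingleton.elim g 0]; exact zero_mem _⟩,
        fun _ _ y _ => by rw [Subsingleton.elim y 0]; exact zero_mem _⟩
  obtain ⟨⟨G, _, _, Φ, hG, hΦs, hΦm⟩, htf⟩ := hfib
  haveI := hG
  -- injectivity modulo the maximal ideal
  have hmle : ∀ {X : Type u} [AddCommGroup X] [Module A X] [Module A' X] [IsScalarTower A A' X] (w : X),
      w ∈ maximalIdeal A • (⊤ : Submodule A X) → w ∈ maximalIdeal A' • (⊤ : Submodule A' X) := by
    intro X _ _ _ _ w hw
    refine Submodule.smul_induction_on hw (fun r hr m _ => ?_) fun a b ha hb => add_mem ha hb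
    rw [← algebraMap_smul A' r m]
    exact Submodule.smul_mem_smul ((Ideal.mem_of_liesOver (maximalIdeal A') (maximalIdeal A) r).mp hr) trivial
  haveI : Algebra.EssFiniteType A R' := inferInstance
  haveI : Algebra.EssFiniteType A A' := Algebra.EssFiniteType.comp A R' A'
  haveI : IsLocalHom (algebraMap A A') := ((local_hom_TFAE (algebraMap A A')).out 0 4).mpr hA'o.over.symm
  have hmap : maximalIdeal A' ≤ (maximalIdeal A).map (algebraMap A A') :=
    Algebra.FormallyUnramified.map_maximalIdeal.ge
  have hmge : ∀ {X : Type u} [AddCommGroup X] [Module A X] [Module A' X] [IsScalarTower A A' X] (w : X),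
      w ∈ maximalIdeal A' • (⊤ : Submodule A' X) → w ∈ maximalIdeal A • (⊤ : Submodule A X) := by
    intro X _ _ _ _ w hw
    have h1 := Submodule.smul_mono_left hmap hw
    rw [← Submodule.restrictScalars_mem A, Ideal.smul_restrictScalars] at h1
    exact h1
  let T₀ : Submodule P M :=
    { carrier := {m | m ∈ maximalIdeal A • (⊤ : Submodule A M)}
      add_mem' := fun ha hb => Submodule.add_mem (maximalIdeal A • (⊤ : Submodule A M)) ha hb
      zero_mem' := Submodule.zero_mem (maximalIdeal A • (⊤ : Submodule A M))
      smul_mem' := fun c m hm => smul_mem_smul_top _ c hm }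
  have hinj : ∀ z : NC, gC z ∈ maximalIdeal A' • (⊤ : Submodule A' MC) →
      z ∈ maximalIdeal A' • (⊤ : Submodule A' NC) := by
    intro z hz
    have h0 : T₀.mkQ.lTensor C (gC z) = 0 := by
      refine Submodule.smul_induction_on (p := fun w => T₀.mkQ.lTensor C w = 0) (hmge _ hz) (fun r hr w hwt => ?_)
        fun a b ha hb => by rw [map_add, ha, hb, add_zero]
      clear hwt
      induction w with
      | zero => simp
      | add a b ha hb => rw [smul_add, map_add, ha, hb, add_zero]
      | tmul c m =>
        rw [← algebraMap_smul P r (c ⊗ₜ[P] m), ← tmul_smul, LinearMap.lTensor_tmul, Submodule.mkQ_apply,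
          (Submodule.Quotient.mk_eq_zero T₀).mpr, tmul_zero]
        show algebraMap A P r • m ∈ maximalIdeal A • (⊤ : Submodule A M)
        rw [algebraMap_smul]
        exact Submodule.smul_mem_smul hr trivial
    rw [hgC, ← LinearMap.comp_apply, ← LinearMap.lTensor_comp] at h0
    obtain ⟨w, hw⟩ := (Module.Flat.lTensor_exact (R := P) C
      (LinearMap.exact_subtype_ker_map (T₀.mkQ ∘ₗ v)) z).mp h0
    rw [← hw]
    clear hw h0
    induction w with
    | zero => simp
    | add a b ha hb => rw [map_add]; exact add_mem ha hb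
    | tmul c k =>
      have hk : v (k : N₁) ∈ maximalIdeal A • (⊤ : Submodule A M) :=
        (Submodule.Quotient.mk_eq_zero T₀).mp (LinearMap.mem_ker.mp k.2)
      obtain ⟨t, ht, htk⟩ := h _ hk
      rw [LinearMap.lTensor_tmul, Submodule.subtype_apply]
      refine htf (algebraMap P C t) (fun hmem => ht ((Ideal.mem_of_liesOver x q t).mpr hmem)) _ ?_
      rw [algebraMap_smul, ← tmul_smul]
      exact hmle _ (map_mem_smul_top ((TensorProduct.mk P C N₁ c).restrictScalars A) _ htk)
  let u' : G →ₗ[A'] MC := (gC.restrictScalars A') ∘ₗ Φ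
  have hmker : ∀ {X : Type u} [AddCommGroup X] [Module A' X] (w : X),
      (1 : ResidueField A') ⊗ₜ[A'] w = 0 ↔ w ∈ maximalIdeal A' • (⊤ : Submodule A' X) := fun w => by
    rw [← LinearMap.ker_tensorProductMk, LinearMap.mem_ker, TensorProduct.mk_apply]
    rfl
  have hu' : ∀ Q' : Type u, ∀ [AddCommGroup Q'] [Module A' Q'], Function.Injective (u'.rTensor Q') := by
    intro Q' _ _
    refine Groth.FlatMorOne.rTensor_injective_of_free u' ((injective_iff_map_eq_zero _).mpr fun w hw => ?_) Q'
    obtain ⟨g, rfl⟩ : ∃ g, (1 : ResidueField A') ⊗ₜ[A'] g = w := by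
      clear hw
      induction w with
      | zero => exact ⟨0, tmul_zero _ _⟩
      | tmul c g =>
        obtain ⟨a, rfl⟩ := IsLocalRing.residue_surjective c
        exact ⟨a • g, by rw [tmul_smul, smul_tmul']; simp [Algebra.smul_def]⟩
      | add a b ha hb =>
        obtain ⟨g₁, rfl⟩ := ha
        obtain ⟨g₂, rfl⟩ := hb
        exact ⟨g₁ + g₂, tmul_add _ _ _⟩
    rw [LinearMap.lTensor_tmul, hmker] at hw
    exact (hmker g).mpr (hΦm g (hinj _ hw))
  have hu'inj : Function.Injective u' := by
    intro a b hab
    have := hu' A' (a₁ := a ⊗ₜ (1 : A')) (a₂ := b ⊗ₜ (1 : A')) (by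
      rw [LinearMap.rTensor_tmul, LinearMap.rTensor_tmul, hab])
    simpa using congrArg (TensorProduct.rid A' G) this
  have hΦ : Function.Bijective Φ := ⟨fun a b hab => hu'inj (congrArg gC hab), hΦs⟩
  let e := LinearEquiv.ofBijective Φ hΦ
  haveI : Module.Free A' NC := Module.Free.of_equiv e
  have hgU : ∀ (Q' : Type u) [AddCommGroup Q'] [Module A' Q'],
      Function.Injective ((gC.restrictScalars A').rTensor Q') := by
    intro Q' _ _
    have : (gC.restrictScalars A').rTensor Q' = (u'.rTensor Q') ∘ₗ (e.symm.toLinearMap.rTensor Q') := by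
      rw [← LinearMap.rTensor_comp]
      congr 1
      refine LinearMap.ext fun n => ?_
      show gC n = gC (Φ (e.symm n))
      rw [show Φ (e.symm n) = n from e.apply_symm_apply n]
    rw [this]
    exact (hu' Q').comp (LinearEquiv.rTensor Q' e.symm).injective
  refine ⟨?_, ?_⟩
  · haveI : Module.Flat A NC := Module.Flat.trans A A' NC
    exact (Groth.Agent.S1277.flatAt_iff_of_flat g₀ hg₀ q x hxq.over.symm).mpr
      ((FlatPred.flatAt_iff x).mpr (FlatPred.pred_of_flat _))
  · intro Q _ _ z hz
    refine exists_notMem_smul_eq_zero q x z ?_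
    let aN := AlgebraTensorModule.assoc A P P C N₁ Q
    let aM := AlgebraTensorModule.assoc A P P C M Q
    let cN := AlgebraTensorModule.cancelBaseChange A A' A' NC Q
    let cM := AlgebraTensorModule.cancelBaseChange A A' A' MC Q
    have key : ∀ w, aM (cM ((gC.restrictScalars A').rTensor (A' ⊗[A] Q) w)) =
        (AlgebraTensorModule.rTensor A Q v).lTensor C (aN (cN w)) := by
      intro w
      induction w with
      | zero => simp
      | add a b ha hb => simp only [map_add, ha, hb]
      | tmul n r =>
        induction n using TensorProduct.induction_on with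
        | zero => simp
        | add a b ha hb => simp only [add_tmul, map_add, ha, hb]
        | tmul c m =>
          induction r with
          | zero => simp
          | add a b ha hb => simp only [tmul_add, map_add, ha, hb]
          | tmul a' y =>
            simp only [LinearMap.rTensor_tmul, cN, cM, AlgebraTensorModule.cancelBaseChange_tmul,
              LinearMap.coe_restrictScalars]
            rw [show gC (c ⊗ₜ[P] m) = c ⊗ₜ[P] v m from rfl, smul_tmul', smul_tmul']
            rfl
    obtain ⟨w, hw⟩ := cN.surjective (aN.symm ((1 : C) ⊗ₜ[P] z))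
    have h1 : (gC.restrictScalars A').rTensor (A' ⊗[A] Q) w = 0 := by
      apply cM.injective
      apply aM.injective
      rw [key, hw, LinearEquiv.apply_symm_apply, LinearMap.lTensor_tmul, map_zero, map_zero]
      rw [show AlgebraTensorModule.rTensor A Q v z = 0 from hz, tmul_zero]
    have h2 := hgU _ (h1.trans (map_zero _).symm)
    rw [h2, map_zero] at hw
    exact (aN.symm.map_eq_zero_iff).mp hw.symm

end Groth.RaynaudGruson.InjModFlat
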