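import Groth.Agent.RaynaudGruson.DevissageFree
import Mathlib

/-!
A complete dévissage over a local ring gives, with no flatness hypothesis, a free module mapping onto the
module and bijective on the closed fibre, and no torsion on that fibre outside the marked prime.
-/

set_option autoImplicit false
set_option linter.style.haveILetI false
set_option linter.unusedSectionVars false
universe u

namespace Groth.RaynaudGruson.InjModFlat

open IsLocalRing DevissageFree

variable {R S : Type u} [CommRing R] [IsLocalRing R] [CommRing S] [Algebra R S]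
  {N : Type u} [AddCommGroup N] [Module S N] [Module R N] [IsScalarTower R S N]
  {D : FlatCA.CompleteDevissage R S N (maximalIdeal R)} {q : Ideal S} [q.IsPrime]

theorem smul_mem_smul_top {A M : Type u} [CommRing A] [AddCommGroup M] [Module A M] [Module R M]
    [SMulCommClass A R M] (I : Ideal R) (a : A) {m : M} (hm : m ∈ I • (⊤ : Submodule R M)) :
    a • m ∈ I • (⊤ : Submodule R M) := by
  refine Submodule.smul_induction_on hm (fun r hr w _ => ?_) fun v w hv hw => ?_
  · rw [smul_comm]; exact Submodule.smul_mem_smul hr trivial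
  · rw [smul_add]; exact add_mem hv hw

theorem map_mem_smul_top {M M' : Type u} [AddCommGroup M] [Module R M] [AddCommGroup M'] [Module R M']
    (f : M →ₗ[R] M') (I : Ideal R) {m : M} (hm : m ∈ I • (⊤ : Submodule R M)) :
    f m ∈ I • (⊤ : Submodule R M') := by
  refine Submodule.smul_induction_on hm (fun r hr w _ => ?_) fun v w hv hw => ?_
  · rw [map_smul]; exact Submodule.smul_mem_smul hr trivial
  · rw [map_add]; exact add_mem hv hw

theorem exists_mem_smul_top_of_map {M M' : Type u} [AddCommGroup M] [Module R M] [AddCommGroup M'] [Module R M']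
    (f : M →ₗ[R] M') (hf : Function.Surjective f) (I : Ideal R) {m : M} (hm : f m ∈ I • (⊤ : Submodule R M')) :
    ∃ m₀ ∈ I • (⊤ : Submodule R M), f m₀ = f m := by
  have : f m ∈ Submodule.map f (I • (⊤ : Submodule R M)) := by
    rw [Submodule.map_smul'', Submodule.map_top, LinearMap.range_eq_top.mpr hf]; exact hm
  exact this

/-- The map of a step is injective on the closed fibre. -/
theorem mem_of_apply_mem (D : FlatCA.CompleteDevissage R S N (maximalIdeal R)) {i : ℕ} (hi : i < D.n)
    {x : Fin (D.r i) → D.B i} (h : D.α i x ∈ maximalIdeal R • (⊤ : Submodule R (D.M i))) :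
    x ∈ maximalIdeal R • (⊤ : Submodule R (Fin (D.r i) → D.B i)) := by
  haveI := D.hp i
  let P := (maximalIdeal R).map (algebraMap R (D.B i))
  have h0 : ∀ y ∈ maximalIdeal R • (⊤ : Submodule R (D.M i)),
      (1 : P.ResidueField) ⊗ₜ[D.B i] y = 0 := by
    intro y hy
    refine Submodule.smul_induction_on hy (fun r hr m _ => ?_) fun a b ha hb => ?_
    · rw [← algebraMap_smul (D.B i) r m, ← TensorProduct.smul_tmul, Algebra.smul_def, mul_one,
        Ideal.algebraMap_residueField_eq_zero.mpr (Ideal.mem_map_of_mem _ hr), TensorProduct.zero_tmul]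
    · rw [TensorProduct.tmul_add, ha, hb, add_zero]
  have h1 : (1 : P.ResidueField) ⊗ₜ[D.B i] x = 0 := (D.fibreIso i hi).1 (by
    rw [LinearMap.baseChange_tmul, h0 _ h, map_zero])
  rw [DevissageFlat.mem_map_smul_top_iff]
  intro j
  have h2 := congrFun (congrArg (TensorProduct.piScalarRightHom (D.B i) (D.B i) P.ResidueField (Fin (D.r i))) h1) j
  rw [TensorProduct.piScalarRightHom_tmul, map_zero] at h2
  simpa [← Algebra.algebraMap_eq_smul_one, Ideal.algebraMap_residueField_eq_zero] using h2

/-- Free covers of the steps, bijective on the closed fibre, whose closed fibres have no torsion. -/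
theorem exists_cover (DD : FlatCA.CompleteDevissageAt R S N (maximalIdeal R) q D) :
    ∀ k i, i + k + 1 = D.n →
    (∃ (G : Type u) (_ : AddCommGroup G) (_ : Module R G) (Φ : G →ₗ[R] D.M i), Module.Free R G ∧
      Function.Surjective Φ ∧
      ∀ g, Φ g ∈ maximalIdeal R • (⊤ : Submodule R (D.M i)) → g ∈ maximalIdeal R • (⊤ : Submodule R G)) ∧
    ∀ t ∉ DD.qB i, ∀ y : D.M i, t • y ∈ maximalIdeal R • (⊤ : Submodule R (D.M i)) →
      y ∈ maximalIdeal R • (⊤ : Submodule R (D.M i)) := by
  haveI := DD.hqB
  haveI := DD.hqA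
  have hcan : ∀ i, i < D.n → ∀ t ∉ DD.qB i, ∀ x : Fin (D.r i) → D.B i,
      D.α i (t • x) ∈ maximalIdeal R • (⊤ : Submodule R (D.M i)) →
      D.α i x ∈ maximalIdeal R • (⊤ : Submodule R (D.M i)) := by
    intro i hi t ht x hx
    haveI := D.hp i
    haveI := DD.overB i
    have h1 := mem_of_apply_mem D hi hx
    rw [DevissageFlat.mem_map_smul_top_iff] at h1
    refine map_mem_smul_top ((D.α i).restrictScalars R) _ ((DevissageFlat.mem_map_smul_top_iff _).mpr fun j => ?_)
    refine ((D.hp i).mem_or_mem (h1 j)).resolve_left fun hmem => ht ?_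
    exact Ideal.map_le_iff_le_comap.mpr (Ideal.over_def (DD.qB i) (maximalIdeal R)).le hmem
  intro k
  induction k with
  | zero =>
    intro i hi
    have hi' : i < D.n := by omega
    obtain rfl : i = D.n - 1 := by omega
    haveI := free_B D hi'
    refine ⟨⟨_, inferInstance, inferInstance, (D.α (D.n - 1)).restrictScalars R, inferInstance, D.cokerLast,
      fun g hg => mem_of_apply_mem D hi' hg⟩, fun t ht y hy => ?_⟩
    obtain ⟨x, rfl⟩ := D.cokerLast y
    exact hcan _ hi' t ht x (by rwa [map_smul])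
  | succ k ih =>
    intro i hi
    have hi' : i < D.n := by omega
    have hi1 : i + 1 < D.n := by omega
    obtain ⟨⟨G', _, _, Φ', hG', hΦ's, hΦ'm⟩, htf⟩ := ih (i + 1) (by omega)
    haveI := free_B D hi'
    haveI := D.finiteBA (i + 1) hi1
    haveI := tower_A D (i + 1)
    haveI : IsScalarTower R (D.B i) (D.M (i + 1)) := IsScalarTower.of_algebraMap_smul fun r m => by
      rw [← algebraMap_smul (D.A (i + 1)) (algebraMap R (D.B i) r) m, ← IsScalarTower.algebraMap_apply,
        algebraMap_smul]
    let π : D.M i →ₗ[D.B i] D.M (i + 1) :=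
      (D.isoCoker i hi1).toLinearMap ∘ₗ (LinearMap.range (D.α i)).mkQ
    have hπ : Function.Surjective π := (D.isoCoker i hi1).surjective.comp (Submodule.mkQ_surjective _)
    have hker : LinearMap.ker π = LinearMap.range (D.α i) := by
      rw [LinearMap.ker_comp, LinearEquiv.ker, Submodule.comap_bot, Submodule.ker_mkQ]
    have hπα : ∀ x, π (D.α i x) = 0 := fun x =>
      LinearMap.mem_ker.mp (hker.symm ▸ LinearMap.mem_range_self (D.α i) x)
    haveI := hG'
    obtain ⟨σ, hσ⟩ := Module.projective_lifting_property (π.restrictScalars R) Φ' hπ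
    have hσ' : ∀ g, π (σ g) = Φ' g := fun g => LinearMap.congr_fun hσ g
    refine ⟨⟨(Fin (D.r i) → D.B i) × G', inferInstance, inferInstance,
      ((D.α i).restrictScalars R).coprod σ, inferInstance, fun y => ?_, fun g hg => ?_⟩, fun t ht y hy => ?_⟩
    · obtain ⟨g, hg⟩ := hΦ's (π y)
      obtain ⟨x, hx⟩ : y - σ g ∈ LinearMap.range (D.α i) :=
        hker ▸ LinearMap.mem_ker.mpr (by rw [map_sub, hσ', hg, sub_self])
      exact ⟨(x, g), by simp [LinearMap.coprod_apply, hx]⟩
    · obtain ⟨x, g⟩ := g
      simp only [LinearMap.coprod_apply, LinearMap.coe_restrictScalars] at hg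
      have hg' : g ∈ maximalIdeal R • (⊤ : Submodule R G') := hΦ'm g (by
        have := map_mem_smul_top (π.restrictScalars R) _ hg
        simpa [map_add, hπα, hσ'] using this)
      have hx : x ∈ maximalIdeal R • (⊤ : Submodule R (Fin (D.r i) → D.B i)) := mem_of_apply_mem D hi' (by
        simpa using Submodule.sub_mem _ hg (map_mem_smul_top σ _ hg'))
      have hsum := Submodule.add_mem _ (map_mem_smul_top (LinearMap.inl R _ G') _ hx)
        (map_mem_smul_top (LinearMap.inr R (Fin (D.r i) → D.B i) G') _ hg')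
      simpa using hsum
    · have hπy : π y ∈ maximalIdeal R • (⊤ : Submodule R (D.M (i + 1))) := by
        haveI := DD.overA (i + 1)
        haveI : Algebra.IsIntegral (D.B (i + 1)) (D.A (i + 1)) := Algebra.IsIntegral.of_finite _ _
        have ht' : algebraMap (D.B i) (D.A (i + 1)) t ∉ DD.qA (i + 1) := fun hmem =>
          ht (DD.qStep i hi1 ▸ (show t ∈ (DD.qA (i + 1)).comap _ from hmem))
        obtain ⟨a, b, hb, hab⟩ := FlatPred.exists_mul_eq_algebraMap (DD.qB (i + 1)) (DD.qA (i + 1))
          (DD.uniq (i + 1) hi1) ht'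
        refine htf b hb _ ?_
        rw [← algebraMap_smul (D.A (i + 1)) b (π y), ← hab, mul_comm, mul_smul, algebraMap_smul, ← map_smul]
        exact smul_mem_smul_top _ a (map_mem_smul_top (π.restrictScalars R) _ hy)
      obtain ⟨y₀, hy₀, hy₀π⟩ := exists_mem_smul_top_of_map (π.restrictScalars R) hπ _ (m := y) hπy
      obtain ⟨x, hx⟩ : y - y₀ ∈ LinearMap.range (D.α i) := hker ▸ LinearMap.mem_ker.mpr (by
        rw [map_sub, sub_eq_zero]; exact hy₀π.symm)
      have h1 : D.α i x ∈ maximalIdeal R • (⊤ : Submodule R (D.M i)) := hcan i hi' t ht x (by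
        rw [map_smul, hx, smul_sub]
        exact Submodule.sub_mem _ hy (smul_mem_smul_top _ t hy₀))
      rw [hx] at h1
      simpa using Submodule.add_mem _ h1 hy₀

/-- The free cover of the module itself. -/
theorem exists_cover_main (DD : FlatCA.CompleteDevissageAt R S N (maximalIdeal R) q D) :
    (∃ (G : Type u) (_ : AddCommGroup G) (_ : Module R G) (Φ : G →ₗ[R] N), Module.Free R G ∧
      Function.Surjective Φ ∧
      ∀ g, Φ g ∈ maximalIdeal R • (⊤ : Submodule R N) → g ∈ maximalIdeal R • (⊤ : Submodule R G)) ∧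
    ∀ t ∉ q, ∀ y : N, t • y ∈ maximalIdeal R • (⊤ : Submodule R N) → y ∈ maximalIdeal R • (⊤ : Submodule R N) := by
  haveI := DD.hqA
  haveI := DD.hqB
  obtain ⟨⟨G, _, _, Φ, hG, hs, hm⟩, htf⟩ := exists_cover DD (D.n - 1) 0 (by have := D.pos; omega)
  haveI := tower_A D 0
  let eR : N ≃ₗ[R] D.M 0 := { D.isoN.toAddEquiv with map_smul' := isoN_smul D }
  refine ⟨⟨G, inferInstance, inferInstance, eR.symm.toLinearMap ∘ₗ Φ, hG, eR.symm.surjective.comp hs,
    fun g hg => hm g (by simpa using map_mem_smul_top eR.toLinearMap _ hg)⟩, fun t ht y hy => ?_⟩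
  haveI := DD.overA 0
  haveI := D.finiteBA 0 D.pos
  haveI : Algebra.IsIntegral (D.B 0) (D.A 0) := Algebra.IsIntegral.of_finite _ _
  have ht' : algebraMap S (D.A 0) t ∉ DD.qA 0 := fun hmem =>
    ht (DD.q0 ▸ (show t ∈ (DD.qA 0).comap _ from hmem))
  obtain ⟨a, b, hb, hab⟩ := FlatPred.exists_mul_eq_algebraMap (DD.qB 0) (DD.qA 0) (DD.uniq 0 D.pos) ht'
  have h1 : b • eR y ∈ maximalIdeal R • (⊤ : Submodule R (D.M 0)) := by
    rw [← algebraMap_smul (D.A 0) b (eR y), ← hab, mul_comm, mul_smul, algebraMap_smul]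
    refine smul_mem_smul_top _ a ?_
    rw [show t • eR y = eR (t • y) from (map_smul D.isoN t y).symm]
    exact map_mem_smul_top eR.toLinearMap _ hy
  simpa using map_mem_smul_top eR.symm.toLinearMap _ (htf b hb _ h1)

end Groth.RaynaudGruson.InjModFlat
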