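import Mathlib

/-!
The key lemma of the dévissage: a map from a free module which is bijective on the fibre at the generic point
of the closed fibre is pure when the target is flat there.
-/

set_option autoImplicit false
universe u

namespace Groth.RaynaudGruson.KeyLemma

variable {R : Type u} [CommRing R] {F : Type u} [AddCommGroup F] [Module R F]

theorem mem_smul_top_iff {ι : Type*} (b : Module.Basis ι R F) (I : Ideal R) (x : F) :
    x ∈ I • (⊤ : Submodule R F) ↔ ∀ i, b.repr x i ∈ I := by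
  constructor
  · intro hx i
    refine Submodule.smul_induction_on hx ?_ ?_
    · intro a ha y _; rw [map_smul, Finsupp.smul_apply, smul_eq_mul]; exact I.mul_mem_right _ ha
    · intro y z hy hz; rw [map_add, Finsupp.add_apply]; exact I.add_mem hy hz
  · intro h
    rw [← b.linearCombination_repr x, Finsupp.linearCombination_apply]
    exact Submodule.sum_mem _ fun i _ => Submodule.smul_mem_smul (h i) trivial

/-- An element of `(span f) • N` is a combination of the `f i` with coefficients in `N`. -/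
theorem exists_sum_of_mem_span_smul {n : ℕ} (f : Fin n → R) (N : Submodule R F) {x : F}
    (hx : x ∈ Ideal.span (Set.range f) • N) : ∃ k : Fin n → F, (∀ i, k i ∈ N) ∧ x = ∑ i, f i • k i := by
  refine Submodule.smul_induction_on hx ?_ ?_
  · intro a ha y hy
    obtain ⟨c, rfl⟩ := Ideal.mem_span_range_iff_exists_fun.mp ha
    refine ⟨fun i => c i • y, fun i => N.smul_mem _ hy, ?_⟩
    rw [Finset.sum_smul]
    exact Finset.sum_congr rfl fun i _ => by rw [smul_smul, mul_comm]
  · intro y z hy hz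
    obtain ⟨k, hk, rfl⟩ := hy
    obtain ⟨l, hl, rfl⟩ := hz
    exact ⟨k + l, fun i => N.add_mem (hk i) (hl i), by simp only [Pi.add_apply, smul_add, Finset.sum_add_distrib]⟩

/-- A quotient of a flat module by a pure submodule is flat. -/
theorem flat_of_pure {A B : Type u} [AddCommGroup A] [Module R A] [AddCommGroup B] [Module R B] [Module.Flat R A]
    (π : A →ₗ[R] B) (hπ : Function.Surjective π)
    (hpure : ∀ J : Ideal R, J.FG → ∀ a ∈ J • (⊤ : Submodule R A), π a = 0 → a ∈ J • LinearMap.ker π) :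
    Module.Flat R B := by
  refine Module.Flat.iff_forall_isTrivialRelation.mpr fun {l f x} h => ?_
  choose a ha using fun i => hπ (x i)
  obtain ⟨k, hk, hsum⟩ := exists_sum_of_mem_span_smul f (LinearMap.ker π) (hpure (Ideal.span (Set.range f))
    (Submodule.fg_span (Set.finite_range f)) (∑ i, f i • a i)
    (Submodule.sum_mem _ fun i _ => Submodule.smul_mem_smul (Ideal.subset_span ⟨i, rfl⟩) trivial)
    (by rw [map_sum, ← h]; exact Finset.sum_congr rfl fun i _ => by rw [map_smul, ha]))
  obtain ⟨n, c, y, hy, hc⟩ := Module.Flat.isTrivialRelation_of_sum_smul_eq_zero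
    (f := f) (x := fun i => a i - k i) (by simp only [smul_sub, Finset.sum_sub_distrib, hsum, sub_self])
  refine ⟨n, c, fun j => π (y j), fun i => ?_, hc⟩
  rw [← ha i]
  have := congrArg π (hy i)
  rw [map_sub, LinearMap.mem_ker.mp (hk i), sub_zero, map_sum] at this
  simpa only [map_smul] using this

variable [IsLocalRing R]

/-- Elements of `I` spanning it modulo `A`, none of which is redundant. -/
theorem exists_minimal_span (I A : Ideal R) (hI : I.FG) :
    ∃ (n : ℕ) (a : Fin n → R), (∀ j, a j ∈ I) ∧ I ≤ Ideal.span (Set.range a) ⊔ A ∧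
      ∀ c : Fin n → R, ∑ j, c j * a j ∈ A → ∀ j, c j ∈ IsLocalRing.maximalIdeal R := by
  classical
  have hex : ∃ n, ∃ a : Fin n → R, (∀ j, a j ∈ I) ∧ I ≤ Ideal.span (Set.range a) ⊔ A := by
    obtain ⟨n, a, ha⟩ := Submodule.fg_iff_exists_fin_generating_family.mp hI
    exact ⟨n, a, fun j => ha ▸ Ideal.subset_span ⟨j, rfl⟩, le_sup_of_le_left ha.ge⟩
  obtain ⟨a, haI, hspan⟩ := Nat.find_spec hex
  refine ⟨_, a, haI, hspan, fun c hc j => by_contra fun hj => ?_⟩
  obtain ⟨u, hu⟩ := IsLocalRing.notMem_maximalIdeal.mp hj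
  obtain ⟨m, hm⟩ : ∃ m, Nat.find hex = m + 1 := ⟨Nat.find hex - 1, by have := j.pos; omega⟩
  refine Nat.find_min hex (m := m) (by omega) ?_
  let e : Fin m ↪ Fin (Nat.find hex) := (Fin.succAboveEmb (Fin.cast hm j)).trans (Fin.castLEEmb hm.symm.le)
  refine ⟨a ∘ e, fun i => haI _, hspan.trans (sup_le (Ideal.span_le.mpr ?_) le_sup_right)⟩
  have hne : ∀ i, i ≠ j → a i ∈ Ideal.span (Set.range (a ∘ e)) := fun i hi => by
    obtain ⟨i', hi'⟩ := Fin.exists_succAbove_eq (x := Fin.cast hm i) (y := Fin.cast hm j)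
      (fun h => hi (Fin.cast_injective hm h))
    refine Ideal.subset_span ⟨i', congrArg a ?_⟩
    refine Fin.cast_injective hm (Fin.ext ?_)
    show ((Fin.cast hm j).succAbove i').val = _
    rw [hi']
  rintro _ ⟨i, rfl⟩
  by_cases hij : i = j
  swap
  · exact Ideal.mem_sup_left (hne i hij)
  subst hij
  have hmem : ∑ x ∈ Finset.univ.erase i, c x * a x ∈ Ideal.span (Set.range (a ∘ e)) :=
    Submodule.sum_mem _ fun x hx => Ideal.mul_mem_left _ _ (hne x (Finset.ne_of_mem_erase hx))
  rw [← Finset.add_sum_erase _ _ (Finset.mem_univ i)] at hc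
  have h2 : c i * a i ∈ Ideal.span (Set.range (a ∘ e)) ⊔ A := by
    simpa using Submodule.sub_mem _ (Ideal.mem_sup_right hc) (Ideal.mem_sup_left hmem)
  simpa [← hu] using Ideal.mul_mem_left _ ((u⁻¹ : Rˣ) : R) h2

variable {S : Type u} [CommRing S] [Module S F] [SMulCommClass S R F]

/-- Torsion-freeness modulo `m` propagates to `IF/AF` for `mI ≤ A ≤ I`. -/
theorem mem_of_smul_mem {ι : Type*} (b : Module.Basis ι R F) (U : Submonoid S)
    (htf : ∀ t ∈ U, ∀ f : F, t • f ∈ IsLocalRing.maximalIdeal R • (⊤ : Submodule R F) →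
      f ∈ IsLocalRing.maximalIdeal R • (⊤ : Submodule R F))
    {I A : Ideal R} (hI : I.FG) (hA : A ≤ I) (hmI : IsLocalRing.maximalIdeal R * I ≤ A)
    {x : F} (hx : x ∈ I • (⊤ : Submodule R F)) {t : S} (ht : t ∈ U) (htx : t • x ∈ A • (⊤ : Submodule R F)) :
    x ∈ A • (⊤ : Submodule R F) := by
  obtain ⟨n, a, haI, hspan, hmin⟩ := exists_minimal_span I A hI
  have hx' : x ∈ Ideal.span (Set.range a) • (⊤ : Submodule R F) ⊔ A • (⊤ : Submodule R F) := by
    rw [← Submodule.sup_smul]
    exact Submodule.smul_mono_left hspan hx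
  obtain ⟨y, hy, z, hz, rfl⟩ := Submodule.mem_sup.mp hx'
  obtain ⟨f, -, rfl⟩ := exists_sum_of_mem_span_smul a _ hy
  have htz : t • z ∈ A • (⊤ : Submodule R F) := by
    refine Submodule.smul_induction_on hz ?_ ?_
    · intro r hr w _; rw [smul_comm]; exact Submodule.smul_mem_smul hr trivial
    · intro v w hv hw; rw [smul_add]; exact Submodule.add_mem _ hv hw
  rw [smul_add] at htx
  have hsum : ∑ j, a j • t • f j ∈ A • (⊤ : Submodule R F) := by
    have := Submodule.sub_mem _ htx htz
    rw [add_sub_cancel_right, Finset.smul_sum] at this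
    simpa only [smul_comm t] using this
  have hf : ∀ j, f j ∈ IsLocalRing.maximalIdeal R • (⊤ : Submodule R F) := by
    intro j
    refine htf t ht _ ((mem_smul_top_iff b _ _).mpr fun i => hmin (fun j => b.repr (t • f j) i) ?_ j)
    have := (mem_smul_top_iff b _ _).mp hsum i
    rw [map_sum, Finsupp.finsetSum_apply] at this
    simpa only [map_smul, Finsupp.smul_apply, smul_eq_mul, mul_comm] using this
  refine Submodule.add_mem _ (Submodule.sum_mem _ fun j _ => ?_) hz
  have hIm : I • IsLocalRing.maximalIdeal R • (⊤ : Submodule R F) ≤ A • ⊤ := by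
    rw [← Submodule.mul_smul, mul_comm I]
    exact Submodule.smul_mono_left hmI
  exact hIm (Submodule.smul_mem_smul (haI j) (hf j))

variable {M : Type u} [AddCommGroup M] [Module R M] [Module S M] [SMulCommClass S R M]

/-- **The key lemma.** If `β` is surjective up to `U`, its kernel lies in `mF`, `M` is flat and `F/mF` has no
`U`-torsion, then `β` is pure. -/
theorem mem_smul_top_of_map_mem {ι : Type*} (b : Module.Basis ι R F) (U : Submonoid S) [Module.Flat R M]
    (htf : ∀ t ∈ U, ∀ f : F, t • f ∈ IsLocalRing.maximalIdeal R • (⊤ : Submodule R F) →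
      f ∈ IsLocalRing.maximalIdeal R • (⊤ : Submodule R F))
    (β : F →ₗ[R] M) (hβ : ∀ (s : S) (f : F), β (s • f) = s • β f)
    (hker : ∀ f, β f = 0 → f ∈ IsLocalRing.maximalIdeal R • (⊤ : Submodule R F))
    (hsurj : ∀ y : M, ∃ u ∈ U, ∃ g : F, u • y = β g)
    {J : Ideal R} (hJ : J.FG) {x : F} (hx : β x ∈ J • (⊤ : Submodule R M)) :
    x ∈ J • (⊤ : Submodule R F) := by
  classical
  set m := IsLocalRing.maximalIdeal R with hm
  have hsJ : ∀ {K : Ideal R} (s : S) {y : F}, y ∈ K • (⊤ : Submodule R F) → s • y ∈ K • (⊤ : Submodule R F) := by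
    intro K s y hy
    refine Submodule.smul_induction_on hy ?_ ?_
    · intro r hr w _; rw [smul_comm]; exact Submodule.smul_mem_smul hr trivial
    · intro v w hv hw; rw [smul_add]; exact Submodule.add_mem _ hv hw
  have hlift : ∀ {y : M}, y ∈ J • (⊤ : Submodule R M) → ∃ u ∈ U, ∃ g ∈ J • (⊤ : Submodule R F), u • y = β g := by
    intro y hy
    refine Submodule.smul_induction_on hy ?_ ?_
    · intro r hr w _
      obtain ⟨u, hu, g, hg⟩ := hsurj w
      exact ⟨u, hu, r • g, Submodule.smul_mem_smul hr trivial, by rw [smul_comm, hg, map_smul]⟩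
    · intro v w hv hw
      obtain ⟨u, hu, g, hgJ, hg⟩ := hv
      obtain ⟨u', hu', g', hgJ', hg'⟩ := hw
      refine ⟨u * u', mul_mem hu hu', u' • g + u • g', Submodule.add_mem _ (hsJ _ hgJ) (hsJ _ hgJ'), ?_⟩
      rw [map_add, hβ, hβ, ← hg, ← hg', smul_smul, smul_smul, mul_comm u' u, smul_add]
  let c := Ideal.span ((b.repr x).support.image (b.repr x) : Set R)
  have hc : c.FG := Submodule.fg_span (Finset.finite_toSet _)
  have hxc : x ∈ c • (⊤ : Submodule R F) := (mem_smul_top_iff b _ _).mpr fun i => by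
    by_cases hi : i ∈ (b.repr x).support
    · exact Ideal.subset_span (Finset.mem_coe.mpr (Finset.mem_image_of_mem _ hi))
    · simp [Finsupp.notMem_support_iff.mp hi]
  have hI : (c ⊔ J).FG := Submodule.FG.sup hc hJ
  have hxI : x ∈ (c ⊔ J) • (⊤ : Submodule R F) := Submodule.smul_mono_left le_sup_left hxc
  obtain ⟨u, hu, g, hgJ, hug⟩ := hlift hx
  have hx' : u • x - g ∈ (c ⊔ J) • (⊤ : Submodule R F) :=
    Submodule.sub_mem _ (hsJ u hxI) (Submodule.smul_mono_left le_sup_right hgJ)
  have hβx' : β (u • x - g) = 0 := by rw [map_sub, hβ, hug, sub_self]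
  obtain ⟨n, a, ha⟩ := Submodule.fg_iff_exists_fin_generating_family.mp hI
  change Ideal.span (Set.range a) = c ⊔ J at ha
  obtain ⟨f, -, hf⟩ := exists_sum_of_mem_span_smul a _ (ha.symm ▸ hx')
  have hrel : ∑ i, a i • β (f i) = 0 := by
    rw [← hβx', hf, map_sum]
    simp only [map_smul]
  obtain ⟨k, d, y, hy, hd⟩ := Module.Flat.isTrivialRelation_of_sum_smul_eq_zero hrel
  obtain ⟨v, hv, G, hG⟩ : ∃ v ∈ U, ∃ G : Fin k → F, ∀ j, v • y j = β (G j) := by
    choose v hv G hG using fun j => hsurj (y j)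
    refine ⟨∏ j, v j, prod_mem fun j _ => hv j, fun j => (∏ l ∈ Finset.univ.erase j, v l) • G j, fun j => ?_⟩
    rw [hβ, ← hG j, smul_smul, Finset.prod_erase_mul _ _ (Finset.mem_univ j)]
  have hf' : ∀ i, v • f i - ∑ j, d i j • G j ∈ m • (⊤ : Submodule R F) := fun i => hker _ (by
    simp only [map_sub, map_sum, map_smul, hβ, hy i, ← hG, Finset.smul_sum, smul_comm v, sub_self])
  have hmain : v • (u • x - g) = ∑ i, a i • (v • f i - ∑ j, d i j • G j) := by
    simp only [smul_sub, Finset.sum_sub_distrib, hf, Finset.smul_sum, smul_comm v, smul_smul]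
    rw [Finset.sum_comm (f := fun x j => (a x * d x j) • G j)]
    simp only [← Finset.sum_smul, hd, zero_smul, Finset.sum_const_zero, sub_zero]
  let A := m * c ⊔ J
  have hmI : m * (c ⊔ J) ≤ A := by
    rw [Ideal.mul_sup]
    exact sup_le_sup_left Ideal.mul_le_right _
  have htx : (v * u) • x ∈ A • (⊤ : Submodule R F) := by
    have h1 : v • (u • x - g) ∈ A • (⊤ : Submodule R F) := by
      rw [hmain]
      refine Submodule.sum_mem _ fun i _ => ?_
      have hle : (c ⊔ J) • m • (⊤ : Submodule R F) ≤ A • ⊤ := by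
        rw [← Submodule.mul_smul, mul_comm (c ⊔ J)]
        exact Submodule.smul_mono_left hmI
      exact hle (Submodule.smul_mem_smul (ha ▸ Ideal.subset_span ⟨i, rfl⟩) (hf' i))
    have h2 : v • g ∈ A • (⊤ : Submodule R F) := hsJ v (Submodule.smul_mono_left le_sup_right hgJ)
    have h3 := Submodule.add_mem _ h1 h2
    rwa [smul_sub, sub_add_cancel, smul_smul] at h3
  have hxA := mem_of_smul_mem b U htf hI (sup_le_sup_right Ideal.mul_le_right _) hmI hxI (mul_mem hv hu) htx
  have hcA : c ≤ J ⊔ m • c := Ideal.span_le.mpr fun r hr => by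
    obtain ⟨i, -, rfl⟩ := Finset.mem_image.mp (Finset.mem_coe.mp hr)
    have := (mem_smul_top_iff b _ _).mp hxA i
    rw [sup_comm]
    exact this
  exact Submodule.smul_mono_left
    (Submodule.le_of_le_smul_of_le_jacobson_bot hc (IsLocalRing.maximalIdeal_le_jacobson _) hcA) hxc

end Groth.RaynaudGruson.KeyLemma
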