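import Groth.Prelude.Def_FlatCA
import Groth.Agent.Calg2.TensorFP
import Mathlib

/-!
Maps out of a finite module into completion-like targets are universally injective as soon as
no associated prime of `N ⊗ Q` is comaximal with the ideal (Krull intersection).
-/

set_option autoImplicit false
universe u

namespace Groth.RaynaudGruson

open TensorProduct

/-- Krull: the powers of `J` meet in zero unless some associated prime is comaximal with `J`. -/
theorem iInf_pow_smul_eq_bot {S T : Type u} [CommRing S] [IsNoetherianRing S] [AddCommGroup T]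
    [Module S T] [Module.Finite S T] (J : Ideal S)
    (h : ∀ q ∈ associatedPrimes S T, J ⊔ q ≠ ⊤) :
    (⨅ n : ℕ, J ^ n • ⊤ : Submodule S T) = ⊥ := by
  refine eq_bot_iff.mpr fun x hx => ?_
  obtain ⟨r, hr⟩ := (J.mem_iInf_smul_pow_eq_bot_iff x).mp hx
  refine (Submodule.mem_bot S).mpr (by_contra fun hx0 => ?_)
  obtain ⟨q, hq, hle⟩ := exists_le_isAssociatedPrime_of_isNoetherianRing S x hx0
  refine h q hq ((Ideal.eq_top_iff_one _).mpr ?_)
  have h1 : 1 - (r : S) ∈ q := hle (Submodule.mem_colon_singleton.mpr (by
    rw [Submodule.mem_bot, sub_smul, one_smul, hr, sub_self]))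
  have := Submodule.add_mem_sup r.2 h1
  rwa [add_sub_cancel] at this

variable {R S N : Type u} [CommRing R] [CommRing S] [Algebra R S] [AddCommGroup N] [Module S N]
  [Module R N] [IsScalarTower R S N]

theorem finite_tensor [Module.Finite S N] (Q : Type u) [AddCommGroup Q] [Module R Q] [Module.Finite R Q] :
    Module.Finite S (N ⊗[R] Q) := by
  classical
  obtain ⟨s, hs⟩ := (Module.finite_def.mp (inferInstance : Module.Finite S N))
  obtain ⟨t, ht⟩ := (Module.finite_def.mp (inferInstance : Module.Finite R Q))
  refine ⟨⟨(s ×ˢ t).image fun x => x.1 ⊗ₜ[R] x.2, ?_⟩⟩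
  refine eq_top_iff.mpr fun z hz => ?_
  clear hz
  induction z with
  | zero => exact zero_mem _
  | add a b ha hb => exact add_mem ha hb
  | tmul n q =>
    have hn : n ∈ Submodule.span S (s : Set N) := by rw [hs]; trivial
    induction hn using Submodule.span_induction with
    | zero => rw [zero_tmul]; exact zero_mem _
    | add a b _ _ ha hb => rw [add_tmul]; exact add_mem ha hb
    | smul c a _ ha => rw [← smul_tmul']; exact Submodule.smul_mem _ c ha
    | mem a ha =>
      have hq : q ∈ Submodule.span R (t : Set Q) := by rw [ht]; trivial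
      induction hq using Submodule.span_induction with
      | zero => rw [tmul_zero]; exact zero_mem _
      | add x y _ _ hx hy => rw [tmul_add]; exact add_mem hx hy
      | smul c x _ hx => rw [tmul_smul, ← algebraMap_smul S c]; exact Submodule.smul_mem _ _ hx
      | mem x hx =>
        exact Submodule.subset_span (Finset.mem_coe.mpr (Finset.mem_image.mpr ⟨(a, x), Finset.mem_product.mpr ⟨ha, hx⟩, rfl⟩))

/-- `f : N → M` is universally injective if it detects `N / Jⁿ N` for all `n` and no associated
prime of any `N ⊗ Q` is comaximal with `J`. -/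
theorem univInj_of_detects [IsNoetherianRing R] [IsNoetherianRing S] [Module.Finite S N] (J : Ideal S)
    (h : ∀ (Q : Type u) [AddCommGroup Q] [Module R Q], Module.Finite R Q →
      ∀ q ∈ associatedPrimes S (N ⊗[R] Q), J ⊔ q ≠ ⊤)
    {M : Type u} [AddCommGroup M] [Module R M] (f : N →ₗ[R] M)
    (hf : ∀ n : ℕ, ∃ (F : Submodule R N) (π : M →ₗ[R] N ⧸ F),
      F ≤ (J ^ n • ⊤ : Submodule S N).restrictScalars R ∧ π.comp f = F.mkQ) :
    FlatCA.UnivInj R f := fun Q _ _ => by
  refine Groth.Calg2.lTensor_injective_of_forall_fp f fun P _ _ hP => ?_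
  have hPfin : Module.Finite R P := inferInstance
  have := finite_tensor (R := R) (S := S) (N := N) P
  refine (injective_iff_map_eq_zero _).mpr fun z hz => ?_
  apply (TensorProduct.comm R P N).injective
  rw [map_zero, ← Submodule.mem_bot S, ← iInf_pow_smul_eq_bot J (h P hPfin)]
  refine (Submodule.mem_iInf _).mpr fun n => ?_
  obtain ⟨F, π, hF, hπ⟩ := hf n
  have hzero : F.mkQ.lTensor P z = 0 := by
    rw [← hπ, LinearMap.lTensor_comp, LinearMap.comp_apply, hz, map_zero]
  obtain ⟨w, rfl⟩ := ((lTensor_exact P (LinearMap.exact_subtype_mkQ F) F.mkQ_surjective) z).mp hzero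
  clear hz hzero
  induction w with
  | zero => simp
  | add a b ha hb => rw [map_add, map_add]; exact add_mem ha hb
  | tmul p x =>
    have hx : (x : N) ∈ (J ^ n • ⊤ : Submodule S N) := hF x.2
    simpa using Submodule.smul_top_le_comap_smul_top (J ^ n) ((AlgebraTensorModule.mk R S N P).flip p) hx

end Groth.RaynaudGruson
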