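import Groth.Agent.RaynaudGruson.DomainFP
import Mathlib

/-!
Flat finite type algebras which are finitely presented over enough localisations of the base.
-/

set_option autoImplicit false
universe u

namespace Groth.RaynaudGruson.LocalFP

open MvPolynomial

variable {R S : Type u} [CommRing R] [CommRing S] [Algebra R S]

attribute [local instance] MvPolynomial.algebraMvPolynomial

/-- Finite presentation after localising the base gives finitely many relations saturating the others. -/
theorem exists_relations_localization {n : ℕ} (φ : MvPolynomial (Fin n) R →ₐ[R] S) (hφ : Function.Surjective φ)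
    (T : Submonoid R) (Rp Sp : Type u) [CommRing Rp] [Algebra R Rp] [IsLocalization T Rp]
    [CommRing Sp] [Algebra S Sp] [IsLocalization (Algebra.algebraMapSubmonoid S T) Sp] [Algebra Rp Sp] [Algebra R Sp]
    [IsScalarTower R S Sp] [IsScalarTower R Rp Sp] [Algebra.FinitePresentation Rp Sp] :
    ∃ U : Ideal (MvPolynomial (Fin n) R), U.FG ∧ U ≤ RingHom.ker φ ∧
      ∀ u ∈ RingHom.ker φ, ∃ t ∈ T, C t * u ∈ U := by
  classical
  let ψ : MvPolynomial (Fin n) Rp →ₐ[Rp] Sp := aeval fun i => algebraMap S Sp (φ (X i))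
  have hcomp : ∀ p, ψ (algebraMap (MvPolynomial (Fin n) R) (MvPolynomial (Fin n) Rp) p) = algebraMap S Sp (φ p) := by
    intro p
    refine RingHom.congr_fun (f := ψ.toRingHom.comp (algebraMap (MvPolynomial (Fin n) R) (MvPolynomial (Fin n) Rp)))
      (g := (algebraMap S Sp).comp φ.toRingHom) (MvPolynomial.ringHom_ext (fun r => ?_) (fun i => ?_)) p
    · simp [ψ, ← IsScalarTower.algebraMap_apply R S Sp, ← IsScalarTower.algebraMap_apply R Rp Sp]
    · simp [ψ]
  have hψ : Function.Surjective ψ := by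
    intro y
    obtain ⟨⟨x, ⟨_, t, ht, rfl⟩⟩, hy⟩ := IsLocalization.surj (Algebra.algebraMapSubmonoid S T) y
    obtain ⟨p, rfl⟩ := hφ x
    refine ⟨C (IsLocalization.mk' Rp 1 ⟨t, ht⟩) * algebraMap _ _ p, ?_⟩
    rw [map_mul, hcomp, ← hy, aeval_C, ← IsScalarTower.algebraMap_apply R S Sp, IsScalarTower.algebraMap_apply R Rp Sp]
    calc algebraMap Rp Sp (IsLocalization.mk' Rp 1 ⟨t, ht⟩) * (y * algebraMap Rp Sp (algebraMap R Rp t))
        = y * algebraMap Rp Sp (IsLocalization.mk' Rp 1 ⟨t, ht⟩ * algebraMap R Rp t) := by rw [map_mul]; ring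
      _ = y := by rw [IsLocalization.mk'_spec Rp 1 ⟨t, ht⟩, map_one, map_one, mul_one]
  obtain ⟨G, hG⟩ := Algebra.FinitePresentation.ker_fG_of_surjective ψ hψ
  have hg : ∀ g ∈ G, ∃ v ∈ RingHom.ker φ, ∃ t ∈ T,
      g * algebraMap (MvPolynomial (Fin n) R) (MvPolynomial (Fin n) Rp) (C t) =
        algebraMap (MvPolynomial (Fin n) R) (MvPolynomial (Fin n) Rp) v := by
    intro g hg
    obtain ⟨⟨a, ⟨_, t, ht, rfl⟩⟩, ha⟩ := IsLocalization.surj (T.map (C (σ := Fin n))) g
    have h0 : algebraMap S Sp (φ a) = 0 := by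
      have hg0 : ψ g = 0 := hG.le (Submodule.subset_span hg)
      rw [← hcomp, ← ha, map_mul, hg0, zero_mul]
    obtain ⟨⟨_, t', ht', rfl⟩, ht'a⟩ := (IsLocalization.map_eq_zero_iff (Algebra.algebraMapSubmonoid S T) Sp _).mp h0
    refine ⟨C t' * a, ?_, t' * t, mul_mem ht' ht, ?_⟩
    · rw [RingHom.mem_ker, map_mul, ← MvPolynomial.algebraMap_eq, φ.commutes]
      exact ht'a
    · simp only [map_mul]
      rw [← ha]
      ring
  choose! v hv t ht htv using hg
  refine ⟨Ideal.span ↑(G.image v), Submodule.fg_span (Finset.finite_toSet _), Ideal.span_le.mpr fun x hx => ?_,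
    fun u hu => ?_⟩
  · obtain ⟨g, hg, rfl⟩ := Finset.mem_image.mp hx
    exact hv g hg
  · have h1 : algebraMap (MvPolynomial (Fin n) R) (MvPolynomial (Fin n) Rp) u ∈
        (Ideal.span (G.image v : Set (MvPolynomial (Fin n) R))).map
          (algebraMap (MvPolynomial (Fin n) R) (MvPolynomial (Fin n) Rp)) := by
      have h2 : algebraMap (MvPolynomial (Fin n) R) (MvPolynomial (Fin n) Rp) u ∈ RingHom.ker ψ.toRingHom := by
        show ψ _ = 0
        rw [hcomp, show φ u = 0 from hu, map_zero]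
      rw [← hG] at h2
      refine Submodule.span_le.mpr ?_ h2
      intro g hg
      obtain ⟨w, hw⟩ := (IsLocalization.map_units (MvPolynomial (Fin n) Rp)
        (⟨C (t g), Submonoid.mem_map_of_mem _ (ht g hg)⟩ : T.map (C (σ := Fin n)))).exists_right_inv
      have : g = algebraMap _ (MvPolynomial (Fin n) Rp) (v g) * w := by rw [← htv g hg, mul_assoc, hw, mul_one]
      rw [SetLike.mem_coe, this]
      exact Ideal.mul_mem_right _ _ (Ideal.mem_map_of_mem _ (Ideal.subset_span (Finset.mem_image_of_mem _ hg)))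
    obtain ⟨⟨⟨a, ha⟩, ⟨_, s, hs, rfl⟩⟩, has⟩ := (IsLocalization.mem_map_algebraMap_iff (T.map (C (σ := Fin n))) _).mp h1
    rw [← map_mul] at has
    obtain ⟨⟨_, c, hc, rfl⟩, hca⟩ := (IsLocalization.eq_iff_exists (T.map (C (σ := Fin n))) _).mp has
    refine ⟨c * s, mul_mem hc hs, ?_⟩
    have : C c * (u * C s) = C c * a := hca
    rw [map_mul, show C c * C s * u = C c * a by rw [← this]; ring]
    exact Ideal.mul_mem_left _ _ ha

/-- A flat finite type algebra, presented by finitely generated relations up to jointly injective scalars, is finitely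
presented. -/
theorem finitePresentation_of_relations [Module.Flat R S] {n : ℕ} (φ : MvPolynomial (Fin n) R →ₐ[R] S)
    (hφ : Function.Surjective φ) (U : Ideal (MvPolynomial (Fin n) R)) (hfg : U.FG) (hle : U ≤ RingHom.ker φ)
    (hsat : ∀ u ∈ RingHom.ker φ, ∃ s : Finset R, (∀ r : R, (∀ a ∈ s, a * r = 0) → r = 0) ∧ ∀ a ∈ s, C a * u ∈ U) :
    Algebra.FinitePresentation R S := by
  letI : Algebra (MvPolynomial (Fin n) R) S := φ.toRingHom.toAlgebra
  haveI : IsScalarTower R (MvPolynomial (Fin n) R) S :=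
    IsScalarTower.of_algebraMap_eq fun r => (φ.commutes r).symm
  haveI : Module.Finite (MvPolynomial (Fin n) R) S := Module.Finite.of_surjective (Algebra.linearMap _ S) hφ
  let e := LinearEquiv.funUnique (Fin 1) (MvPolynomial (Fin n) R) (MvPolynomial (Fin n) R)
  let π : (Fin 1 → MvPolynomial (Fin n) R) →ₗ[MvPolynomial (Fin n) R] S :=
    Algebra.linearMap (MvPolynomial (Fin n) R) S ∘ₗ e.toLinearMap
  haveI := DomainFP.finitePresentation_of_relations (R := R) π (hφ.comp e.surjective)
    (Submodule.map e.symm.toLinearMap U) (Submodule.FG.map e.symm.toLinearMap hfg)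
    (by rintro _ ⟨x, hx, rfl⟩; show φ (e (e.symm x)) = 0; rw [LinearEquiv.apply_symm_apply]; exact hle hx)
    (fun u hu => by
      obtain ⟨s, hs, hsU⟩ := hsat (e u) hu
      refine ⟨s, hs, fun a ha => ⟨C a * e u, hsU a ha, ?_⟩⟩
      apply e.injective
      rw [LinearEquiv.coe_coe, LinearEquiv.apply_symm_apply, ← MvPolynomial.smul_eq_C_mul]
      rfl)
  haveI : Algebra.FinitePresentation (MvPolynomial (Fin n) R) S :=
    Algebra.FinitePresentation.of_finitePresentation _ S
  exact Algebra.FinitePresentation.trans R (MvPolynomial (Fin n) R) S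

end Groth.RaynaudGruson.LocalFP
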