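import Groth.Agent.RaynaudGruson.AdicProjective
import Groth.Agent.RaynaudGruson.GeomIntegral
import Groth.Agent.Calg1.CompletionLocal
import Groth.Agent.Calg1.Kaplansky
import Mathlib

/-!
Over a Noetherian local ring a flat finite module over a finite type algebra which is universally
pure along the closed fibre is free.
-/

set_option autoImplicit false
universe u

namespace Groth.RaynaudGruson

open TensorProduct IsLocalRing

attribute [local instance] Algebra.TensorProduct.rightAlgebra

variable {R S N : Type u} [CommRing R] [CommRing S] [Algebra R S] [AddCommGroup N] [Module S N]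
  [Module R N] [IsScalarTower R S N]

theorem projective_quotient_maximal {A M : Type u} [CommRing A] [AddCommGroup M] [Module A M]
    (J : Ideal A) [J.IsMaximal] : Module.Projective (A ⧸ J) (M ⧸ (J • ⊤ : Submodule A M)) := by
  letI := Ideal.Quotient.field J
  infer_instance

/-- Universally pure along the closed fibre and flat implies free (Noetherian local base). -/
theorem free_of_isUnivPureAlong [IsNoetherianRing R] [IsLocalRing R] [Algebra.FiniteType R S]
    [Module.Finite S N] [Module.Flat R N] (hpure : FlatCA.IsUnivPureAlong R S N (maximalIdeal R)) :
    Module.Free R N := by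
  let C := AdicCompletion (maximalIdeal R) R
  haveI : IsNoetherianRing C :=
    Groth.Calg1.isNoetherianRing_adicCompletion _ (IsNoetherian.noetherian (maximalIdeal R))
  haveI : IsAdicComplete (maximalIdeal C) C := by
    rw [AdicCompletion.maximalIdeal_eq_map]
    exact (IsAdicComplete.map_algebraMap_iff _ _).mpr (AdicCompletion.isAdicComplete (IsNoetherian.noetherian _))
  let SC := C ⊗[R] S
  let NC := SC ⊗[S] N
  haveI : Algebra.IsPushout R S C SC := inferInstance
  haveI : Algebra.IsPushout R C S SC := Algebra.IsPushout.symm inferInstance
  haveI : Algebra.FiniteType C SC := inferInstance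
  haveI : Module.Finite SC NC := inferInstance
  let e : NC ≃ₗ[C] C ⊗[R] N := Algebra.IsPushout.cancelBaseChange R C S SC N
  haveI : Module.Flat C NC := Module.Flat.of_linearEquiv e
  haveI : (maximalIdeal R) = (maximalIdeal C).under R := (IsLocalRing.maximalIdeal_comap (algebraMap R C)).symm
  haveI : (maximalIdeal C).LiesOver (maximalIdeal R) := ⟨this⟩
  haveI := projective_quotient_maximal (M := NC) (maximalIdeal C)
  have hproj : Module.Projective C NC := by
    refine projective_of_complete (S := SC) (maximalIdeal C) fun p q _ _ _ hass htop => ?_
    refine hpure C SC NC (TensorProduct.mk S SC N 1) p (maximalIdeal C) q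
      ⟨inferInstance, TensorProduct.isBaseChange S N SC, IsLocalRing.le_maximalIdeal (Ideal.IsPrime.ne_top ‹p.IsPrime›),
        inferInstance, inferInstance, hass, fun P' _ hle hover => ?_⟩
    refine (Ideal.IsPrime.ne_top ‹P'.IsPrime›) (eq_top_iff.mpr (htop ▸ sup_le ?_ hle))
    exact Ideal.map_le_iff_le_comap.mpr hover.over.le
  haveI : Module.Projective C (C ⊗[R] N) := Module.Projective.of_equiv e
  haveI : Module.Flat R C := AdicCompletion.flat_of_isNoetherian _
  haveI : Module.FaithfullyFlat R C := Module.FaithfullyFlat.of_flat_of_isLocalHom
  haveI := Groth.Calg1.projective_descent (R := R) (S := C) N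
  exact Groth.Calg1.free_of_projective N

/-- Flat algebras with geometrically integral fibres over Noetherian local rings are free. -/
theorem free_of_geomIntegralFibres [IsNoetherianRing R] [IsLocalRing R] [Algebra.FiniteType R S]
    [Module.Flat R S] (h : FlatCA.GeomIntegralFibres R S) : Module.Free R S :=
  free_of_isUnivPureAlong (isUnivPure_self h _)

end Groth.RaynaudGruson
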