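import Groth.Agent.RaynaudGruson.LocalStructureFT
import Groth.Agent.RaynaudGruson.DevissageProj
import Groth.Agent.RaynaudGruson.DevissageOps
import Groth.Agent.RaynaudGruson.FlatPred
import Groth.Agent.FlatMorOne.FlatLocusOpen
import Mathlib

/-!
Étale local projectivity of a flat module of finite presentation.
-/

set_option autoImplicit false
universe u

open TensorProduct

namespace Groth.RaynaudGruson.LocalProjective

/-- Flatness at a point of an étale neighbourhood, over the étale base. -/
theorem flatAt_of_etaleNhd {R S R' S' : Type u} [CommRing R] [CommRing S] [CommRing R'] [CommRing S']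
    [Algebra R S] [Algebra R R'] [Algebra S S'] [Algebra R' S'] [Algebra R S'] [IsScalarTower R R' S']
    [IsScalarTower R S S'] [Algebra.Etale R R'] [Algebra.Etale S S']
    (N : Type u) [AddCommGroup N] [Module S N] [Module R N] [IsScalarTower R S N]
    (N' : Type u) [AddCommGroup N'] [Module S' N'] [Module S N'] [IsScalarTower S S' N'] [Module R' N']
    [IsScalarTower R' S' N'] [Module R N'] [IsScalarTower R S' N'] [IsScalarTower R R' N']
    (f : N →ₗ[S] N') (hf : IsBaseChange S' f) (q : Ideal S) [q.IsPrime] (q' : Ideal S') [q'.IsPrime] [hq : q'.LiesOver q]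
    (h : FlatCA.FlatAt R q N) : FlatCA.FlatAt R' q' N' := by
  have h1 : FlatCA.FlatAt R q' N' := (Groth.Agent.S1277.flatAt_iff_of_flat f hf q q' hq.over.symm).mp h
  haveI : Module.Flat R (LocalizedModule q'.primeCompl N') := h1
  haveI : IsScalarTower R R' (LocalizedModule q'.primeCompl N') := IsScalarTower.of_algebraMap_smul fun r x => by
    rw [← algebraMap_smul S' (algebraMap R R' r) x, ← IsScalarTower.algebraMap_apply, algebraMap_smul]
  exact Algebra.FormallyUnramified.flat_of_restrictScalars R R' (LocalizedModule q'.primeCompl N')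

/-- Only one point of an étale algebra lies over a given one after shrinking. -/
theorem exists_isolate {R R' : Type u} [CommRing R] [CommRing R'] [Algebra R R'] [Algebra.QuasiFinite R R']
    (p : Ideal R) [p.IsPrime] (p' : Ideal R') [p'.IsPrime] [hp : p'.LiesOver p] :
    ∃ g : R', g ∉ p' ∧ ∀ (P : Ideal R') [P.IsPrime], P.LiesOver p → g ∉ P → P = p' := by
  classical
  have hfin : {P : PrimeSpectrum R' | P.asIdeal.comap (algebraMap R R') = p ∧ P.asIdeal ≠ p'}.Finite := by
    refine ((Algebra.QuasiFinite.finite_primesOver (R := R) (S := R') p).preimage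
      (f := PrimeSpectrum.asIdeal) fun a _ b _ h => PrimeSpectrum.ext h).subset ?_
    exact fun P hP => ⟨P.2, ⟨hP.1.symm⟩⟩
  have hch : ∀ P : hfin.toFinset, ∃ g, g ∈ P.1.asIdeal ∧ g ∉ p' := fun P => by
    obtain ⟨h1, h2⟩ := hfin.mem_toFinset.mp P.2
    by_contra hcon
    simp only [not_exists, not_and, not_not] at hcon
    exact h2 (Algebra.QuasiFinite.eq_of_le_of_under_eq (R := R) (S := R') _ _ hcon (h1.trans hp.over))
  choose g hg hg' using hch
  refine ⟨∏ P, g P, fun h => ?_, fun P _ hP hgP => by_contra fun hne => ?_⟩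
  · obtain ⟨P, -, hP⟩ := Ideal.IsPrime.prod_mem_iff.mp h
    exact hg' P hP
  · let P' : hfin.toFinset := ⟨⟨P, inferInstance⟩, hfin.mem_toFinset.mpr ⟨hP.over.symm, hne⟩⟩
    exact hgP (Ideal.mem_of_dvd _ (Finset.dvd_prod_of_mem g (Finset.mem_univ P')) (hg P'))

/-- A localisation away from an element outside the prime gives an étale neighbourhood. -/
theorem exists_away {R : Type u} [CommRing R] (p : Ideal R) [p.IsPrime] (f : R) (hf : f ∉ p)
    (A : Type u) [CommRing A] [Algebra R A] [IsLocalization.Away f A] :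
    ∃ (p' : Ideal A) (_ : p'.IsPrime), FlatCA.IsEtaleNhd R A p p' ∧ p' = p.map (algebraMap R A) := by
  have hdisj : Disjoint ((Submonoid.powers f : Submonoid R) : Set R) (p : Set R) := by
    refine Set.disjoint_left.mpr ?_
    rintro _ ⟨n, rfl⟩ h
    exact hf (‹p.IsPrime›.mem_of_pow_mem n h)
  haveI : (p.map (algebraMap R A)).IsPrime :=
    IsLocalization.isPrime_of_isPrime_disjoint (Submonoid.powers f) A p ‹_› hdisj
  haveI : (p.map (algebraMap R A)).LiesOver p :=
    ⟨(IsLocalization.under_map_of_isPrime_disjoint (Submonoid.powers f) A ‹_› hdisj).symm⟩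
  exact ⟨_, inferInstance, DevissageOps.isEtaleNhd_away f p _, rfl⟩

/-- Projectivity after inverting one element of the base gives an étale neighbourhood with projective module. -/
theorem of_projective_localized {R S R₁ S₁ : Type u} [CommRing R] [CommRing S] [Algebra R S] [CommRing R₁]
    [CommRing S₁] [Algebra R R₁] [Algebra S S₁] [Algebra R₁ S₁] [Algebra R S₁] [IsScalarTower R R₁ S₁]
    [IsScalarTower R S S₁] (p : Ideal R) [p.IsPrime] (q : Ideal S) [q.IsPrime]
    (p₁ : Ideal R₁) [p₁.IsPrime] (q₁ : Ideal S₁) [q₁.IsPrime] [hq₁p₁ : q₁.LiesOver p₁]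
    (hR : FlatCA.IsEtaleNhd R R₁ p p₁) (hS : FlatCA.IsEtaleNhd S S₁ q q₁)
    (N : Type u) [AddCommGroup N] [Module S N]
    (N₁ : Type u) [AddCommGroup N₁] [Module S₁ N₁] [Module S N₁] [IsScalarTower S S₁ N₁] [Module R₁ N₁]
    [IsScalarTower R₁ S₁ N₁] (g : N →ₗ[S] N₁) (hg : IsBaseChange S₁ g) (f : R₁) (hf : f ∉ p₁)
    [Module.Projective (Localization.Away f) (LocalizedModule (Submonoid.powers f) N₁)] :
    ∃ (R' S' : Type u) (_ : CommRing R') (_ : CommRing S') (_ : Algebra R R') (_ : Algebra S S') (_ : Algebra R' S')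
      (_ : Algebra R S') (_ : IsScalarTower R R' S') (_ : IsScalarTower R S S')
      (p' : Ideal R') (q' : Ideal S') (_ : p'.IsPrime) (_ : q'.IsPrime),
      FlatCA.IsEtaleNhd R R' p p' ∧ FlatCA.IsEtaleNhd S S' q q' ∧ q'.LiesOver p' ∧
      Module.Projective R' (RestrictScalars R' S' (S' ⊗[S] N)) := by
  let R₂ := Localization.Away f
  obtain ⟨S₂, _, _, _, _, _, _, hpush⟩ := EtalePushout.exists_pushout R₁ S₁ R₂
  haveI := hpush
  haveI hpush' : Algebra.IsPushout R₁ S₁ R₂ S₂ := Algebra.IsPushout.symm hpush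
  obtain ⟨p₂, _, hp₂, -⟩ := exists_away p₁ f hf R₂
  obtain ⟨hp₂et, hp₂o, hp₂κ⟩ := id hp₂
  obtain ⟨q₂, hq₂p, hq₂q, hq₂p₂⟩ := FlatmorThree.exists_prime_over_both (R := R₁) (S := S₁) (R' := R₂) (S' := S₂)
    q₁ p₂ (hp₂o.over.symm.trans hq₁p₁.over)
  haveI := hq₂p; haveI := hp₂o; haveI := hp₂et
  haveI hq₂o : q₂.LiesOver q₁ := ⟨hq₂q.symm⟩
  haveI hq₂o' : q₂.LiesOver p₂ := ⟨hq₂p₂.symm⟩
  haveI : IsScalarTower R R₁ R₂ := inferInstance
  letI : Algebra S S₂ := ((algebraMap S₁ S₂).comp (algebraMap S S₁)).toAlgebra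
  haveI : IsScalarTower S S₁ S₂ := .of_algebraMap_eq' rfl
  letI : Algebra R S₂ := ((algebraMap R₂ S₂).comp (algebraMap R R₂)).toAlgebra
  haveI : IsScalarTower R R₂ S₂ := .of_algebraMap_eq' rfl
  haveI : IsScalarTower R S S₂ := .of_algebraMap_eq fun r => by
    show algebraMap R₂ S₂ (algebraMap R R₂ r) = algebraMap S₁ S₂ (algebraMap S S₁ (algebraMap R S r))
    rw [IsScalarTower.algebraMap_apply R R₁ R₂]
    rw [← IsScalarTower.algebraMap_apply R₁ R₂ S₂, IsScalarTower.algebraMap_apply R₁ S₁ S₂,
      ← IsScalarTower.algebraMap_apply R R₁ S₁, ← IsScalarTower.algebraMap_apply R S S₁]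
  have hS₂ : FlatCA.IsEtaleNhd S₁ S₂ q₁ q₂ :=
    ⟨EtalePushout.etale_of_isPushout' (A := R₁) (A' := R₂), hq₂o,
      EtalePushout.bijective_residue_of_isPushout p₁ p₂ hp₂κ q₁ q₂⟩
  refine ⟨R₂, S₂, inferInstance, inferInstance, inferInstance, inferInstance, inferInstance, inferInstance,
    inferInstance, inferInstance, p₂, q₂, inferInstance, inferInstance, EtalePushout.isEtaleNhd_trans hR hp₂,
    EtalePushout.isEtaleNhd_trans hS hS₂, hq₂o', ?_⟩
  let e : S₂ ⊗[S] N ≃ₗ[S₂] S₂ ⊗[S₁] N₁ :=
    (AlgebraTensorModule.cancelBaseChange S S₁ S₂ S₂ N).symm.trans (LinearEquiv.baseChange S₁ S₂ _ _ hg.equiv)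
  let e₁ : S₂ ⊗[S₁] N₁ ≃ₗ[R₂] LocalizedModule (Submonoid.powers f) N₁ :=
    (Algebra.IsPushout.cancelBaseChange R₁ R₂ S₁ S₂ N₁).trans
      (LocalizedModule.equivTensorProduct (Submonoid.powers f) N₁).symm
  haveI : Module.Projective R₂ (S₂ ⊗[S₁] N₁) := Module.Projective.of_equiv e₁.symm
  let e₂ : S₂ ⊗[S₁] N₁ ≃ₗ[R₂] RestrictScalars R₂ S₂ (S₂ ⊗[S] N) :=
    { e.symm.toAddEquiv.trans (RestrictScalars.addEquiv R₂ S₂ _).symm with
      map_smul' := fun a z => by
        refine (RestrictScalars.addEquiv R₂ S₂ (S₂ ⊗[S] N)).injective ?_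
        show (RestrictScalars.addEquiv R₂ S₂ _) ((RestrictScalars.addEquiv R₂ S₂ _).symm (e.symm (a • z))) =
          algebraMap R₂ S₂ a • (RestrictScalars.addEquiv R₂ S₂ _) ((RestrictScalars.addEquiv R₂ S₂ _).symm (e.symm z))
        rw [AddEquiv.apply_symm_apply, AddEquiv.apply_symm_apply, ← map_smul]
        exact congrArg e.symm (algebraMap_smul S₂ a z).symm }
  exact Module.Projective.of_equiv e₂

set_option maxHeartbeats 1600000 in
/-- **Étale locally a flat finitely presented module is projective over the base.** -/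
theorem exists_nbhd_projective {R S : Type u} [CommRing R] [CommRing S] [Algebra R S] [Algebra.FinitePresentation R S]
    (N : Type u) [AddCommGroup N] [Module S N] [Module R N] [IsScalarTower R S N] [Module.FinitePresentation S N]
    (p : Ideal R) [p.IsPrime] (q : Ideal S) [q.IsPrime] [q.LiesOver p] (hflat : FlatCA.FlatAt R q N) :
    ∃ (R' S' : Type u) (_ : CommRing R') (_ : CommRing S') (_ : Algebra R R') (_ : Algebra S S') (_ : Algebra R' S')
      (_ : Algebra R S') (_ : IsScalarTower R R' S') (_ : IsScalarTower R S S')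
      (p' : Ideal R') (q' : Ideal S') (_ : p'.IsPrime) (_ : q'.IsPrime),
      FlatCA.IsEtaleNhd R R' p p' ∧ FlatCA.IsEtaleNhd S S' q q' ∧ q'.LiesOver p' ∧
      Module.Projective R' (RestrictScalars R' S' (S' ⊗[S] N)) := by
  obtain ⟨R', S', _, _, _, _, _, _, _, _, p', q', _, _, hR, hS, hq'p', hdev⟩ := LocalStructure.exists_nbhd N p q
  have hR0 := hR
  have hS0 := hS
  obtain ⟨hRet, hp'o, -⟩ := hR
  obtain ⟨hSet, hq'o, -⟩ := hS
  haveI := hRet; haveI := hp'o; haveI := hSet; haveI := hq'o; haveI := hq'p'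
  haveI : Algebra.FinitePresentation R S' := Algebra.FinitePresentation.trans R S S'
  haveI : Algebra.FinitePresentation R' S' :=
    Algebra.FinitePresentation.of_restrict_scalars_finitePresentation R R' S'
  obtain ⟨N', _, _, _, _, f', hf'⟩ := EtalePushout.exists_baseChange S S' N
  letI : Module R' N' := Module.compHom N' (algebraMap R' S')
  haveI : IsScalarTower R' S' N' := IsScalarTower.of_algebraMap_smul fun _ _ => rfl
  letI : Module R N' := Module.compHom N' (algebraMap R S')
  haveI : IsScalarTower R S' N' := IsScalarTower.of_algebraMap_smul fun _ _ => rfl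
  haveI : IsScalarTower R R' N' := IsScalarTower.of_algebraMap_smul fun r x => by
    rw [← algebraMap_smul S' (algebraMap R R' r) x, ← IsScalarTower.algebraMap_apply, algebraMap_smul]
  rcases hdev N' f' hf' with hdev | hsub
  swap
  · refine ⟨R', S', inferInstance, inferInstance, inferInstance, inferInstance, inferInstance, inferInstance,
      inferInstance, inferInstance, p', q', inferInstance, inferInstance, hR0, hS0, hq'p', ?_⟩
    haveI : Subsingleton (S' ⊗[S] N) := hf'.equiv.toEquiv.subsingleton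
    haveI : Subsingleton (RestrictScalars R' S' (S' ⊗[S] N)) :=
      (RestrictScalars.addEquiv R' S' (S' ⊗[S] N)).toEquiv.subsingleton
    haveI : Module.Free R' (RestrictScalars R' S' (S' ⊗[S] N)) := Module.Free.of_subsingleton _ _
    exact inferInstance
  have hq'flat : FlatCA.FlatAt R' q' N' := flatAt_of_etaleNhd N N' f' hf' q q' hflat
  haveI : Module.FinitePresentation S' N' := Module.FinitePresentation.of_equiv hf'.equiv
  obtain ⟨_, ⟨u, rfl⟩, hqu, hu⟩ := PrimeSpectrum.isTopologicalBasis_basic_opens.exists_subset_of_mem_open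
    (show (⟨q', inferInstance⟩ : PrimeSpectrum S') ∈
      {q : PrimeSpectrum S' | Module.Flat R' (LocalizedModule q.asIdeal.primeCompl N')} from hq'flat)
    (FlatMorOne.isOpen_flatLocus R' S' N')
  obtain ⟨g, hX, hg, hXq, hunit, _, _, hp1, hq1, hdev1⟩ := DevissageOps.exists_shrink hdev u hqu
  let R1 := Localization.Away g
  let S1 := Localization.Away hX
  haveI := hp1; haveI := hq1
  let N1 := LocalizedModule (Submonoid.powers hX) N'
  haveI : IsScalarTower R' R1 S1 := inferInstance
  letI : Module R1 N1 := Module.compHom N1 (algebraMap R1 S1)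
  haveI : IsScalarTower R1 S1 N1 := IsScalarTower.of_algebraMap_smul fun _ _ => rfl
  haveI : IsScalarTower R' R1 N1 := IsScalarTower.of_algebraMap_smul fun r x => by
    rw [← algebraMap_smul S1 (algebraMap R' R1 r) x, ← IsScalarTower.algebraMap_apply, algebraMap_smul]
  haveI : Algebra.FinitePresentation R' S1 :=
    haveI : Algebra.FinitePresentation S' S1 := IsLocalization.Away.finitePresentation hX
    Algebra.FinitePresentation.trans R' S' S1
  haveI : Algebra.FinitePresentation R1 S1 :=
    Algebra.FinitePresentation.of_restrict_scalars_finitePresentation R' R1 S1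
  haveI hflat' : Module.Flat R' N1 := by
    refine LocalStructureFT.flat_localized_of_forall hX fun Q _ hQ => ?_
    have huQ : u ∉ Q := fun hmem => by
      have hdisj : Disjoint ((Submonoid.powers hX : Submonoid S') : Set S') (Q : Set S') := by
        refine Set.disjoint_left.mpr ?_
        rintro _ ⟨n, rfl⟩ h
        exact hQ (‹Q.IsPrime›.mem_of_pow_mem n h)
      exact (IsLocalization.isPrime_of_isPrime_disjoint (Submonoid.powers hX) S1 Q ‹_› hdisj).ne_top
        (Ideal.eq_top_of_isUnit_mem _ (Ideal.mem_map_of_mem _ hmem) hunit)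
    exact hu (show (⟨Q, inferInstance⟩ : PrimeSpectrum S') ∈ (PrimeSpectrum.basicOpen u : Set _) from huQ)
  haveI : Module.Flat R1 N1 :=
    (Module.flat_iff_of_isLocalization R1 (Submonoid.powers g) (M := N1)).mpr hflat'
  haveI : Module.FinitePresentation S1 N1 := inferInstance
  obtain ⟨D, -⟩ := hdev1
  obtain ⟨f, hf, hproj, -⟩ := DevissageProj.main D
  haveI : IsScalarTower R R' R1 := inferInstance
  haveI : IsScalarTower S S' S1 := inferInstance
  haveI : IsScalarTower R S' S1 := inferInstance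
  haveI : IsScalarTower R R1 S1 := .of_algebraMap_eq fun r => by
    rw [IsScalarTower.algebraMap_apply R R' R1, ← IsScalarTower.algebraMap_apply R' R1 S1,
      IsScalarTower.algebraMap_apply R' S' S1, ← IsScalarTower.algebraMap_apply R R' S',
      ← IsScalarTower.algebraMap_apply R S' S1]
  haveI : IsScalarTower R S S1 := .of_algebraMap_eq fun r => by
    rw [IsScalarTower.algebraMap_apply S S' S1, ← IsScalarTower.algebraMap_apply R S S',
      ← IsScalarTower.algebraMap_apply R S' S1]
  obtain ⟨P1, _, hP1, hP1e⟩ := exists_away p' g hg R1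
  obtain ⟨Q1, _, hQ1, hQ1e⟩ := exists_away q' hX hXq S1
  subst hP1e hQ1e
  haveI : (q'.map (algebraMap S' S1)).LiesOver (p'.map (algebraMap R' R1)) := ⟨by
    obtain ⟨-, ho1, -⟩ := hP1
    obtain ⟨-, ho2, -⟩ := hQ1
    rw [← IsLocalization.map_under (Submonoid.powers g) R1 ((q'.map (algebraMap S' S1)).under R1)]
    congr 1
    show p' = ((q'.map (algebraMap S' S1)).comap (algebraMap R1 S1)).comap (algebraMap R' R1)
    rw [Ideal.comap_comap, ← IsScalarTower.algebraMap_eq, IsScalarTower.algebraMap_eq R' S' S1, ← Ideal.comap_comap,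
      show (q'.map (algebraMap S' S1)).comap (algebraMap S' S1) = q' from ho2.over.symm]
    exact hq'p'.over⟩
  haveI : IsScalarTower S S' N1 := inferInstance
  haveI : IsScalarTower S S1 N1 := IsScalarTower.of_algebraMap_smul fun r x => by
    rw [IsScalarTower.algebraMap_apply S S' S1, algebraMap_smul, algebraMap_smul]
  have h1 : IsBaseChange S1 (((LocalizedModule.mkLinearMap (Submonoid.powers hX) N').restrictScalars S).comp f') :=
    IsBaseChange.comp hf' (IsLocalizedModule.isBaseChange (Submonoid.powers hX) S1 _)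
  exact of_projective_localized p q (p'.map (algebraMap R' R1)) (q'.map (algebraMap S' S1))
    (EtalePushout.isEtaleNhd_trans hR0 hP1) (EtalePushout.isEtaleNhd_trans hS0 hQ1) N N1 _ h1 f hf

end Groth.RaynaudGruson.LocalProjective
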