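import Groth.Agent.RaynaudGruson.LocalStructure
import Mathlib

/-!
The local structure theorem for algebras of finite type, and openness consequences.
-/

set_option autoImplicit false
universe u

open TensorProduct

namespace Groth.RaynaudGruson.LocalStructureFT

/-- Over a localised étale neighbourhood with trivial residue extension there is exactly one point above the
two given ones. -/
theorem eq_of_liesOver {R S A SA : Type u} [CommRing R] [CommRing S] [CommRing A] [CommRing SA] [Algebra R S]
    [Algebra R A] [Algebra S SA] [Algebra A SA] [Algebra R SA] [IsScalarTower R S SA] [IsScalarTower R A SA]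
    [Algebra.IsPushout R S A SA] (p : Ideal R) [p.IsPrime] (m : Ideal A) [m.IsPrime] [hm : m.LiesOver p]
    (hκ : Function.Bijective (Ideal.ResidueField.mapₐ p m (Algebra.ofId R A) hm.over))
    (q : Ideal S) [q.IsPrime] [hqp : q.LiesOver p]
    (Q Q' : Ideal SA) [Q.IsPrime] [Q'.IsPrime] [Q.LiesOver q] [Q.LiesOver m] [Q'.LiesOver q] [Q'.LiesOver m] :
    Q = Q' := by
  let gk := Ideal.ResidueField.mapₐ p q (Algebra.ofId R S) hqp.over
  let a := AlgEquiv.ofBijective _ hκ
  let ψA : A →ₐ[R] q.ResidueField :=
    (gk.comp a.symm.toAlgHom).comp (IsScalarTower.toAlgHom R A m.ResidueField)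
  let ψ : SA →ₐ[R] q.ResidueField :=
    Algebra.pushoutDesc SA (IsScalarTower.toAlgHom R S q.ResidueField) ψA fun _ _ => Commute.all _ _
  have key : ∀ (T : Ideal SA) [T.IsPrime] [hT : T.LiesOver q] [T.LiesOver m], T = RingHom.ker ψ.toRingHom := by
    intro T _ hT hTm
    let ι := Ideal.ResidueField.mapₐ q T (Algebra.ofId S SA) hT.over
    let χ := Ideal.ResidueField.mapₐ m T (Algebra.ofId A SA) hTm.over
    have h1 : (ι.restrictScalars R).comp ψ = IsScalarTower.toAlgHom R SA T.ResidueField := by
      refine Algebra.IsPushout.algHom_ext (R := R) (S := S) (R' := A) (S' := SA) ?_ ?_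
      · refine AlgHom.ext fun x => ?_
        show ι (ψ (algebraMap A SA x)) = algebraMap SA T.ResidueField (algebraMap A SA x)
        rw [Algebra.pushoutDesc_right]
        have h2 : (ι.restrictScalars R).comp gk = (χ.restrictScalars R).comp a.toAlgHom := by
          refine AlgHom.ext fun z => ?_
          refine RingHom.congr_fun (Ideal.ResidueField.ringHom_ext (RingHom.ext fun r => ?_) :
            ((ι.restrictScalars R).comp gk).toRingHom = ((χ.restrictScalars R).comp a.toAlgHom).toRingHom) z
          show ((ι.restrictScalars R).comp gk) (algebraMap R _ r) = ((χ.restrictScalars R).comp a.toAlgHom) (algebraMap R _ r)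
          rw [AlgHom.commutes, AlgHom.commutes]
        show ((ι.restrictScalars R).comp gk) (a.symm (algebraMap A m.ResidueField x)) = _
        rw [h2]
        show χ (a (a.symm (algebraMap A m.ResidueField x))) = _
        rw [AlgEquiv.apply_symm_apply, χ.commutes, IsScalarTower.algebraMap_apply A SA T.ResidueField]
      · refine AlgHom.ext fun x => ?_
        show ι (ψ (algebraMap S SA x)) = algebraMap SA T.ResidueField (algebraMap S SA x)
        rw [Algebra.pushoutDesc_left]
        show ι (algebraMap S q.ResidueField x) = _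
        rw [ι.commutes, IsScalarTower.algebraMap_apply S SA T.ResidueField]
    ext z
    rw [← Ideal.algebraMap_residueField_eq_zero (I := T)]
    show (IsScalarTower.toAlgHom R SA T.ResidueField) z = 0 ↔ ψ z = 0
    rw [← h1]
    exact map_eq_zero_iff _ ι.toRingHom.injective
  rw [key Q, key Q']

/-- Flatness at all primes of a basic open gives flatness of the localisation. -/
theorem flat_localized_of_forall {A B M : Type u} [CommRing A] [CommRing B] [Algebra A B] [AddCommGroup M]
    [Module B M] [Module A M] [IsScalarTower A B M] (g : B)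
    (h : ∀ (Q : Ideal B) [Q.IsPrime], g ∉ Q → FlatCA.FlatAt A Q M) :
    Module.Flat A (LocalizedModule (Submonoid.powers g) M) := by
  refine (FlatPred.flat_iff _).mpr fun l f a ⟨u, hu, hua⟩ => ?_
  let K : Ideal B :=
    { carrier := {v | ∃ (k : ℕ) (d : Fin l → Fin k → A) (z : Fin k → M),
        (∀ i, v • a i = ∑ j, d i j • z j) ∧ ∀ j, ∑ i, f i * d i j = 0}
      zero_mem' := ⟨0, fun _ => Fin.elim0, Fin.elim0, fun i => by simp, fun j => j.elim0⟩
      add_mem' := by
        rintro v w ⟨k, d, z, hz, hd⟩ ⟨k', d', z', hz', hd'⟩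
        refine ⟨k + k', fun i => Fin.append (d i) (d' i), Fin.append z z', fun i => ?_, fun j => ?_⟩
        · rw [add_smul, hz, hz', Fin.sum_univ_add]; simp
        · refine Fin.addCases (fun j => ?_) (fun j => ?_) j
          · simpa using hd j
          · simpa using hd' j
      smul_mem' := by
        rintro c v ⟨k, d, z, hz, hd⟩
        exact ⟨k, d, fun j => c • z j, fun i => by
          rw [smul_eq_mul, mul_smul, hz, Finset.smul_sum]
          exact Finset.sum_congr rfl fun j _ => smul_comm c (d i j) (z j), hd⟩ }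
  suffices hK : g ∈ K.radical by
    obtain ⟨n, k, d, z, hz, hd⟩ := hK
    exact ⟨g ^ n, pow_mem (Submonoid.mem_powers g) n, k, d, z, hz, hd⟩
  rw [Ideal.radical_eq_sInf]
  refine Submodule.mem_sInf.mpr fun (Q : Ideal B) hQ => by_contra fun hgQ => ?_
  obtain ⟨hKQ, hQp⟩ := hQ
  haveI : Q.IsPrime := hQp
  obtain ⟨w, hw⟩ := hu
  obtain ⟨v, hv, k, d, z, hz, hd⟩ := (FlatPred.flatAt_iff Q).mp (h Q hgQ) l f a
    ⟨u, fun hm => hgQ (Ideal.IsPrime.mem_of_pow_mem inferInstance w ((show g ^ w = u from hw).symm ▸ hm)), hua⟩
  exact hv (hKQ ⟨k, d, z, hz, hd⟩)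

/-- A flat module after an étale cover of an open set is flat there. -/
theorem exists_flat_nbhd {A B C : Type u} [CommRing A] [CommRing B] [CommRing C] [Algebra A B] [Algebra B C]
    [Algebra A C] [IsScalarTower A B C] [Algebra.Etale B C]
    (M : Type u) [AddCommGroup M] [Module B M] [Module A M] [IsScalarTower A B M]
    (MC : Type u) [AddCommGroup MC] [Module C MC] [Module B MC] [IsScalarTower B C MC]
    [Module A MC] [IsScalarTower A C MC] [Module.Flat A MC] (h : M →ₗ[B] MC) (hh : IsBaseChange C h)
    (x : Ideal C) [x.IsPrime] :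
    ∃ g, g ∉ x.comap (algebraMap B C) ∧ Module.Flat A (LocalizedModule (Submonoid.powers g) M) ∧
      ∀ (Q : Ideal B) [Q.IsPrime], g ∉ Q → ∃ x' : Ideal C, x'.IsPrime ∧ x'.comap (algebraMap B C) = Q := by
  have hopen : IsOpen (Set.range (PrimeSpectrum.comap (algebraMap B C))) :=
    (PrimeSpectrum.isOpenMap_comap_of_hasGoingDown_of_finitePresentation (R := B) (S := C)).isOpen_range
  obtain ⟨_, ⟨g, rfl⟩, hxg, hg⟩ := PrimeSpectrum.isTopologicalBasis_basic_opens.exists_subset_of_mem_open
    (⟨(⟨x, inferInstance⟩ : PrimeSpectrum C), rfl⟩ :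
      PrimeSpectrum.comap (algebraMap B C) ⟨x, inferInstance⟩ ∈ Set.range (PrimeSpectrum.comap (algebraMap B C))) hopen
  have hcov : ∀ (Q : Ideal B) [Q.IsPrime], g ∉ Q → ∃ x' : Ideal C, x'.IsPrime ∧ x'.comap (algebraMap B C) = Q := by
    intro Q _ hgQ
    obtain ⟨x', hx'⟩ := hg (show (⟨Q, inferInstance⟩ : PrimeSpectrum B) ∈ (PrimeSpectrum.basicOpen g : Set _) from hgQ)
    exact ⟨x'.asIdeal, x'.2, congrArg PrimeSpectrum.asIdeal hx'⟩
  refine ⟨g, hxg, flat_localized_of_forall g fun Q _ hgQ => ?_, hcov⟩
  obtain ⟨x', hx'p, hx'⟩ := hcov Q hgQ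
  haveI := hx'p
  refine (Groth.Agent.S1277.flatAt_iff_of_flat h hh Q x' hx').mpr ?_
  exact (FlatPred.flatAt_iff x').mpr (FlatPred.pred_of_flat _)

set_option maxHeartbeats 1600000 in
/-- **Local structure of a module flat at a point**, finite type case. -/
theorem exists_nbhd_free {R S : Type u} [CommRing R] [CommRing S] [Algebra R S] [Algebra.FiniteType R S]
    (N : Type u) [AddCommGroup N] [Module S N] [Module R N] [IsScalarTower R S N] [Module.Finite S N]
    (p : Ideal R) [p.IsPrime] (q : Ideal S) [q.IsPrime] [q.LiesOver p] (hflat : FlatCA.FlatAt R q N) :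
    ∃ (R' : Type u) (_ : CommRing R') (_ : Algebra R R') (p' : Ideal R') (_ : p'.IsPrime),
      FlatCA.IsEtaleNhd R R' p p' ∧
      ∀ (SA NA : Type u) [CommRing SA] [Algebra R SA] [Algebra S SA] [Algebra (Localization.AtPrime p') SA]
        [IsScalarTower R S SA] [IsScalarTower R (Localization.AtPrime p') SA]
        [Algebra.IsPushout R S (Localization.AtPrime p') SA]
        [AddCommGroup NA] [Module SA NA] [Module S NA] [IsScalarTower S SA NA]
        (f : N →ₗ[S] NA), IsBaseChange SA f →
        ∃ (C : Type u) (_ : CommRing C) (_ : Algebra SA C) (_ : Algebra (Localization.AtPrime p') C)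
          (_ : IsScalarTower (Localization.AtPrime p') SA C) (_ : Algebra S C) (_ : IsScalarTower S SA C)
          (x' : Ideal C) (_ : x'.IsPrime) (hx : x'.LiesOver q),
          Algebra.Etale SA C ∧
          x'.LiesOver (IsLocalRing.maximalIdeal (Localization.AtPrime p')) ∧
          Function.Bijective (Ideal.ResidueField.mapₐ q x' (Algebra.ofId S C) hx.over) ∧
          Module.Free (Localization.AtPrime p') (RestrictScalars (Localization.AtPrime p') C (C ⊗[SA] NA)) := by
  obtain ⟨n, π, hπ⟩ := Algebra.FiniteType.iff_quotient_mvPolynomial''.1 (inferInstance : Algebra.FiniteType R S)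
  obtain ⟨P, _, _, _, _, _, hPS⟩ : ∃ (P : Type u) (_ : CommRing P) (_ : Algebra R P) (_ : Algebra.FinitePresentation R P)
      (_ : Algebra P S) (_ : IsScalarTower R P S), Function.Surjective (algebraMap P S) :=
    letI : Algebra (MvPolynomial (Fin n) R) S := π.toRingHom.toAlgebra
    ⟨MvPolynomial (Fin n) R, inferInstance, inferInstance, inferInstance, π.toRingHom.toAlgebra,
      .of_algebraMap_eq fun r => (π.commutes r).symm, hπ⟩
  letI : Module P N := Module.compHom N (algebraMap P S)
  haveI : IsScalarTower P S N := IsScalarTower.of_algebraMap_smul fun _ _ => rfl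
  haveI : IsScalarTower R P N := IsScalarTower.of_algebraMap_smul fun r m => by
    show algebraMap P S (algebraMap R P r) • m = r • m
    rw [← IsScalarTower.algebraMap_apply, algebraMap_smul]
  haveI : Module.Finite P S := Module.Finite.of_surjective (Algebra.linearMap P S) hPS
  haveI : Module.Finite P N := Module.Finite.trans S N
  let qP := q.comap (algebraMap P S)
  haveI hqqP : q.LiesOver qP := ⟨rfl⟩
  haveI : qP.LiesOver p := ⟨by
    show p = (q.comap (algebraMap P S)).comap (algebraMap R P)
    rw [Ideal.comap_comap, ← IsScalarTower.algebraMap_eq]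
    exact Ideal.LiesOver.over (P := q) (p := p)⟩
  have hflatP : FlatCA.FlatAt R qP N :=
    (FlatPred.flatAt_iff qP).mpr (((FlatPred.flatAt_iff q).mp hflat).of_dvd fun u hu => by
      obtain ⟨w, rfl⟩ := hPS u
      exact ⟨w, 1, hu, fun m => by rw [one_smul, algebraMap_smul]⟩)
  obtain ⟨R', _, _, p', _, hR, hmod⟩ := LocalStructure.exists_nbhd_free N p qP hflatP
  refine ⟨R', inferInstance, inferInstance, p', inferInstance, hR, ?_⟩
  intro SA NA _ _ _ _ _ _ _ _ _ _ _ f hf
  let A := Localization.AtPrime p'
  obtain ⟨SP, _, _, _, _, _, _, hpush⟩ := EtalePushout.exists_pushout R P A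
  haveI := hpush
  haveI hpush' : Algebra.IsPushout R P A SP := Algebra.IsPushout.symm hpush
  letI : Algebra P SA := ((algebraMap S SA).comp (algebraMap P S)).toAlgebra
  haveI : IsScalarTower P S SA := .of_algebraMap_eq' rfl
  haveI : IsScalarTower R P SA := .of_algebraMap_eq fun r => by
    show algebraMap R SA r = algebraMap S SA (algebraMap P S (algebraMap R P r))
    rw [← IsScalarTower.algebraMap_apply R P S, ← IsScalarTower.algebraMap_apply]
  let σ : SP →ₐ[R] SA := Algebra.pushoutDesc SP (IsScalarTower.toAlgHom R P SA) (IsScalarTower.toAlgHom R A SA)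
    fun _ _ => Commute.all _ _
  letI : Algebra SP SA := σ.toRingHom.toAlgebra
  haveI : IsScalarTower P SP SA := .of_algebraMap_eq fun x =>
    (Algebra.pushoutDesc_left SP (IsScalarTower.toAlgHom R P SA) (IsScalarTower.toAlgHom R A SA) _ x).symm
  haveI : IsScalarTower A SP SA := .of_algebraMap_eq fun a =>
    (Algebra.pushoutDesc_right SP (IsScalarTower.toAlgHom R P SA) (IsScalarTower.toAlgHom R A SA) _ a).symm
  haveI : IsScalarTower R SP SA := .of_algebraMap_eq fun r => (σ.commutes r).symm
  haveI hpushS : Algebra.IsPushout P SP S SA := by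
    have h1 : Algebra.IsPushout R A S SA := Algebra.IsPushout.symm inferInstance
    have h2 : Algebra.IsPushout R S A SA := inferInstance
    exact Algebra.IsPushout.symm ((Algebra.IsPushout.comp_iff (R := R) (S := P) (R' := A) (S' := SP) (T := S)
      (T' := SA)).mp h2)
  letI : Module SP NA := Module.compHom NA (algebraMap SP SA)
  haveI : IsScalarTower SP SA NA := IsScalarTower.of_algebraMap_smul fun _ _ => rfl
  letI : Module P NA := Module.compHom NA (algebraMap P SA)
  haveI : IsScalarTower P SA NA := IsScalarTower.of_algebraMap_smul fun _ _ => rfl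
  haveI : IsScalarTower P SP NA := IsScalarTower.of_algebraMap_smul fun r m => by
    rw [← algebraMap_smul SA (algebraMap P SP r) m, ← IsScalarTower.algebraMap_apply, algebraMap_smul]
  haveI : IsScalarTower P S NA := IsScalarTower.of_algebraMap_smul fun r m => by
    rw [← algebraMap_smul SA (algebraMap P S r) m, ← IsScalarTower.algebraMap_apply, algebraMap_smul]
  have hfP : IsBaseChange SP (f.restrictScalars P) := by
    refine IsBaseChange.of_equiv ((Algebra.IsPushout.cancelBaseChange P SP S SA N).symm.trans
      (hf.equiv.restrictScalars SP)) fun m => ?_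
    show hf.equiv ((Algebra.IsPushout.cancelBaseChange P SP S SA N).symm ((1 : SP) ⊗ₜ[P] m)) = f m
    rw [Algebra.IsPushout.cancelBaseChange_symm_tmul, map_one, hf.equiv_tmul, one_smul]
  obtain ⟨CP, _, _, _, _, _, _, xP, _, hxP, hetP, -, hxPm, hκP, -, hfreeP⟩ := hmod SP NA (f.restrictScalars P) hfP
  obtain ⟨C, _, _, _, _, _, _, hpC⟩ := EtalePushout.exists_pushout SP SA CP
  haveI := hpC
  haveI := hetP
  haveI hpC' : Algebra.IsPushout SP SA CP C := Algebra.IsPushout.symm hpC
  haveI hetC : Algebra.Etale SA C := Algebra.Etale.of_equiv (Algebra.IsPushout.equiv SP SA CP C)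
  letI : Algebra A C := ((algebraMap SA C).comp (algebraMap A SA)).toAlgebra
  haveI : IsScalarTower A SA C := .of_algebraMap_eq' rfl
  haveI : IsScalarTower A CP C := .of_algebraMap_eq fun a => by
    rw [IsScalarTower.algebraMap_apply A SP CP, ← IsScalarTower.algebraMap_apply SP CP C,
      IsScalarTower.algebraMap_apply A SA C, IsScalarTower.algebraMap_apply A SP SA,
      ← IsScalarTower.algebraMap_apply SP SA C]
  letI : Algebra S C := ((algebraMap SA C).comp (algebraMap S SA)).toAlgebra
  haveI : IsScalarTower S SA C := .of_algebraMap_eq' rfl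
  letI : Algebra P C := ((algebraMap CP C).comp (algebraMap P CP)).toAlgebra
  haveI : IsScalarTower P CP C := .of_algebraMap_eq' rfl
  haveI : IsScalarTower P S C := .of_algebraMap_eq fun a => by
    show algebraMap CP C (algebraMap P CP a) = algebraMap SA C (algebraMap S SA (algebraMap P S a))
    rw [IsScalarTower.algebraMap_apply P SP CP, ← IsScalarTower.algebraMap_apply SP CP C,
      ← IsScalarTower.algebraMap_apply P S SA, IsScalarTower.algebraMap_apply P SP SA,
      ← IsScalarTower.algebraMap_apply SP SA C]
  -- the point of `C`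
  obtain ⟨θ, hθ⟩ : ∃ θ : q.ResidueField →+* xP.ResidueField, ∀ a : P,
      θ (algebraMap S _ (algebraMap P S a)) = algebraMap CP _ (algebraMap P CP a) := by
    let b := RingEquiv.ofBijective _ (EtalePushout.bijective_mapₐ_of_surjective qP q hPS)
    let c := Ideal.ResidueField.mapₐ qP xP (Algebra.ofId P CP) hxP.over
    refine ⟨c.toRingHom.comp b.symm.toRingHom, fun a => ?_⟩
    show c (b.symm _) = _
    rw [show algebraMap S q.ResidueField (algebraMap P S a) = b (algebraMap P _ a) from by
      show _ = Ideal.ResidueField.mapₐ qP q (Algebra.ofId P S) hqqP.over (algebraMap P _ a)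
      rw [AlgHom.commutes, IsScalarTower.algebraMap_apply P S q.ResidueField],
      RingEquiv.symm_apply_apply, c.commutes, IsScalarTower.algebraMap_apply P CP xP.ResidueField]
  letI : Algebra S xP.ResidueField := (θ.comp (algebraMap S q.ResidueField)).toAlgebra
  haveI : IsScalarTower P S xP.ResidueField := .of_algebraMap_eq fun a => by
    show algebraMap P xP.ResidueField a = θ (algebraMap S q.ResidueField (algebraMap P S a))
    rw [hθ, ← IsScalarTower.algebraMap_apply]
  let τS : SA →ₐ[P] xP.ResidueField :=
    Algebra.pushoutDesc SA (IsScalarTower.toAlgHom P SP xP.ResidueField) (IsScalarTower.toAlgHom P S xP.ResidueField)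
      fun _ _ => Commute.all _ _
  letI : Algebra SA xP.ResidueField := τS.toRingHom.toAlgebra
  haveI : IsScalarTower SP SA xP.ResidueField := .of_algebraMap_eq fun z =>
    (Algebra.pushoutDesc_left SA (IsScalarTower.toAlgHom P SP xP.ResidueField)
      (IsScalarTower.toAlgHom P S xP.ResidueField) _ z).symm
  let τ : C →ₐ[SP] xP.ResidueField :=
    Algebra.pushoutDesc C (IsScalarTower.toAlgHom SP CP xP.ResidueField) (IsScalarTower.toAlgHom SP SA xP.ResidueField)
      fun _ _ => Commute.all _ _
  have hsurjC : Function.Surjective (algebraMap CP C) := by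
    intro z
    obtain ⟨w, rfl⟩ := (Algebra.IsPushout.equiv SP CP SA C).surjective z
    induction w with
    | zero => exact ⟨0, by simp⟩
    | add a b ha hb =>
      obtain ⟨u, hu⟩ := ha; obtain ⟨v, hv⟩ := hb
      exact ⟨u + v, by rw [map_add, map_add, hu, hv]⟩
    | tmul a b =>
      obtain ⟨s, rfl⟩ : ∃ s, algebraMap SP SA s = b := by
        obtain ⟨w, rfl⟩ := (Algebra.IsPushout.equiv P SP S SA).surjective b
        induction w with
        | zero => exact ⟨0, by simp⟩
        | add a b ha hb =>
          obtain ⟨u, hu⟩ := ha; obtain ⟨v, hv⟩ := hb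
          exact ⟨u + v, by rw [map_add, map_add, hu, hv]⟩
        | tmul a b =>
          obtain ⟨s, rfl⟩ := hPS b
          refine ⟨a * algebraMap P SP s, ?_⟩
          rw [Algebra.IsPushout.equiv_tmul, map_mul, ← IsScalarTower.algebraMap_apply, ← IsScalarTower.algebraMap_apply]
      refine ⟨a * algebraMap SP CP s, ?_⟩
      rw [Algebra.IsPushout.equiv_tmul, map_mul, ← IsScalarTower.algebraMap_apply, ← IsScalarTower.algebraMap_apply]
  let x := RingHom.ker τ.toRingHom
  haveI : x.IsPrime := RingHom.ker_isPrime _
  haveI hxxP : x.LiesOver xP := ⟨by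
    ext c
    show c ∈ xP ↔ τ (algebraMap CP C c) = 0
    rw [Algebra.pushoutDesc_left]
    exact Ideal.algebraMap_residueField_eq_zero.symm⟩
  haveI hxqP : x.LiesOver qP := Ideal.LiesOver.trans x xP qP
  haveI hxq : x.LiesOver q := ⟨by
    apply Ideal.comap_injective_of_surjective (algebraMap P S) hPS
    show qP = (x.comap (algebraMap S C)).comap (algebraMap P S)
    rw [Ideal.comap_comap, ← IsScalarTower.algebraMap_eq]
    exact hxqP.over⟩
  haveI := hxPm
  refine ⟨C, inferInstance, inferInstance, inferInstance, inferInstance, inferInstance, inferInstance, x, inferInstance,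
    hxq, hetC, Ideal.LiesOver.trans x xP (IsLocalRing.maximalIdeal A), ?_, ?_⟩
  · have h1 : Function.Bijective (Ideal.ResidueField.mapₐ qP x (Algebra.ofId P C) hxqP.over) :=
      EtalePushout.bijective_mapₐ_trans qP xP x hκP (EtalePushout.bijective_mapₐ_of_surjective xP x hsurjC)
    let a' := Ideal.ResidueField.mapₐ qP q (Algebra.ofId P S) hqqP.over
    let b' := Ideal.ResidueField.mapₐ q x (Algebra.ofId S C) hxq.over
    refine ⟨b'.toRingHom.injective, fun w => ?_⟩
    obtain ⟨v, hv⟩ := h1.2 w
    refine ⟨a' v, ?_⟩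
    rw [← hv]
    refine RingHom.congr_fun (Ideal.ResidueField.ringHom_ext (RingHom.ext fun r => ?_) :
      b'.toRingHom.comp a'.toRingHom = (Ideal.ResidueField.mapₐ qP x (Algebra.ofId P C) hxqP.over).toRingHom) v
    show b' (a' (algebraMap P _ r)) = Ideal.ResidueField.mapₐ qP x (Algebra.ofId P C) hxqP.over (algebraMap P _ r)
    rw [AlgHom.commutes, AlgHom.commutes, IsScalarTower.algebraMap_apply P S q.ResidueField, AlgHom.commutes,
      IsScalarTower.algebraMap_apply S C x.ResidueField, ← IsScalarTower.algebraMap_apply P S C,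
      ← IsScalarTower.algebraMap_apply]
  · haveI := hfreeP
    haveI : Algebra.IsPushout SP CP SA C := hpC
    let e : C ⊗[SA] NA ≃ₗ[CP] CP ⊗[SP] NA := Algebra.IsPushout.cancelBaseChange SP CP SA C NA
    let e' : RestrictScalars A CP (CP ⊗[SP] NA) ≃ₗ[A] RestrictScalars A C (C ⊗[SA] NA) :=
      { (RestrictScalars.addEquiv A CP _).trans (e.symm.toAddEquiv.trans (RestrictScalars.addEquiv A C _).symm) with
        map_smul' := fun a z => by
          refine (RestrictScalars.addEquiv A C (C ⊗[SA] NA)).injective ?_
          show (RestrictScalars.addEquiv A C _) ((RestrictScalars.addEquiv A C _).symm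
            (e.symm (algebraMap A CP a • (RestrictScalars.addEquiv A CP _) z))) =
            algebraMap A C a • (RestrictScalars.addEquiv A C _) ((RestrictScalars.addEquiv A C _).symm
              (e.symm ((RestrictScalars.addEquiv A CP _) z)))
          rw [AddEquiv.apply_symm_apply, AddEquiv.apply_symm_apply, map_smul, IsScalarTower.algebraMap_apply A CP C]
          exact (algebraMap_smul C (algebraMap A CP a) _).symm }
    exact Module.Free.of_equiv e'

end Groth.RaynaudGruson.LocalStructureFT
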