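import Groth.Agent.RaynaudGruson.LocalStructure
import Groth.Agent.Calg2.ML
import Groth.Agent.Calg1.ProjDescent
import Groth.Agent.FlatMorOne.UnivInj
import Mathlib

/-!
Localisations of free modules whose closed fibre has no torsion at the inverted elements, and
universally injective maps into them.
-/

set_option autoImplicit false
set_option linter.style.haveILetI false
universe u

namespace Groth.RaynaudGruson.LocalizedFree

open TensorProduct IsLocalRing

theorem mem_smul_top_iff_one_tmul {R M : Type u} [CommRing R] [AddCommGroup M] [Module R M] (I : Ideal R) (x : M) :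
    x ∈ I • (⊤ : Submodule R M) ↔ (1 : R ⧸ I) ⊗ₜ[R] x = 0 := by
  rw [← (quotTensorEquivQuotSMul M I).map_eq_zero_iff, ← map_one (Ideal.Quotient.mk I), quotTensorEquivQuotSMul_mk_tmul,
    one_smul, Submodule.Quotient.mk_eq_zero]

/-- Universally injective maps detect membership in `I • ⊤`. -/
theorem mem_smul_top_of_univInj {R M N : Type u} [CommRing R] [AddCommGroup M] [Module R M] [AddCommGroup N]
    [Module R N] {f : M →ₗ[R] N} (hf : FlatCA.UnivInj R f) {I : Ideal R} {x : M}
    (hx : f x ∈ I • (⊤ : Submodule R N)) : x ∈ I • (⊤ : Submodule R M) := by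
  rw [mem_smul_top_iff_one_tmul] at hx ⊢
  refine hf (R ⧸ I) ?_
  rw [LinearMap.lTensor_tmul, hx, map_zero]

section Localization

variable {R C F : Type u} [CommRing R] [IsLocalRing R] [CommRing C] [Algebra R C] [AddCommGroup F] [Module C F]
  [Module R F] [IsScalarTower R C F] [Module.Free R F] (U : Submonoid C)
  (hreg : ∀ v ∈ U, ∀ z : F, v • z ∈ ((maximalIdeal R).map (algebraMap R C)) • (⊤ : Submodule C F) →
    z ∈ ((maximalIdeal R).map (algebraMap R C)) • (⊤ : Submodule C F))

include hreg

/-- Multiplication by an element of `U` is universally injective. -/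
theorem injective_rTensor_lsmul {v : C} (hv : v ∈ U) (Q : Type u) [AddCommGroup Q] [Module R Q] :
    Function.Injective (((LinearMap.lsmul C F v).restrictScalars R).rTensor Q) := by
  refine Groth.FlatMorOne.rTensor_injective_of_projective _ ((injective_iff_map_eq_zero _).mpr fun z hz => ?_) Q
  obtain ⟨x, rfl⟩ : ∃ x : F, (1 : R ⧸ maximalIdeal R) ⊗ₜ[R] x = z :=
    TensorProduct.mk_surjective R F (R ⧸ maximalIdeal R) Ideal.Quotient.mk_surjective z
  have hz' : (1 : R ⧸ maximalIdeal R) ⊗ₜ[R] (v • x) = 0 := hz
  rw [← mem_smul_top_iff_one_tmul, ← Submodule.restrictScalars_top R C F, ← Ideal.smul_restrictScalars,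
    Submodule.restrictScalars_mem] at hz'
  have h2 := hreg v hv x hz'
  rw [← Submodule.restrictScalars_mem R, Ideal.smul_restrictScalars, Submodule.restrictScalars_top] at h2
  exact (mem_smul_top_iff_one_tmul _ x).mp h2

omit [IsLocalRing R] [Module.Free R F] hreg in
theorem smul_tensor {M : Type u} [AddCommGroup M] [Module C M] [Module R M] [IsScalarTower R C M]
    (v : C) {Q : Type u} [AddCommGroup Q] [Module R Q] (z : M ⊗[R] Q) :
    v • z = ((LinearMap.lsmul C M v).restrictScalars R).rTensor Q z := by
  induction z with
  | zero => simp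
  | tmul m q => simp [smul_tmul']
  | add a b ha hb => rw [smul_add, map_add, ha, hb]

theorem injective_rTensor_mk (Q : Type u) [AddCommGroup Q] [Module R Q] :
    Function.Injective (((LocalizedModule.mkLinearMap U F).restrictScalars R).rTensor Q) := by
  refine (injective_iff_map_eq_zero _).mpr fun z hz => ?_
  obtain ⟨v, hv⟩ := (IsLocalizedModule.eq_zero_iff U
    (AlgebraTensorModule.rTensor R Q (LocalizedModule.mkLinearMap U F)) (m := z)).mp hz
  refine injective_rTensor_lsmul U hreg v.2 Q ?_
  rw [map_zero, ← smul_tensor]
  exact hv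

/-- The map from the free module into its localisation is universally injective. -/
theorem univInj_mk : FlatCA.UnivInj R ((LocalizedModule.mkLinearMap U F).restrictScalars R) := fun Q _ _ =>
  (LinearMap.lTensor_inj_iff_rTensor_inj Q _).mpr (injective_rTensor_mk U hreg Q)

/-- The localisation is a Mittag-Leffler module. -/
theorem isMittagLeffler : CAlg.IsMittagLeffler R (LocalizedModule U F) := by
  have hF : CAlg.IsMittagLeffler R F := Groth.Calg1.isMittagLeffler_of_projective F
  intro ι Q _ _
  refine (injective_iff_map_eq_zero _).mpr fun z hz => ?_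
  obtain ⟨⟨w, v⟩, hw⟩ := IsLocalizedModule.surj U
    (AlgebraTensorModule.rTensor R (∀ i, Q i) (LocalizedModule.mkLinearMap U F)) z
  have hw' : ((LinearMap.lsmul C (LocalizedModule U F) (v : C)).restrictScalars R).rTensor _ z =
      ((LocalizedModule.mkLinearMap U F).restrictScalars R).rTensor _ w := by
    rw [← smul_tensor]
    exact hw
  have hw0 : w = 0 := by
    refine hF ι Q (funext fun i => ?_)
    rw [map_zero, Pi.zero_apply]
    refine injective_rTensor_mk U hreg (Q i) ?_
    rw [map_zero, ← Groth.Calg2.piRightHom_natural, ← hw', Groth.Calg2.piRightHom_natural, hz, Pi.zero_apply, map_zero]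
  rw [hw0, map_zero] at hw
  exact ((Module.End.isUnit_iff _).mp (IsLocalizedModule.map_units
    (AlgebraTensorModule.rTensor R (∀ i, Q i) (LocalizedModule.mkLinearMap U F)) v)).1 (hw.trans (map_zero _).symm)

end Localization

end Groth.RaynaudGruson.LocalizedFree
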