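import Groth.Agent.Flatmor4.DevissageAt
import Groth.Agent.S2141
import Groth.Prelude.Def_FlatCA
import Mathlib

/-!
Quasi-finite maps from polynomial rings at a point, with purely transcendental image point.
-/

set_option autoImplicit false
universe u

open TensorProduct

namespace Groth.RaynaudGruson.NoetherPoint

attribute [local instance] Algebra.TensorProduct.rightAlgebra

/-- A point algebraic over its image and minimal in its fibre is a quasi-finite point. -/
theorem quasiFiniteAt_of_algebraic_of_minimal {R B : Type u} [CommRing R] [CommRing B] [Algebra R B]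
    [Algebra.FiniteType R B] (y : Ideal R) [y.IsPrime] (q : Ideal B) [q.IsPrime] [hq : q.LiesOver y]
    (halg : letI := (Ideal.ResidueField.mapₐ y q (Algebra.ofId R B) hq.over).toRingHom.toAlgebra
      Algebra.IsAlgebraic y.ResidueField q.ResidueField)
    (hmin : ∀ (q' : Ideal B) [q'.IsPrime], q' ≤ q → q'.LiesOver y → q' = q) :
    Algebra.QuasiFiniteAt R q := by
  let L := q.ResidueField
  let k := y.ResidueField
  let g : k →ₐ[R] L := Ideal.ResidueField.mapₐ y q (Algebra.ofId R B) hq.over
  letI : Algebra k L := g.toRingHom.toAlgebra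
  haveI : IsScalarTower R k L := IsScalarTower.of_algebraMap_eq fun r => (g.commutes r).symm
  haveI : Algebra.IsAlgebraic k L := halg
  let Φ : y.Fiber B →ₐ[k] L := Algebra.TensorProduct.lift (Algebra.ofId k L)
    (IsScalarTower.toAlgHom R B L) fun _ _ => .all _ _
  have hker : (RingHom.ker Φ.toRingHom).IsMaximal := by
    have hf : IsField Φ.range := Subalgebra.isField_of_algebraic Φ.range
    letI := hf.toField
    have h := RingHom.ker_isMaximal_of_surjective Φ.rangeRestrict.toRingHom Φ.rangeRestrict_surjective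
    have e : RingHom.ker Φ.toRingHom = RingHom.ker Φ.rangeRestrict.toRingHom := by
      refine Ideal.ext fun a => ⟨fun h1 => RingHom.mem_ker.mpr (Subtype.ext (RingHom.mem_ker.mp h1)),
        fun h1 => RingHom.mem_ker.mpr ?_⟩
      exact congrArg Subtype.val (RingHom.mem_ker.mp h1)
    rw [e]; exact h
  let Q : PrimeSpectrum (y.Fiber B) := ⟨RingHom.ker Φ.toRingHom, hker.isPrime⟩
  have hQ : Q.asIdeal.comap (algebraMap B (y.Fiber B)) = q := by
    ext a
    show Φ (1 ⊗ₜ a) = 0 ↔ a ∈ q
    rw [Algebra.TensorProduct.lift_tmul, map_one, one_mul]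
    exact Ideal.algebraMap_residueField_eq_zero
  haveI : IsJacobsonRing (y.Fiber B) := isJacobsonRing_of_finiteType (A := k)
  haveI : IsNoetherianRing (y.Fiber B) := Algebra.FiniteType.isNoetherianRing k _
  have hopen : IsOpen ({Q} : Set (PrimeSpectrum (y.Fiber B))) := by
    refine ((PrimeSpectrum.isOpen_singleton_tfae_of_isNoetherian_of_isJacobsonRing Q).out 0 2 rfl rfl).mpr ⟨?_, ?_⟩
    · exact (PrimeSpectrum.isClosed_singleton_iff_isMaximal _).mpr hker
    · intro Q₁ Q₂ hs h
      obtain rfl : Q₁ = Q := h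
      refine Groth.Flatmor4.fiber_prime_ext ?_
      rw [hQ]
      have hle : Q₂.asIdeal ≤ Q.asIdeal := (PrimeSpectrum.le_iff_specializes _ _).mpr hs
      refine hmin _ ((Ideal.comap_mono hle).trans hQ.le) ?_
      refine ⟨?_⟩
      have := ((PrimeSpectrum.primesOverOrderIsoFiber R B y).symm Q₂).2.2.over
      rw [PrimeSpectrum.coe_primesOverOrderIsoFiber_symm_apply] at this
      exact this
  haveI : Algebra.QuasiFiniteAt k Q.asIdeal := Algebra.QuasiFiniteAt.of_isOpen_singleton Q hopen
  exact Algebra.QuasiFiniteAt.of_quasiFiniteAt_residueField y q Q.asIdeal hQ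

theorem exists_trdeg_localDim (k A L : Type u) [Field k] [CommRing A] [Algebra k A] [Algebra.FiniteType k A]
    [Field L] [Algebra k L] (Φ : A →ₐ[k] L) (Q : PrimeSpectrum A) (hΦQ : Q.asIdeal = RingHom.ker Φ.toRingHom)
    (hL : ∀ x : L, ∃ a b, x = Φ a / Φ b) : ∃ d : ℕ, Algebra.trdeg k L = d ∧
      FlatMor.localDim (PrimeSpectrum A) Q = ringKrullDim (Localization.AtPrime Q.asIdeal) + (d : WithBot ℕ∞) := by
  obtain ⟨d, -, hm⟩ := Groth.Variety2.Dim.exists_dim_quotient k A Q
  have hd : Algebra.trdeg k Q.asIdeal.ResidueField = d :=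
    ((FractionRing.algEquiv (A ⧸ Q.asIdeal) Q.asIdeal.ResidueField).restrictScalars k).trdeg_eq.symm.trans hm
  let ψ : Q.asIdeal.ResidueField →+* L := Ideal.ResidueField.lift Q.asIdeal Φ.toRingHom hΦQ.le
    (fun a ha => by
      refine (Ne.isUnit ?_ : IsUnit (Φ a))
      intro h0
      exact ha (hΦQ.ge h0))
  have hψ : ∀ a : A, ψ (algebraMap A Q.asIdeal.ResidueField a) = Φ a := fun a =>
    Ideal.ResidueField.lift_algebraMap ..
  let eψ : Q.asIdeal.ResidueField ≃ₐ[k] L := AlgEquiv.ofBijective
    { toRingHom := ψ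
      commutes' := fun r => by
        show ψ (algebraMap k Q.asIdeal.ResidueField r) = algebraMap k L r
        rw [IsScalarTower.algebraMap_apply k A Q.asIdeal.ResidueField, hψ]
        exact Φ.commutes r }
    ⟨ψ.injective, fun x => by
      obtain ⟨a, b, rfl⟩ := hL x
      exact ⟨algebraMap A _ a / algebraMap A _ b, by
        show ψ _ = _
        rw [map_div₀, hψ, hψ]⟩⟩
  exact ⟨d, eψ.trdeg_eq.symm.trans hd, Groth.Agent.S2141.result (k := k) Q.asIdeal d hd⟩

theorem isAlgebraic_adjoin_range {R B : Type u} [CommRing R] [CommRing B] [Algebra R B]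
    (q : Ideal B) [q.IsPrime] (k : Type u) [Field k] [Algebra k q.ResidueField] :
    Algebra.IsAlgebraic (Algebra.adjoin k (Set.range (algebraMap B q.ResidueField))) q.ResidueField := by
  refine ⟨fun x => ?_⟩
  obtain ⟨a, b, hb, rfl⟩ := IsFractionRing.div_surjective (A := B ⧸ q) x
  obtain ⟨a, rfl⟩ := Ideal.Quotient.mk_surjective a
  obtain ⟨b, rfl⟩ := Ideal.Quotient.mk_surjective b
  have key : ∀ c : B, IsAlgebraic (Algebra.adjoin k (Set.range (algebraMap B q.ResidueField)))
      (algebraMap B q.ResidueField c) := fun c =>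
    isAlgebraic_algebraMap (A := q.ResidueField)
      (⟨algebraMap B q.ResidueField c, Algebra.subset_adjoin ⟨c, rfl⟩⟩ :
        Algebra.adjoin k (Set.range (algebraMap B q.ResidueField)))
  rw [div_eq_mul_inv]
  exact (key a).mul (key b).inv

/-- **Noether normalisation at a point**: a quasi-finite map to affine `n`-space, `n` the local dimension of the
fibre at the point, whose image point has purely transcendental residue field over the base. -/
theorem exists_quasiFiniteAt_purelyTranscendental {R B : Type u} [CommRing R] [CommRing B] [Algebra R B]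
    [Algebra.FiniteType R B] (p : Ideal R) [p.IsPrime] (q : Ideal B) [q.IsPrime] [hqp : q.LiesOver p]
    (Q : PrimeSpectrum (p.Fiber B)) (hQ : Q.asIdeal.comap (algebraMap B (p.Fiber B)) = q) (n : ℕ)
    (hn : FlatMor.localDim (PrimeSpectrum (p.Fiber B)) Q = n) :
    ∃ b : Fin n → B,
      letI : Algebra (MvPolynomial (Fin n) R) B := (MvPolynomial.aeval b).toRingHom.toAlgebra
      ∃ (y : Ideal (MvPolynomial (Fin n) R)) (_ : y.IsPrime) (_ : y.LiesOver p), q.LiesOver y ∧
        Algebra.QuasiFiniteAt (MvPolynomial (Fin n) R) q ∧ FlatCA.PurelyTranscendental p y := by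
  classical
  let k := p.ResidueField
  let A := p.Fiber B
  let L := q.ResidueField
  let g : k →ₐ[R] L := Ideal.ResidueField.mapₐ p q (Algebra.ofId R B) hqp.over
  letI : Algebra k L := g.toRingHom.toAlgebra
  haveI : IsScalarTower R k L := IsScalarTower.of_algebraMap_eq fun r => (g.commutes r).symm
  -- the residue field of `Q` is that of `q`
  let Φ : A →ₐ[k] L := Algebra.TensorProduct.lift (Algebra.ofId k L) (IsScalarTower.toAlgHom R B L) fun _ _ => .all _ _
  have hΦb : ∀ a : B, Φ (1 ⊗ₜ a) = algebraMap B L a := fun a => by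
    rw [Algebra.TensorProduct.lift_tmul, map_one, one_mul]; rfl
  have hΦQ : Q.asIdeal = RingHom.ker Φ.toRingHom := by
    have hp : (RingHom.ker Φ.toRingHom).IsPrime := RingHom.ker_isPrime _
    refine congrArg PrimeSpectrum.asIdeal (Groth.Flatmor4.fiber_prime_ext (Q₂ := ⟨_, hp⟩) ?_)
    rw [hQ]
    ext a
    show a ∈ q ↔ Φ (1 ⊗ₜ a) = 0
    rw [hΦb]
    exact Ideal.algebraMap_residueField_eq_zero.symm
  -- a transcendence basis from the ring
  haveI := isAlgebraic_adjoin_range (R := R) q k
  obtain ⟨T, hTs, hT⟩ := exists_isTranscendenceBasis_subset (R := k) (Set.range (algebraMap B L))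
  choose cT hcT using fun t : T => hTs t.2
  -- parameters
  haveI : IsNoetherianRing A := Algebra.FiniteType.isNoetherianRing k A
  obtain ⟨s, hs, hcard⟩ := Q.asIdeal.exists_finset_card_eq_height_of_isNoetherianRing
  choose r hr cs hcs using fun a : s => Ideal.Fiber.exists_smul_eq_one_tmul p (a : A)
  have hu : ∀ a : s, IsUnit (algebraMap R A (r a)) := fun a => by
    rw [IsScalarTower.algebraMap_apply R k A]
    exact (Ne.isUnit (fun h => hr a (Ideal.algebraMap_residueField_eq_zero.mp h))).map _
  have hcsq : ∀ a : s, cs a ∈ q := fun a => by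
    rw [← hQ]
    show (1 : k) ⊗ₜ[R] cs a ∈ Q.asIdeal
    rw [← hcs a, Algebra.smul_def]
    exact Q.asIdeal.mul_mem_left _ (hs.1.2 (Ideal.subset_span a.2))
  -- counting
  obtain ⟨d, hd, hdim⟩ := exists_trdeg_localDim p.ResidueField (p.Fiber B) q.ResidueField Φ Q hΦQ fun x => by
    obtain ⟨a, b, hb, rfl⟩ := IsFractionRing.div_surjective (A := B ⧸ q) x
    obtain ⟨a, rfl⟩ := Ideal.Quotient.mk_surjective a
    obtain ⟨b, rfl⟩ := Ideal.Quotient.mk_surjective b
    exact ⟨1 ⊗ₜ a, 1 ⊗ₜ b, by rw [hΦb, hΦb]; rfl⟩
  have hTd : Cardinal.mk T = d := hT.cardinalMk_eq_trdeg.trans hd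
  haveI : Finite T := Cardinal.lt_aleph0_iff_finite.mp (hTd ▸ Cardinal.natCast_lt_aleph0)
  haveI := Fintype.ofFinite T
  have hTd' : Fintype.card T = d := by rw [Cardinal.mk_fintype] at hTd; exact_mod_cast hTd
  have hcnt : n = d + s.card := by
    have h1 := hdim
    rw [hn, IsLocalization.AtPrime.ringKrullDim_eq_height Q.asIdeal, ← hcard] at h1
    have h2 : n = s.card + d := by exact_mod_cast h1
    omega
  let e : Fin n ≃ T ⊕ s := (Fintype.equivFinOfCardEq (by simp [hTd', hcnt])).symm
  let b : Fin n → B := fun i => Sum.elim cT cs (e i)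
  refine ⟨b, ?_⟩
  letI : Algebra (MvPolynomial (Fin n) R) B := (MvPolynomial.aeval b).toRingHom.toAlgebra
  haveI : IsScalarTower R (MvPolynomial (Fin n) R) B :=
    IsScalarTower.of_algebraMap_eq fun x => ((MvPolynomial.aeval b).commutes x).symm
  haveI : Algebra.FiniteType (MvPolynomial (Fin n) R) B := .of_restrictScalars_finiteType R _ _
  let y : Ideal (MvPolynomial (Fin n) R) := q.under (MvPolynomial (Fin n) R)
  haveI : y.LiesOver p := ⟨by rw [Ideal.over_def q p]; exact (Ideal.under_under _).symm⟩
  haveI hqy : q.LiesOver y := Ideal.over_under ..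
  refine ⟨y, inferInstance, inferInstance, hqy, ?_⟩
  let K := y.ResidueField
  let gK : K →ₐ[MvPolynomial (Fin n) R] L :=
    Ideal.ResidueField.mapₐ y q (Algebra.ofId (MvPolynomial (Fin n) R) B) hqy.over
  let gk : k →ₐ[R] K := Ideal.ResidueField.mapₐ p y (Algebra.ofId R (MvPolynomial (Fin n) R)) (Ideal.over_def y p)
  letI : Algebra k K := gk.toRingHom.toAlgebra
  letI : Algebra K L := gK.toRingHom.toAlgebra
  haveI : IsScalarTower R k K := IsScalarTower.of_algebraMap_eq fun x => (gk.commutes x).symm
  have hgK : ∀ i, gK (algebraMap _ K (MvPolynomial.X i)) = algebraMap B L (b i) := fun i => by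
    rw [gK.commutes, IsScalarTower.algebraMap_apply (MvPolynomial (Fin n) R) B L]
    congr 1
    exact MvPolynomial.aeval_X b i
  have hcomm : (algebraMap K L).comp (algebraMap k K) = algebraMap k L := by
    refine Ideal.ResidueField.ringHom_ext (RingHom.ext fun x => ?_)
    show gK (gk (algebraMap R k x)) = g (algebraMap R k x)
    rw [gk.commutes, g.commutes, IsScalarTower.algebraMap_apply R (MvPolynomial (Fin n) R) K, gK.commutes,
      ← IsScalarTower.algebraMap_apply R (MvPolynomial (Fin n) R) L]
  haveI : IsScalarTower k K L := IsScalarTower.of_algebraMap_eq fun x => (RingHom.congr_fun hcomm x).symm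
  constructor
  · refine quasiFiniteAt_of_algebraic_of_minimal y q ?_ fun q' hq' hle hover => ?_
    · show Algebra.IsAlgebraic K L
      haveI : Algebra.IsAlgebraic (IntermediateField.adjoin k (T : Set L)) L := by
        have := hT.isAlgebraic_field
        rwa [Subtype.range_coe] at this
      refine ⟨fun x => ?_⟩
      have hle : IntermediateField.adjoin k (T : Set L) ≤ (IsScalarTower.toAlgHom k K L).fieldRange := by
        refine IntermediateField.adjoin_le_iff.mpr fun t ht => ⟨algebraMap (MvPolynomial (Fin n) R) K (MvPolynomial.X (e.symm (.inl ⟨t, ht⟩))), ?_⟩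
        show gK _ = t
        rw [hgK]
        simp [b, hcT]
      let φ := IsScalarTower.toAlgHom k K L
      let eR := AlgEquiv.ofInjective φ φ.injective
      let ι : IntermediateField.adjoin k (T : Set L) →ₐ[k] K :=
        eR.symm.toAlgHom.comp ((IntermediateField.adjoin k (T : Set L)).val.codRestrict φ.range fun z => hle z.2)
      letI : Algebra (IntermediateField.adjoin k (T : Set L)) K := ι.toRingHom.toAlgebra
      haveI : IsScalarTower (IntermediateField.adjoin k (T : Set L)) K L := IsScalarTower.of_algebraMap_eq fun z =>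
        (congrArg Subtype.val (eR.apply_symm_apply ⟨(z : L), hle z.2⟩)).symm
      exact (Algebra.IsAlgebraic.isAlgebraic (R := IntermediateField.adjoin k (T : Set L)) x).extendScalars
        ι.toRingHom.injective
    · -- minimality
      haveI : q'.LiesOver p := ⟨by rw [Ideal.over_def y p, Ideal.over_def q' y]; exact (Ideal.under_under _)⟩
      obtain ⟨Q', hQ'⟩ := Groth.Flatmor4.exists_fiber_prime p q'
      have hle' : Q'.asIdeal ≤ Q.asIdeal := by
        rw [Groth.Flatmor4.fiberIdeal_comap p Q' q' hQ', Groth.Flatmor4.fiberIdeal_comap p Q q hQ]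
        exact Ideal.map_mono hle
      have hsQ' : Ideal.span (s : Set A) ≤ Q'.asIdeal := Ideal.span_le.mpr fun a ha => by
        have h1 : cs ⟨a, ha⟩ ∈ q' := by
          have hX : MvPolynomial.X (e.symm (.inr ⟨a, ha⟩)) ∈ y := by
            show algebraMap _ B (MvPolynomial.X (e.symm (.inr ⟨a, ha⟩))) ∈ q
            rw [show algebraMap _ B (MvPolynomial.X _) = b _ from MvPolynomial.aeval_X b _]
            simpa [b] using hcsq ⟨a, ha⟩
          rw [Ideal.over_def q' y] at hX
          have h2 : algebraMap _ B (MvPolynomial.X (e.symm (.inr ⟨a, ha⟩))) ∈ q' := hX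
          rw [show algebraMap _ B (MvPolynomial.X _) = b _ from MvPolynomial.aeval_X b _] at h2
          simpa [b] using h2
        rw [← hQ'] at h1
        have h3 : (1 : k) ⊗ₜ[R] cs ⟨a, ha⟩ ∈ Q'.asIdeal := h1
        rw [← hcs ⟨a, ha⟩, Algebra.smul_def] at h3
        exact (Q'.2.mem_or_mem h3).resolve_left fun h => Q'.2.ne_top (Ideal.eq_top_of_isUnit_mem _ h (hu _))
      rw [← hQ', ← hQ]
      exact congrArg (Ideal.comap _) (le_antisymm hle' (hs.2 ⟨Q'.2, hsQ'⟩ hle'))
  · let x : T → K := fun t => algebraMap (MvPolynomial (Fin n) R) K (MvPolynomial.X (e.symm (.inl t)))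
    have hx : (algebraMap K L) ∘ x = ((↑) : T → L) := funext fun t => by
      show gK _ = _
      rw [hgK]; simp [b, hcT]
    have hind : AlgebraicIndependent k x :=
      AlgebraicIndependent.of_comp (IsScalarTower.toAlgHom k K L) (by
        rw [show (⇑(IsScalarTower.toAlgHom k K L) ∘ x) = ((↑) : T → L) from hx]; exact hT.1)
    have hmem : ∀ P : MvPolynomial (Fin n) R, algebraMap _ K P ∈ IntermediateField.adjoin k (Set.range x) := by
      intro P
      induction P using MvPolynomial.induction_on with
      | C a =>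
        rw [← MvPolynomial.algebraMap_eq, ← IsScalarTower.algebraMap_apply, IsScalarTower.algebraMap_apply R k K]
        exact IntermediateField.algebraMap_mem _ _
      | add P P' h h' => rw [map_add]; exact add_mem h h'
      | mul_X P i h =>
        rw [map_mul]
        refine mul_mem h ?_
        obtain ⟨z, rfl⟩ := e.symm.surjective i
        cases z with
        | inl t => exact IntermediateField.subset_adjoin _ _ ⟨t, rfl⟩
        | inr a =>
          have : algebraMap (MvPolynomial (Fin n) R) K (MvPolynomial.X (e.symm (.inr a))) = (0 : K) := by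
            rw [Ideal.algebraMap_residueField_eq_zero]
            show algebraMap _ B (MvPolynomial.X (e.symm (.inr a))) ∈ q
            rw [show algebraMap _ B (MvPolynomial.X _) = b _ from MvPolynomial.aeval_X b _]
            simpa [b] using hcsq a
          rw [this]; exact zero_mem _
    have htop : IntermediateField.adjoin k (Set.range x) = ⊤ := by
      refine eq_top_iff.mpr fun z _ => ?_
      obtain ⟨u, v, hv, rfl⟩ := IsFractionRing.div_surjective (A := MvPolynomial (Fin n) R ⧸ y) z
      obtain ⟨u, rfl⟩ := Ideal.Quotient.mk_surjective u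
      obtain ⟨v, rfl⟩ := Ideal.Quotient.mk_surjective v
      exact div_mem (hmem u) (hmem v)
    refine ⟨_, x, ⟨hind, ?_⟩, htop⟩
    refine (hind.isTranscendenceBasis_iff_isAlgebraic.mpr ?_).2
    refine IntermediateField.isAlgebraic_adjoin_iff_top.mp ⟨fun z => ?_⟩
    exact isAlgebraic_algebraMap (A := K) (⟨z, htop.ge trivial⟩ : IntermediateField.adjoin k (Set.range x))

end Groth.RaynaudGruson.NoetherPoint
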