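import Groth.Agent.S1202
import Groth.Agent.PropsBasic.UnivHomeo
import Mathlib

/-!
Projective sections after an étale localisation at a flat point.
-/

set_option autoImplicit false
universe u

open AlgebraicGeometry CategoryTheory

namespace Groth.RaynaudGruson.ProjectiveLocalization

/-- An elementary étale ring map induces a surjection of residue fields. -/
theorem surjective_residueFieldMap_of_etaleNhd {A B : Type u} [CommRing A] [CommRing B] [Algebra A B]
    (p : Ideal A) [p.IsPrime] (q : Ideal B) [hq : q.IsPrime] (h : FlatCA.IsEtaleNhd A B p q) :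
    Function.Surjective ((Spec.map (CommRingCat.ofHom (algebraMap A B))).residueFieldMap ⟨q, hq⟩) := by
  obtain ⟨-, hl, hbij⟩ := h
  let x : Spec (CommRingCat.of B) := ⟨q, hq⟩
  have key : ∀ b, Groth.PropsBasic.UH.ev x b ∈
      ((Spec.map (CommRingCat.ofHom (algebraMap A B))).residueFieldMap x).hom.fieldRange := by
    intro b
    obtain ⟨y, hy⟩ := hbij.2 (algebraMap B q.ResidueField b)
    obtain ⟨a, s, hs, rfl⟩ := IsFractionRing.div_surjective (A := A ⧸ p) y
    obtain ⟨a, rfl⟩ := Ideal.Quotient.mk_surjective a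
    obtain ⟨s, rfl⟩ := Ideal.Quotient.mk_surjective s
    have hsp : s ∉ p := fun h' => nonZeroDivisors.ne_zero hs (Ideal.Quotient.eq_zero_iff_mem.mpr h')
    have hs' : algebraMap A B s ∉ q := fun h' => hsp (hl.over.ge h')
    have hm : algebraMap A B s * b - algebraMap A B a ∈ q := by
      rw [← Ideal.algebraMap_residueField_eq_zero, map_sub, map_mul, ← hy, sub_eq_zero]
      simp only [← Ideal.Quotient.algebraMap_eq, ← IsScalarTower.algebraMap_apply, map_div₀, AlgHom.commutes]
      rw [IsScalarTower.algebraMap_apply A B q.ResidueField, IsScalarTower.algebraMap_apply A B q.ResidueField,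
        mul_div_cancel₀]
      exact mt Ideal.algebraMap_residueField_eq_zero.mp hs'
    have hs'' : Groth.PropsBasic.UH.ev x (algebraMap A B s) ≠ 0 := mt (Groth.PropsBasic.UH.ev_eq_zero_iff _ _).mp hs'
    rw [← Groth.PropsBasic.UH.ev_eq_zero_iff x, map_sub, map_mul, sub_eq_zero] at hm
    refine RingHom.mem_fieldRange.mpr ⟨Groth.PropsBasic.UH.ev ((Spec.map (CommRingCat.ofHom (algebraMap A B))) x) a /
      Groth.PropsBasic.UH.ev ((Spec.map (CommRingCat.ofHom (algebraMap A B))) x) s, ?_⟩
    rw [map_div₀]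
    erw [Groth.PropsBasic.UH.residueFieldMap_ev, Groth.PropsBasic.UH.residueFieldMap_ev]
    rw [← hm]; field_simp
  intro z
  obtain ⟨b, t, -, rfl⟩ := Groth.PropsBasic.UH.ev_div_surjective x z
  exact RingHom.mem_fieldRange.mp (div_mem (key b) (key t))

/-- Flatness of the stalk map of an affine morphism, on the rings. -/
theorem flatAt_of_flat_stalkMap {R B : CommRingCat.{u}} (φ : R ⟶ B) (q : Spec B)
    (h : ((Spec.map φ).stalkMap q).hom.Flat) :
    letI := φ.hom.toAlgebra
    FlatCA.FlatAt R q.asIdeal B := by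
  letI := φ.hom.toAlgebra
  haveI : (RingHom.toMorphismProperty RingHom.Flat).RespectsIso :=
    RingHom.toMorphismProperty_respectsIso_iff.mp RingHom.Flat.respectsIso
  have h1 : (Localization.localRingHom (q.asIdeal.comap φ.hom) q.asIdeal φ.hom rfl).Flat :=
    ((RingHom.toMorphismProperty RingHom.Flat).arrow_mk_iso_iff (Scheme.arrowStalkMapSpecIso φ q)).mp h
  have h2 : (algebraMap R (Localization.AtPrime (q.asIdeal.comap φ.hom))).Flat :=
    RingHom.flat_algebraMap_iff.mpr (IsLocalization.flat _ (q.asIdeal.comap φ.hom).primeCompl)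
  have h3 := h2.comp h1
  have h4 : (Localization.localRingHom (q.asIdeal.comap φ.hom) q.asIdeal φ.hom rfl).comp
      (algebraMap R (Localization.AtPrime (q.asIdeal.comap φ.hom))) =
      algebraMap R (Localization.AtPrime q.asIdeal) := by
    ext r
    rw [RingHom.comp_apply, Localization.localRingHom_to_map, IsScalarTower.algebraMap_apply R B (Localization.AtPrime q.asIdeal)]
    rfl
  rw [h4] at h3
  haveI : Module.Flat R (Localization.AtPrime q.asIdeal) := RingHom.flat_algebraMap_iff.mp h3
  exact Module.Flat.of_linearEquiv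
    ((IsLocalizedModule.linearEquiv q.asIdeal.primeCompl (LocalizedModule.mkLinearMap q.asIdeal.primeCompl B)
      (Algebra.linearMap B (Localization.AtPrime q.asIdeal))).restrictScalars R)

theorem flat_stalkMap_openImmersion_comp {V X S : Scheme.{u}} (j : V ⟶ X) [IsOpenImmersion j] (f : X ⟶ S) (v : V) :
    ((j ≫ f).stalkMap v).hom.Flat ↔ (f.stalkMap (j v)).hom.Flat := by
  rw [Scheme.Hom.stalkMap_comp]
  exact RingHom.Flat.respectsIso.cancel_right_isIso (f.stalkMap (j v)) (j.stalkMap v)

theorem flat_stalkMap_comp_openImmersion {V X S : Scheme.{u}} (g : V ⟶ X) (j : X ⟶ S) [IsOpenImmersion j] (v : V) :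
    ((g ≫ j).stalkMap v).hom.Flat ↔ (g.stalkMap v).hom.Flat := by
  rw [Scheme.Hom.stalkMap_comp]
  exact RingHom.Flat.respectsIso.cancel_left_isIso (j.stalkMap (g v)) (g.stalkMap v)

theorem projective_of_tensor_self (R' B B' : Type u) [CommRing R'] [CommRing B] [CommRing B'] [Algebra R' B']
    [Algebra B B'] (h : Module.Projective R' (RestrictScalars R' B' (TensorProduct B B' B))) :
    Module.Projective R' B' := by
  haveI := h
  let A := RestrictScalars.addEquiv R' B' (TensorProduct B B' B)
  have this : ∀ (c : B') (z : TensorProduct B B' B), TensorProduct.rid B B' (c • z) = c * TensorProduct.rid B B' z := by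
    intro c z
    induction z using TensorProduct.induction_on with
    | zero => simp
    | tmul d e => simp [TensorProduct.smul_tmul']
    | add d e hd he => rw [smul_add, map_add, hd, he, map_add, mul_add]
  exact Module.Projective.of_equiv
    ({ A.trans (TensorProduct.rid B B').toAddEquiv with
      map_smul' := fun r z => by
        show TensorProduct.rid B B' (A (r • z)) = r • TensorProduct.rid B B' (A z)
        rw [RestrictScalars.smul_def, AddEquiv.apply_symm_apply, this, Algebra.smul_def] } :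
      RestrictScalars R' B' (TensorProduct B B' B) ≃ₗ[R'] B')

theorem projective_appTop (R' B' : Type u) [CommRing R'] [CommRing B'] [Algebra R' B'] (hP : Module.Projective R' B') :
    @Module.Projective Γ(Spec (CommRingCat.of R'), ⊤) _ Γ(Spec (CommRingCat.of B'), ⊤) _
      ((Spec.map (CommRingCat.ofHom (algebraMap R' B'))).appTop).hom.toAlgebra.toModule := by
  letI := ((Spec.map (CommRingCat.ofHom (algebraMap R' B'))).appTop).hom.toAlgebra
  let σ := (Scheme.ΓSpecIso (CommRingCat.of R')).symm.commRingCatIsoToRingEquiv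
  let τ := (Scheme.ΓSpecIso (CommRingCat.of B')).symm.commRingCatIsoToRingEquiv
  haveI := RingHomInvPair.of_ringEquiv σ
  haveI := RingHomInvPair.of_ringEquiv_symm σ
  haveI := hP
  refine Module.Projective.of_equiv (M := B') (σ := (σ : R' →+* Γ(Spec (CommRingCat.of R'), ⊤)))
    { τ.toAddEquiv with map_smul' := fun r c => ?_ }
  show τ (r • c) = σ r • τ c
  rw [Algebra.smul_def, map_mul, Algebra.smul_def]
  congr 1
  exact congr($(Scheme.ΓSpecIso_inv_naturality (CommRingCat.ofHom (algebraMap R' B'))) r)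

theorem exists_projective_sections {X S : Scheme.{u}} (f : X ⟶ S) [LocallyOfFinitePresentation f] (x : X)
    (hx : (f.stalkMap x).hom.Flat) :
    ∃ (X' S' : Scheme.{u}) (g : X' ⟶ X) (e : S' ⟶ S) (f' : X' ⟶ S') (x' : X'),
      IsAffine X' ∧ IsAffine S' ∧ Etale g ∧ Etale e ∧ g ≫ f = f' ≫ e ∧ g x' = x ∧ e (f' x') = f x ∧
      Function.Surjective (g.residueFieldMap x') ∧ Function.Surjective (e.residueFieldMap (f' x')) ∧
      @Module.Projective Γ(S', ⊤) _ Γ(X', ⊤) _ (f'.appTop).hom.toAlgebra.toModule := by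
  obtain ⟨V, hV, hxV, -⟩ := exists_isAffineOpen_mem_and_subset (U := ⊤) (Set.mem_univ (f x))
  obtain ⟨U, hU, hxU, hle⟩ := exists_isAffineOpen_mem_and_subset (U := f ⁻¹ᵁ V) hxV
  let φ := f.appLE V U hle
  have hsq : Spec.map φ ≫ hV.fromSpec = hU.fromSpec ≫ f := IsAffineOpen.SpecMap_appLE_fromSpec f hV hU hle
  have hfp : φ.hom.FinitePresentation := f.finitePresentation_appLE hV hU hle
  obtain ⟨q, hqx⟩ : ∃ q : Spec Γ(X, U), hU.fromSpec q = x := hU.range_fromSpec.ge hxU
  have hflat0 : ((Spec.map φ).stalkMap q).hom.Flat := by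
    rw [← flat_stalkMap_comp_openImmersion (Spec.map φ) hV.fromSpec, hsq, flat_stalkMap_openImmersion_comp, hqx]
    exact hx
  algebraize [φ.hom]
  haveI : q.asIdeal.LiesOver (q.asIdeal.comap φ.hom) := ⟨rfl⟩
  obtain ⟨R', B', _, _, _, _, _, _, _, _, p', q', _, hq'p, hR, hB, hl, hproj⟩ :=
    Groth.Agent.S1202.result (R := Γ(S, V)) Γ(X, U) (q.asIdeal.comap φ.hom) q.asIdeal
      (flatAt_of_flat_stalkMap φ q hflat0)
  haveI := hR.1
  haveI := hB.1
  haveI := hl
  let a := Spec.map (CommRingCat.ofHom (algebraMap Γ(S, V) R'))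
  let b := Spec.map (CommRingCat.ofHom (algebraMap Γ(X, U) B'))
  let f' := Spec.map (CommRingCat.ofHom (algebraMap R' B'))
  haveI : Etale a := HasRingHomProperty.Spec_iff.mpr (RingHom.etale_algebraMap.mpr hR.1)
  haveI : Etale b := HasRingHomProperty.Spec_iff.mpr (RingHom.etale_algebraMap.mpr hB.1)
  have hba : f' ≫ a = b ≫ Spec.map φ := by
    rw [← Spec.map_comp, ← Spec.map_comp]
    congr 1
    ext r
    show algebraMap R' B' (algebraMap Γ(S, V) R' r) = algebraMap Γ(X, U) B' (φ.hom r)
    rw [← IsScalarTower.algebraMap_apply, IsScalarTower.algebraMap_apply Γ(S, V) Γ(X, U) B']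
    rfl
  let x' : Spec (CommRingCat.of B') := ⟨q', hq'p⟩
  have hbq : b x' = q := PrimeSpectrum.ext hB.2.choose.over.symm
  have hcomm : (b ≫ hU.fromSpec) ≫ f = f' ≫ (a ≫ hV.fromSpec) := by
    rw [Category.assoc, ← hsq, ← Category.assoc, ← hba, Category.assoc]
  have hg : (b ≫ hU.fromSpec) x' = x := by rw [Scheme.Hom.comp_apply, hbq, hqx]
  refine ⟨Spec (CommRingCat.of B'), Spec (CommRingCat.of R'), b ≫ hU.fromSpec, a ≫ hV.fromSpec, f', x',
    inferInstance, inferInstance, inferInstance, inferInstance, hcomm, hg, ?_, ?_, ?_, ?_⟩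
  · rw [← Scheme.Hom.comp_apply, ← hcomm, Scheme.Hom.comp_apply, hg]
  · rw [Scheme.residueFieldMap_comp]
    exact (surjective_residueFieldMap_of_etaleNhd _ q' hB).comp
      (ConcreteCategory.bijective_of_isIso (hU.fromSpec.residueFieldMap (b x'))).2
  · rw [Scheme.residueFieldMap_comp]
    have hfx : f' x' = ⟨p', inferInstance⟩ := PrimeSpectrum.ext hl.over.symm
    have h2 := surjective_residueFieldMap_of_etaleNhd _ p' hR
    rw [← hfx] at h2
    exact h2.comp (ConcreteCategory.bijective_of_isIso (hV.fromSpec.residueFieldMap (a (f' x')))).2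
  · exact projective_appTop R' B' (projective_of_tensor_self R' Γ(X, U) B' hproj)

end Groth.RaynaudGruson.ProjectiveLocalization
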