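import Groth.Agent.RaynaudGruson.Purity
import Groth.Agent.RaynaudGruson.WeakAssFlatAt
import Groth.Agent.RaynaudGruson.EtalePushout
import Groth.Agent.ModEtQCoh.WeakAssEtale
import Groth.Agent.WeakAssField.Basic
import Groth.Agent.S1221
import Groth.Agent.S1277
import Mathlib

/-!
A projective module on an étale cover gives a projective module on an affine open, after an étale
neighbourhood of the base (Raynaud–Gruson).
-/

set_option autoImplicit false
universe u

open TensorProduct

namespace Groth.RaynaudGruson.ProjectiveOpen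

attribute [local instance] Algebra.TensorProduct.rightAlgebra

theorem mem_weakAss_residueField {R : Type u} [CommRing R] (p : Ideal R) [p.IsPrime] :
    p ∈ FlatCA.weakAss R p.ResidueField := by
  refine ⟨1, ?_⟩
  have h : (Submodule.span R {(1 : p.ResidueField)}).annihilator = p := by
    ext r
    rw [Submodule.mem_annihilator_span_singleton, Algebra.smul_def, mul_one, Ideal.algebraMap_residueField_eq_zero]
  rw [h, Ideal.minimalPrimes_eq_subsingleton_self]
  exact Set.mem_singleton p

/-- Associated points of the fibres are preserved by étale localisation of source and base. -/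
theorem fiberAss_iff_of_etale {R A' S S' : Type u} [CommRing R] [CommRing A'] [CommRing S] [CommRing S']
    [Algebra R A'] [Algebra.Etale R A'] [Algebra R S] [Algebra.FiniteType R S] [Algebra S S'] [Algebra.Etale S S']
    [Algebra A' S'] [Algebra R S'] [IsScalarTower R A' S'] [IsScalarTower R S S']
    (N : Type u) [AddCommGroup N] [Module S N] [Module R N] [IsScalarTower R S N] [Module.Finite S N]
    (N' : Type u) [AddCommGroup N'] [Module S' N'] [Module S N'] [IsScalarTower S S' N'] [Module A' N']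
    [IsScalarTower A' S' N'] (f : N →ₗ[S] N') (hf : IsBaseChange S' f)
    (p : Ideal R) [p.IsPrime] (q : Ideal S) [q.IsPrime] (t : Ideal A') [t.IsPrime] (Q : Ideal S') [Q.IsPrime]
    [q.LiesOver p] [t.LiesOver p] [Q.LiesOver t] [Q.LiesOver q] (hflat : FlatCA.FlatAt A' Q N') :
    FlatCA.fiberIdeal t Q ∈ associatedPrimes (t.Fiber S') (FlatCA.fiberMod t S' N') ↔
      FlatCA.fiberIdeal p q ∈ associatedPrimes (p.Fiber S) (FlatCA.fiberMod p S N) := by
  haveI : Algebra.FiniteType R S' := Algebra.FiniteType.trans (inferInstance : Algebra.FiniteType R S) inferInstance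
  haveI : Algebra.FiniteType A' S' := Algebra.FiniteType.of_restrictScalars_finiteType R A' S'
  haveI : Module.Finite S' N' := Module.Finite.equiv hf.equiv
  letI : Module R N' := Module.compHom N' (algebraMap R A')
  haveI : IsScalarTower R A' N' := IsScalarTower.of_algebraMap_smul fun _ _ => rfl
  haveI : IsScalarTower R S' N' := IsScalarTower.of_algebraMap_smul fun r x => by
    rw [IsScalarTower.algebraMap_apply R A' S', algebraMap_smul]
    rfl
  haveI : IsScalarTower R S N' := IsScalarTower.of_algebraMap_smul fun r x => by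
    rw [← algebraMap_smul S' (algebraMap R S r) x, ← IsScalarTower.algebraMap_apply R S S' r, algebraMap_smul]
  let κ := p.ResidueField
  let e₁ : S' ⊗[S] (N ⊗[R] κ) ≃ₗ[S'] N' ⊗[R] κ :=
    (AlgebraTensorModule.assoc R S S' S' N κ).symm ≪≫ₗ AlgebraTensorModule.congr hf.equiv (LinearEquiv.refl R κ)
  let e₂ : N' ⊗[A'] (A' ⊗[R] κ) ≃ₗ[S'] N' ⊗[R] κ := AlgebraTensorModule.cancelBaseChange R A' S' N' κ
  have h1 := RaynaudGruson.WeakAssFlatAt.fiberIdeal_mem_associatedPrimes_iff (N := N) (p := p) (q := q)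
  have h2 := ModEtQCoh.WeakAssFinite.mem_weakAss_tensor_iff_of_etale (A := S) (B := S') (N ⊗[R] κ) q Q
  have h3 := RaynaudGruson.WeakAssFlatAt.mem_weakAss_tensor_iff N' (A' ⊗[R] κ) t Q hflat
  have h4 := ModEtQCoh.WeakAssFinite.mem_weakAss_tensor_iff_of_etale (A := R) (B := A') κ p t
  rw [WeakAssField.weakAss_congr S' e₁] at h2
  rw [WeakAssField.weakAss_congr S' e₂] at h3
  rw [h1, ← h2, h3]
  exact ⟨fun h => ⟨h4.mpr (mem_weakAss_residueField p), h⟩, And.right⟩

set_option maxHeartbeats 1600000 in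
/-- **Projectivity on an affine open after an étale neighbourhood.** -/
theorem exists_projective_open {R S S₁ : Type u} [CommRing R] [CommRing S] [CommRing S₁] [Algebra R S]
    [Algebra.FinitePresentation R S] [Algebra S S₁] [Algebra.Etale S S₁] [Algebra R S₁] [IsScalarTower R S S₁]
    (N : Type u) [AddCommGroup N] [Module S N] [Module R N] [IsScalarTower R S N] [Module.Finite S N]
    [Module.FinitePresentation S₁ (S₁ ⊗[S] N)]
    [hproj : Module.Projective R (RestrictScalars R S₁ (S₁ ⊗[S] N))]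
    (p : Ideal R) [p.IsPrime] (q₁ : Ideal S₁) [q₁.IsPrime] [q₁.LiesOver p] :
    ∃ g : S, g ∉ q₁.comap (algebraMap S S₁) ∧ ∃ (R₂ : Type u) (_ : CommRing R₂) (_ : Algebra R R₂) (r : Ideal R₂)
      (_ : r.IsPrime), FlatCA.IsEtaleNhd R R₂ p r ∧
        Module.Projective R₂ (R₂ ⊗[R] LocalizedModule (Submonoid.powers g) N) := by
  classical
  haveI : SMulCommClass S R S₁ := ⟨fun s r x => by simp only [Algebra.smul_def]; ring⟩
  let e₀ : RestrictScalars R S₁ (S₁ ⊗[S] N) ≃ₗ[R] S₁ ⊗[S] N :=
    AddEquiv.toLinearEquiv (RestrictScalars.addEquiv R S₁ (S₁ ⊗[S] N)) fun r z => by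
      rw [RestrictScalars.addEquiv_map_smul]
      exact algebraMap_smul S₁ r _
  haveI : Module.Projective R (S₁ ⊗[S] N) := Module.Projective.of_equiv e₀
  let U : Set (PrimeSpectrum S) := Set.range (PrimeSpectrum.comap (algebraMap S S₁))
  have hU : IsOpen U :=
    (PrimeSpectrum.isOpenMap_comap_of_hasGoingDown_of_finitePresentation (R := S) (S := S₁)).isOpen_range
  let J : Ideal S := PrimeSpectrum.vanishingIdeal Uᶜ
  have hJ : ∀ Q : PrimeSpectrum S, J ≤ Q.asIdeal ↔ Q ∉ U := fun Q => by
    have h : PrimeSpectrum.zeroLocus (J : Set S) = Uᶜ := by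
      rw [PrimeSpectrum.zeroLocus_vanishingIdeal_eq_closure, hU.isClosed_compl.closure_eq]
    rw [← Set.mem_compl_iff, ← h]
    rfl
  -- the points to avoid
  let x₀ : Ideal S := q₁.comap (algebraMap S S₁)
  let A : Set (Ideal S) := insert x₀ ((fun P => P.comap (algebraMap S (p.Fiber S))) ''
    {P | P ∈ associatedPrimes (p.Fiber S) (FlatCA.fiberMod p S N) ∧ ¬ J ≤ P.comap (algebraMap S (p.Fiber S))})
  haveI : Module.Finite (p.Fiber S) (FlatCA.fiberMod p S N) :=
    inferInstanceAs (Module.Finite (p.Fiber S) (p.Fiber S ⊗[S] N))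
  haveI : IsNoetherianRing (p.Fiber S) := Algebra.FiniteType.isNoetherianRing p.ResidueField _
  have hA : A.Finite := (((associatedPrimes.finite (p.Fiber S) (FlatCA.fiberMod p S N)).subset
    fun P hP => hP.1).image _).insert _
  have hAprime : ∀ a ∈ A, a.IsPrime ∧ ¬ J ≤ a := by
    rintro a (rfl | ⟨P, ⟨hP, hJP⟩, rfl⟩)
    · exact ⟨inferInstance, fun h => (hJ ⟨x₀, inferInstance⟩).mp h ⟨⟨q₁, inferInstance⟩, rfl⟩⟩
    · haveI := hP.isPrime
      exact ⟨inferInstance, hJP⟩
  obtain ⟨g, hgJ, hgA⟩ : ∃ g ∈ J, ∀ a ∈ A, g ∉ a := by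
    by_contra hno
    push Not at hno
    have hcover : (J : Set S) ⊆ ⋃ a ∈ A, (a : Set S) := fun i hi => by
      obtain ⟨a, ha, hia⟩ := hno i hi
      exact Set.mem_biUnion ha hia
    obtain ⟨a, ha, hle⟩ := (J.subset_union_prime_finite hA (f := id) x₀ x₀ fun a ha _ _ => (hAprime a ha).1).1 hcover
    exact (hAprime a ha).2 hle
  refine ⟨g, hgA x₀ (Set.mem_insert _ _), ?_⟩
  have hgU : ∀ Q : Ideal S, [Q.IsPrime] → g ∉ Q →
      ∃ q' : Ideal S₁, q'.IsPrime ∧ q'.comap (algebraMap S S₁) = Q := by
    intro Q _ hgQ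
    obtain ⟨q', hq'⟩ : (⟨Q, inferInstance⟩ : PrimeSpectrum S) ∈ U :=
      by_contra fun h => hgQ (((hJ ⟨Q, inferInstance⟩).mpr h) hgJ)
    exact ⟨q'.asIdeal, q'.2, congrArg PrimeSpectrum.asIdeal hq'⟩
  let C := Localization (Submonoid.powers g)
  let NC := LocalizedModule (Submonoid.powers g) N
  haveI : IsLocalization.Away g C := inferInstanceAs (IsLocalization (Submonoid.powers g) C)
  haveI : Algebra.FinitePresentation S C := IsLocalization.Away.finitePresentation g
  haveI : Algebra.FinitePresentation R C := Algebra.FinitePresentation.trans R S C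
  haveI : IsScalarTower R C NC := IsScalarTower.of_algebraMap_smul fun r x => by
    rw [IsScalarTower.algebraMap_apply R S C, algebraMap_smul, algebraMap_smul]
  haveI : Module.Finite C NC :=
    inferInstanceAs (Module.Finite (Localization (Submonoid.powers g)) (LocalizedModule (Submonoid.powers g) N))
  haveI : Module.FinitePresentation C NC := by
    obtain ⟨D, _, _, _, _, _, _, hD⟩ := EtalePushout.exists_pushout S C S₁
    haveI := hD
    haveI : Algebra.IsPushout S C S₁ D := Algebra.IsPushout.symm hD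
    haveI : Algebra.Etale C D := EtalePushout.etale_of_isPushout (A := S) (A' := C) (B := S₁) (B' := D)
    haveI : Module.FaithfullyFlat C D := Module.FaithfullyFlat.of_comap_surjective fun Q => by
      have hgQ : g ∉ Q.asIdeal.comap (algebraMap S C) := fun h => Q.2.ne_top (Ideal.eq_top_of_isUnit_mem _ h
        (IsLocalization.map_units C (⟨g, Submonoid.mem_powers g⟩ : Submonoid.powers g)))
      obtain ⟨q', hq', hq'Q⟩ := hgU _ hgQ
      haveI := hq'
      obtain ⟨Q', hQ', -, hQ'C⟩ := FlatmorThree.exists_prime_over_both (R := S) (S := S₁) (R' := C) (S' := D)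
        q' Q.asIdeal hq'Q.symm
      exact ⟨⟨Q', hQ'⟩, PrimeSpectrum.ext hQ'C⟩
    let E : D ⊗[C] NC ≃ₗ[D] D ⊗[S₁] (S₁ ⊗[S] N) :=
      ((LinearEquiv.baseChange C D _ _ (IsLocalizedModule.isBaseChange (Submonoid.powers g) C
        (LocalizedModule.mkLinearMap (Submonoid.powers g) N)).equiv.symm).trans
        (AlgebraTensorModule.cancelBaseChange S C D D N)).trans
        (AlgebraTensorModule.cancelBaseChange S S₁ D D N).symm
    haveI : Module.FinitePresentation D (D ⊗[C] NC) := Module.FinitePresentation.of_equiv E.symm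
    exact LocalStructure.finitePresentation_of_tensor (T := D)
  haveI : Module.Flat R NC := WeakAssFP.flat_localized_powers g fun Q _ hgQ => by
    obtain ⟨q', hq', hq'Q⟩ := hgU Q hgQ
    exact (Groth.Agent.S1277.flatAt_iff_of_flat (R := R) (TensorProduct.mk S S₁ N 1) (TensorProduct.isBaseChange S N S₁)
      Q q' hq'Q).mpr ((FlatPred.flatAt_iff q').mpr (FlatPred.pred_of_flat _))
  let mk : N →ₗ[S] NC := LocalizedModule.mkLinearMap (Submonoid.powers g) N
  have hmk : IsBaseChange C mk := IsLocalizedModule.isBaseChange (Submonoid.powers g) C mk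
  have hpure : FlatCA.IsPureAlong R C NC p := by
    intro A' B' NB _ _ _ _ _ _ _ _ _ _ _ _ _ _ f t' t _ _ P _ hnhd ⟨hpush, hbc, hle, hto, hPo, hass, hno⟩
    obtain ⟨het, -, -⟩ := id hnhd
    haveI := het; haveI := hto; haveI := hPo; haveI := hpush
    haveI : Algebra.IsPushout R A' C B' := Algebra.IsPushout.symm hpush
    haveI : Module.Flat A' NB := Module.Flat.of_linearEquiv (Purity.baseEquiv (A := R) hbc)
    letI : Algebra S B' := ((algebraMap C B').comp (algebraMap S C)).toAlgebra
    haveI : IsScalarTower S C B' := .of_algebraMap_eq' rfl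
    haveI : IsScalarTower R S B' := .of_algebraMap_eq fun r => by
      rw [IsScalarTower.algebraMap_apply R C B', IsScalarTower.algebraMap_apply R S C]
      rfl
    obtain ⟨SA, _, _, _, _, _, _, hSA⟩ := EtalePushout.exists_pushout R S A'
    haveI := hSA
    haveI hSA' : Algebra.IsPushout R S A' SA := Algebra.IsPushout.symm hSA
    let σ : SA →ₐ[R] B' := Algebra.pushoutDesc SA (IsScalarTower.toAlgHom R S B') (IsScalarTower.toAlgHom R A' B')
      fun _ _ => Commute.all _ _
    letI : Algebra SA B' := σ.toRingHom.toAlgebra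
    haveI : IsScalarTower S SA B' := .of_algebraMap_eq fun b =>
      (Algebra.pushoutDesc_left SA (IsScalarTower.toAlgHom R S B') (IsScalarTower.toAlgHom R A' B')
        (fun _ _ => Commute.all _ _) b).symm
    haveI : IsScalarTower A' SA B' := .of_algebraMap_eq fun b =>
      (Algebra.pushoutDesc_right SA (IsScalarTower.toAlgHom R S B') (IsScalarTower.toAlgHom R A' B')
        (fun _ _ => Commute.all _ _) b).symm
    haveI hSB : Algebra.IsPushout S C SA B' :=
      (Algebra.IsPushout.comp_iff (R := R) (S := S) (R' := A') (S' := SA) (T := C) (T' := B')).mp hpush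
    haveI : Algebra.IsPushout S SA C B' := Algebra.IsPushout.symm hSB
    haveI hloc : IsLocalization (Algebra.algebraMapSubmonoid SA (Submonoid.powers g)) B' :=
      (Algebra.isLocalization_iff_isPushout (R := S) (A := C) (Submonoid.powers g)).mpr inferInstance
    haveI : Algebra.Etale S SA := EtalePushout.etale_of_isPushout' (A := R) (A' := A') (B := S) (B' := SA)
    haveI : Algebra.Etale C B' := EtalePushout.etale_of_isPushout' (A := R) (A' := A') (B := C) (B' := B')
    haveI : Algebra.Etale S C := inferInstance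
    haveI : Algebra.Etale S B' := Algebra.Etale.comp S C B'
    -- the point in `S`
    let Qs := P.comap (algebraMap S B')
    let p₀ := t'.comap (algebraMap R A')
    haveI : P.LiesOver Qs := ⟨rfl⟩
    haveI : t'.LiesOver p₀ := ⟨rfl⟩
    haveI : Qs.LiesOver p₀ := ⟨by
      show (t'.comap (algebraMap R A')) = (P.comap (algebraMap S B')).comap (algebraMap R S)
      rw [(hPo.over : t' = P.comap (algebraMap A' B')), Ideal.comap_comap, Ideal.comap_comap,
        ← IsScalarTower.algebraMap_eq, ← IsScalarTower.algebraMap_eq]⟩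
    have hgQs : g ∉ Qs := fun h => (inferInstance : P.IsPrime).ne_top (Ideal.eq_top_of_isUnit_mem _ h
      ((IsLocalization.map_units C (⟨g, Submonoid.mem_powers g⟩ : Submonoid.powers g)).map (algebraMap C B')))
    obtain ⟨q', hq', hq'Q⟩ := hgU Qs hgQs
    haveI := hq'
    -- the étale cover over the new base
    obtain ⟨S₁A, _, _, _, _, _, _, hS₁A⟩ := EtalePushout.exists_pushout S S₁ SA
    haveI := hS₁A
    haveI hS₁A' : Algebra.IsPushout S S₁ SA S₁A := Algebra.IsPushout.symm hS₁A
    letI : Algebra A' S₁A := ((algebraMap SA S₁A).comp (algebraMap A' SA)).toAlgebra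
    haveI : IsScalarTower A' SA S₁A := .of_algebraMap_eq' rfl
    letI : Algebra R S₁A := ((algebraMap SA S₁A).comp (algebraMap R SA)).toAlgebra
    haveI : IsScalarTower R SA S₁A := .of_algebraMap_eq' rfl
    haveI : IsScalarTower R A' S₁A := .of_algebraMap_eq fun r => by
      show algebraMap SA S₁A (algebraMap R SA r) = algebraMap SA S₁A (algebraMap A' SA (algebraMap R A' r))
      rw [← IsScalarTower.algebraMap_apply R A' SA]
    haveI : IsScalarTower R S S₁A := .of_algebraMap_eq fun r => by
      show algebraMap SA S₁A (algebraMap R SA r) = algebraMap S S₁A (algebraMap R S r)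
      rw [IsScalarTower.algebraMap_apply R S SA, ← IsScalarTower.algebraMap_apply S SA S₁A]
    haveI : IsScalarTower R S₁ S₁A := .of_algebraMap_eq fun r => by
      rw [IsScalarTower.algebraMap_apply R S S₁, ← IsScalarTower.algebraMap_apply S S₁ S₁A,
        ← IsScalarTower.algebraMap_apply R S S₁A]
    haveI h₁ : Algebra.IsPushout R S₁ A' S₁A :=
      (Algebra.IsPushout.comp_iff (R := R) (S := S) (R' := A') (S' := SA) (T := S₁) (T' := S₁A)).mpr hS₁A'
    haveI : Algebra.IsPushout R A' S₁ S₁A := Algebra.IsPushout.symm h₁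
    haveI : Algebra.Etale S₁ S₁A := EtalePushout.etale_of_isPushout' (A := S) (A' := SA) (B := S₁) (B' := S₁A)
    haveI : Algebra.Etale S S₁A := Algebra.Etale.comp S S₁ S₁A
    haveI hN₁ : Module.Projective A' (RestrictScalars A' S₁A (S₁A ⊗[S] N)) :=
      CommonNbhd.projective_baseChange (R₁ := R) (S₁ := S₁) N
    haveI : SMulCommClass S A' S₁A := ⟨fun s r x => by simp only [Algebra.smul_def]; ring⟩
    haveI : Module.Projective A' (S₁A ⊗[S] N) := Module.Projective.of_equiv
      (AddEquiv.toLinearEquiv (RestrictScalars.addEquiv A' S₁A (S₁A ⊗[S] N)) fun r z => by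
        rw [RestrictScalars.addEquiv_map_smul]
        exact algebraMap_smul S₁A r _ :
        RestrictScalars A' S₁A (S₁A ⊗[S] N) ≃ₗ[A'] S₁A ⊗[S] N)
    let P₀ := P.comap (algebraMap SA B')
    obtain ⟨P₁, hP₁, hP₁q, hP₁P⟩ := FlatmorThree.exists_prime_over_both (R := S) (S := S₁) (R' := SA) (S' := S₁A) q' P₀ (by
      rw [hq'Q, Ideal.comap_comap, ← IsScalarTower.algebraMap_eq])
    haveI := hP₁
    haveI : P₁.LiesOver Qs := ⟨by
      show Qs = P₁.comap (algebraMap S S₁A)
      rw [IsScalarTower.algebraMap_eq S S₁ S₁A, ← Ideal.comap_comap, hP₁q, hq'Q]⟩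
    haveI hP₁t : P₁.LiesOver t' := ⟨by
      show t' = P₁.comap (algebraMap A' S₁A)
      rw [IsScalarTower.algebraMap_eq A' SA S₁A, ← Ideal.comap_comap, hP₁P, Ideal.comap_comap,
        ← IsScalarTower.algebraMap_eq]
      exact hPo.over⟩
    letI : Module S NB := Module.compHom NB (algebraMap S B')
    haveI : IsScalarTower S B' NB := IsScalarTower.of_algebraMap_smul fun _ _ => rfl
    haveI : IsScalarTower S C NB := IsScalarTower.of_algebraMap_smul fun s x => by
      rw [← algebraMap_smul B' (algebraMap S C s) x, ← IsScalarTower.algebraMap_apply]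
      rfl
    have hass₁ : FlatCA.fiberIdeal t' P₁ ∈ associatedPrimes (t'.Fiber S₁A) (FlatCA.fiberMod t' S₁A (S₁A ⊗[S] N)) :=
      (fiberAss_iff_of_etale N (S₁A ⊗[S] N) (TensorProduct.mk S S₁A N 1) (TensorProduct.isBaseChange S N S₁A) p₀ Qs t' P₁
        ((FlatPred.flatAt_iff P₁).mpr (FlatPred.pred_of_flat _))).mpr
      ((fiberAss_iff_of_etale N NB ((f.restrictScalars S).comp mk) (hmk.comp hbc) p₀ Qs t' P
        ((FlatPred.flatAt_iff P).mpr (FlatPred.pred_of_flat _))).mp hass)
    obtain ⟨P₂, hP₂, hle₂, hP₂t⟩ : ∃ P₂ : Ideal S₁A, P₂.IsPrime ∧ P₁ ≤ P₂ ∧ P₂.LiesOver t := by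
      by_contra! hcon
      haveI : Algebra.IsPushout A' S₁A A' S₁A := Algebra.IsPushout.symm inferInstance
      exact FlatmorThree.isUnivPure_of_projective_aux (A := A') (B := S₁A) (S₁A ⊗[S] N) t A' S₁A (S₁A ⊗[S] N)
        LinearMap.id t' t P₁ ⟨inferInstance, IsBaseChange.ofEquiv (LinearEquiv.refl S₁A (S₁A ⊗[S] N)), hle, ⟨rfl⟩,
          hP₁t, hass₁, fun P₂ hP₂ h => hcon P₂ hP₂ h⟩
    haveI : Algebra.FiniteType R S₁A := Algebra.FiniteType.trans (inferInstance : Algebra.FiniteType R S) inferInstance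
    haveI : Algebra.FiniteType A' S₁A := Algebra.FiniteType.of_restrictScalars_finiteType R A' S₁A
    obtain ⟨q₂, hq₂, hle', hq₂t, hass₂⟩ := Groth.Agent.S1221.result (A := A') (S₁A ⊗[S] N) t
      (fun q _ _ => (FlatPred.flatAt_iff q).mpr (FlatPred.pred_of_flat _)) t' hle P₁ hass₁ ⟨P₂, hP₂, hle₂, hP₂t⟩
    haveI := hq₂; haveI := hq₂t
    let Qp := q₂.comap (algebraMap S S₁A)
    haveI : q₂.LiesOver Qp := ⟨rfl⟩
    haveI : Qp.LiesOver p := ⟨by
      show p = (q₂.comap (algebraMap S S₁A)).comap (algebraMap R S)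
      rw [Ideal.comap_comap, ← IsScalarTower.algebraMap_eq]
      exact (Ideal.LiesOver.trans q₂ t p).over⟩
    have hassp := (fiberAss_iff_of_etale N (S₁A ⊗[S] N) (TensorProduct.mk S S₁A N 1)
      (TensorProduct.isBaseChange S N S₁A) p Qp t q₂ ((FlatPred.flatAt_iff q₂).mpr (FlatPred.pred_of_flat _))).mp hass₂
    have hQpU : (⟨Qp, inferInstance⟩ : PrimeSpectrum S) ∈ U :=
      ⟨⟨q₂.comap (algebraMap S₁ S₁A), inferInstance⟩, PrimeSpectrum.ext (by
        show (q₂.comap (algebraMap S₁ S₁A)).comap (algebraMap S S₁) = Qp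
        rw [Ideal.comap_comap, ← IsScalarTower.algebraMap_eq])⟩
    have hgQp : g ∉ Qp := by
      obtain ⟨z, hz⟩ := Flatmor4.exists_fiber_prime p Qp
      have hz' : z.asIdeal.comap (algebraMap S (p.Fiber S)) = Qp := hz
      refine hgA Qp (Set.mem_insert_of_mem _ ⟨FlatCA.fiberIdeal p Qp, ⟨hassp, ?_⟩, ?_⟩)
      · rw [Calg3.WeakAssTensor.comap_fiberIdeal]
        exact fun h => (hJ ⟨Qp, inferInstance⟩).mp h hQpU
      · exact Calg3.WeakAssTensor.comap_fiberIdeal p Qp
    -- back to the open
    let Q₀ := q₂.comap (algebraMap SA S₁A)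
    have hdisj : Disjoint (Algebra.algebraMapSubmonoid SA (Submonoid.powers g) : Set SA) (Q₀ : Set SA) := by
      refine Set.disjoint_left.mpr ?_
      rintro _ ⟨_, ⟨k, rfl⟩, rfl⟩ h
      refine hgQp ((inferInstance : Qp.IsPrime).mem_of_pow_mem k ?_)
      show algebraMap S S₁A (g ^ k) ∈ q₂
      rw [IsScalarTower.algebraMap_apply S SA S₁A]
      exact h
    let P' := Q₀.map (algebraMap SA B')
    haveI hP' : P'.IsPrime := IsLocalization.isPrime_of_isPrime_disjoint _ B' Q₀ inferInstance hdisj
    have hP'c : P'.comap (algebraMap SA B') = Q₀ :=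
      IsLocalization.comap_map_of_isPrime_disjoint (Algebra.algebraMapSubmonoid SA (Submonoid.powers g)) B' inferInstance hdisj
    refine hno P' ?_ ⟨?_⟩
    · rw [← IsLocalization.map_comap (Algebra.algebraMapSubmonoid SA (Submonoid.powers g)) B' P]
      refine Ideal.map_mono ?_
      exact (le_of_eq hP₁P.symm).trans (Ideal.comap_mono hle')
    · show t = P'.comap (algebraMap A' B')
      rw [IsScalarTower.algebraMap_eq A' SA B', ← Ideal.comap_comap, hP'c, Ideal.comap_comap,
        ← IsScalarTower.algebraMap_eq]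
      exact hq₂t.over
  obtain ⟨R₂, _, _, r, _, hnhd, hP⟩ := Purity.exists_etaleNhd_projective (B := C) NC p hpure
  exact ⟨R₂, inferInstance, inferInstance, r, inferInstance, hnhd, hP⟩

end Groth.RaynaudGruson.ProjectiveOpen
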