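import Groth.Agent.RaynaudGruson.LocalFree
import Groth.Agent.RaynaudGruson.ContentGlue
import Groth.Agent.GenericFree.Presentation
import Groth.Agent.FlatmorThree.PureProjective
import Mathlib

/-!
Over a Noetherian base: flat and universally pure equals projective.
-/

set_option autoImplicit false
universe u

namespace Groth.RaynaudGruson

open TensorProduct

attribute [local instance] Algebra.TensorProduct.rightAlgebra

theorem isUnivPureAlong_baseChange {A B : Type u} [CommRing A] [CommRing B] [Algebra A B] (N : Type u)
    [AddCommGroup N] [Module B N] (p : Ideal A) [p.IsPrime] (h : FlatCA.IsUnivPureAlong A B N p)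
    (A' B' N' : Type u) [CommRing A'] [CommRing B'] [Algebra A A'] [Algebra B B'] [Algebra A' B'] [Algebra A B']
    [IsScalarTower A B B'] [IsScalarTower A A' B'] [Algebra.IsPushout A B A' B'] [AddCommGroup N'] [Module B' N']
    [Module B N'] [IsScalarTower B B' N'] (g : N →ₗ[B] N') (hg : IsBaseChange B' g) (p' : Ideal A') [p'.IsPrime]
    (hp' : p'.LiesOver p) : FlatCA.IsUnivPureAlong A' B' N' p' := by
  intro A'' B'' N'' _ _ _ _ _ _ _ _ _ _ _ _ _ _ f t' t _ _ P _ hi
  obtain ⟨hpush, hbc, htt, ht, hP, hass, hno⟩ := hi
  let _ : Algebra A A'' := ((algebraMap A' A'').comp (algebraMap A A')).toAlgebra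
  let _ : Algebra B B'' := ((algebraMap B' B'').comp (algebraMap B B')).toAlgebra
  let _ : Algebra A B'' := ((algebraMap B B'').comp (algebraMap A B)).toAlgebra
  have : IsScalarTower A A' A'' := .of_algebraMap_eq fun _ => rfl
  have : IsScalarTower B B' B'' := .of_algebraMap_eq fun _ => rfl
  have : IsScalarTower A B B'' := .of_algebraMap_eq fun _ => rfl
  have : IsScalarTower A B' B'' := .of_algebraMap_eq fun r => by
    show algebraMap B B'' (algebraMap A B r) = _
    rw [IsScalarTower.algebraMap_apply B B' B'', ← IsScalarTower.algebraMap_apply A B B']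
  have : IsScalarTower A A'' B'' := .of_algebraMap_eq fun r => by
    rw [IsScalarTower.algebraMap_apply A A' A'', ← IsScalarTower.algebraMap_apply A' A'' B'',
      IsScalarTower.algebraMap_apply A' B' B'', ← IsScalarTower.algebraMap_apply A A' B',
      IsScalarTower.algebraMap_apply A B' B'']
  let _ : Module B N'' := Module.compHom N'' (algebraMap B B')
  have : IsScalarTower B B' N'' := IsScalarTower.of_algebraMap_smul fun r x => rfl
  have : IsScalarTower B B'' N'' := IsScalarTower.of_algebraMap_smul fun r x => by
    rw [IsScalarTower.algebraMap_apply B B' B'', algebraMap_smul]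
    rfl
  have hpush' : Algebra.IsPushout A B A'' B'' := by
    have h1 : Algebra.IsPushout A A' B B' := Algebra.IsPushout.symm inferInstance
    exact Algebra.IsPushout.symm
      ((Algebra.IsPushout.comp_iff (R := A) (S := A') (R' := B) (S' := B') (T := A'')
        (T' := B'')).mpr (Algebra.IsPushout.symm hpush))
  refine h A'' B'' N'' ((f.restrictScalars B).comp g) t' t P
    ⟨hpush', IsBaseChange.comp hg hbc, htt, ?_, hP, hass, hno⟩
  exact Ideal.LiesOver.trans t p' p

variable {R S N : Type u} [CommRing R] [CommRing S] [Algebra R S] [AddCommGroup N] [Module S N]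
  [Module R N] [IsScalarTower R S N]

theorem free_baseChange_of_isUnivPureAlong [Algebra.FiniteType R S] [Module.Finite S N] [Module.Flat R N]
    (p : Ideal R) [p.IsPrime] (h : FlatCA.IsUnivPureAlong R S N p) (L : Type u) [CommRing L] [Algebra R L]
    [IsLocalRing L] [IsNoetherianRing L] (hL : (IsLocalRing.maximalIdeal L).LiesOver p) :
    Module.Free L (L ⊗[R] N) := by
  let SL := L ⊗[R] S
  let NL := SL ⊗[S] N
  haveI : Algebra.IsPushout R L S SL := Algebra.IsPushout.symm inferInstance
  let e : NL ≃ₗ[L] L ⊗[R] N := Algebra.IsPushout.cancelBaseChange R L S SL N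
  haveI : Module.Flat L NL := Module.Flat.of_linearEquiv e
  haveI : Module.Free L NL := free_of_isUnivPureAlong (S := SL)
    (isUnivPureAlong_baseChange N p h L SL NL (TensorProduct.mk S SL N 1) (TensorProduct.isBaseChange S N SL)
      (IsLocalRing.maximalIdeal L) hL)
  exact Module.Free.of_equiv e

theorem free_localization_of_isUnivPureAlong [IsNoetherianRing R] [Algebra.FiniteType R S] [Module.Finite S N]
    [Module.Flat R N] (p : Ideal R) [p.IsPrime] (h : FlatCA.IsUnivPureAlong R S N p) :
    Module.Free (Localization.AtPrime p) (LocalizedModule p.primeCompl N) := by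
  haveI := free_baseChange_of_isUnivPureAlong (S := S) p h (Localization.AtPrime p)
    ⟨(IsLocalization.AtPrime.under_maximalIdeal (Localization.AtPrime p) p).symm⟩
  exact Module.Free.of_equiv (LocalizedModule.equivTensorProduct p.primeCompl N).symm

theorem exists_generic_free [Algebra.FiniteType R S] [Module.Finite S N] (p : Ideal R) [p.IsPrime] :
    ∃ f ∉ p, Module.Free (Localization.Away (Ideal.Quotient.mk p f))
      (LocalizedModule (Submonoid.powers (Ideal.Quotient.mk p f)) (N ⧸ (p • ⊤ : Submodule R N))) := by
  let B := R ⧸ p
  let SB := B ⊗[R] S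
  let NB := SB ⊗[S] N
  haveI : Algebra.IsPushout R B S SB := Algebra.IsPushout.symm inferInstance
  obtain ⟨f, hf, hfree, -⟩ := (Groth.GenericFree.gf_of_finiteType (R := B) SB NB).exists_free
  obtain ⟨f, rfl⟩ := Ideal.Quotient.mk_surjective f
  refine ⟨f, fun h => hf (Ideal.Quotient.eq_zero_iff_mem.mpr h), ?_⟩
  haveI := hfree _ hf dvd_rfl
  let e : NB ≃ₗ[B] N ⧸ (p • ⊤ : Submodule R N) :=
    (Algebra.IsPushout.cancelBaseChange R B S SB N).trans
      ((TensorProduct.quotTensorEquivQuotSMul N p).extendScalarsOfSurjective Ideal.Quotient.mk_surjective)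
  exact Module.Free.of_equiv (IsLocalizedModule.mapEquiv (Submonoid.powers (Ideal.Quotient.mk p f))
    (LocalizedModule.mkLinearMap (Submonoid.powers (Ideal.Quotient.mk p f)) NB)
    (LocalizedModule.mkLinearMap (Submonoid.powers (Ideal.Quotient.mk p f)) (N ⧸ (p • ⊤ : Submodule R N)))
    (Localization.Away (Ideal.Quotient.mk p f)) e)

/-- A flat universally pure module over a Noetherian ring is projective. -/
theorem projective_of_isUnivPure [IsNoetherianRing R] [Algebra.FiniteType R S] [Module.Finite S N]
    [Module.Flat R N] (h : FlatCA.IsUnivPure R S N) : Module.Projective R N :=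
  Groth.Calg1.projective_of_flat_mittagLeffler
    (isMittagLeffler_of_free_localization (fun q _ => free_localization_of_isUnivPureAlong (S := S) q (h q))
      (fun p _ => exists_generic_free (S := S) p))
    (isCountablyGenerated_of_finiteType (S := S))

/-- Flat algebras with geometrically integral fibres over Noetherian rings are projective. -/
theorem projective_of_geomIntegralFibres [IsNoetherianRing R] [Algebra.FiniteType R S] [Module.Flat R S]
    (h : FlatCA.GeomIntegralFibres R S) : Module.Projective R S :=
  projective_of_isUnivPure (isUnivPure_self h)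

/-- Over a Noetherian ring: projective iff universally pure, for flat finite modules. -/
theorem projective_iff_isUnivPure [IsNoetherianRing R] [Algebra.FiniteType R S] [Module.Finite S N]
    [Module.Flat R N] : Module.Projective R N ↔ FlatCA.IsUnivPure R S N :=
  ⟨fun _ p _ => Groth.FlatmorThree.isUnivPure_of_projective_aux N p, projective_of_isUnivPure⟩

end Groth.RaynaudGruson
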