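import Groth.Agent.RaynaudGruson.AssassinTorsion
import Groth.Agent.RaynaudGruson.ImpurityDescent
import Groth.Agent.FlatmorThree.PureProjective
import Mathlib

/-!
Flat and pure along a fibre means universally pure along it.
-/

set_option autoImplicit false
universe u

open TensorProduct IsLocalRing

namespace Groth.RaynaudGruson

attribute [local instance] Algebra.TensorProduct.rightAlgebra

section Operators

variable {A B : Type u} [CommRing A] [CommRing B] [Algebra A B] {N : Type u} [AddCommGroup N]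
  [Module B N] [Module A N] [IsScalarTower A B N]

/-- Witnesses descend along localisations. -/
theorem Wit.comap_of_isLocalization {A₀ A' : Type u} [CommRing A₀] [Algebra A A₀] [CommRing A'] [Algebra A A']
    [Algebra A₀ A'] [IsScalarTower A A₀ A'] (M : Submonoid A₀) [IsLocalization M A'] {t' t : Ideal A'} [t'.IsPrime]
    [t.IsPrime] (h : Wit (A := A) (B := B) N t' t) :
    Wit (A := A) (B := B) N (t'.comap (IsScalarTower.toAlgHom A A₀ A')) (t.comap (IsScalarTower.toAlgHom A A₀ A')) := by
  obtain ⟨htt, a, π, ⟨hat, hcong⟩, z, hz, hπz⟩ := h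
  let γ := IsScalarTower.toAlgHom A A₀ A'
  let G := Algebra.TensorProduct.map γ (AlgHom.id A B)
  have hden : ∀ x : A' ⊗[A] B, ∃ c ∈ M, ∃ w, G w = (γ c ⊗ₜ[A] (1 : B)) * x := by
    intro x
    induction x with
    | zero => exact ⟨1, one_mem M, 0, by simp⟩
    | tmul r b =>
      obtain ⟨⟨r₀, c⟩, hc⟩ := IsLocalization.surj M r
      exact ⟨c, c.2, r₀ ⊗ₜ b, by simp [G, γ, ← hc, mul_comm]⟩
    | add x y hx hy =>
      obtain ⟨c, hc, w, hw⟩ := hx
      obtain ⟨d, hd, v, hv⟩ := hy
      refine ⟨c * d, mul_mem hc hd, (d ⊗ₜ 1) * w + (c ⊗ₜ 1) * v, ?_⟩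
      have e : γ (c * d) ⊗ₜ[A] (1 : B) = (γ d ⊗ₜ[A] (1 : B)) * (γ c ⊗ₜ[A] (1 : B)) := by
        simp [mul_comm]
      rw [map_add, map_mul, map_mul, hw, hv, e]
      simp only [G, Algebra.TensorProduct.map_tmul, AlgHom.id_apply]
      ring
  have hmem : ∀ τ ∈ t.map (algebraMap A' (A' ⊗[A] B)), ∃ c ∈ M,
      ∃ w ∈ (t.comap γ).map (algebraMap A₀ (A₀ ⊗[A] B)), G w = (γ c ⊗ₜ[A] (1 : B)) * τ := by
    intro τ hτ
    induction hτ using Submodule.span_induction with
    | mem x hx =>
      obtain ⟨r, hr, rfl⟩ := hx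
      obtain ⟨⟨r₀, c⟩, hc⟩ := IsLocalization.surj M r
      refine ⟨c, c.2, algebraMap A₀ (A₀ ⊗[A] B) r₀, Ideal.mem_map_of_mem _ ?_, ?_⟩
      · show γ r₀ ∈ t
        rw [show γ r₀ = r * algebraMap A₀ A' c from hc.symm]
        exact t.mul_mem_right _ hr
      · simp [G, γ, ← hc, Algebra.TensorProduct.algebraMap_apply, mul_comm]
    | zero => exact ⟨1, one_mem M, 0, zero_mem _, by simp⟩
    | add x y _ _ hx hy =>
      obtain ⟨c, hc, w, hwI, hw⟩ := hx
      obtain ⟨d, hd, v, hvI, hv⟩ := hy
      refine ⟨c * d, mul_mem hc hd, (d ⊗ₜ 1) * w + (c ⊗ₜ 1) * v,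
        add_mem (Ideal.mul_mem_left _ _ hwI) (Ideal.mul_mem_left _ _ hvI), ?_⟩
      have e : γ (c * d) ⊗ₜ[A] (1 : B) = (γ d ⊗ₜ[A] (1 : B)) * (γ c ⊗ₜ[A] (1 : B)) := by
        simp [mul_comm]
      rw [map_add, map_mul, map_mul, hw, hv, e]
      simp only [G, Algebra.TensorProduct.map_tmul, AlgHom.id_apply]
      ring
    | smul s x _ hx =>
      obtain ⟨c, hc, w, hwI, hw⟩ := hx
      obtain ⟨d, hd, v, hv⟩ := hden s
      refine ⟨c * d, mul_mem hc hd, v * w, Ideal.mul_mem_left _ _ hwI, ?_⟩
      have e : γ (c * d) ⊗ₜ[A] (1 : B) = (γ d ⊗ₜ[A] (1 : B)) * (γ c ⊗ₜ[A] (1 : B)) := by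
        simp [mul_comm]
      rw [map_mul, hv, hw, smul_eq_mul, e]
      ring
  obtain ⟨c, hc, w, hwI, hw⟩ := hmem _ hcong
  obtain ⟨⟨a₀, d⟩, hd⟩ := IsLocalization.surj M a
  have hu : ∀ m ∈ M, γ m ∉ t := fun m hm h => ‹t.IsPrime›.ne_top
    (Ideal.eq_top_of_isUnit_mem _ h (IsLocalization.map_units A' ⟨m, hm⟩))
  refine ⟨Ideal.comap_mono htt, c * a₀, (c * a₀) ⊗ₜ[A] (1 : B) - ((d : A₀) ⊗ₜ[A] (1 : B)) * w, ⟨fun h => ?_, ?_⟩, ?_⟩
  · rw [Ideal.mem_comap, map_mul, show γ a₀ = a * γ d from hd.symm] at h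
    exact (‹t.IsPrime›.mem_or_mem h).elim (hu c hc) fun h => (‹t.IsPrime›.mem_or_mem h).elim hat (hu d d.2)
  · rw [sub_sub_cancel]
    exact Ideal.mul_mem_left _ _ hwI
  refine exists_zeroDivisor_comap γ _ t' rfl _ z hz ?_
  have e : G ((c * a₀) ⊗ₜ[A] (1 : B) - ((d : A₀) ⊗ₜ[A] (1 : B)) * w) =
      ((γ c * γ d) ⊗ₜ[A] (1 : B)) * π := by
    rw [map_sub, map_mul, hw]
    simp only [G, Algebra.TensorProduct.map_tmul, AlgHom.id_apply, map_mul, show γ a₀ = a * γ d from hd.symm]
    simp only [show ∀ x y : A', (x * y) ⊗ₜ[A] (1 : B) = (x ⊗ₜ[A] (1 : B)) * (y ⊗ₜ[A] (1 : B)) from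
      fun x y => by simp]
    ring
  show act N (resMap A t') (G _) z = 0
  rw [e, map_mul, Module.End.mul_apply, hπz, map_zero]

theorem act_linearMap {C M A' K : Type u} [CommRing C] [Algebra A C] [Algebra B C] [IsScalarTower A B C]
    [AddCommGroup M] [Module C M] [Module A M] [IsScalarTower A C M] [Module B M] [IsScalarTower B C M]
    [IsScalarTower A B M]
    [CommRing A'] [Algebra A A'] [CommRing K] [Algebra A K] (ι : N →ₗ[B] M) (φ : A' →ₐ[A] K) (π : A' ⊗[A] B)
    (z : K ⊗[A] N) :
    (ι.restrictScalars A).lTensor K (act N φ π z) =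
      act M φ (Algebra.TensorProduct.map (AlgHom.id A A') (IsScalarTower.toAlgHom A B C) π)
        ((ι.restrictScalars A).lTensor K z) := by
  induction π with
  | zero => simp
  | add a b ha hb => simp [map_add, ha, hb]
  | tmul a b =>
    induction z with
    | zero => simp
    | add x y hx hy => simp [map_add, hx, hy]
    | tmul c n => simp

/-- Witnesses move along maps of modules which are injective at the residue field. -/
theorem Wit.map_module {C M A' : Type u} [CommRing C] [Algebra A C] [Algebra B C] [IsScalarTower A B C]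
    [AddCommGroup M] [Module C M] [Module A M] [IsScalarTower A C M] [Module B M] [IsScalarTower B C M]
    [IsScalarTower A B M] [CommRing A'] [Algebra A A'] {t' t : Ideal A'} [t'.IsPrime] [t.IsPrime]
    (ι : N →ₗ[B] M) (hι : Function.Injective ((ι.restrictScalars A).lTensor t'.ResidueField))
    (h : Wit (A := A) (B := B) N t' t) : Wit (A := A) (B := C) M t' t := by
  obtain ⟨htt, a, π, ⟨hat, hcong⟩, z, hz, hπz⟩ := h
  let G := Algebra.TensorProduct.map (AlgHom.id A A') (IsScalarTower.toAlgHom A B C)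
  refine ⟨htt, a, G π, ⟨hat, ?_⟩, (ι.restrictScalars A).lTensor t'.ResidueField z,
    fun h0 => hz (hι (h0.trans (map_zero _).symm)), by rw [← act_linearMap, hπz, map_zero]⟩
  have hle : (t.map (algebraMap A' (A' ⊗[A] B))).map G.toRingHom ≤ t.map (algebraMap A' (A' ⊗[A] C)) := by
    rw [Ideal.map_map, Ideal.map_le_iff_le_comap]
    intro r hr
    rw [Ideal.mem_comap]
    have := Ideal.mem_map_of_mem (algebraMap A' (A' ⊗[A] C)) hr
    simpa [G, Algebra.TensorProduct.algebraMap_apply] using this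
  simpa [G] using hle (Ideal.mem_map_of_mem G.toRingHom hcong)

/-- Injectivity on a residue field passes to larger fields. -/
theorem injective_lTensor_field {K L : Type u} [Field K] [Field L] [Algebra A K] [Algebra A L] [Algebra K L]
    [IsScalarTower A K L] {M M' : Type u} [AddCommGroup M] [Module A M] [AddCommGroup M'] [Module A M']
    (ι : M →ₗ[A] M') (h : Function.Injective (ι.lTensor K)) : Function.Injective (ι.lTensor L) := by
  have h1 : Function.Injective ((ι.baseChange K).lTensor L) :=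
    Module.Flat.lTensor_preserves_injective_linearMap (M := L) (ι.baseChange K) h
  let e := AlgebraTensorModule.cancelBaseChange A K L L M
  let e' := AlgebraTensorModule.cancelBaseChange A K L L M'
  have key : ∀ w, e' ((ι.baseChange K).lTensor L w) = ι.lTensor L (e w) := by
    intro w
    induction w with
    | zero => simp
    | add a b ha hb => rw [map_add, map_add, ha, hb, map_add, map_add]
    | tmul l y =>
      induction y with
      | zero => simp
      | add a b ha hb => rw [tmul_add, map_add, map_add, ha, hb, map_add, map_add]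
      | tmul k m => simp [e, e', smul_tmul']
  intro x y hxy
  obtain ⟨x, rfl⟩ := e.surjective x
  obtain ⟨y, rfl⟩ := e.surjective y
  rw [← key, ← key] at hxy
  exact congrArg e (h1 (e'.injective hxy))

/-- A flat algebra whose image contains the associated points of a fibre is injective on that fibre. -/
theorem injective_lTensor_residueField [Algebra.FiniteType A B] {C : Type u} [CommRing C] [Algebra B C]
    [Algebra A C] [IsScalarTower A B C] [Module.Flat B C] (s₀ : Ideal A) [s₀.IsPrime]
    (h : ∀ (P : Ideal B) [P.IsPrime], P.LiesOver s₀ →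
      FlatCA.fiberIdeal s₀ P ∈ associatedPrimes (s₀.Fiber B) (FlatCA.fiberMod s₀ B N) →
      ∃ x : Ideal C, x.IsPrime ∧ x.comap (algebraMap B C) = P) :
    Function.Injective (((TensorProduct.mk B C N 1).restrictScalars A).lTensor s₀.ResidueField) := by
  rw [injective_iff_map_eq_zero]
  intro z hz
  by_contra hne
  let K := s₀.ResidueField
  let z' : N ⊗[A] K := TensorProduct.comm A K N z
  have hz' : (1 : C) ⊗ₜ[B] z' = 0 := by
    have key : ∀ w : K ⊗[A] N, (1 : C) ⊗ₜ[B] (TensorProduct.comm A K N w) =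
        AlgebraTensorModule.assoc A B C C N K (TensorProduct.comm A K (C ⊗[B] N)
          (((TensorProduct.mk B C N 1).restrictScalars A).lTensor K w)) := fun w => by
      induction w with
      | zero => simp
      | add a b ha hb => simp only [map_add, TensorProduct.tmul_add, ha, hb]
      | tmul a n => simp
    rw [key z, hz, map_zero, map_zero]
  have hcomm : ∀ (b : B) (w : K ⊗[A] N), TensorProduct.comm A K N (act N (resMap A s₀) (1 ⊗ₜ b) w) =
      b • TensorProduct.comm A K N w := by
    intro b w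
    induction w with
    | zero => simp
    | add x y hx hy => simp only [map_add, smul_add, hx, hy]
    | tmul c n => simp [smul_tmul']
  haveI : IsNoetherianRing (s₀.Fiber B) := Algebra.FiniteType.isNoetherianRing s₀.ResidueField _
  have hid : IsBaseChange B (LinearMap.id : N →ₗ[B] N) := IsBaseChange.ofEquiv (LinearEquiv.refl B N)
  let y : FlatCA.fiberMod s₀ B N := toFiber (A := A) N A B N (LinearMap.id : N →ₗ[B] N) s₀ z
  have hy0 : y ≠ 0 := fun h0 =>
    hne ((bijective_toFiber (A := A) N A B N (LinearMap.id : N →ₗ[B] N) hid s₀).1 (h0.trans (map_zero _).symm))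
  obtain ⟨Q, hQ, hle⟩ := exists_le_isAssociatedPrime_of_isNoetherianRing (s₀.Fiber B) y hy0
  haveI := hQ.1
  let P := Q.comap (algebraMap B (s₀.Fiber B))
  have hPover : P.LiesOver s₀ := ⟨by
    rw [Ideal.under_def, Ideal.comap_comap, ← IsScalarTower.algebraMap_eq]
    exact (Ideal.LiesOver.over (P := Q) (p := s₀))⟩
  obtain ⟨x, hx, hxP⟩ := h P hPover (by rw [fiberIdeal_comap]; exact hQ)
  obtain ⟨u, hu, hu0⟩ := AssassinTorsion.exists_notMem_of_tmul_eq_zero hz' x
    fun h1 => hx.ne_top ((Ideal.eq_top_iff_one x).mpr h1)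
  rw [hxP] at hu
  apply hu
  refine hle ?_
  rw [Submodule.mem_colon_singleton, Submodule.mem_bot, algebraMap_smul]
  have h1 : act N (resMap A s₀) ((1 : A) ⊗ₜ u) z = 0 :=
    (TensorProduct.comm A K N).injective (by rw [hcomm, map_zero]; exact hu0)
  have h2 := toFiber_act (A := A) N A B N (LinearMap.id : N →ₗ[B] N) s₀ ((1 : A) ⊗ₜ u) z
  rw [h1, map_zero] at h2
  show u • y = 0
  refine Eq.trans ?_ h2.symm
  simp [toB', y]
  rfl

end Operators

namespace UnivPure

variable {R S : Type u} [CommRing R] [CommRing S] [Algebra R S] [Algebra.FiniteType R S]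
  {N : Type u} [AddCommGroup N] [Module S N] [Module R N] [IsScalarTower R S N]

/-- The relative assassin below the closed point of an elementary étale localisation is covered. -/
theorem exists_cover_point {R' SA : Type u} [CommRing R'] [CommRing SA] [Algebra R R'] (p : Ideal R) [p.IsPrime]
    (p' : Ideal R') [p'.IsPrime] (hnhd : FlatCA.IsEtaleNhd R R' p p') (hpure : FlatCA.IsPureAlong R S N p)
    [Algebra R SA] [Algebra S SA] [Algebra (Localization.AtPrime p') SA] [IsScalarTower R S SA]
    [IsScalarTower R (Localization.AtPrime p') SA] [Algebra.IsPushout R S (Localization.AtPrime p') SA]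
    {NA : Type u} [AddCommGroup NA] [Module SA NA] [Module S NA] [IsScalarTower S SA NA]
    [Module (Localization.AtPrime p') NA] [IsScalarTower (Localization.AtPrime p') SA NA]
    (f : N →ₗ[S] NA) (hf : IsBaseChange SA f) (s₀ : Ideal (Localization.AtPrime p')) [s₀.IsPrime] (P : Ideal SA)
    [P.IsPrime] (hP : P.LiesOver s₀)
    (hass : FlatCA.fiberIdeal s₀ P ∈ associatedPrimes (s₀.Fiber SA) (FlatCA.fiberMod s₀ SA NA)) :
    ∃ P' : Ideal SA, P'.IsPrime ∧ P ≤ P' ∧ P'.LiesOver (maximalIdeal (Localization.AtPrime p')) := by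
  let A := Localization.AtPrime p'
  let m := maximalIdeal A
  haveI := hnhd.2.1
  haveI : m.LiesOver p' := ⟨(IsLocalization.AtPrime.under_maximalIdeal A p').symm⟩
  haveI : m.LiesOver p := Ideal.LiesOver.trans m p' p
  by_contra hcon
  have hw := wit_of_isImpurity (A := R) (B := S) (N := N) A SA NA f p s₀ m P
    ⟨inferInstance, hf, le_maximalIdeal (Ideal.IsPrime.ne_top inferInstance), inferInstance, hP, hass,
      fun P' hP' hle hover => hcon ⟨P', hP', hle, hover⟩⟩
  have hw' := hw.comap_of_isLocalization p'.primeCompl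
  have hm : m.comap (IsScalarTower.toAlgHom R R' A) = p' := IsLocalization.AtPrime.under_maximalIdeal A p'
  haveI : (m.comap (IsScalarTower.toAlgHom R R' A)).LiesOver p := by rw [hm]; exact hnhd.2.1
  haveI : Algebra.IsPushout R S R' (R' ⊗[R] S) :=
    Algebra.IsPushout.symm (inferInstance : Algebra.IsPushout R R' S (R' ⊗[R] S))
  obtain ⟨Q, _, hQ⟩ := exists_isImpurity_of_wit (A := R) (B := S) (N := N) R' (R' ⊗[R] S) ((R' ⊗[R] S) ⊗[S] N)
    ((TensorProduct.mk S (R' ⊗[R] S) N) 1) (TensorProduct.isBaseChange S N _) p _ _ inferInstance hw'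
  refine hpure R' (R' ⊗[R] S) ((R' ⊗[R] S) ⊗[S] N) _ _ _ Q ?_ hQ
  convert hnhd using 1

/-- No witness lives over a ring mapping the assassins into a free cover. -/
theorem not_wit {A SA NA : Type u} [CommRing A] [CommRing SA] [Algebra A SA] [Algebra.FiniteType A SA]
    [AddCommGroup NA] [Module SA NA] [Module A NA] [IsScalarTower A SA NA] (m : Ideal A) [m.IsPrime]
    (C : Type u) [CommRing C] [Algebra SA C] [Algebra A C] [IsScalarTower A SA C] [Algebra.Etale SA C]
    [Module.Projective A (C ⊗[SA] NA)]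
    (himage : ∀ (s₀ : Ideal A) [s₀.IsPrime] (P : Ideal SA) [P.IsPrime], P.LiesOver s₀ →
      FlatCA.fiberIdeal s₀ P ∈ associatedPrimes (s₀.Fiber SA) (FlatCA.fiberMod s₀ SA NA) →
      ∃ x : Ideal C, x.IsPrime ∧ x.comap (algebraMap SA C) = P)
    {D : Type u} [CommRing D] [Algebra A D] (s' u : Ideal D) [s'.IsPrime] [u.IsPrime] [hu : u.LiesOver m]
    (h : Wit (A := A) (B := SA) NA s' u) : False := by
  let s₀ := s'.comap (algebraMap A D)
  letI : Algebra s₀.ResidueField s'.ResidueField :=
    (Ideal.ResidueField.mapₐ s₀ s' (Algebra.ofId A D) rfl).toRingHom.toAlgebra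
  haveI : IsScalarTower A s₀.ResidueField s'.ResidueField := .of_algebraMap_eq fun a =>
    ((Ideal.ResidueField.mapₐ s₀ s' (Algebra.ofId A D) rfl).commutes a).symm
  have hwC := h.map_module (C := C) (TensorProduct.mk SA C NA 1)
    (injective_lTensor_field _ (injective_lTensor_residueField s₀ fun P _ hP h => himage s₀ P hP h))
  haveI : Algebra.FiniteType A C := Algebra.FiniteType.trans (S := SA) inferInstance inferInstance
  haveI : Algebra.IsPushout A C D (D ⊗[A] C) :=
    Algebra.IsPushout.symm (inferInstance : Algebra.IsPushout A D C (D ⊗[A] C))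
  obtain ⟨Q', _, hQ'⟩ := exists_isImpurity_of_wit (A := A) (B := C) (N := C ⊗[SA] NA) D
    (D ⊗[A] C) ((D ⊗[A] C) ⊗[C] (C ⊗[SA] NA))
    ((TensorProduct.mk C (D ⊗[A] C) (C ⊗[SA] NA)) 1) (TensorProduct.isBaseChange C _ _) m s' u hu hwC
  exact FlatmorThree.isUnivPure_of_projective_aux (C ⊗[SA] NA) m _ _ _ _ s' u Q' hQ'

set_option maxHeartbeats 1600000 in
/-- **Flat and pure along the fibre implies universally pure along it.** -/
theorem isUnivPureAlong_of_isPureAlong [Module.Finite S N] (p : Ideal R) [p.IsPrime]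
    (hflat : ∀ (q : Ideal S) [q.IsPrime], q.LiesOver p → FlatCA.FlatAt R q N)
    (hpure : FlatCA.IsPureAlong R S N p) : FlatCA.IsUnivPureAlong R S N p := by
  obtain ⟨R', _, _, p', _, hnhd, hmod⟩ := FreeCover.exists_free_cover N p hflat
  obtain ⟨het, hp'o, hκ'⟩ := id hnhd
  haveI := het; haveI := hp'o
  let A := Localization.AtPrime p'
  let m := maximalIdeal A
  haveI : m.LiesOver p' := ⟨(IsLocalization.AtPrime.under_maximalIdeal A p').symm⟩
  haveI : m.LiesOver p := Ideal.LiesOver.trans m p' p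
  have hκ := EtalePushout.bijective_mapₐ_trans p p' m hκ' (LocalStructure.bijective_residue_atPrime p')
  obtain ⟨SA, _, _, _, _, _, _, hpush⟩ := EtalePushout.exists_pushout R S A
  haveI := hpush
  haveI hpush' : Algebra.IsPushout R S A SA := Algebra.IsPushout.symm hpush
  haveI : Algebra.FiniteType A SA := Algebra.FiniteType.equiv
    (inferInstance : Algebra.FiniteType A (A ⊗[R] S)) (Algebra.IsPushout.equiv R A S SA)
  obtain ⟨NA, _, _, _, _, f, hf⟩ := EtalePushout.exists_baseChange S SA N
  letI : Module A NA := Module.compHom NA (algebraMap A SA)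
  haveI : IsScalarTower A SA NA := IsScalarTower.of_algebraMap_smul fun _ _ => rfl
  obtain ⟨C, _, _, _, _, _, _, hetC, -, hcover, hfree⟩ := hmod SA NA f hf
  haveI := hetC
  haveI : SMulCommClass SA A C := ⟨fun s r x => by simp only [Algebra.smul_def]; ring⟩
  haveI := hfree
  haveI : Module.Free A (C ⊗[SA] NA) := Module.Free.of_equiv
    (AddEquiv.toLinearEquiv (RestrictScalars.addEquiv A C (C ⊗[SA] NA)) fun r z => by
      rw [RestrictScalars.addEquiv_map_smul]
      exact algebraMap_smul C r _)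
  haveI : Module.Flat R A :=
    haveI : Module.Flat R' A := IsLocalization.flat _ p'.primeCompl
    Module.Flat.trans R R' A
  haveI : Module.Flat R (Localization.AtPrime m) :=
    haveI : Module.Flat A (Localization.AtPrime m) := IsLocalization.flat _ m.primeCompl
    Module.Flat.trans R A _
  have himage : ∀ (s₀ : Ideal A) [s₀.IsPrime] (P : Ideal SA) [P.IsPrime], P.LiesOver s₀ →
      FlatCA.fiberIdeal s₀ P ∈ associatedPrimes (s₀.Fiber SA) (FlatCA.fiberMod s₀ SA NA) →
      ∃ x : Ideal C, x.IsPrime ∧ x.comap (algebraMap SA C) = P := by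
    intro s₀ _ P _ hP hass
    obtain ⟨P', hP', hle, hP'm⟩ := exists_cover_point p p' hnhd hpure f hf s₀ P hP hass
    haveI := hP'; haveI := hP'm
    haveI : (P'.comap (algebraMap S SA)).LiesOver p := ⟨by
      show p = (P'.comap (algebraMap S SA)).comap (algebraMap R S)
      rw [Ideal.comap_comap, ← IsScalarTower.algebraMap_eq, IsScalarTower.algebraMap_eq R A SA, ← Ideal.comap_comap,
        show P'.comap (algebraMap A SA) = m from hP'm.over.symm]
      exact Ideal.LiesOver.over (P := m) (p := p)⟩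
    obtain ⟨x, hx, hxS, hxm⟩ := hcover (P'.comap (algebraMap S SA)) inferInstance
    haveI := hx
    haveI : (x.comap (algebraMap SA C)).LiesOver (P'.comap (algebraMap S SA)) := ⟨by
      show P'.comap (algebraMap S SA) = (x.comap (algebraMap SA C)).comap (algebraMap S SA)
      rw [Ideal.comap_comap, ← IsScalarTower.algebraMap_eq, hxS]⟩
    haveI : (x.comap (algebraMap SA C)).LiesOver m := ⟨by
      show m = (x.comap (algebraMap SA C)).comap (algebraMap A SA)
      rw [Ideal.comap_comap, ← IsScalarTower.algebraMap_eq]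
      exact hxm.over⟩
    haveI : P'.LiesOver (P'.comap (algebraMap S SA)) := ⟨rfl⟩
    have heq := LocalStructureFT.eq_of_liesOver p m hκ (P'.comap (algebraMap S SA)) (x.comap (algebraMap SA C)) P'
    haveI : x.LiesOver P' := ⟨heq.symm⟩
    obtain ⟨x', -, hx'p, hx'P⟩ := Ideal.exists_ideal_le_liesOver_of_le x hle
    exact ⟨x', hx'p, hx'P.over.symm⟩
  intro A'' B'' N'' _ _ _ _ _ _ _ _ _ _ _ _ _ _ f'' t' t _ _ P _ himp
  haveI : Algebra.IsPushout R S A'' B'' := himp.1
  haveI : t.LiesOver p := himp.2.2.2.1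
  have hw := wit_of_isImpurity (A := R) (B := S) (N := N) A'' B'' N'' f'' p t' t P himp
  obtain ⟨Ω, _, _, ι, φ, hι, hφ⟩ := exists_field_point p t m
  obtain ⟨s', _, hws⟩ := Wit.baseChange_flatAt ι φ m hι hφ hw
  haveI hu : (pointTensor ι φ).LiesOver m := pointTensor_liesOver ι φ m hφ
  obtain ⟨Q, _, hQ⟩ := exists_isImpurity_baseChange p f hf m s' (pointTensor ι φ) hws
  haveI := hQ.1
  have hwA := wit_of_isImpurity (A := A) (B := SA) (N := NA) _ _ _ _ m s' (pointTensor ι φ) Q hQ
  exact not_wit m C himage s' (pointTensor ι φ) hwA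

end UnivPure

end Groth.RaynaudGruson
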