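import Groth.Agent.RaynaudGruson.ImpurityWit
import Groth.Agent.RaynaudGruson.UnivPure
import Groth.Agent.FlatMorOne.FlatLocusModels
import Groth.Agent.FlatMorOne.UnivInj
import Groth.Agent.Calg3.FibreAssTorsion
import Mathlib

/-!
Pure spreadouts after a quotient by a finitely generated ideal of the local ring.
-/

set_option autoImplicit false
universe u

open TensorProduct

namespace Groth.RaynaudGruson.PureSpreadout

attribute [local instance] Algebra.TensorProduct.rightAlgebra

/-- A finitely presented module over a localisation comes from one over the ring. -/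
theorem exists_model {B : Type u} [CommRing B] (T : Submonoid B) (N : Type u) [AddCommGroup N]
    [Module (Localization T) N] [Module B N] [IsScalarTower B (Localization T) N]
    [Module.FinitePresentation (Localization T) N] :
    ∃ (N₀ : Type u) (_ : AddCommGroup N₀) (_ : Module B N₀) (ψ : N₀ →ₗ[B] N),
      Module.FinitePresentation B N₀ ∧ IsBaseChange (Localization T) ψ := by
  classical
  let L := Localization T
  obtain ⟨n, K, e, hK⟩ := Module.FinitePresentation.exists_fin (R := L) (M := N)
  obtain ⟨s, hs⟩ := hK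
  have hden : ∀ v : s, ∃ (d : T) (k : Fin n → B), ∀ i, algebraMap B L (k i) = algebraMap B L d * v.1 i := by
    intro v
    obtain ⟨d, hd⟩ := IsLocalization.exist_integer_multiples T Finset.univ v.1
    choose k hk using fun i => hd i (Finset.mem_univ i)
    exact ⟨d, k, fun i => by rw [hk i, Algebra.smul_def]⟩
  choose d k hk using hden
  have hKeq : K = Submodule.span L (Set.range fun v : s => fun i => algebraMap B L (k v i)) := by
    rw [← hs]
    refine le_antisymm (Submodule.span_le.mpr fun v hv => ?_) (Submodule.span_le.mpr ?_)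
    · obtain ⟨w, hw⟩ := IsLocalization.map_units L (d ⟨v, hv⟩)
      have : v = (↑w⁻¹ : L) • fun i => algebraMap B L (k ⟨v, hv⟩ i) := funext fun i => by
        rw [Pi.smul_apply, hk, ← hw, smul_eq_mul, ← mul_assoc, Units.inv_mul, one_mul]
      rw [this]
      exact Submodule.smul_mem _ _ (Submodule.subset_span ⟨⟨v, hv⟩, rfl⟩)
    · rintro _ ⟨v, rfl⟩
      show (fun i => algebraMap B L (k v i)) ∈ Submodule.span L (s : Set (Fin n → L))
      rw [show (fun i => algebraMap B L (k v i)) = algebraMap B L (d v) • v.1 from funext fun i => hk v i]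
      exact Submodule.smul_mem _ _ (Submodule.subset_span v.2)
  obtain ⟨ψ, hψ⟩ := Groth.FlatMorOne.isBaseChange_quotient_span k K e hKeq
  refine ⟨_, inferInstance, inferInstance, ψ, ?_, hψ⟩
  refine Module.finitePresentation_of_surjective _ (Submodule.mkQ_surjective _) ?_
  rw [Submodule.ker_mkQ]
  exact Submodule.fg_span (Set.finite_range k)

/-- One element of `T` detects the associated points of a fibre which meet `T`. -/
theorem exists_h {A B : Type u} [CommRing A] [CommRing B] [Algebra A B] [Algebra.FiniteType A B]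
    (T : Submonoid B) (N : Type u) [AddCommGroup N] [Module B N] [Module A N] [IsScalarTower A B N] [Module.Finite B N]
    (p : Ideal A) [p.IsPrime] :
    ∃ h ∈ T, ∀ t ∈ T, ∀ k : N ⊗[A] p.ResidueField, t • k = 0 → ∃ m : ℕ, h ^ m • k = 0 := by
  classical
  haveI : IsNoetherianRing (p.Fiber B) := Algebra.FiniteType.isNoetherianRing p.ResidueField _
  let fm := p.Fiber B ⊗[B] N
  haveI : Module.Finite (p.Fiber B) fm := inferInstance
  let bad := ((associatedPrimes.finite (p.Fiber B) fm).subset
    (fun P hP => hP.1 : {P | P ∈ associatedPrimes (p.Fiber B) fm ∧ ∃ t ∈ T, algebraMap B (p.Fiber B) t ∈ P} ⊆ _)).toFinset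
  have hmem : ∀ P : bad, ∃ t ∈ T, algebraMap B (p.Fiber B) t ∈ P.1 := fun P => (Set.Finite.mem_toFinset _ |>.mp P.2).2
  choose c hcT hcP using hmem
  refine ⟨∏ P, c P, prod_mem fun P _ => hcT P, fun t ht k hk => ?_⟩
  have hid : IsBaseChange B (LinearMap.id : N →ₗ[B] N) := IsBaseChange.ofEquiv (LinearEquiv.refl B N)
  let y : fm := toFiber (A := A) N A B N (LinearMap.id : N →ₗ[B] N) p (TensorProduct.comm A N p.ResidueField k)
  have hcomm : ∀ (b : B) (w : N ⊗[A] p.ResidueField),
      act N (resMap A p) ((1 : A) ⊗ₜ[A] b) (TensorProduct.comm A N p.ResidueField w) =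
        TensorProduct.comm A N p.ResidueField (b • w) := by
    intro b w
    induction w with
    | zero => simp
    | add x z hx hz => simp only [map_add, smul_add, hx, hz]
    | tmul n c => simp [smul_tmul']
  have hiff : ∀ b : B, algebraMap B (p.Fiber B) b • y = 0 ↔ b • k = 0 := by
    intro b
    have h1 := toFiber_act (A := A) N A B N (LinearMap.id : N →ₗ[B] N) p ((1 : A) ⊗ₜ[A] b)
      (TensorProduct.comm A N p.ResidueField k)
    rw [hcomm] at h1
    rw [algebraMap_smul, show b • y = toFiber (A := A) N A B N (LinearMap.id : N →ₗ[B] N) p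
      (TensorProduct.comm A N p.ResidueField (b • k)) from by rw [h1]; simp [toB', y],
      map_eq_zero_iff _ (bijective_toFiber (A := A) N A B N _ hid p).1, LinearEquiv.map_eq_zero_iff]
  let Y : Submodule (p.Fiber B) fm := Submodule.span _ {y}
  have hrad : algebraMap B (p.Fiber B) (∏ P, c P) ∈ (Module.annihilator (p.Fiber B) Y).radical := by
    rw [← Ideal.sInf_minimalPrimes, Submodule.mem_sInf]
    intro P hP
    haveI := hP.1.1
    have hass : P ∈ associatedPrimes (p.Fiber B) fm :=
      associatedPrimes.subset_of_injective (f := Y.subtype) Y.injective_subtype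
        (Module.associatedPrimes.minimalPrimes_annihilator_subset_associatedPrimes (p.Fiber B) Y hP)
    have htP : algebraMap B (p.Fiber B) t ∈ P := hP.1.2 (by
      rw [← Submodule.annihilator, Submodule.mem_annihilator_span_singleton]
      exact (hiff t).mpr hk)
    have hb : P ∈ bad := (Set.Finite.mem_toFinset _).mpr ⟨hass, t, ht, htP⟩
    rw [map_prod]
    exact Ideal.mem_of_dvd _ (Finset.dvd_prod_of_mem _ (Finset.mem_univ (⟨P, hb⟩ : bad))) (hcP ⟨P, hb⟩)
  obtain ⟨m, hm⟩ := hrad
  refine ⟨m, (hiff _).mp ?_⟩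
  rw [← Submodule.annihilator, Submodule.mem_annihilator_span_singleton] at hm
  rwa [map_pow]

/-- An endomorphism injective on the residue field of the local base change is universally injective there. -/
theorem injective_baseChange {A A₁ M M' : Type u} [CommRing A] [CommRing A₁] [IsLocalRing A₁] [Algebra A A₁]
    [AddCommGroup M] [Module A M] [AddCommGroup M'] [Module A M'] [Module.Projective A₁ (A₁ ⊗[A] M)]
    [Module.Flat A₁ (A₁ ⊗[A] M')] (tM : M →ₗ[A] M')
    (h : Function.Injective (tM.lTensor (IsLocalRing.ResidueField A₁))) (Q : Type u) [AddCommGroup Q] [Module A₁ Q] :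
    Function.Injective ((tM.baseChange A₁).rTensor Q) := by
  refine Groth.FlatMorOne.rTensor_injective_of_projective _ ?_ Q
  let K := IsLocalRing.ResidueField A₁
  let e := AlgebraTensorModule.cancelBaseChange A A₁ K K M
  let e' := AlgebraTensorModule.cancelBaseChange A A₁ K K M'
  have key : ∀ w, e' ((tM.baseChange A₁).lTensor K w) = tM.lTensor K (e w) := by
    intro w
    induction w with
    | zero => simp
    | add a b ha hb => rw [map_add, map_add, ha, hb, map_add, map_add]
    | tmul l y =>
      induction y with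
      | zero => simp
      | add a b ha hb => rw [tmul_add, map_add, map_add, ha, hb, map_add, map_add]
      | tmul k m => simp [e, e', smul_tmul']
  intro x y hxy
  exact e.injective (h (by rw [← key, ← key, hxy]))

/-- A base change along a pushout of localisations. -/
theorem isBaseChange_of_pushout {A A₁ L L₁ N N₁ : Type u} [CommRing A] [CommRing A₁] [CommRing L] [CommRing L₁]
    [Algebra A A₁] [Algebra A L] [Algebra A₁ L₁] [Algebra L L₁] [Algebra A L₁] [IsScalarTower A A₁ L₁]
    [IsScalarTower A L L₁] [Algebra.IsPushout A A₁ L L₁] [AddCommGroup N] [Module L N] [Module A N]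
    [IsScalarTower A L N] [AddCommGroup N₁] [Module L₁ N₁] [Module L N₁] [IsScalarTower L L₁ N₁] [Module A₁ N₁]
    [IsScalarTower A₁ L₁ N₁] [Module A N₁] [IsScalarTower A A₁ N₁] [IsScalarTower A L N₁]
    (η : N →ₗ[L] N₁) (hη : IsBaseChange A₁ (η.restrictScalars A)) : IsBaseChange L₁ η := by
  let Φ : L₁ ⊗[L] N →ₗ[L₁] N₁ := η.liftBaseChange L₁
  let e := Algebra.IsPushout.cancelBaseChange A A₁ L L₁ N
  have key : ∀ w : A₁ ⊗[A] N, Φ (e.symm w) = hη.equiv w := by
    intro w
    induction w with
    | zero => simp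
    | add a b ha hb => rw [map_add, map_add, ha, hb, map_add]
    | tmul a n =>
      have h1 : e.symm (a ⊗ₜ n) = a • ((1 : L₁) ⊗ₜ[L] n) := by
        apply e.injective
        rw [e.apply_symm_apply, map_smul, Algebra.IsPushout.cancelBaseChange_tmul, smul_tmul', smul_eq_mul, mul_one]
      rw [h1, LinearMap.map_smul_of_tower, LinearMap.liftBaseChange_tmul, one_smul, IsBaseChange.equiv_tmul]
      rfl
  have hbij : Function.Bijective Φ := by
    have : (Φ : L₁ ⊗[L] N → N₁) = hη.equiv ∘ e := funext fun w => by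
      rw [Function.comp_apply, ← key, e.symm_apply_apply]
    rw [this]
    exact hη.equiv.bijective.comp e.bijective
  exact IsBaseChange.of_equiv (LinearEquiv.ofBijective Φ hbij) fun n => by simp [Φ]

/-- Universal injectivity into a localisation. -/
theorem univInj_of_localization {A₁ C L₁ N' N₁ : Type u} [CommRing A₁] [CommRing C] [CommRing L₁] [Algebra A₁ C]
    [Algebra C L₁] [Algebra A₁ L₁] [IsScalarTower A₁ C L₁] (S : Submonoid C) [IsLocalization S L₁]
    [AddCommGroup N'] [Module C N'] [Module A₁ N'] [IsScalarTower A₁ C N'] [AddCommGroup N₁] [Module L₁ N₁]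
    [Module C N₁] [IsScalarTower C L₁ N₁] [Module A₁ N₁] [IsScalarTower A₁ C N₁] [IsScalarTower A₁ L₁ N₁]
    (g : N' →ₗ[C] N₁) (hg : IsBaseChange L₁ g)
    (h : ∀ c ∈ S, ∀ (Q : Type u) [AddCommGroup Q] [Module A₁ Q] (z : N' ⊗[A₁] Q), c • z = 0 → z = 0) :
    FlatCA.UnivInj A₁ (g.restrictScalars A₁) := by
  intro Q _ _
  rw [injective_iff_map_eq_zero]
  intro z hz
  let z' : N' ⊗[A₁] Q := TensorProduct.comm A₁ Q N' z
  have hz' : (1 : L₁) ⊗ₜ[C] z' = 0 := by
    let e := AlgebraTensorModule.assoc A₁ C L₁ L₁ N' Q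
    have key : ∀ w : Q ⊗[A₁] N', (1 : L₁) ⊗ₜ[C] (TensorProduct.comm A₁ Q N' w) =
        e ((hg.equiv.symm.toLinearMap.restrictScalars A₁).rTensor Q
          (TensorProduct.comm A₁ Q N₁ ((g.restrictScalars A₁).lTensor Q w))) := fun w => by
      induction w with
      | zero => simp
      | add a b ha hb => simp only [map_add, TensorProduct.tmul_add, ha, hb]
      | tmul q n => simp [e, IsBaseChange.equiv_symm_apply]
    rw [key z, hz, map_zero, map_zero, map_zero]
  haveI : IsLocalizedModule S ((TensorProduct.mk C L₁ (N' ⊗[A₁] Q)) 1) :=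
    (isLocalizedModule_iff_isBaseChange _ L₁ _).mpr (TensorProduct.isBaseChange C _ L₁)
  obtain ⟨⟨c, hc⟩, hcz⟩ :=
    (IsLocalizedModule.eq_zero_iff S ((TensorProduct.mk C L₁ (N' ⊗[A₁] Q)) 1)).mp hz'
  exact (TensorProduct.comm A₁ Q N').injective ((h c hc Q z' hcz).trans (map_zero _).symm)

/-- Inverting `h` makes `t` regular on the fibre. -/
theorem injective_lTensor_away {A B : Type u} [CommRing A] [CommRing B] [Algebra A B] (NB : Type u) [AddCommGroup NB]
    [Module B NB] [Module A NB] [IsScalarTower A B NB] (h₀ t : B) (κ : Type u) [CommRing κ] [Algebra A κ]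
    (Bh : Type u) [CommRing Bh] [Algebra B Bh] [Algebra A Bh] [IsScalarTower A B Bh] [IsLocalization.Away h₀ Bh]
    (hh₀ : ∀ k : NB ⊗[A] κ, t • k = 0 → ∃ m : ℕ, h₀ ^ m • k = 0) :
    Function.Injective (((LinearMap.lsmul B (Bh ⊗[B] NB) t).restrictScalars A).lTensor κ) := by
  haveI : Module.Flat B Bh := IsLocalization.flat Bh (Submonoid.powers h₀)
  let M := Bh ⊗[B] NB
  rw [injective_iff_map_eq_zero]
  intro w hw
  let eA := AlgebraTensorModule.assoc A B Bh Bh NB κ
  have key : ∀ w : κ ⊗[A] M,
      eA (TensorProduct.comm A κ M (((LinearMap.lsmul B M t).restrictScalars A).lTensor κ w)) =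
        t • eA (TensorProduct.comm A κ M w) := by
    intro w
    induction w with
    | zero => simp
    | add a b ha hb => rw [map_add, map_add, map_add, ha, hb, map_add, map_add, smul_add]
    | tmul c m =>
      rw [LinearMap.lTensor_tmul, comm_tmul, comm_tmul, ← algebraMap_smul Bh t (eA (m ⊗ₜ c)), ← map_smul,
        smul_tmul', algebraMap_smul]
      rfl
  have h0 := key w
  rw [hw, map_zero, map_zero] at h0
  let S := LinearMap.lsmul B (NB ⊗[A] κ) t
  have h1 : S.lTensor Bh (eA (TensorProduct.comm A κ M w)) = 0 := by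
    refine Eq.trans ?_ h0.symm
    generalize eA (TensorProduct.comm A κ M w) = x
    induction x with
    | zero => simp
    | add a b ha hb => rw [map_add, ha, hb, smul_add]
    | tmul c n => rw [LinearMap.lTensor_tmul, ← tmul_smul]; rfl
  obtain ⟨v, hv⟩ := (Module.Flat.lTensor_exact Bh (LinearMap.exact_subtype_ker_map S) _).mp h1
  have hv0 : v = 0 := by
    clear hv
    induction v with
    | zero => rfl
    | add a b ha hb => rw [ha, hb, add_zero]
    | tmul b k =>
      obtain ⟨m, hm⟩ := hh₀ k.1 k.2
      obtain ⟨w, hw⟩ := (IsLocalization.Away.algebraMap_isUnit (S := Bh) h₀).pow m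
      have hk : h₀ ^ m • k = 0 := Subtype.ext hm
      have hb : b = (h₀ ^ m) • ((↑w⁻¹ : Bh) * b) := by
        rw [Algebra.smul_def, map_pow, ← hw, ← mul_assoc, Units.mul_inv, one_mul]
      rw [hb, smul_tmul, hk, tmul_zero]
  rw [hv0, map_zero] at hv
  exact (TensorProduct.comm A κ M).injective (eA.injective (by rw [← hv, map_zero, map_zero]))

/-- The module on the open is the base change of the model. -/
theorem exists_equiv_open {A A₁ B Bh C : Type u} [CommRing A] [CommRing A₁] [CommRing B] [CommRing Bh] [CommRing C]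
    [Algebra A A₁] [Algebra A B] [Algebra A Bh] [Algebra A C] [Algebra A₁ C] [Algebra B Bh] [Algebra B C]
    [Algebra Bh C] [IsScalarTower A A₁ C] [IsScalarTower A Bh C] [IsScalarTower B Bh C] [IsScalarTower A B Bh]
    [IsScalarTower A B C] [Algebra.IsPushout A A₁ Bh C]
    (NB : Type u) [AddCommGroup NB] [Module B NB] [Module A NB] [IsScalarTower A B NB] :
    ∃ Φ : A₁ ⊗[A] (Bh ⊗[B] NB) ≃ₗ[A₁] C ⊗[B] NB, ∀ (t : B) w,
      Φ (((LinearMap.lsmul B (Bh ⊗[B] NB) t).restrictScalars A).baseChange A₁ w) = t • Φ w := by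
  let M := Bh ⊗[B] NB
  let φ : M →ₗ[A] C ⊗[B] NB := ((IsScalarTower.toAlgHom B Bh C).toLinearMap.rTensor NB).restrictScalars A
  let Φ : A₁ ⊗[A] M →ₗ[A₁] C ⊗[B] NB := φ.liftBaseChange A₁
  have hΦ : Function.Bijective Φ := by
    let e := Algebra.IsPushout.cancelBaseChange A A₁ Bh C M
    let e2 := AlgebraTensorModule.cancelBaseChange B Bh C C NB
    have key : ∀ w : A₁ ⊗[A] M, Φ w = e2 (e.symm w) := by
      intro w
      induction w with
      | zero => simp
      | add a b ha hb => rw [map_add, map_add, ha, hb, map_add]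
      | tmul a m =>
        have h1 : e.symm (a ⊗ₜ m) = a • ((1 : C) ⊗ₜ[Bh] m) := by
          apply e.injective
          rw [e.apply_symm_apply, map_smul, Algebra.IsPushout.cancelBaseChange_tmul, smul_tmul', smul_eq_mul, mul_one]
        rw [h1, LinearMap.liftBaseChange_tmul, ← algebraMap_smul C a ((1 : C) ⊗ₜ[Bh] m), map_smul, algebraMap_smul]
        congr 1
        clear h1
        induction m using TensorProduct.induction_on with
        | zero => simp
        | add u v hu hv => rw [map_add, tmul_add, map_add, hu, hv]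
        | tmul b n =>
          show ((IsScalarTower.toAlgHom B Bh C).toLinearMap b) ⊗ₜ[B] n = _
          rw [AlgebraTensorModule.cancelBaseChange_tmul, Algebra.smul_def, mul_one]
          rfl
    rw [show (Φ : A₁ ⊗[A] M → C ⊗[B] NB) = fun w => e2 (e.symm w) from funext key]
    exact e2.bijective.comp e.symm.bijective
  refine ⟨LinearEquiv.ofBijective Φ hΦ, fun t w => ?_⟩
  show Φ _ = t • Φ w
  induction w with
  | zero => simp
  | add a b ha hb => rw [map_add, map_add, ha, hb, map_add, smul_add]
  | tmul a m =>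
    rw [LinearMap.baseChange_tmul, LinearMap.liftBaseChange_tmul, LinearMap.liftBaseChange_tmul]
    show a • φ (t • m) = t • a • φ m
    rw [show φ (t • m) = t • φ m from ((IsScalarTower.toAlgHom B Bh C).toLinearMap.rTensor NB).map_smul t m,
      smul_comm]

set_option maxHeartbeats 1600000 in
set_option synthInstance.maxHeartbeats 100000 in
/-- **A pure spreadout exists after a quotient by a finitely generated ideal.** -/
theorem exists_hasPureSpreadout {A B : Type u} [CommRing A] [CommRing B] [Algebra A B] [Algebra.FinitePresentation A B]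
    (T : Submonoid B) (N : Type u) [AddCommGroup N] [Module (Localization T) N] [Module B N] [Module A N]
    [IsScalarTower B (Localization T) N] [IsScalarTower A (Localization T) N] [IsScalarTower A B N]
    [Module.FinitePresentation (Localization T) N] (p : Ideal A) [p.IsPrime] :
    ∃ I : Ideal (Localization.AtPrime p), I.FG ∧ I ≤ IsLocalRing.maximalIdeal (Localization.AtPrime p) ∧
      ∀ (B₁ N₁ : Type u) [CommRing B₁] [Algebra B B₁] [Algebra (Localization.AtPrime p ⧸ I) B₁] [Algebra A B₁]
        [IsScalarTower A B B₁] [IsScalarTower A (Localization.AtPrime p ⧸ I) B₁]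
        [Algebra.IsPushout A B (Localization.AtPrime p ⧸ I) B₁]
        [AddCommGroup N₁] [Module (Localization (T.map (algebraMap B B₁))) N₁] [Module (Localization.AtPrime p ⧸ I) N₁]
        [IsScalarTower (Localization.AtPrime p ⧸ I) (Localization (T.map (algebraMap B B₁))) N₁]
        [Module B N₁] [IsScalarTower B (Localization (T.map (algebraMap B B₁))) N₁]
        [Module A N₁] [IsScalarTower A (Localization.AtPrime p ⧸ I) N₁] [IsScalarTower A B N₁]
        (h : N →ₗ[B] N₁), IsBaseChange (Localization.AtPrime p ⧸ I) (h.restrictScalars A) →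
        FlatCA.HasPureSpreadout (Localization.AtPrime p ⧸ I) B₁ (T.map (algebraMap B B₁)) N₁ := by
  classical
  obtain ⟨NB, _, _, ψ, hNB, hψ⟩ := exists_model T N
  haveI := hNB
  letI : Module A NB := Module.compHom NB (algebraMap A B)
  haveI : IsScalarTower A B NB := IsScalarTower.of_algebraMap_smul fun _ _ => rfl
  obtain ⟨h₀, hh₀T, hh₀⟩ := exists_h T NB p
  let Bh := Localization.Away h₀
  let M := Bh ⊗[B] NB
  haveI : Algebra.FinitePresentation B Bh := IsLocalization.Away.finitePresentation h₀
  haveI : Algebra.FinitePresentation A Bh := Algebra.FinitePresentation.trans A B Bh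
  obtain ⟨R₀, hR₀, S₀, _, _, _, _, -, hpush₀, M₀, _, _, _, _, _, _, f₀, -, hf₀⟩ :=
    Groth.FlatMorOne.exists_models A Bh M
  haveI : IsNoetherianRing R₀ := Algebra.FiniteType.isNoetherianRing ℤ R₀
  haveI := hpush₀
  let p₀ := p.comap (algebraMap R₀ A)
  let Ap := Localization.AtPrime p
  let I : Ideal Ap := p₀.map ((algebraMap A Ap).comp (algebraMap R₀ A))
  have hIle : I ≤ IsLocalRing.maximalIdeal Ap := Ideal.map_le_iff_le_comap.mpr fun r hr =>
    (IsLocalization.AtPrime.to_map_mem_maximal_iff Ap p _).mpr hr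
  refine ⟨I, Ideal.FG.map (IsNoetherian.noetherian p₀) _, hIle, ?_⟩
  intro B₁ N₁ _ _ _ _ _ _ _ _ _ _ _ _ _ _ _ _ η hη
  let A₁ := Ap ⧸ I
  let T₁ : Submonoid B₁ := T.map (algebraMap B B₁)
  let L₁ := Localization T₁
  haveI : Nontrivial A₁ := Ideal.Quotient.nontrivial_iff.mpr
    fun h => (IsLocalRing.maximalIdeal.isMaximal Ap).ne_top (top_le_iff.mp (h ▸ hIle))
  haveI : IsLocalRing A₁ := IsLocalRing.of_surjective' (Ideal.Quotient.mk I) Ideal.Quotient.mk_surjective
  have hunit : ∀ r : A, r ∉ p → IsUnit (algebraMap A A₁ r) := fun r hr =>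
    ((IsLocalization.map_units Ap (⟨r, hr⟩ : p.primeCompl)).map (Ideal.Quotient.mk I))
  -- the residue field of the quotient
  let K := IsLocalRing.ResidueField A₁
  letI : Algebra p.ResidueField K := (Ideal.ResidueField.lift p (algebraMap A K)
    (fun r hr => by
      rw [RingHom.mem_ker, IsScalarTower.algebraMap_apply A A₁ K, IsLocalRing.ResidueField.algebraMap_eq,
        IsLocalRing.residue_eq_zero_iff, IsLocalRing.mem_maximalIdeal, mem_nonunits_iff]
      intro hu
      have hru : algebraMap A Ap r ∈ IsLocalRing.maximalIdeal Ap :=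
        (IsLocalization.AtPrime.to_map_mem_maximal_iff Ap p r).mpr hr
      obtain ⟨w, hw⟩ := Ideal.Quotient.mk_surjective (↑hu.unit⁻¹ : A₁)
      have h1 : algebraMap A Ap r * w - 1 ∈ I := Ideal.Quotient.eq.mp (by
        rw [map_mul, hw, map_one]; exact hu.mul_val_inv)
      refine (IsLocalRing.maximalIdeal.isMaximal Ap).ne_top ((Ideal.eq_top_iff_one _).mpr ?_)
      have := sub_mem (Ideal.mul_mem_right w _ hru) (hIle h1)
      rwa [sub_sub_cancel] at this)
    (fun r hr => show IsUnit (algebraMap A K r) by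
      rw [IsScalarTower.algebraMap_apply A A₁ K]
      exact (hunit r hr).map _)).toAlgebra
  haveI : IsScalarTower A p.ResidueField K := .of_algebraMap_eq fun r =>
    (Ideal.ResidueField.lift_algebraMap ..).symm
  -- the quotient as an algebra over the residue field of the model
  letI : Algebra p₀.ResidueField A₁ := (Ideal.ResidueField.lift p₀ (algebraMap R₀ A₁)
    (fun r hr => RingHom.mem_ker.mpr (Ideal.Quotient.eq_zero_iff_mem.mpr
      (Ideal.mem_map_of_mem ((algebraMap A Ap).comp (algebraMap R₀ A)) hr)))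
    (fun r hr => hunit _ hr)).toAlgebra
  haveI : IsScalarTower R₀ p₀.ResidueField A₁ := .of_algebraMap_eq fun r =>
    (Ideal.ResidueField.lift_algebraMap ..).symm
  haveI : Module.Projective A₁ (A₁ ⊗[A] M) := by
    haveI : Algebra.IsPushout R₀ A S₀ Bh := hpush₀
    let eM : M ≃ₗ[A] A ⊗[R₀] M₀ :=
      (hf₀.equiv.symm.restrictScalars A).trans (Algebra.IsPushout.cancelBaseChange R₀ A S₀ Bh M₀)
    exact Module.Projective.of_equiv (((AlgebraTensorModule.congr (LinearEquiv.refl A₁ A₁) eM).trans
      (AlgebraTensorModule.cancelBaseChange R₀ A A₁ A₁ M₀)).trans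
      (AlgebraTensorModule.cancelBaseChange R₀ p₀.ResidueField A₁ A₁ M₀).symm).symm
  -- the open
  let h₁ := algebraMap B B₁ h₀
  let C := Localization.Away h₁
  haveI : IsScalarTower A B C := .of_algebraMap_eq fun r => by
    rw [IsScalarTower.algebraMap_apply A B₁ C, IsScalarTower.algebraMap_apply A B B₁,
      ← IsScalarTower.algebraMap_apply B B₁ C]
  letI : Algebra Bh C := (IsLocalization.Away.lift h₀ (g := algebraMap B C) (by
    rw [IsScalarTower.algebraMap_apply B B₁ C]
    exact IsLocalization.Away.algebraMap_isUnit h₁)).toAlgebra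
  haveI : IsScalarTower B Bh C := .of_algebraMap_eq fun b => (IsLocalization.Away.lift_eq h₀ _ b).symm
  haveI : IsScalarTower A Bh C := .of_algebraMap_eq fun r => by
    rw [IsScalarTower.algebraMap_apply A B C, IsScalarTower.algebraMap_apply B Bh C,
      ← IsScalarTower.algebraMap_apply A B Bh]
  haveI : IsScalarTower A A₁ C := .of_algebraMap_eq fun r =>
    (IsScalarTower.algebraMap_apply A B₁ C r).trans ((congrArg (algebraMap B₁ C)
      (IsScalarTower.algebraMap_apply A A₁ B₁ r)).trans (IsScalarTower.algebraMap_apply A₁ B₁ C _).symm)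
  haveI : IsLocalization (Algebra.algebraMapSubmonoid B₁ (Submonoid.powers h₀)) C := by
    rw [show Algebra.algebraMapSubmonoid B₁ (Submonoid.powers h₀) = Submonoid.powers h₁ from
      Submonoid.map_powers _ _]
    infer_instance
  haveI hBC : Algebra.IsPushout B B₁ Bh C := Algebra.isPushout_of_isLocalization (Submonoid.powers h₀) _ _ _
  haveI hAC : Algebra.IsPushout A A₁ Bh C := by
    exact Algebra.IsPushout.symm ((Algebra.IsPushout.comp_iff (R := A) (S := B) (R' := A₁) (S' := B₁)
      (T := Bh) (T' := C)).mpr (Algebra.IsPushout.symm hBC))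
  -- maps to the localisation
  have hh₁ : IsUnit (algebraMap B₁ L₁ h₁) := IsLocalization.map_units L₁ (⟨h₁, ⟨h₀, hh₀T, rfl⟩⟩ : T₁)
  letI : Algebra C L₁ := (IsLocalization.Away.lift h₁ hh₁).toAlgebra
  haveI : IsScalarTower B₁ C L₁ := .of_algebraMap_eq fun b => (IsLocalization.Away.lift_eq h₁ hh₁ b).symm
  haveI : IsScalarTower A₁ C L₁ := .of_algebraMap_eq fun r =>
    ((IsScalarTower.algebraMap_apply A₁ B₁ L₁ r).trans (IsScalarTower.algebraMap_apply B₁ C L₁ _)).trans
      (congrArg (algebraMap C L₁) (IsScalarTower.algebraMap_apply A₁ B₁ C r).symm)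
  haveI : IsScalarTower B C L₁ := .of_algebraMap_eq fun r =>
    ((IsScalarTower.algebraMap_apply B B₁ L₁ r).trans (IsScalarTower.algebraMap_apply B₁ C L₁ _)).trans
      (congrArg (algebraMap C L₁) (IsScalarTower.algebraMap_apply B B₁ C r).symm)
  letI : Module C N₁ := Module.compHom N₁ (algebraMap C L₁)
  haveI : IsScalarTower C L₁ N₁ := IsScalarTower.of_algebraMap_smul fun _ _ => rfl
  haveI : IsScalarTower B C N₁ := IsScalarTower.of_algebraMap_smul fun b x => by
    show algebraMap C L₁ (algebraMap B C b) • x = b • x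
    rw [← IsScalarTower.algebraMap_apply, algebraMap_smul]
  haveI : IsScalarTower A₁ C N₁ := IsScalarTower.of_algebraMap_smul fun (b : A₁) (x : N₁) => by
    show algebraMap C L₁ (algebraMap A₁ C b) • x = b • x
    rw [← IsScalarTower.algebraMap_apply, algebraMap_smul]
  -- `N₁` is the base change to the localisation
  let L := Localization T
  letI : Algebra L L₁ := (IsLocalization.lift (M := T) (g := algebraMap B L₁) fun t => by
    rw [IsScalarTower.algebraMap_apply B B₁ L₁]
    exact IsLocalization.map_units L₁ (⟨algebraMap B B₁ t, ⟨t, t.2, rfl⟩⟩ : T₁)).toAlgebra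
  haveI : IsScalarTower B L L₁ := .of_algebraMap_eq fun b => (IsLocalization.lift_eq _ b).symm
  haveI : IsScalarTower A L L₁ := .of_algebraMap_eq fun r => by
    rw [IsScalarTower.algebraMap_apply A B L, ← IsScalarTower.algebraMap_apply B L L₁,
      ← IsScalarTower.algebraMap_apply A B L₁]
  haveI : IsScalarTower A A₁ L₁ := .of_algebraMap_eq fun r =>
    (IsScalarTower.algebraMap_apply A B₁ L₁ r).trans ((congrArg (algebraMap B₁ L₁)
      (IsScalarTower.algebraMap_apply A A₁ B₁ r)).trans (IsScalarTower.algebraMap_apply A₁ B₁ L₁ _).symm)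
  haveI : IsLocalization (Algebra.algebraMapSubmonoid B₁ T) L₁ := inferInstanceAs (IsLocalization T₁ L₁)
  haveI hLL : Algebra.IsPushout B B₁ L L₁ := Algebra.isPushout_of_isLocalization T _ _ _
  haveI hAL : Algebra.IsPushout A A₁ L L₁ := by
    exact Algebra.IsPushout.symm ((Algebra.IsPushout.comp_iff (R := A) (S := B) (R' := A₁) (S' := B₁)
      (T := L) (T' := L₁)).mpr (Algebra.IsPushout.symm hLL))
  letI : Module L N₁ := Module.compHom N₁ (algebraMap L L₁)
  haveI : IsScalarTower L L₁ N₁ := IsScalarTower.of_algebraMap_smul fun _ _ => rfl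
  haveI : IsScalarTower B L N₁ := IsScalarTower.of_algebraMap_smul fun b x => by
    show algebraMap L L₁ (algebraMap B L b) • x = b • x
    rw [← IsScalarTower.algebraMap_apply, algebraMap_smul]
  let ηL : N →ₗ[L] N₁ := η.extendScalarsOfIsLocalization T L
  haveI : IsScalarTower A L N₁ := IsScalarTower.of_algebraMap_smul fun a x => by
    show algebraMap L L₁ (algebraMap A L a) • x = a • x
    rw [← IsScalarTower.algebraMap_apply, IsScalarTower.algebraMap_apply A A₁ L₁, algebraMap_smul, algebraMap_smul]
  have hηA : IsBaseChange A₁ (ηL.restrictScalars A) := by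
    have e : ηL.restrictScalars A = η.restrictScalars A := LinearMap.ext fun _ => rfl
    rw [e]
    exact hη
  have hηL : IsBaseChange L₁ ηL := isBaseChange_of_pushout (A := A) (A₁ := A₁) (L := L) (L₁ := L₁) ηL hηA
  let g₀ : NB →ₗ[B] N₁ := η ∘ₗ ψ
  have hg₀ : IsBaseChange L₁ g₀ := by
    have e : g₀ = (ηL.restrictScalars B).comp ψ := LinearMap.ext fun _ => rfl
    rw [e]
    exact IsBaseChange.comp (R := B) (S := L) (T := L₁) hψ hηL
  let g : C ⊗[B] NB →ₗ[C] N₁ := g₀.liftBaseChange C
  have hg : IsBaseChange L₁ g := by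
    refine IsBaseChange.of_comp (TensorProduct.isBaseChange B NB C) ?_
    have : (g.restrictScalars B).comp ((TensorProduct.mk B C NB) 1) = g₀ := LinearMap.ext fun n => by simp [g]
    rw [this]
    exact hg₀
  obtain ⟨Φ, hΦ⟩ := exists_equiv_open (A := A) (A₁ := A₁) (B := B) (Bh := Bh) (C := C) NB
  haveI : Module.Projective A₁ (C ⊗[B] NB) := Module.Projective.of_equiv Φ
  refine ⟨C, inferInstance, inferInstance, inferInstance, inferInstance, inferInstance, inferInstance, inferInstance,
    inferInstance, inferInstance, inferInstance, C ⊗[B] NB, inferInstance, inferInstance, inferInstance, inferInstance,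
    g, AlgebraicGeometry.IsOpenImmersion.of_isLocalization h₁, inferInstance, hg, inferInstance, ?_⟩
  haveI : IsLocalization (T₁.map (algebraMap B₁ C)) L₁ :=
    IsLocalization.isLocalization_of_submonoid_le (R := B₁) C L₁ (Submonoid.powers h₁) T₁
      ((Submonoid.powers_le).mpr ⟨h₀, hh₀T, rfl⟩)
  refine univInj_of_localization (T₁.map (algebraMap B₁ C)) g hg ?_
  rintro _ ⟨_, ⟨t, ht, rfl⟩, rfl⟩ Q _ _ z hz
  rw [← IsScalarTower.algebraMap_apply B B₁ C] at hz
  let tM : M →ₗ[A] M := (LinearMap.lsmul B M t).restrictScalars A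
  have hinj := injective_baseChange (A₁ := A₁) tM
    (injective_lTensor_field tM (K := p.ResidueField) (injective_lTensor_away (A := A) (B := B) NB h₀ t p.ResidueField Bh (hh₀ t ht))) Q
  let E : (A₁ ⊗[A] M) ⊗[A₁] Q ≃ₗ[A₁] (C ⊗[B] NB) ⊗[A₁] Q := LinearEquiv.rTensor Q Φ
  obtain ⟨w, rfl⟩ := E.surjective z
  have hEt : ∀ w, E ((tM.baseChange A₁).rTensor Q w) = algebraMap B C t • E w := by
    intro w
    induction w with
    | zero => simp
    | add a b ha hb => rw [map_add, map_add, ha, hb, map_add, smul_add]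
    | tmul m q =>
      show Φ (tM.baseChange A₁ m) ⊗ₜ[A₁] q = algebraMap B C t • (Φ m ⊗ₜ[A₁] q)
      rw [hΦ, smul_tmul', algebraMap_smul]
  rw [← hEt, LinearEquiv.map_eq_zero_iff] at hz
  rw [hinj (hz.trans (map_zero _).symm), map_zero]

/-- The models of the base change exist. -/
theorem exists_hasPureSpreadout_model {A B : Type u} [CommRing A] [CommRing B] [Algebra A B] [Algebra.FinitePresentation A B]
    (T : Submonoid B) (N : Type u) [AddCommGroup N] [Module (Localization T) N] [Module B N] [Module A N]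
    [IsScalarTower B (Localization T) N] [IsScalarTower A (Localization T) N] [IsScalarTower A B N]
    [Module.FinitePresentation (Localization T) N] (p : Ideal A) [p.IsPrime] :
    ∃ I : Ideal (Localization.AtPrime p), I.FG ∧ I ≤ IsLocalRing.maximalIdeal (Localization.AtPrime p) ∧
      ∃ (B₁ N₁ : Type u) (_ : CommRing B₁) (_ : Algebra (Localization.AtPrime p ⧸ I) B₁)
        (_ : Algebra.FinitePresentation (Localization.AtPrime p ⧸ I) B₁) (T₁ : Submonoid B₁) (_ : AddCommGroup N₁)
        (_ : Module (Localization T₁) N₁) (_ : Module (Localization.AtPrime p ⧸ I) N₁)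
        (_ : IsScalarTower (Localization.AtPrime p ⧸ I) (Localization T₁) N₁)
        (_ : Module.FinitePresentation (Localization T₁) N₁)
        (_ : N₁ ≃ₗ[Localization.AtPrime p ⧸ I] (Localization.AtPrime p ⧸ I) ⊗[A] N),
        FlatCA.HasPureSpreadout (Localization.AtPrime p ⧸ I) B₁ T₁ N₁ := by
  obtain ⟨I, hfg, hle, hI⟩ := exists_hasPureSpreadout T N p
  refine ⟨I, hfg, hle, ?_⟩
  let A₁ := Localization.AtPrime p ⧸ I
  obtain ⟨B₁, _, _, _, _, _, _, hp₁⟩ := Groth.RaynaudGruson.EtalePushout.exists_pushout A B A₁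
  haveI : Algebra.IsPushout A B A₁ B₁ := Algebra.IsPushout.symm hp₁
  haveI : Algebra.FinitePresentation A₁ B₁ := Algebra.FinitePresentation.equiv (A := A₁ ⊗[A] B) (Algebra.IsPushout.equiv A A₁ B B₁)
  let T₁ : Submonoid B₁ := T.map (algebraMap B B₁)
  let L := Localization T
  let L₁ := Localization T₁
  letI : Algebra L L₁ := (IsLocalization.lift (M := T) (g := algebraMap B L₁) fun t => by
    rw [IsScalarTower.algebraMap_apply B B₁ L₁]
    exact IsLocalization.map_units L₁ (⟨algebraMap B B₁ t, ⟨t, t.2, rfl⟩⟩ : T₁)).toAlgebra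
  haveI : IsScalarTower B L L₁ := .of_algebraMap_eq fun b => (IsLocalization.lift_eq _ b).symm
  haveI : IsScalarTower A B L₁ := .of_algebraMap_eq fun r => by
    rw [IsScalarTower.algebraMap_apply A B₁ L₁, IsScalarTower.algebraMap_apply A B B₁,
      ← IsScalarTower.algebraMap_apply B B₁ L₁]
  haveI : IsScalarTower A L L₁ := .of_algebraMap_eq fun r => by
    rw [IsScalarTower.algebraMap_apply A B L, ← IsScalarTower.algebraMap_apply B L L₁,
      ← IsScalarTower.algebraMap_apply A B L₁]
  haveI : IsScalarTower A A₁ L₁ := .of_algebraMap_eq fun r =>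
    (IsScalarTower.algebraMap_apply A B₁ L₁ r).trans ((congrArg (algebraMap B₁ L₁)
      (IsScalarTower.algebraMap_apply A A₁ B₁ r)).trans (IsScalarTower.algebraMap_apply A₁ B₁ L₁ _).symm)
  haveI : IsLocalization (Algebra.algebraMapSubmonoid B₁ T) L₁ := inferInstanceAs (IsLocalization T₁ L₁)
  haveI hLL : Algebra.IsPushout B B₁ L L₁ := Algebra.isPushout_of_isLocalization T _ _ _
  haveI hAL : Algebra.IsPushout A A₁ L L₁ :=
    Algebra.IsPushout.symm ((Algebra.IsPushout.comp_iff (R := A) (S := B) (R' := A₁) (S' := B₁)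
      (T := L) (T' := L₁)).mpr (Algebra.IsPushout.symm hLL))
  obtain ⟨N₁, _, _, _, _, f, hf⟩ := Groth.RaynaudGruson.EtalePushout.exists_baseChange L L₁ N
  letI : Module A₁ N₁ := Module.compHom N₁ (algebraMap A₁ L₁)
  haveI : IsScalarTower A₁ L₁ N₁ := ⟨fun a l x => by
    show (a • l) • x = algebraMap A₁ L₁ a • (l • x)
    rw [← mul_smul]
    congr 1
    exact (algebraMap_smul L₁ a l).symm⟩
  letI : Module B N₁ := Module.compHom N₁ (algebraMap B L₁)
  haveI : IsScalarTower B L₁ N₁ := ⟨fun a l x => by
    show (a • l) • x = algebraMap B L₁ a • (l • x)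
    rw [← mul_smul]
    congr 1
    exact (algebraMap_smul L₁ a l).symm⟩
  haveI : IsScalarTower B L N₁ := IsScalarTower.of_algebraMap_smul fun (b : B) (x : N₁) => by
    rw [← algebraMap_smul L₁ (algebraMap B L b) x, ← IsScalarTower.algebraMap_apply, algebraMap_smul]
  letI : Module A N₁ := Module.compHom N₁ (algebraMap A L₁)
  haveI : IsScalarTower A L₁ N₁ := ⟨fun a l x => by
    show (a • l) • x = algebraMap A L₁ a • (l • x)
    rw [← mul_smul]
    congr 1
    exact (algebraMap_smul L₁ a l).symm⟩
  haveI : IsScalarTower A A₁ N₁ := IsScalarTower.of_algebraMap_smul fun (a : A) (x : N₁) => by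
    rw [← algebraMap_smul L₁ (algebraMap A A₁ a) x, ← IsScalarTower.algebraMap_apply, algebraMap_smul]
  haveI : IsScalarTower A B N₁ := IsScalarTower.of_algebraMap_smul fun (a : A) (x : N₁) => by
    rw [← algebraMap_smul L₁ (algebraMap A B a) x, ← IsScalarTower.algebraMap_apply, algebraMap_smul]
  haveI : Module.FinitePresentation L₁ N₁ := Module.FinitePresentation.of_equiv hf.equiv
  haveI : SMulCommClass L A₁ L₁ := ⟨fun s r x => by
    rw [← algebraMap_smul L₁ r x, ← algebraMap_smul L₁ r (s • x)]
    exact (smul_comm (algebraMap A₁ L₁ r) s x).symm⟩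
  let c := Algebra.IsPushout.cancelBaseChange A A₁ L L₁ N
  let e : N₁ ≃ₗ[A₁] A₁ ⊗[A] N := (hf.equiv.symm.restrictScalars A₁).trans c
  let η : N →ₗ[B] N₁ := f.restrictScalars B
  have hη : IsBaseChange A₁ (η.restrictScalars A) := IsBaseChange.of_equiv e.symm fun n => by
    apply e.injective
    rw [e.apply_symm_apply]
    show (1 : A₁) ⊗ₜ[A] n = c (hf.equiv.symm (f n))
    rw [hf.equiv_symm_apply, Algebra.IsPushout.cancelBaseChange_tmul]
  exact ⟨B₁, N₁, inferInstance, inferInstance, inferInstance, T₁, inferInstance, inferInstance, inferInstance,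
    inferInstance, inferInstance, e, hI B₁ N₁ η hη⟩

end Groth.RaynaudGruson.PureSpreadout
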