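import Groth.Agent.RaynaudGruson.CommonNbhd
import Groth.Agent.RaynaudGruson.FibreRegular
import Groth.Agent.RaynaudGruson.AdicProjective
import Groth.Agent.RaynaudGruson.ImpurityDescent
import Groth.Agent.FlatmorThree.PureProjective
import Groth.Agent.S0585
import Groth.Agent.S1217
import Groth.Agent.S1227
import Groth.Agent.S6338
import Mathlib

/-!
Flat finitely presented modules: pure means projective.
-/

set_option autoImplicit false
universe u

open TensorProduct

namespace Groth.RaynaudGruson.Purity

/-- The comparison of the base change of a module with the module over the base changed algebra. -/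
noncomputable def baseEquiv {A B R BR N NR : Type u} [CommRing A] [CommRing B] [CommRing R] [CommRing BR] [Algebra A B]
    [Algebra A R] [Algebra R BR] [Algebra B BR] [Algebra A BR] [IsScalarTower A R BR] [IsScalarTower A B BR]
    [Algebra.IsPushout A R B BR] [AddCommGroup N] [Module B N] [Module A N] [IsScalarTower A B N] [AddCommGroup NR]
    [Module BR NR] [Module B NR] [IsScalarTower B BR NR] [Module R NR] [IsScalarTower R BR NR]
    {f : N →ₗ[B] NR} (hf : IsBaseChange BR f) : NR ≃ₗ[R] R ⊗[A] N :=
  (hf.equiv.symm.restrictScalars R).trans (Algebra.IsPushout.cancelBaseChange A R B BR N)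

/-- A countably generated module has countably generated base changes. -/
theorem isCountablyGenerated_baseChange {R R' M : Type u} [CommRing R] [CommRing R'] [Algebra R R'] [AddCommGroup M]
    [Module R M] (h : CAlg.IsCountablyGenerated R M) : CAlg.IsCountablyGenerated R' (R' ⊗[R] M) := by
  obtain ⟨s, hs, hspan⟩ := h
  refine ⟨(fun m => (1 : R') ⊗ₜ[R] m) '' s, hs.image _, eq_top_iff.mpr fun z _ => ?_⟩
  have hone : ∀ m : M, (1 : R') ⊗ₜ[R] m ∈ Submodule.span R' ((fun m => (1 : R') ⊗ₜ[R] m) '' s) := by
    intro m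
    have hm : m ∈ Submodule.span R s := hspan ▸ trivial
    induction hm using Submodule.span_induction with
    | mem x hx => exact Submodule.subset_span ⟨x, hx, rfl⟩
    | zero => rw [tmul_zero]; exact zero_mem _
    | add x y _ _ hx hy => rw [tmul_add]; exact add_mem hx hy
    | smul r x _ hx =>
      rw [tmul_smul, ← algebraMap_smul R' r]
      exact Submodule.smul_mem _ _ hx
  induction z with
  | zero => exact zero_mem _
  | add a b ha hb => exact add_mem (ha trivial) (hb trivial)
  | tmul a m =>
    rw [show a ⊗ₜ[R] m = a • ((1 : R') ⊗ₜ[R] m) by rw [smul_tmul', smul_eq_mul, mul_one]]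
    exact Submodule.smul_mem _ _ (hone m)

/-- A pure flat countably generated submodule, after inverting `f`, of a projective module is projective. -/
theorem projective_away {R : Type u} [CommRing R] {M P : Type u} [AddCommGroup M] [Module R M] [AddCommGroup P]
    [Module R P] [Module.Flat R M] [Module.Projective R P] (j : M →ₗ[R] P) (f : R)
    (hc : CAlg.IsCountablyGenerated R M)
    (hj : ∀ (Q : Type u) [AddCommGroup Q] [Module R Q], Function.Bijective (LinearMap.lsmul R Q f) →
      Function.Injective (j.rTensor Q))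
    (R' : Type u) [CommRing R'] [Algebra R R'] [IsLocalization.Away f R'] : Module.Projective R' (R' ⊗[R] M) := by
  have hinj : CAlgX.UniversallyInjective R' (j.baseChange R') := by
    intro Q _ _
    letI : Module R Q := Module.compHom Q (algebraMap R R')
    haveI : IsScalarTower R R' Q := IsScalarTower.of_algebraMap_smul fun _ _ => rfl
    obtain ⟨u, hu⟩ := IsLocalization.Away.algebraMap_isUnit (S := R') f
    have hfb : Function.Bijective (LinearMap.lsmul R Q f) := by
      have hval : ∀ x : Q, LinearMap.lsmul R Q f x = (u : R') • x := fun x => by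
        show f • x = _
        rw [hu, algebraMap_smul]
      refine ⟨fun x y h => ?_, fun y => ⟨(↑u⁻¹ : R') • y, ?_⟩⟩
      · rw [hval, hval] at h
        exact (IsUnit.smul_left_cancel u.isUnit).mp h
      · rw [hval, smul_smul, Units.mul_inv, one_smul]
    have hQ := hj Q hfb
    let eM : (R' ⊗[R] M) ⊗[R'] Q ≃+ M ⊗[R] Q :=
      ((TensorProduct.comm R' (R' ⊗[R] M) Q).toAddEquiv.trans
        (AlgebraTensorModule.cancelBaseChange R R' R' Q M).toAddEquiv).trans (TensorProduct.comm R Q M).toAddEquiv
    let eP : (R' ⊗[R] P) ⊗[R'] Q ≃+ P ⊗[R] Q :=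
      ((TensorProduct.comm R' (R' ⊗[R] P) Q).toAddEquiv.trans
        (AlgebraTensorModule.cancelBaseChange R R' R' Q P).toAddEquiv).trans (TensorProduct.comm R Q P).toAddEquiv
    have key : ∀ z, eP ((j.baseChange R').rTensor Q z) = j.rTensor Q (eM z) := by
      intro z
      induction z with
      | zero => simp
      | add a b ha hb => rw [map_add, map_add, ha, hb, map_add, map_add]
      | tmul a q =>
        induction a with
        | zero => simp
        | add a b ha hb => rw [add_tmul, map_add, map_add, ha, hb, map_add, map_add]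
        | tmul r m => simp [eM, eP]
    intro x y hxy
    exact eM.injective (hQ (by rw [← key, ← key, hxy]))
  have hML : CAlg.IsMittagLeffler R' (R' ⊗[R] M) :=
    Groth.Agent.S6338.result R' (j.baseChange R') hinj (Groth.Calg1.isMittagLeffler_of_projective _)
  exact Groth.Calg1.projective_of_flat_mittagLeffler hML (isCountablyGenerated_baseChange hc)

/-- Projectivity over a finite product of rings. -/
theorem projective_pi_tensor {A : Type u} [CommRing A] {k : ℕ} (T : Fin k → Type u) [∀ i, CommRing (T i)]
    [∀ i, Algebra A (T i)] (N : Type u) [AddCommGroup N] [Module A N] (h : ∀ i, Module.Projective (T i) (T i ⊗[A] N)) :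
    Module.Projective (∀ i, T i) ((∀ i, T i) ⊗[A] N) := by
  classical
  letI iA : ∀ i, Algebra (∀ j, T j) (T i) := fun i => (Pi.evalRingHom T i).toAlgebra
  haveI : ∀ i, SMulCommClass A (∀ j, T j) (T i) := fun i => ⟨fun s r x => by simp only [Algebra.smul_def]; ring⟩
  haveI hT : ∀ i, Module.Projective (∀ j, T j) (T i) := fun i =>
    Module.Projective.of_split
      (({ toFun := Pi.single i, map_add' := Pi.single_add i,
          map_smul' := fun a x => funext fun j => by
            by_cases hj : j = i
            · subst hj; simp [Algebra.smul_def]; rfl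
            · simp [hj] } : T i →ₗ[∀ j, T j] ∀ j, T j))
      (Algebra.linearMap (∀ j, T j) (T i)) (LinearMap.ext fun x => Pi.single_eq_same i x)
  haveI : ∀ i, Module.Projective (∀ j, T j) (T i ⊗[A] N) := fun i => by
    haveI : IsScalarTower (∀ j, T j) (T i) (T i ⊗[A] N) := inferInstance
    haveI := h i
    obtain ⟨s, hs⟩ := Module.projective_def'.mp (h i)
    haveI : Module.Projective (∀ j, T j) ((T i ⊗[A] N) →₀ T i) := by
      classical
      exact Module.Projective.of_equiv (finsuppLequivDFinsupp (M := T i) (∀ j, T j)).symm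
    exact Module.Projective.of_split (s.restrictScalars (∀ j, T j))
      ((Finsupp.linearCombination (T i) id).restrictScalars (∀ j, T j))
      (LinearMap.ext fun x => LinearMap.congr_fun hs x)
  let π := TensorProduct.piLeft A N T
  have hπ : ∀ (a : ∀ i, T i) (z : (∀ i, T i) ⊗[A] N) (i), π (a • z) i = a i • π z i := by
    intro a z i
    induction z using TensorProduct.induction_on with
    | zero => simp
    | tmul t n => simp [π, TensorProduct.smul_tmul']
    | add x y hx hy => simp only [smul_add, map_add, Pi.add_apply, hx, hy]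
  letI : Module (∀ j, T j) (∀ i, T i ⊗[A] N) := Pi.module (Fin k) (fun i => T i ⊗[A] N) (∀ j, T j)
  let e : ((∀ i, T i) ⊗[A] N) ≃ₗ[∀ i, T i] (∀ i, T i ⊗[A] N) :=
    { π.toAddEquiv with
      map_smul' := fun a z => funext fun i => (hπ a z i).trans (algebraMap_smul (T i) a (π z i)) }
  haveI : Module.Projective (∀ j, T j) (∀ i, T i ⊗[A] N) :=
    Module.Projective.of_equiv (DFinsupp.linearEquivFunOnFintype (R := ∀ j, T j) (M := fun i => T i ⊗[A] N))
  exact Module.Projective.of_equiv e.symm

set_option maxHeartbeats 1600000 in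
/-- **Purity along a fibre gives an étale neighbourhood with projective module.** -/
theorem exists_etaleNhd_projective {A B : Type u} [CommRing A] [CommRing B] [Algebra A B] [Algebra.FinitePresentation A B]
    (N : Type u) [AddCommGroup N] [Module B N] [Module A N] [IsScalarTower A B N] [Module.FinitePresentation B N]
    [Module.Flat A N] (p : Ideal A) [p.IsPrime] (hpure : FlatCA.IsPureAlong A B N p) :
    ∃ (R : Type u) (_ : CommRing R) (_ : Algebra A R) (r : Ideal R) (_ : r.IsPrime),
      FlatCA.IsEtaleNhd A R p r ∧ Module.Projective R (R ⊗[A] N) := by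
  classical
  obtain ⟨R, S₂, _, _, _, _, _, _, _, _, r, _, hnhd, hS₂, hcov, hproj⟩ :=
    CommonNbhd.exists_projective_cover (R := A) (S := B) N p fun q _ _ =>
      (FlatPred.flatAt_iff q).mpr (FlatPred.pred_of_flat _)
  obtain ⟨het, hro, hκ⟩ := id hnhd
  haveI := het; haveI := hro; haveI := hS₂
  obtain ⟨BR, _, _, _, _, _, _, hpush⟩ := EtalePushout.exists_pushout A B R
  haveI := hpush
  haveI hpush' : Algebra.IsPushout A B R BR := Algebra.IsPushout.symm hpush
  obtain ⟨NR, _, _, _, _, fR, hfR⟩ := EtalePushout.exists_baseChange B BR N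
  letI : Module R NR := Module.compHom NR (algebraMap R BR)
  haveI : IsScalarTower R BR NR := IsScalarTower.of_algebraMap_smul fun _ _ => rfl
  haveI : Algebra.FinitePresentation R BR := Algebra.FinitePresentation.equiv (Algebra.IsPushout.equiv A R B BR)
  haveI : Module.FinitePresentation BR NR := Module.FinitePresentation.of_equiv hfR.equiv
  haveI : Module.Flat R NR := Module.Flat.of_linearEquiv (baseEquiv (A := A) hfR)
  -- the cover as an algebra over the base changed ring
  let σ : BR →ₐ[A] S₂ := Algebra.pushoutDesc BR (IsScalarTower.toAlgHom A B S₂) (IsScalarTower.toAlgHom A R S₂)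
    fun _ _ => Commute.all _ _
  letI : Algebra BR S₂ := σ.toRingHom.toAlgebra
  haveI : IsScalarTower B BR S₂ := .of_algebraMap_eq fun b =>
    (Algebra.pushoutDesc_left BR (IsScalarTower.toAlgHom A B S₂) (IsScalarTower.toAlgHom A R S₂)
      (fun _ _ => Commute.all _ _) b).symm
  haveI : IsScalarTower R BR S₂ := .of_algebraMap_eq fun a =>
    (Algebra.pushoutDesc_right BR (IsScalarTower.toAlgHom A B S₂) (IsScalarTower.toAlgHom A R S₂)
      (fun _ _ => Commute.all _ _) a).symm
  haveI : Algebra.Etale B BR := EtalePushout.etale_of_isPushout' (A := A) (A' := R)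
  haveI : Algebra.Etale BR S₂ := Algebra.Etale.of_restrictScalars B _ _
  -- the closed complement of the image
  let U : Set (PrimeSpectrum BR) := Set.range (PrimeSpectrum.comap (algebraMap BR S₂))
  have hU : IsOpen U :=
    (PrimeSpectrum.isOpenMap_comap_of_hasGoingDown_of_finitePresentation (R := BR) (S := S₂)).isOpen_range
  let J : Ideal BR := PrimeSpectrum.vanishingIdeal Uᶜ
  have hJ : ∀ Q : PrimeSpectrum BR, J ≤ Q.asIdeal ↔ Q ∉ U := fun Q => by
    have h : PrimeSpectrum.zeroLocus (J : Set BR) = Uᶜ := by
      rw [PrimeSpectrum.zeroLocus_vanishingIdeal_eq_closure, hU.isClosed_compl.closure_eq]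
    rw [← Set.mem_compl_iff, ← h]
    rfl
  have hass : ∀ (p₂ : Ideal R) [p₂.IsPrime] (Q : Ideal BR) [Q.IsPrime], p₂ ≤ r → Q.LiesOver p₂ →
      FlatCA.fiberIdeal p₂ Q ∈ associatedPrimes (p₂.Fiber BR) (FlatCA.fiberMod p₂ BR NR) → ¬ J ≤ Q := by
    intro p₂ _ Q _ hle hQ h hJQ
    haveI := hQ
    obtain ⟨P', hP'p, hQP', hP'r⟩ : ∃ P' : Ideal BR, P'.IsPrime ∧ Q ≤ P' ∧ P'.LiesOver r := by
      by_contra! hcon
      exact hpure R BR NR fR p₂ r Q hnhd ⟨hpush', hfR, hle, hro, hQ, h, fun P' hP' hle' => hcon P' hP' hle'⟩
    haveI := hP'p; haveI := hP'r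
    haveI hP'p' : (P'.comap (algebraMap B BR)).LiesOver p := ⟨by
      show p = (P'.comap (algebraMap B BR)).comap (algebraMap A B)
      rw [Ideal.comap_comap, ← IsScalarTower.algebraMap_eq]
      exact (Ideal.LiesOver.trans P' r p).over⟩
    obtain ⟨q', hq'p, hq'B, hq'R⟩ := hcov (P'.comap (algebraMap B BR)) hP'p'
    haveI := hq'p
    haveI : (q'.comap (algebraMap BR S₂)).LiesOver (P'.comap (algebraMap B BR)) := ⟨by
      show P'.comap (algebraMap B BR) = (q'.comap (algebraMap BR S₂)).comap (algebraMap B BR)
      rw [Ideal.comap_comap, ← IsScalarTower.algebraMap_eq, hq'B]⟩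
    haveI : (q'.comap (algebraMap BR S₂)).LiesOver r := ⟨by
      show r = (q'.comap (algebraMap BR S₂)).comap (algebraMap R BR)
      rw [Ideal.comap_comap, ← IsScalarTower.algebraMap_eq, hq'R]⟩
    haveI : P'.LiesOver (P'.comap (algebraMap B BR)) := ⟨rfl⟩
    have heq := LocalStructureFT.eq_of_liesOver p r hκ (P'.comap (algebraMap B BR)) (q'.comap (algebraMap BR S₂)) P'
    have hPU : (⟨P', inferInstance⟩ : PrimeSpectrum BR) ∈ U :=
      ⟨⟨q', inferInstance⟩, PrimeSpectrum.ext heq⟩
    exact (hJ ⟨Q, inferInstance⟩).mp hJQ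
      (hU.stableUnderGeneralization ((PrimeSpectrum.le_iff_specializes (⟨Q, inferInstance⟩ : PrimeSpectrum BR)
        ⟨P', inferInstance⟩).mp hQP') hPU)
  obtain ⟨f, hfr, hf⟩ := FibreRegular.exists_spread NR r J hass
  have hcover : ∀ (p₂ : Ideal R) [p₂.IsPrime] (Q : Ideal BR) [Q.IsPrime], f ∉ p₂ → Q.LiesOver p₂ →
      FlatCA.fiberIdeal p₂ Q ∈ associatedPrimes (p₂.Fiber BR) (FlatCA.fiberMod p₂ BR NR) →
      ∃ q' : Ideal S₂, q'.IsPrime ∧ q'.comap (algebraMap BR S₂) = Q := by
    intro p₂ _ Q _ hf₂ hQ h
    obtain ⟨q', hq'⟩ : (⟨Q, inferInstance⟩ : PrimeSpectrum BR) ∈ U := by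
      by_contra hQU
      exact hf p₂ Q hf₂ hQ h ((hJ ⟨Q, inferInstance⟩).mpr hQU)
    exact ⟨q'.asIdeal, q'.2, congrArg PrimeSpectrum.asIdeal hq'⟩
  -- the target is projective over the new base
  haveI : SMulCommClass BR R S₂ := ⟨fun s a x => by simp only [Algebra.smul_def]; ring⟩
  haveI : Module.Projective R (S₂ ⊗[BR] NR) := by
    let e₂ : S₂ ⊗[BR] NR ≃ₗ[S₂] S₂ ⊗[B] N :=
      (LinearEquiv.baseChange BR S₂ _ _ hfR.equiv.symm).trans (AlgebraTensorModule.cancelBaseChange B BR S₂ S₂ N)
    haveI := hproj
    exact Module.Projective.of_equiv (M := RestrictScalars R S₂ (S₂ ⊗[B] N)) (N := S₂ ⊗[BR] NR)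
      (AddEquiv.toLinearEquiv (e₂.toAddEquiv.trans (RestrictScalars.addEquiv R S₂ _).symm) fun a z => by
        refine (RestrictScalars.addEquiv R S₂ (S₂ ⊗[B] N)).injective ?_
        rw [RestrictScalars.addEquiv_map_smul, AddEquiv.trans_apply, AddEquiv.apply_symm_apply, AddEquiv.trans_apply,
          AddEquiv.apply_symm_apply]
        show e₂ (a • z) = algebraMap R S₂ a • e₂ z
        rw [← map_smul]
        exact congrArg e₂ (algebraMap_smul S₂ a z).symm).symm
  have hc : CAlg.IsCountablyGenerated R NR := isCountablyGenerated_of_finiteType (S := BR)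
  let R₂ := Localization.Away f
  have hp₂ := projective_away ((TensorProduct.mk BR S₂ NR 1).restrictScalars R) f hc
    (fun Q _ _ hb => FibreRegular.injective_lTensor_away (S := BR) (S' := S₂) NR f hcover Q hb) R₂
  obtain ⟨r₂, _, hr₂, -⟩ := LocalProjective.exists_away r f hfr R₂
  refine ⟨R₂, inferInstance, inferInstance, r₂, inferInstance, EtalePushout.isEtaleNhd_trans hnhd hr₂, ?_⟩
  haveI := hp₂
  exact Module.Projective.of_equiv ((LinearEquiv.baseChange R R₂ _ _ (baseEquiv (A := A) hfR)).trans
    (AlgebraTensorModule.cancelBaseChange A R R₂ R₂ N))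

/-- Every point in the image of an étale algebra with projective module is a point of universal purity. -/
theorem isUnivPureAlong_of_projective {A B : Type u} [CommRing A] [CommRing B] [Algebra A B] [Algebra.FiniteType A B]
    (N : Type u) [AddCommGroup N] [Module B N] [Module A N] [IsScalarTower A B N] [Module.Finite B N]
    (R : Type u) [CommRing R] [Algebra A R] [Algebra.Etale A R] [Module.Projective R (R ⊗[A] N)]
    (P : Ideal R) [P.IsPrime] (p : Ideal A) [p.IsPrime] [P.LiesOver p] : FlatCA.IsUnivPureAlong A B N p := by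
  obtain ⟨BR, _, _, _, _, _, _, hpush⟩ := EtalePushout.exists_pushout A B R
  haveI := hpush
  haveI hpush' : Algebra.IsPushout A B R BR := Algebra.IsPushout.symm hpush
  obtain ⟨NR, _, _, _, _, fR, hfR⟩ := EtalePushout.exists_baseChange B BR N
  letI : Module R NR := Module.compHom NR (algebraMap R BR)
  haveI : IsScalarTower R BR NR := IsScalarTower.of_algebraMap_smul fun _ _ => rfl
  haveI : Module.Projective R NR := Module.Projective.of_equiv (baseEquiv (A := A) hfR).symm
  haveI : Module.Flat A (Localization.AtPrime P) :=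
    haveI : Module.Flat R (Localization.AtPrime P) := IsLocalization.flat _ P.primeCompl
    Module.Flat.trans A R _
  exact (Groth.Agent.S1217.result N p R BR NR fR hfR P).2
    (FlatmorThree.isUnivPure_of_projective_aux NR P)

/-- The set of points of purity of a flat finitely presented module is open. -/
theorem isOpen_pureAlong {A B : Type u} [CommRing A] [CommRing B] [Algebra A B] [Algebra.FinitePresentation A B]
    (N : Type u) [AddCommGroup N] [Module B N] [Module A N] [IsScalarTower A B N] [Module.FinitePresentation B N]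
    [Module.Flat A N] : IsOpen {p : PrimeSpectrum A | FlatCA.IsPureAlong A B N p.asIdeal} := by
  refine isOpen_iff_forall_mem_open.mpr fun p hp => ?_
  obtain ⟨R, _, _, r, _, hnhd, hproj⟩ := exists_etaleNhd_projective N p.asIdeal hp
  haveI := hnhd.1; haveI := hnhd.2.1
  refine ⟨Set.range (PrimeSpectrum.comap (algebraMap A R)), ?_,
    (PrimeSpectrum.isOpenMap_comap_of_hasGoingDown_of_finitePresentation (R := A) (S := R)).isOpen_range,
    ⟨⟨r, inferInstance⟩, PrimeSpectrum.ext hnhd.2.1.over.symm⟩⟩
  rintro _ ⟨P, rfl⟩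
  haveI : P.asIdeal.LiesOver (PrimeSpectrum.comap (algebraMap A R) P).asIdeal := ⟨rfl⟩
  intro A' B' N' _ _ _ _ _ _ _ _ _ _ _ _ _ _ f t' t _ _ Q _ _ himp
  exact isUnivPureAlong_of_projective N R P.asIdeal _ A' B' N' f t' t Q himp

/-- **Pure flat modules of finite presentation are projective.** -/
theorem projective_of_isPure {A B : Type u} [CommRing A] [CommRing B] [Algebra A B] [Algebra.FinitePresentation A B]
    (N : Type u) [AddCommGroup N] [Module B N] [Module A N] [IsScalarTower A B N] [Module.FinitePresentation B N]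
    [Module.Flat A N] (hpure : FlatCA.IsPure A B N) : Module.Projective A N := by
  classical
  have hloc := fun p : PrimeSpectrum A => exists_etaleNhd_projective N p.asIdeal (hpure p.asIdeal)
  choose R iR iA r ir hnhd hproj using hloc
  haveI hEt : ∀ p, Algebra.Etale A (R p) := fun p => (hnhd p).1
  have hopen : ∀ p, IsOpen (Set.range (PrimeSpectrum.comap (algebraMap A (R p)))) := fun p =>
    (PrimeSpectrum.isOpenMap_comap_of_hasGoingDown_of_finitePresentation (R := A) (S := R p)).isOpen_range
  obtain ⟨t, ht⟩ := isCompact_univ.elim_finite_subcover _ hopen fun p _ => Set.mem_iUnion.mpr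
    ⟨p, ⟨r p, ir p⟩, PrimeSpectrum.ext (hnhd p).2.1.over.symm⟩
  let e := t.equivFin.symm
  let T := fun i : Fin t.card => R (e i).1
  haveI : Module.FaithfullyFlat A (∀ i, T i) := by
    refine Module.FaithfullyFlat.of_comap_surjective fun P => ?_
    obtain ⟨y, hy, Q, hQ⟩ : ∃ y, y ∈ t ∧ P ∈ Set.range (PrimeSpectrum.comap (algebraMap A (R y))) := by
      simpa using ht (Set.mem_univ P)
    obtain ⟨i, hi⟩ : ∃ i, e i = ⟨y, hy⟩ := ⟨t.equivFin ⟨y, hy⟩, Equiv.symm_apply_apply _ _⟩
    obtain rfl : (e i).1 = y := congrArg Subtype.val hi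
    refine ⟨PrimeSpectrum.comap (Pi.evalRingHom T i) Q, ?_⟩
    rw [← hQ]
    exact PrimeSpectrum.ext (by show Ideal.comap _ (Ideal.comap _ _) = _; rw [Ideal.comap_comap]; rfl)
  haveI : Module.Projective (∀ i, T i) ((∀ i, T i) ⊗[A] N) := projective_pi_tensor T N fun i => hproj (e i).1
  exact Groth.Agent.S0585.result A (∀ i, T i) N

end Groth.RaynaudGruson.Purity
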