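import Groth.Agent.RaynaudGruson.PurityLocalCriterion
import Groth.Agent.RaynaudGruson.LocalStructureFT
import Groth.Agent.RaynaudGruson.PureProjectiveNoeth
import Groth.Agent.FlatMorOne.FlatLocusColimit
import Groth.Agent.FlatMorOne.FlatStageRing
import Groth.Agent.S1217
import Mathlib

/-!
Purity along a flat fibre descends to a stage of finite type over the integers.
-/

set_option autoImplicit false
universe u

open TensorProduct

namespace Groth.RaynaudGruson.PurityColimit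

attribute [local instance] Algebra.TensorProduct.rightAlgebra

open PurityLocalCriterion

theorem exists_fg_lift {A₁ A R₁ : Type u} [CommRing A₁] [CommRing A] [Algebra A₁ A] [CommRing R₁] [Algebra A₁ R₁]
    (z : A ⊗[A₁] R₁) : ∃ A' : Subalgebra A₁ A, A'.FG ∧ ∀ (A'' : Subalgebra A₁ A), A' ≤ A'' →
      z ∈ Set.range (Algebra.TensorProduct.map A''.val (AlgHom.id A₁ R₁)) := by
  classical
  induction z with
  | zero => exact ⟨⊥, Subalgebra.fg_bot, fun _ _ => ⟨0, map_zero _⟩⟩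
  | tmul a b =>
    exact ⟨Algebra.adjoin A₁ {a}, ⟨{a}, by simp⟩, fun A'' h => ⟨⟨a, h (Algebra.subset_adjoin rfl)⟩ ⊗ₜ b, by simp⟩⟩
  | add x y hx hy =>
    obtain ⟨A₁', h1, h1'⟩ := hx
    obtain ⟨A₂', h2, h2'⟩ := hy
    refine ⟨A₁' ⊔ A₂', h1.sup h2, fun A'' h => ?_⟩
    obtain ⟨u, hu⟩ := h1' A'' (le_sup_left.trans h)
    obtain ⟨v, hv⟩ := h2' A'' (le_sup_right.trans h)
    exact ⟨u + v, by rw [map_add, hu, hv]⟩

set_option maxHeartbeats 3200000 in
/-- Purity descends from a Noetherian model which is flat along the fibre. -/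
theorem exists_univPure_stage {A₁ A B₁ B : Type u} [CommRing A₁] [IsNoetherianRing A₁] [CommRing A] [Algebra A₁ A]
    (hinj : Function.Injective (algebraMap A₁ A)) [CommRing B₁] [Algebra A₁ B₁] [Algebra.FinitePresentation A₁ B₁]
    [CommRing B] [Algebra A B] [Algebra B₁ B] [Algebra A₁ B] [IsScalarTower A₁ A B] [IsScalarTower A₁ B₁ B]
    [Algebra.IsPushout A₁ A B₁ B]
    (N₁ : Type u) [AddCommGroup N₁] [Module B₁ N₁] [Module A₁ N₁] [IsScalarTower A₁ B₁ N₁]
    [Module.FinitePresentation B₁ N₁]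
    (N : Type u) [AddCommGroup N] [Module B N] [Module B₁ N] [IsScalarTower B₁ B N]
    (f : N₁ →ₗ[B₁] N) (hf : IsBaseChange B f)
    (p : Ideal A) [p.IsPrime] (hpure : FlatCA.IsPureAlong A B N p)
    (hflat : ∀ (q : Ideal B₁) [q.IsPrime], q.LiesOver (p.comap (algebraMap A₁ A)) → FlatCA.FlatAt A₁ q N₁) :
    ∃ A₂ : Subalgebra A₁ A, A₂.FG ∧ ∀ (B₂ N₂ : Type u) [CommRing B₂] [Algebra A₂ B₂] [Algebra B₁ B₂] [Algebra A₁ B₂]
      [IsScalarTower A₁ A₂ B₂] [IsScalarTower A₁ B₁ B₂] [Algebra.IsPushout A₁ A₂ B₁ B₂]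
      [AddCommGroup N₂] [Module B₂ N₂] [Module A₂ N₂] [IsScalarTower A₂ B₂ N₂] [Module B₁ N₂] [IsScalarTower B₁ B₂ N₂]
      (f₂ : N₁ →ₗ[B₁] N₂), IsBaseChange B₂ f₂ →
      FlatCA.IsUnivPureAlong A₂ B₂ N₂ (p.comap (algebraMap A₂ A)) := by
  classical
  let p₁ := p.comap (algebraMap A₁ A)
  haveI : IsNoetherianRing B₁ := Algebra.FiniteType.isNoetherianRing A₁ B₁
  obtain ⟨R₁, S₂, _, _, _, _, _, _, _, _, r₁, _, hnhd, hS₂, hcov, hproj⟩ :=
    CommonNbhd.exists_projective_cover (R := A₁) (S := B₁) N₁ p₁ hflat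
  obtain ⟨het, hr₁o, hκ⟩ := id hnhd
  haveI := het; haveI := hr₁o; haveI := hS₂; haveI := hproj
  haveI : IsNoetherianRing R₁ := Algebra.FiniteType.isNoetherianRing A₁ R₁
  obtain ⟨BR₁, _, _, _, _, _, _, hpo⟩ := EtalePushout.exists_pushout A₁ B₁ R₁
  haveI := hpo
  haveI : Algebra.IsPushout A₁ B₁ R₁ BR₁ := Algebra.IsPushout.symm hpo
  let σ : BR₁ →ₐ[A₁] S₂ := Algebra.pushoutDesc BR₁ (IsScalarTower.toAlgHom A₁ B₁ S₂) (IsScalarTower.toAlgHom A₁ R₁ S₂)
    fun _ _ => Commute.all _ _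
  letI : Algebra BR₁ S₂ := σ.toRingHom.toAlgebra
  haveI : IsScalarTower B₁ BR₁ S₂ := .of_algebraMap_eq fun b =>
    (Algebra.pushoutDesc_left BR₁ (IsScalarTower.toAlgHom A₁ B₁ S₂) (IsScalarTower.toAlgHom A₁ R₁ S₂)
      (fun _ _ => Commute.all _ _) b).symm
  haveI : IsScalarTower R₁ BR₁ S₂ := .of_algebraMap_eq fun a =>
    (Algebra.pushoutDesc_right BR₁ (IsScalarTower.toAlgHom A₁ B₁ S₂) (IsScalarTower.toAlgHom A₁ R₁ S₂)
      (fun _ _ => Commute.all _ _) a).symm
  haveI : Algebra.Etale B₁ BR₁ := EtalePushout.etale_of_isPushout' (A := A₁) (A' := R₁)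
  haveI : Algebra.Etale BR₁ S₂ := Algebra.Etale.of_restrictScalars B₁ _ _
  haveI : Algebra.FinitePresentation R₁ BR₁ := Algebra.FinitePresentation.equiv (Algebra.IsPushout.equiv A₁ R₁ B₁ BR₁)
  haveI : IsNoetherianRing BR₁ := Algebra.FiniteType.isNoetherianRing R₁ BR₁
  haveI : SMulCommClass B₁ R₁ BR₁ := ⟨fun s a x => by simp only [Algebra.smul_def]; ring⟩
  let NR₁ := BR₁ ⊗[B₁] N₁
  let fR : N₁ →ₗ[B₁] NR₁ := TensorProduct.mk B₁ BR₁ N₁ 1
  have hfR : IsBaseChange BR₁ fR := TensorProduct.isBaseChange B₁ N₁ BR₁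
  haveI : Module.FinitePresentation BR₁ NR₁ := Module.FinitePresentation.of_equiv hfR.equiv
  haveI : Module.Projective R₁ (RestrictScalars R₁ S₂ (S₂ ⊗[BR₁] NR₁)) := by
    let e : S₂ ⊗[BR₁] NR₁ ≃ₗ[S₂] S₂ ⊗[B₁] N₁ := AlgebraTensorModule.cancelBaseChange B₁ BR₁ S₂ S₂ N₁
    exact Module.Projective.of_equiv (M := RestrictScalars R₁ S₂ (S₂ ⊗[B₁] N₁))
      (AddEquiv.toLinearEquiv ((RestrictScalars.addEquiv R₁ S₂ _).trans
        (e.symm.toAddEquiv.trans (RestrictScalars.addEquiv R₁ S₂ _).symm)) fun a z => by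
        refine (RestrictScalars.addEquiv R₁ S₂ (S₂ ⊗[BR₁] NR₁)).injective ?_
        rw [RestrictScalars.addEquiv_map_smul, AddEquiv.trans_apply, AddEquiv.trans_apply, AddEquiv.apply_symm_apply,
          AddEquiv.trans_apply, AddEquiv.trans_apply, AddEquiv.apply_symm_apply, RestrictScalars.addEquiv_map_smul]
        exact map_smul e.symm _ _)
  -- the complement of the cover
  let U : Set (PrimeSpectrum BR₁) := Set.range (PrimeSpectrum.comap (algebraMap BR₁ S₂))
  have hU : IsOpen U :=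
    (PrimeSpectrum.isOpenMap_comap_of_hasGoingDown_of_finitePresentation (R := BR₁) (S := S₂)).isOpen_range
  let J : Ideal BR₁ := PrimeSpectrum.vanishingIdeal Uᶜ
  have hJ : ∀ Q : PrimeSpectrum BR₁, J ≤ Q.asIdeal ↔ Q ∉ U := fun Q => by
    have h : PrimeSpectrum.zeroLocus (J : Set BR₁) = Uᶜ := by
      rw [PrimeSpectrum.zeroLocus_vanishingIdeal_eq_closure, hU.isClosed_compl.closure_eq]
    rw [← Set.mem_compl_iff, ← h]
    rfl
  obtain ⟨m, t, ht⟩ := Submodule.fg_iff_exists_fin_generating_family.mp (IsNoetherian.noetherian J)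
  -- the étale neighbourhood over `A`
  let R := A ⊗[A₁] R₁
  haveI : Algebra.IsPushout A₁ A R₁ R := TensorProduct.isPushout
  obtain ⟨r, _, hrp, hrr₁⟩ := FlatmorThree.exists_prime_over_both (R := A₁) (S := A) (R' := R₁) (S' := R) p r₁
    (hr₁o.over.symm : r₁.comap (algebraMap A₁ R₁) = p₁)
  haveI : r.LiesOver p := ⟨hrp.symm⟩
  haveI : r.LiesOver r₁ := ⟨hrr₁.symm⟩
  haveI : p.LiesOver p₁ := ⟨rfl⟩
  haveI : Algebra.IsPushout A₁ R₁ A R := Algebra.IsPushout.symm inferInstance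
  haveI hRet : Algebra.Etale A R := inferInstance
  have hnR : FlatCA.IsEtaleNhd A R p r :=
    ⟨hRet, inferInstance, EtalePushout.bijective_residue_of_isPushout (R := A₁) (R' := R₁) (S := A) (S' := R)
      p₁ r₁ hκ p r⟩
  obtain ⟨BR, _, _, _, _, _, _, hpR⟩ := EtalePushout.exists_pushout A B R
  haveI := hpR
  haveI hpR' : Algebra.IsPushout A B R BR := Algebra.IsPushout.symm hpR
  letI : Algebra A₁ BR := ((algebraMap B BR).comp (algebraMap A₁ B)).toAlgebra
  haveI : IsScalarTower A₁ B BR := .of_algebraMap_eq' rfl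
  haveI : IsScalarTower A₁ A BR := .of_algebraMap_eq fun a => by
    show algebraMap B BR (algebraMap A₁ B a) = _
    rw [IsScalarTower.algebraMap_apply A₁ A B, ← IsScalarTower.algebraMap_apply A B BR]
  haveI : IsScalarTower A₁ R BR := .of_algebraMap_eq fun a => by
    rw [IsScalarTower.algebraMap_apply A₁ A R, ← IsScalarTower.algebraMap_apply A R BR,
      ← IsScalarTower.algebraMap_apply A₁ A BR]
  letI : Algebra R₁ BR := ((algebraMap R BR).comp (algebraMap R₁ R)).toAlgebra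
  haveI : IsScalarTower R₁ R BR := .of_algebraMap_eq' rfl
  haveI : IsScalarTower A₁ R₁ BR := .of_algebraMap_eq fun a => by
    show _ = algebraMap R BR (algebraMap R₁ R (algebraMap A₁ R₁ a))
    rw [← IsScalarTower.algebraMap_apply A₁ R₁ R, ← IsScalarTower.algebraMap_apply A₁ R BR]
  letI : Algebra B₁ BR := ((algebraMap B BR).comp (algebraMap B₁ B)).toAlgebra
  haveI : IsScalarTower B₁ B BR := .of_algebraMap_eq' rfl
  haveI : IsScalarTower A₁ B₁ BR := .of_algebraMap_eq fun a => by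
    show _ = algebraMap B BR (algebraMap B₁ B (algebraMap A₁ B₁ a))
    rw [← IsScalarTower.algebraMap_apply A₁ B₁ B]
    rfl
  let ρ : BR₁ →ₐ[A₁] BR := Algebra.pushoutDesc BR₁ (IsScalarTower.toAlgHom A₁ B₁ BR) (IsScalarTower.toAlgHom A₁ R₁ BR)
    fun _ _ => Commute.all _ _
  letI : Algebra BR₁ BR := ρ.toRingHom.toAlgebra
  haveI : IsScalarTower B₁ BR₁ BR := .of_algebraMap_eq fun b =>
    (Algebra.pushoutDesc_left BR₁ (IsScalarTower.toAlgHom A₁ B₁ BR) (IsScalarTower.toAlgHom A₁ R₁ BR)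
      (fun _ _ => Commute.all _ _) b).symm
  haveI : IsScalarTower R₁ BR₁ BR := .of_algebraMap_eq fun a =>
    (Algebra.pushoutDesc_right BR₁ (IsScalarTower.toAlgHom A₁ B₁ BR) (IsScalarTower.toAlgHom A₁ R₁ BR)
      (fun _ _ => Commute.all _ _) a).symm
  haveI : Algebra.IsPushout A₁ B₁ A B := Algebra.IsPushout.symm inferInstance
  haveI : Algebra.IsPushout A₁ R B₁ BR := by
    have h : Algebra.IsPushout A R B BR := hpR
    exact (Algebra.IsPushout.comp_iff (R := A₁) (S := A) (R' := B₁) (S' := B) (T := R) (T' := BR)).mpr h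
  haveI : Algebra.IsPushout R₁ R BR₁ BR :=
    (Algebra.IsPushout.comp_iff (R := A₁) (S := R₁) (R' := B₁) (S' := BR₁) (T := R) (T' := BR)).mp inferInstance
  obtain ⟨NR, _, _, _, _, g, hg⟩ := EtalePushout.exists_baseChange BR₁ BR NR₁
  letI : Module B NR := Module.compHom NR (algebraMap B BR)
  haveI : IsScalarTower B BR NR := IsScalarTower.of_algebraMap_smul fun _ _ => rfl
  letI : Module B₁ NR := Module.compHom NR (algebraMap B₁ BR)
  haveI : IsScalarTower B₁ BR NR := IsScalarTower.of_algebraMap_smul fun _ _ => rfl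
  haveI : IsScalarTower B₁ B NR := IsScalarTower.of_algebraMap_smul fun b x => by
    rw [← algebraMap_smul BR (algebraMap B₁ B b) x, ← IsScalarTower.algebraMap_apply]
    rfl
  haveI : IsScalarTower B₁ BR₁ NR := IsScalarTower.of_algebraMap_smul fun b x => by
    rw [← algebraMap_smul BR (algebraMap B₁ BR₁ b) x, ← IsScalarTower.algebraMap_apply, algebraMap_smul]
  let g₀ : N₁ →ₗ[B₁] NR := (g.restrictScalars B₁).comp fR
  have hg₀ : IsBaseChange BR g₀ := hfR.comp hg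
  let fN : N →ₗ[B] NR := hf.lift g₀
  have hfN : IsBaseChange BR fN := by
    refine IsBaseChange.of_comp hf ?_
    rw [hf.lift_comp]
    exact hg₀
  letI : Module R NR := Module.compHom NR (algebraMap R BR)
  haveI : IsScalarTower R BR NR := IsScalarTower.of_algebraMap_smul fun _ _ => rfl
  -- no associated point of the fibres below `r` lies in `V(J)`
  have hW : ∀ (p₂ : Ideal R) [p₂.IsPrime], p₂ ≤ r →
      Function.Injective (((tmap NR₁ t).restrictScalars R₁).lTensor (p₂.comap (algebraMap R₁ R)).ResidueField) := by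
    intro p₂ _ hle
    let p₂' := p₂.comap (algebraMap R₁ R)
    haveI : Algebra.FinitePresentation R BR := Algebra.FinitePresentation.equiv (Algebra.IsPushout.equiv R₁ R BR₁ BR)
    haveI : Module.Finite BR NR := Module.Finite.equiv hg.equiv
    have hker : RingHom.ker (algebraMap R₁ p₂.ResidueField) = p₂' := by
      ext a
      rw [RingHom.mem_ker, IsScalarTower.algebraMap_apply R₁ R p₂.ResidueField, Ideal.algebraMap_residueField_eq_zero]
      rfl
    rw [← injective_lTensor_field_iff _ p₂' p₂.ResidueField hker,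
      ← injective_tmap_baseChange_iff (R₁ := R₁) (L := R) (S := BR₁) (SL := BR) NR₁ t NR g hg p₂.ResidueField]
    by_contra hcon
    obtain ⟨Q, hQ, hQp, hQass, hQt⟩ :=
      (not_injective_iff (R := R) (S := BR) NR (fun i => algebraMap BR₁ BR (t i)) p₂).mp hcon
    haveI := hQ; haveI := hQp
    obtain ⟨P', hP'p, hQP', hP'r⟩ : ∃ P' : Ideal BR, P'.IsPrime ∧ Q ≤ P' ∧ P'.LiesOver r := by
      by_contra! hcon'
      exact hpure R BR NR fN p₂ r Q hnR ⟨hpR', hfN, hle, inferInstance, hQp, hQass, fun P' hP' h => hcon' P' hP' h⟩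
    haveI := hP'p; haveI := hP'r
    let P₁ := P'.comap (algebraMap BR₁ BR)
    haveI hP₁r : P₁.LiesOver r₁ := ⟨by
      show r₁ = (P'.comap (algebraMap BR₁ BR)).comap (algebraMap R₁ BR₁)
      rw [Ideal.comap_comap, ← IsScalarTower.algebraMap_eq, IsScalarTower.algebraMap_eq R₁ R BR, ← Ideal.comap_comap,
        show P'.comap (algebraMap R BR) = r from hP'r.over.symm]
      exact hrr₁.symm⟩
    haveI hP₁p : (P₁.comap (algebraMap B₁ BR₁)).LiesOver p₁ := ⟨by
      show p₁ = (P₁.comap (algebraMap B₁ BR₁)).comap (algebraMap A₁ B₁)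
      rw [Ideal.comap_comap, ← IsScalarTower.algebraMap_eq]
      exact (Ideal.LiesOver.trans P₁ r₁ p₁).over⟩
    obtain ⟨q', hq'p, hq'B, hq'R⟩ := hcov (P₁.comap (algebraMap B₁ BR₁)) hP₁p
    haveI := hq'p
    haveI : (q'.comap (algebraMap BR₁ S₂)).LiesOver (P₁.comap (algebraMap B₁ BR₁)) := ⟨by
      show P₁.comap (algebraMap B₁ BR₁) = (q'.comap (algebraMap BR₁ S₂)).comap (algebraMap B₁ BR₁)
      exact hq'B.symm.trans (by rw [Ideal.comap_comap, ← IsScalarTower.algebraMap_eq])⟩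
    haveI : (q'.comap (algebraMap BR₁ S₂)).LiesOver r₁ := ⟨by
      show r₁ = (q'.comap (algebraMap BR₁ S₂)).comap (algebraMap R₁ BR₁)
      rw [Ideal.comap_comap, ← IsScalarTower.algebraMap_eq, hq'R]⟩
    haveI : P₁.LiesOver (P₁.comap (algebraMap B₁ BR₁)) := ⟨rfl⟩
    have heq := LocalStructureFT.eq_of_liesOver p₁ r₁ hκ (P₁.comap (algebraMap B₁ BR₁))
      (q'.comap (algebraMap BR₁ S₂)) P₁
    refine (hJ ⟨P₁, inferInstance⟩).mp ?_ ⟨⟨q', inferInstance⟩, PrimeSpectrum.ext heq⟩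
    rw [← ht, Ideal.span_le]
    rintro _ ⟨i, rfl⟩
    exact hQP' (hQt i)
  -- descend the certificate
  obtain ⟨T, hT, hTW⟩ := FibreInjCons.exists_pairs (R := R₁) (tmap NR₁ t)
  have hcert : ∀ x ∈ T, ∃ A' : Subalgebra A₁ A, A'.FG ∧ ∀ (A'' : Subalgebra A₁ A), A' ≤ A'' →
      ∀ (p' : Ideal (A'' ⊗[A₁] R₁)) [p'.IsPrime],
        p' ≤ r.comap (Algebra.TensorProduct.map A''.val (AlgHom.id A₁ R₁)).toRingHom →
        x.1.map (algebraMap R₁ (A'' ⊗[A₁] R₁)) ≤ p' → algebraMap R₁ (A'' ⊗[A₁] R₁) x.2 ∈ p' := by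
    rintro ⟨I, a⟩ hx
    have hdisj : ¬ Disjoint (I.map (algebraMap R₁ R) : Set R)
        (r.primeCompl ⊔ Submonoid.powers (algebraMap R₁ R a) : Submonoid R) := fun hd => by
      obtain ⟨P, hP, hIP, hPd⟩ := Ideal.exists_le_prime_disjoint _ _ hd
      haveI := hP
      have hPr : P ≤ r := fun z hz => by_contra fun hzr =>
        Set.disjoint_left.mp hPd hz (Submonoid.mem_sup_left hzr)
      refine (hTW (P.comap (algebraMap R₁ R))).mpr ⟨(I, a), hx, Ideal.map_le_iff_le_comap.mp hIP, fun h => ?_⟩ (hW P hPr)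
      exact Set.disjoint_left.mp hPd h (Submonoid.mem_sup_right (Submonoid.mem_powers _))
    obtain ⟨z, hzI, hzM⟩ := Set.not_disjoint_iff.mp hdisj
    obtain ⟨s, hs, _, ⟨n, rfl⟩, rfl⟩ := Submonoid.mem_sup.mp hzM
    obtain ⟨k, c, b, hcb⟩ := Submodule.mem_span_set'.mp hzI
    choose As hAs hAs' using fun i : Fin k => exists_fg_lift (A₁ := A₁) (R₁ := R₁) (c i)
    obtain ⟨A₀, hA₀, hA₀'⟩ := exists_fg_lift (A₁ := A₁) (R₁ := R₁) s
    refine ⟨A₀ ⊔ Finset.univ.sup As,
      hA₀.sup (Finset.sup_induction Subalgebra.fg_bot (fun A hA B hB => hA.sup hB) fun i _ => hAs i),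
      fun A'' hle p' _ hp'r hIp' => ?_⟩
    let φ := Algebra.TensorProduct.map A''.val (AlgHom.id A₁ R₁)
    have hφinj : Function.Injective φ := by
      haveI : Module.Flat A₁ R₁ := inferInstance
      exact Module.Flat.rTensor_preserves_injective_linearMap (M := R₁) A''.val.toLinearMap Subtype.val_injective
    have hφR : ∀ b : R₁, φ (algebraMap R₁ (A'' ⊗[A₁] R₁) b) = algebraMap R₁ R b := fun b => by
      show φ (1 ⊗ₜ b) = (1 : A) ⊗ₜ b
      simp [φ]
    obtain ⟨s', hs'⟩ := hA₀' A'' (le_sup_left.trans hle)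
    choose c' hc' using fun i => hAs' i A'' ((le_sup_of_le_right (Finset.le_sup (Finset.mem_univ i))).trans hle)
    choose b' hb' hb'' using fun i => (b i).2
    have heq : s' * algebraMap R₁ (A'' ⊗[A₁] R₁) a ^ n = ∑ i, c' i * algebraMap R₁ (A'' ⊗[A₁] R₁) (b' i) := hφinj (by
      rw [map_mul, map_pow, hφR, map_sum]
      change φ s' * _ = _
      rw [show φ s' = s from hs']
      refine hcb.symm.trans (Finset.sum_congr rfl fun i _ => ?_)
      rw [map_mul, hφR, show φ (c' i) = c i from hc' i, hb'', smul_eq_mul])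
    have hmem : s' * algebraMap R₁ (A'' ⊗[A₁] R₁) a ^ n ∈ p' := by
      rw [heq]
      exact Ideal.sum_mem _ fun i _ => Ideal.mul_mem_left _ _ (hIp' (Ideal.mem_map_of_mem _ (hb' i)))
    refine ((inferInstance : p'.IsPrime).mem_or_mem hmem).elim (fun h => absurd ?_ hs)
      (fun h => (inferInstance : p'.IsPrime).mem_of_pow_mem n h)
    have := hp'r h
    rwa [Ideal.mem_comap, show (φ.toRingHom s' : R) = s from hs'] at this
  choose! As hAs hAs' using hcert
  let A₂ := hT.toFinset.sup As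
  have hA₂ : A₂.FG := Finset.sup_induction Subalgebra.fg_bot (fun A hA B hB => hA.sup hB)
    fun x hx => hAs x (hT.mem_toFinset.mp hx)
  haveI : Algebra.FiniteType A₁ A₂ := (Subalgebra.fg_iff_finiteType A₂).mp hA₂
  haveI : IsNoetherianRing A₂ := Algebra.FiniteType.isNoetherianRing A₁ A₂
  refine ⟨A₂, hA₂, ?_⟩
  intro B₂ N₂ _ _ _ _ _ _ _ _ _ _ _ _ _ f₂ hf₂
  let R₂ := A₂ ⊗[A₁] R₁
  let φ : R₂ →ₐ[A₁] R := Algebra.TensorProduct.map A₂.val (AlgHom.id A₁ R₁)
  let r₂ := r.comap φ.toRingHom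
  haveI : r₂.IsPrime := Ideal.IsPrime.comap _
  haveI : Algebra.IsPushout A₁ A₂ R₁ R₂ := TensorProduct.isPushout
  haveI : Algebra.IsPushout A₁ R₁ A₂ R₂ := Algebra.IsPushout.symm inferInstance
  haveI : Algebra.Etale A₂ R₂ := inferInstance
  haveI : IsNoetherianRing R₂ := Algebra.FiniteType.isNoetherianRing A₂ R₂
  let L := Localization.AtPrime r₂
  haveI : IsNoetherianRing L := IsLocalization.isNoetherianRing r₂.primeCompl _ inferInstance
  haveI : IsScalarTower R₁ R₂ L := inferInstance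
  haveI : IsScalarTower A₁ R₁ L := .of_algebraMap_eq fun a => by
    rw [IsScalarTower.algebraMap_apply R₁ R₂ L, ← IsScalarTower.algebraMap_apply A₁ R₁ R₂,
      ← IsScalarTower.algebraMap_apply A₁ R₂ L]
  obtain ⟨SL, _, _, _, _, _, _, hSL⟩ := EtalePushout.exists_pushout R₁ BR₁ L
  haveI := hSL
  obtain ⟨NL, _, _, _, _, fL, hfL⟩ := EtalePushout.exists_baseChange BR₁ SL NR₁
  letI : Module L NL := Module.compHom NL (algebraMap L SL)
  haveI : IsScalarTower L SL NL := IsScalarTower.of_algebraMap_smul fun _ _ => rfl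
  haveI hLproj : Module.Projective L NL := by
    refine projective_local (R₁ := R₁) (L := L) (S := BR₁) (SL := SL) (S₂ := S₂) NR₁ J hJ t ht (fun p₂ _ => ?_) NL fL hfL
    by_contra hcon
    obtain ⟨x, hx, hx1, hx2⟩ := (hTW _).mp hcon
    refine hx2 ?_
    have h2 : p₂.comap (algebraMap R₂ L) ≤ r₂ :=
      (Ideal.comap_mono (IsLocalRing.le_maximalIdeal (inferInstance : p₂.IsPrime).ne_top)).trans_eq
        (IsLocalization.AtPrime.under_maximalIdeal L r₂)
    exact hAs' x hx A₂ (Finset.le_sup (hT.mem_toFinset.mpr hx)) _ h2 (Ideal.map_le_iff_le_comap.mpr hx1)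
  -- universal purity
  letI : Algebra A₁ SL := ((algebraMap L SL).comp (algebraMap A₁ L)).toAlgebra
  haveI : IsScalarTower A₁ L SL := .of_algebraMap_eq' rfl
  haveI : IsScalarTower A₁ R₁ SL := .of_algebraMap_eq fun a => by
    show algebraMap L SL (algebraMap A₁ L a) = _
    rw [IsScalarTower.algebraMap_apply A₁ R₁ L, ← IsScalarTower.algebraMap_apply R₁ L SL]
  haveI : IsScalarTower A₁ BR₁ SL := .of_algebraMap_eq fun a => by
    rw [IsScalarTower.algebraMap_apply A₁ R₁ BR₁, ← IsScalarTower.algebraMap_apply R₁ BR₁ SL,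
      ← IsScalarTower.algebraMap_apply A₁ R₁ SL]
  letI : Algebra B₁ SL := ((algebraMap BR₁ SL).comp (algebraMap B₁ BR₁)).toAlgebra
  haveI : IsScalarTower B₁ BR₁ SL := .of_algebraMap_eq' rfl
  haveI : IsScalarTower A₁ B₁ SL := .of_algebraMap_eq fun a => by
    show _ = algebraMap BR₁ SL (algebraMap B₁ BR₁ (algebraMap A₁ B₁ a))
    rw [← IsScalarTower.algebraMap_apply A₁ B₁ BR₁, ← IsScalarTower.algebraMap_apply A₁ BR₁ SL]
  haveI : Algebra.IsPushout A₁ L B₁ SL :=
    (Algebra.IsPushout.comp_iff (R := A₁) (S := R₁) (R' := B₁) (S' := BR₁) (T := L) (T' := SL)).mpr hSL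
  letI : Algebra A₂ SL := ((algebraMap L SL).comp (algebraMap A₂ L)).toAlgebra
  haveI : IsScalarTower A₂ L SL := .of_algebraMap_eq' rfl
  haveI : IsScalarTower A₁ A₂ SL := .of_algebraMap_eq fun a => by
    show _ = algebraMap L SL (algebraMap A₂ L (algebraMap A₁ A₂ a))
    rw [← IsScalarTower.algebraMap_apply A₁ A₂ L]
    rfl
  let τ : B₂ →ₐ[A₁] SL := Algebra.pushoutDesc B₂ (IsScalarTower.toAlgHom A₁ A₂ SL) (IsScalarTower.toAlgHom A₁ B₁ SL)
    fun _ _ => Commute.all _ _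
  letI : Algebra B₂ SL := τ.toRingHom.toAlgebra
  haveI : IsScalarTower A₂ B₂ SL := .of_algebraMap_eq fun b =>
    (Algebra.pushoutDesc_left B₂ (IsScalarTower.toAlgHom A₁ A₂ SL) (IsScalarTower.toAlgHom A₁ B₁ SL)
      (fun _ _ => Commute.all _ _) b).symm
  haveI : IsScalarTower B₁ B₂ SL := .of_algebraMap_eq fun b =>
    (Algebra.pushoutDesc_right B₂ (IsScalarTower.toAlgHom A₁ A₂ SL) (IsScalarTower.toAlgHom A₁ B₁ SL)
      (fun _ _ => Commute.all _ _) b).symm
  haveI : Algebra.IsPushout A₂ L B₂ SL :=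
    (Algebra.IsPushout.comp_iff (R := A₁) (S := A₂) (R' := B₁) (S' := B₂) (T := L) (T' := SL)).mp inferInstance
  haveI : Algebra.IsPushout A₂ B₂ L SL := Algebra.IsPushout.symm inferInstance
  letI : Module B₂ NL := Module.compHom NL (algebraMap B₂ SL)
  haveI : IsScalarTower B₂ SL NL := IsScalarTower.of_algebraMap_smul fun _ _ => rfl
  letI : Module B₁ NL := Module.compHom NL (algebraMap B₁ SL)
  haveI : IsScalarTower B₁ SL NL := IsScalarTower.of_algebraMap_smul fun _ _ => rfl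
  haveI : IsScalarTower B₁ BR₁ NL := IsScalarTower.of_algebraMap_smul fun b x => by
    rw [← algebraMap_smul SL (algebraMap B₁ BR₁ b) x, ← IsScalarTower.algebraMap_apply]
    rfl
  haveI : IsScalarTower B₁ B₂ NL := IsScalarTower.of_algebraMap_smul fun b x => by
    rw [← algebraMap_smul SL (algebraMap B₁ B₂ b) x, ← IsScalarTower.algebraMap_apply]
    rfl
  let h₀ : N₁ →ₗ[B₁] NL := (fL.restrictScalars B₁).comp fR
  let fL₂ : N₂ →ₗ[B₂] NL := hf₂.lift h₀
  have hfL₂ : IsBaseChange SL fL₂ := by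
    refine IsBaseChange.of_comp hf₂ ?_
    rw [hf₂.lift_comp]
    exact hfR.comp hfL
  haveI : Algebra.FiniteType A₂ B₂ := Algebra.FiniteType.equiv inferInstance (Algebra.IsPushout.equiv A₁ A₂ B₁ B₂)
  haveI : Module.Finite B₂ N₂ := Module.Finite.equiv hf₂.equiv
  let mL := IsLocalRing.maximalIdeal L
  haveI : mL.LiesOver r₂ := ⟨(IsLocalization.AtPrime.under_maximalIdeal L r₂).symm⟩
  haveI hr₂ : r₂.LiesOver (p.comap (algebraMap A₂ A)) := ⟨by
    ext a
    show algebraMap A₂ A a ∈ p ↔ φ (algebraMap A₂ R₂ a) ∈ r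
    rw [show φ (algebraMap A₂ R₂ a) = algebraMap A R (algebraMap A₂ A a) from by
      show φ (a ⊗ₜ (1 : R₁)) = (algebraMap A₂ A a) ⊗ₜ (1 : R₁)
      simp [φ]; rfl]
    exact Ideal.mem_of_liesOver r p (algebraMap A₂ A a)⟩
  haveI : mL.LiesOver (p.comap (algebraMap A₂ A)) := Ideal.LiesOver.trans mL r₂ _
  haveI : Module.Flat A₂ R₂ := inferInstance
  haveI : Module.Flat R₂ L := IsLocalization.flat _ r₂.primeCompl
  haveI : Module.Flat A₂ L := Module.Flat.trans A₂ R₂ L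
  haveI : Module.Flat L (Localization.AtPrime mL) := IsLocalization.flat _ mL.primeCompl
  haveI : Module.Flat A₂ (Localization.AtPrime mL) := Module.Flat.trans A₂ L _
  exact (Groth.Agent.S1217.result N₂ (p.comap (algebraMap A₂ A)) L SL NL fL₂ hfL₂ mL).2
    (FlatmorThree.isUnivPure_of_projective_aux (A := L) (B := SL) NL mL)

set_option synthInstance.maxHeartbeats 200000 in
set_option maxHeartbeats 3200000 in
open FlatMorOne in
/-- A finitely presented module which is flat along the fibre over `p` has a model of finite type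
over `ℤ` which is flat along the fibre below `p`. -/
theorem exists_flat_stage_along {A B : Type u} [CommRing A] [CommRing B] [Algebra A B] [Algebra.FinitePresentation A B]
    (N : Type u) [AddCommGroup N] [Module B N] [Module A N] [IsScalarTower A B N] [Module.FinitePresentation B N]
    (p : Ideal A) [p.IsPrime] (hflat : ∀ (q : Ideal B) [q.IsPrime], q.LiesOver p → FlatCA.FlatAt A q N) :
    ∃ (A₁ : Subalgebra ℤ A) (_ : Algebra.FiniteType ℤ A₁) (B₁ : Type u) (_ : CommRing B₁) (_ : Algebra A₁ B₁)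
      (_ : Algebra B₁ B) (_ : IsScalarTower A₁ B₁ B) (_ : Algebra.FinitePresentation A₁ B₁)
      (_ : Algebra.IsPushout A₁ A B₁ B) (N₁ : Type u) (_ : AddCommGroup N₁) (_ : Module B₁ N₁) (_ : Module A₁ N₁)
      (_ : IsScalarTower A₁ B₁ N₁) (_ : Module B₁ N) (_ : IsScalarTower B₁ B N) (f : N₁ →ₗ[B₁] N),
      Module.FinitePresentation B₁ N₁ ∧ IsBaseChange B f ∧
      ∀ (q : Ideal B₁) [q.IsPrime], q.LiesOver (p.comap (algebraMap A₁ A)) → FlatCA.FlatAt A₁ q N₁ := by
  classical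
  obtain ⟨R₀, hR₀, S₀, _, _, _, _, hS₀, hpush, M₀, _, _, _, _, _, _, f₀, hM₀, hf₀⟩ := exists_models A B N
  haveI : IsNoetherianRing R₀ := Algebra.FiniteType.isNoetherianRing ℤ R₀
  haveI := hR₀; haveI := hS₀; haveI := hpush; haveI := hM₀
  let s : Set (PrimeSpectrum B) := PrimeSpectrum.comap (algebraMap A B) ⁻¹' {⟨p, inferInstance⟩}
  haveI : CompactSpace s := (PrimeSpectrum.preimageHomeomorphFiber A B ⟨p, inferInstance⟩).symm.compactSpace
  have hs : IsCompact s := isCompact_iff_compactSpace.mpr inferInstance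
  choose As hAs hAflat using fun y : s => exists_stage_flat_at (R₀ := R₀) (R := A) hf₀ y.1
    (@hflat y.1.asIdeal _ ⟨(congrArg PrimeSpectrum.asIdeal y.2).symm⟩)
  let V : s → Set (PrimeSpectrum B) := fun y => PrimeSpectrum.comap (stageAlgHom R₀ A S₀ B (As y)).toRingHom ⁻¹'
    {b | Module.Flat (As y) (LocalizedModule b.asIdeal.primeCompl (MOf R₀ S₀ M₀ (As y)))}
  obtain ⟨t, ht⟩ := hs.elim_finite_subcover V (fun y => by
      haveI : IsNoetherianRing (As y) := isNoetherianRing_of_fg (hAs y)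
      exact isOpen_flatLocus_of_isNoetherianRing.preimage (PrimeSpectrum.continuous_comap _))
    (fun y hy => Set.mem_iUnion.mpr ⟨⟨y, hy⟩, hAflat ⟨y, hy⟩ _ (hAs ⟨y, hy⟩) le_rfl⟩)
  let A₁ : Subalgebra R₀ A := t.sup As
  have hA₁ : A₁.FG := Finset.sup_induction Subalgebra.fg_bot (fun A hA B hB => hA.sup hB) fun y _ => hAs y
  haveI : Algebra.FiniteType R₀ A₁ := (Subalgebra.fg_iff_finiteType A₁).mp hA₁
  haveI : Algebra.FiniteType ℤ A₁ := Algebra.FiniteType.trans hR₀ inferInstance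
  haveI hA₁AB : IsScalarTower A₁ A B := .of_algebraMap_eq fun _ => rfl
  letI : Algebra (SOf R₀ S₀ A₁) B := (stageAlgHom R₀ A S₀ B A₁).toRingHom.toAlgebra
  haveI hA₁B : IsScalarTower A₁ (SOf R₀ S₀ A₁) B := .of_algebraMap_eq fun a => by
    show _ = pushoutAlgEquiv R₀ A S₀ B (sMap R₀ S₀ (IsScalarTower.toAlgHom R₀ A₁ A) (a ⊗ₜ 1))
    rw [sMap_tmul, pushoutAlgEquiv_tmul, map_one, mul_one]
    rfl
  letI : Module (SOf R₀ S₀ A₁) N := Module.compHom N (algebraMap (SOf R₀ S₀ A₁) B)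
  haveI : IsScalarTower (SOf R₀ S₀ A₁) B N := IsScalarTower.of_algebraMap_smul fun _ _ => rfl
  obtain ⟨F, hF⟩ := exists_model_isBaseChange (R₀ := R₀) (R := A) (S₀ := S₀) (S := B) hf₀ A₁ (fun _ => rfl)
  haveI hpush₁ : Algebra.IsPushout A₁ A (SOf R₀ S₀ A₁) B :=
    isPushout_stage (R₀ := R₀) (R := A) (S₀ := S₀) (S := B) A₁ (fun _ => rfl)
  haveI : Algebra.FinitePresentation A₁ (SOf R₀ S₀ A₁) := inferInstance
  haveI : Module.FinitePresentation (SOf R₀ S₀ A₁) (MOf R₀ S₀ M₀ A₁) := inferInstance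
  refine ⟨A₁.restrictScalars ℤ, inferInstanceAs (Algebra.FiniteType ℤ A₁), SOf R₀ S₀ A₁, inferInstance,
    inferInstanceAs (Algebra A₁ (SOf R₀ S₀ A₁)), inferInstance, hA₁B,
    inferInstanceAs (Algebra.FinitePresentation A₁ (SOf R₀ S₀ A₁)), hpush₁, MOf R₀ S₀ M₀ A₁,
    inferInstance, inferInstance, inferInstanceAs (Module A₁ (MOf R₀ S₀ M₀ A₁)),
    inferInstanceAs (IsScalarTower A₁ (SOf R₀ S₀ A₁) (MOf R₀ S₀ M₀ A₁)), inferInstance, inferInstance, F,
    inferInstance, hF, fun q _ hq => ?_⟩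
  have key : @IsScalarTower A₁ A B Algebra.toSMul Algebra.toSMul Algebra.toSMul := .of_algebraMap_eq fun _ => rfl
  obtain ⟨y, hyp, hyA, hyq⟩ := @FlatmorThree.exists_prime_over_both A₁ A (SOf R₀ S₀ A₁) B _ _ _ _ _ _ _ _ _ key hA₁B _
    p _ q _ hq.over.symm
  obtain ⟨i, hi, hyi⟩ := Set.mem_iUnion₂.mp (ht (show (⟨y, hyp⟩ : PrimeSpectrum B) ∈ s from PrimeSpectrum.ext hyA))
  letI : Algebra (As i) A₁ := (Subalgebra.inclusion (Finset.le_sup hi : As i ≤ A₁)).toRingHom.toAlgebra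
  haveI : IsScalarTower R₀ (As i) A₁ := .of_algebraMap_eq fun _ => rfl
  have hcomp : (algebraMap (SOf R₀ S₀ A₁) B).comp (sMap R₀ S₀ (IsScalarTower.toAlgHom R₀ (As i) A₁)).toRingHom =
      (stageAlgHom R₀ A S₀ B (As i)).toRingHom := by
    refine RingHom.ext fun x => ?_
    show pushoutAlgEquiv R₀ A S₀ B (sMap R₀ S₀ _ (sMap R₀ S₀ _ x)) = pushoutAlgEquiv R₀ A S₀ B (sMap R₀ S₀ _ x)
    rw [sMap_sMap]
    rfl
  haveI : Module.Flat (As i) (LocalizedModule (q.comap (sMap R₀ S₀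
      (IsScalarTower.toAlgHom R₀ (As i) A₁)).toRingHom).primeCompl (MOf R₀ S₀ M₀ (As i))) :=
    flat_localized_of_eq (hq := hyi) (by
      show y.comap _ = _
      rw [← hcomp, ← Ideal.comap_comap, hyq])
  exact flat_localized_stage (A := As i) q

/-- A map from a finitely presented algebra to a colimit factors through a stage. -/
theorem exists_algHom_stage {R₀ : Type*} [CommRing R₀] {ι : Type u} [Preorder ι] [IsDirectedOrder ι]
    [Nonempty ι] {G : ι → Type u} [∀ i, CommRing (G i)] [∀ i, Algebra R₀ (G i)]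
    (g : ∀ i j, i ≤ j → G i →ₐ[R₀] G j) {A : Type u} [CommRing A] [Algebra R₀ A]
    (can : ∀ i, G i →ₐ[R₀] A) (hcomp : ∀ i j (h : i ≤ j), (can j).comp (g i j h) = can i)
    (hsurj : ∀ a : A, ∃ i x, can i x = a)
    (hker : ∀ i (x : G i), can i x = 0 → ∃ j, ∃ h : i ≤ j, g i j h x = 0)
    (B : Type u) [CommRing B] [Algebra R₀ B] [Algebra.FinitePresentation R₀ B] (ψ : B →ₐ[R₀] A) :
    ∃ j, ∃ φ : B →ₐ[R₀] G j, (can j).comp φ = ψ := by
  classical
  obtain ⟨n, π, hπ, hπker⟩ := Algebra.FinitePresentation.out (R := R₀) (A := B)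
  choose iX xX hxX using fun k : Fin n => hsurj (ψ (π (MvPolynomial.X k)))
  obtain ⟨i, hi⟩ := Finite.exists_le iX
  let χ : MvPolynomial (Fin n) R₀ →ₐ[R₀] G i := MvPolynomial.aeval fun k => g _ _ (hi k) (xX k)
  have hχ : (can i).comp χ = ψ.comp π := MvPolynomial.algHom_ext fun k => by
    rw [AlgHom.comp_apply, MvPolynomial.aeval_X, ← AlgHom.comp_apply, hcomp, hxX]
    rfl
  obtain ⟨t, ht⟩ := hπker
  suffices h : ∃ l, ∃ χ' : MvPolynomial (Fin n) R₀ →ₐ[R₀] G l, (can l).comp χ' = ψ.comp π ∧ ∀ p ∈ t, χ' p = 0 by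
    obtain ⟨l, χ', hχ', hl⟩ := h
    have hle : RingHom.ker π.toRingHom ≤ RingHom.ker χ'.toRingHom := by
      rw [← ht, Ideal.span_le]
      exact fun p hp => RingHom.mem_ker.mpr (hl p hp)
    refine ⟨l, AlgHom.liftOfSurjective π hπ χ' hle, ?_⟩
    rw [← AlgHom.cancel_right hπ, AlgHom.comp_assoc, AlgHom.liftOfSurjective_comp, hχ']
  have main : ∀ s : Finset (MvPolynomial (Fin n) R₀), s ⊆ t →
      ∃ l, ∃ χ' : MvPolynomial (Fin n) R₀ →ₐ[R₀] G l, (can l).comp χ' = ψ.comp π ∧ ∀ p ∈ s, χ' p = 0 := by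
    intro s hs
    induction s using Finset.induction_on with
    | empty => exact ⟨i, χ, hχ, by simp⟩
    | insert p s _ ih =>
      obtain ⟨l, χ', hχ', hl⟩ := ih fun q hq => hs (Finset.mem_insert_of_mem hq)
      obtain ⟨l', hll', hp⟩ := hker l (χ' p) (by
        rw [← AlgHom.comp_apply, hχ', AlgHom.comp_apply, show π p = 0 from
          RingHom.mem_ker.mp (ht ▸ Submodule.subset_span (hs (Finset.mem_insert_self _ _))), map_zero])
      refine ⟨l', (g l l' hll').comp χ', by rw [← AlgHom.comp_assoc, hcomp, hχ'], fun q hq => ?_⟩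
      rcases Finset.mem_insert.mp hq with rfl | hq
      · exact hp
      · rw [AlgHom.comp_apply, hl q hq, map_zero]
  exact main t subset_rfl

end Groth.RaynaudGruson.PurityColimit
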