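import Groth.Agent.RaynaudGruson.Purity
import Groth.Agent.RaynaudGruson.FlatAtAss
import Groth.Agent.RaynaudGruson.FibreInjCons
import Groth.Agent.RaynaudGruson.EtalePushout
import Groth.Agent.RaynaudGruson.LocalStructureFT
import Groth.Agent.S1277
import Mathlib

/-!
Projectivity over a Noetherian local ring from fibrewise conditions on an étale cover.
-/

set_option autoImplicit false
universe u

open TensorProduct

namespace Groth.RaynaudGruson.PurityLocalCriterion

/-- The map multiplying by finitely many elements. -/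
noncomputable def tmap {S : Type u} [CommRing S] (N : Type u) [AddCommGroup N] [Module S N] {m : ℕ}
    (t : Fin m → S) : N →ₗ[S] (Fin m → N) :=
  LinearMap.pi fun i => t i • LinearMap.id

theorem lTensor_tmap_eq_zero_iff {R S : Type u} [CommRing R] [CommRing S] [Algebra R S] {N : Type u} [AddCommGroup N]
    [Module S N] [Module R N] [IsScalarTower R S N] {m : ℕ} (t : Fin m → S) (Q : Type u) [AddCommGroup Q] [Module R Q]
    (z : Q ⊗[R] N) :
    ((tmap N t).restrictScalars R).lTensor Q z = 0 ↔ ∀ i, t i • TensorProduct.comm R Q N z = 0 := by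
  classical
  have h : ∀ (i : Fin m) (w : Q ⊗[R] N),
      TensorProduct.comm R Q N (TensorProduct.piRight R R Q (fun _ => N) (((tmap N t).restrictScalars R).lTensor Q w) i) =
        t i • TensorProduct.comm R Q N w := by
    intro i w
    induction w with
    | zero => simp
    | tmul a b => simp [tmap, TensorProduct.smul_tmul']
    | add a b ha hb => simp only [map_add, Pi.add_apply, smul_add, ha, hb]
  constructor
  · intro hz i
    rw [← h i z, hz, map_zero, Pi.zero_apply, map_zero]
  · intro hz
    refine (TensorProduct.piRight R R Q (fun _ => N)).injective (funext fun i => (TensorProduct.comm R Q N).injective ?_)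
    rw [h i z, hz i, map_zero, Pi.zero_apply, map_zero]

theorem exists_killed {S M : Type u} [CommRing S] [AddCommGroup M] [Module S M] : ∀ (m : ℕ) (t : Fin m → S) (z : M),
    z ≠ 0 → (∀ i, ∃ n : ℕ, t i ^ n • z = 0) → ∃ c : S, c • z ≠ 0 ∧ ∀ i, t i • c • z = 0 := by
  classical
  intro m
  induction m with
  | zero => exact fun t z hz _ => ⟨1, by rwa [one_smul], fun i => i.elim0⟩
  | succ m ih =>
    intro t z hz hn
    have hd : ∃ n : ℕ, t 0 ^ n • z = 0 := hn 0
    obtain ⟨k, hk⟩ : ∃ k, Nat.find hd = k + 1 := Nat.exists_eq_succ_of_ne_zero fun h0 => hz (by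
      simpa [h0] using Nat.find_spec hd)
    have hw : t 0 ^ k • z ≠ 0 := Nat.find_min hd (by rw [hk]; exact Nat.lt_succ_self k)
    obtain ⟨c, hc0, hct⟩ := ih (fun i => t i.succ) (t 0 ^ k • z) hw fun i => by
      obtain ⟨n, hn⟩ := hn i.succ
      exact ⟨n, by rw [smul_comm, hn, smul_zero]⟩
    refine ⟨c * t 0 ^ k, by rwa [mul_smul], Fin.cases ?_ fun i => by rw [mul_smul]; exact hct i⟩
    have h := Nat.find_spec hd
    rw [hk, pow_succ'] at h
    rw [smul_smul, show t 0 * (c * t 0 ^ k) = c * (t 0 * t 0 ^ k) by ring, mul_smul, h, smul_zero]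

/-- A point of the relative assassin in a closed set is the same as fibrewise failure of injectivity. -/
theorem not_injective_iff {R S : Type u} [CommRing R] [CommRing S] [Algebra R S] [Algebra.FiniteType R S]
    (N : Type u) [AddCommGroup N] [Module S N] [Module R N] [IsScalarTower R S N] [Module.Finite S N] {m : ℕ}
    (t : Fin m → S) (p : Ideal R) [p.IsPrime] :
    ¬ Function.Injective (((tmap N t).restrictScalars R).lTensor p.ResidueField) ↔
      ∃ Q : Ideal S, Q.IsPrime ∧ Q.LiesOver p ∧
        FlatCA.fiberIdeal p Q ∈ associatedPrimes (p.Fiber S) (FlatCA.fiberMod p S N) ∧ ∀ i, t i ∈ Q := by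
  let κ := p.ResidueField
  constructor
  · intro h
    rw [injective_iff_map_eq_zero] at h
    push Not at h
    obtain ⟨z, hz, hz0⟩ := h
    let z' := TensorProduct.comm R κ N z
    have hz' : z' ≠ 0 := fun h => hz0 ((TensorProduct.comm R κ N).injective (h.trans (map_zero _).symm))
    obtain ⟨Q, hQ, hQle⟩ := Calg5.exists_weakAss_ge (R := S) hz'
    haveI : Q.IsPrime := hQ.choose_spec.1.1
    have hp : ∀ a : R, a ∈ p → algebraMap R S a ∈ Q := fun a ha => hQle (by
      rw [Submodule.mem_annihilator_span_singleton, algebraMap_smul]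
      refine (TensorProduct.comm R κ N).symm.injective ?_
      rw [map_smul, map_zero, LinearEquiv.symm_apply_apply, ← algebraMap_smul κ a z,
        Ideal.algebraMap_residueField_eq_zero.mpr ha, zero_smul])
    haveI hQp : Q.LiesOver p := ⟨by
      refine le_antisymm hp fun a ha => by_contra fun hap => ?_
      obtain ⟨-, w, hw1, hw2⟩ := Calg5.mem_weakAss_iff.mp hQ
      obtain ⟨s, hs, n, hn⟩ := hw2 (algebraMap R S a) ha
      refine hs (hw1 s ((TensorProduct.comm R κ N).symm.injective ?_))
      have hu : IsUnit (algebraMap R κ a ^ n) :=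
        (isUnit_iff_ne_zero.mpr fun h0 => hap (Ideal.algebraMap_residueField_eq_zero.mp h0)).pow n
      rw [map_zero, ← hu.smul_eq_zero, ← map_pow, algebraMap_smul, ← map_smul, ← algebraMap_smul S (a ^ n) (s • w),
        smul_smul, map_pow, mul_comm, hn, map_zero]⟩
    refine ⟨Q, inferInstance, hQp, (WeakAssFlatAt.fiberIdeal_mem_associatedPrimes_iff (N := N) (p := p) (q := Q)).mpr hQ,
      fun i => hQle ((Submodule.mem_annihilator_span_singleton _ _).mpr ((lTensor_tmap_eq_zero_iff t κ z).mp hz i))⟩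
  · rintro ⟨Q, hQ, hQp, hass, ht⟩ hinj
    haveI := hQ; haveI := hQp
    obtain ⟨-, w, hw1, hw2⟩ := Calg5.mem_weakAss_iff.mp
      ((WeakAssFlatAt.fiberIdeal_mem_associatedPrimes_iff (N := N) (p := p) (q := Q)).mp hass)
    choose s hs n hn using fun i => hw2 (t i) (ht i)
    have hw : (∏ i, s i) • w ≠ 0 := fun h => by
      obtain ⟨i, -, hi⟩ := (Ideal.IsPrime.prod_mem_iff (p := Q)).mp (hw1 _ h)
      exact hs i hi
    obtain ⟨c, hc0, hct⟩ := exists_killed m t _ hw fun i => ⟨n i, by
      rw [← mul_smul, ← Finset.mul_prod_erase _ _ (Finset.mem_univ i), ← mul_assoc, mul_comm (t i ^ n i) (s i),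
        mul_comm, mul_smul, hn i, smul_zero]⟩
    refine hc0 ((TensorProduct.comm R κ N).symm.injective (hinj ?_))
    rw [map_zero, map_zero, lTensor_tmap_eq_zero_iff]
    intro i
    rw [LinearEquiv.apply_symm_apply]
    exact hct i

/-- Fibrewise injectivity does not depend on the field. -/
theorem injective_lTensor_field_iff {R : Type u} [CommRing R] {M P : Type u} [AddCommGroup M] [Module R M]
    [AddCommGroup P] [Module R P] (u : M →ₗ[R] P) (p : Ideal R) [p.IsPrime] (κ : Type u) [Field κ] [Algebra R κ]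
    (hp : RingHom.ker (algebraMap R κ) = p) :
    Function.Injective (u.lTensor κ) ↔ Function.Injective (u.lTensor p.ResidueField) := by
  letI : Algebra p.ResidueField κ := (Ideal.ResidueField.lift p (algebraMap R κ) hp.ge (fun x hx =>
    isUnit_iff_ne_zero.mpr fun h => hx (hp.le h))).toAlgebra
  haveI : IsScalarTower R p.ResidueField κ := .of_algebraMap_eq fun r => (Ideal.ResidueField.lift_algebraMap ..).symm
  rw [← FlatMorOne.lTensor_baseChange_injective_iff (T := p.ResidueField) u]
  exact Module.FaithfullyFlat.lTensor_injective_iff_injective p.ResidueField κ (u.baseChange p.ResidueField)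

/-- Fibrewise injectivity after a base change. -/
theorem injective_tmap_baseChange_iff {R₁ L S SL : Type u} [CommRing R₁] [CommRing L] [Algebra R₁ L]
    [CommRing S] [Algebra R₁ S] [CommRing SL] [Algebra S SL] [Algebra L SL]
    [Algebra R₁ SL] [IsScalarTower R₁ S SL] [IsScalarTower R₁ L SL] [Algebra.IsPushout R₁ L S SL]
    (N : Type u) [AddCommGroup N] [Module S N] [Module R₁ N] [IsScalarTower R₁ S N] {m : ℕ} (t : Fin m → S)
    (NL : Type u) [AddCommGroup NL] [Module SL NL] [Module S NL] [IsScalarTower S SL NL] [Module L NL]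
    [IsScalarTower L SL NL] (f : N →ₗ[S] NL) (hf : IsBaseChange SL f)
    (κ : Type u) [Field κ] [Algebra L κ] [Algebra R₁ κ] [IsScalarTower R₁ L κ] :
    Function.Injective (((tmap NL fun i => algebraMap S SL (t i)).restrictScalars L).lTensor κ) ↔
      Function.Injective (((tmap N t).restrictScalars R₁).lTensor κ) := by
  haveI : SMulCommClass S L NL := ⟨fun s l x => by
    rw [← algebraMap_smul SL s (l • x), smul_comm, algebraMap_smul]⟩
  let e := Purity.baseEquiv (A := R₁) (B := S) (R := L) (BR := SL) hf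
  let E : κ ⊗[L] NL ≃ₗ[κ] κ ⊗[R₁] N :=
    (AlgebraTensorModule.congr (LinearEquiv.refl κ κ) e).trans (AlgebraTensorModule.cancelBaseChange R₁ L κ κ N)
  have hE : ∀ (i : Fin m) (x : κ ⊗[L] NL), TensorProduct.comm R₁ κ N (E ((TensorProduct.comm L κ NL).symm
      (algebraMap S SL (t i) • TensorProduct.comm L κ NL x))) = t i • TensorProduct.comm R₁ κ N (E x) := by
    intro i x
    induction x with
    | zero => simp
    | add a b ha hb => simp only [map_add, smul_add, ha, hb]
    | tmul a y =>
      obtain ⟨y, rfl⟩ := e.symm.surjective y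
      induction y with
      | zero => simp
      | add b c hb hc => simp only [map_add, smul_add, tmul_add, hb, hc]
      | tmul l n =>
        have he : ∀ (l : L) (n : N), e.symm (l ⊗ₜ[R₁] n) = l • f n := fun l n => by
          simp [e, Purity.baseEquiv, Algebra.IsPushout.cancelBaseChange_symm_tmul, IsBaseChange.equiv_tmul]
        have h1 : algebraMap S SL (t i) • e.symm (l ⊗ₜ[R₁] n) = e.symm (l ⊗ₜ[R₁] (t i • n)) := by
          rw [he, he, map_smul, algebraMap_smul, smul_comm]
        simp only [TensorProduct.comm_tmul, TensorProduct.smul_tmul', TensorProduct.comm_symm_tmul]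
        rw [h1]
        simp [E, TensorProduct.smul_tmul']
  have key : ∀ z, ((tmap NL fun i => algebraMap S SL (t i)).restrictScalars L).lTensor κ z = 0 ↔
      ((tmap N t).restrictScalars R₁).lTensor κ (E z) = 0 := fun z => by
    rw [lTensor_tmap_eq_zero_iff, lTensor_tmap_eq_zero_iff]
    refine forall_congr' fun i => ?_
    rw [← hE i z, LinearEquiv.map_eq_zero_iff, LinearEquiv.map_eq_zero_iff, LinearEquiv.map_eq_zero_iff]
  rw [injective_iff_map_eq_zero, injective_iff_map_eq_zero]
  refine ⟨fun h z hz => ?_, fun h z hz => E.injective ((h _ ((key z).mp hz)).trans (map_zero E).symm)⟩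
  obtain ⟨z, rfl⟩ := E.surjective z
  rw [h z ((key z).mpr hz), map_zero]

set_option maxHeartbeats 800000 in
/-- **Projectivity over a Noetherian local ring.** -/
theorem projective_local {R₁ L S SL S₂ : Type u} [CommRing R₁] [CommRing L] [IsNoetherianRing L] [Algebra R₁ L]
    [CommRing S] [Algebra R₁ S] [Algebra.FinitePresentation R₁ S] [CommRing SL] [Algebra S SL] [Algebra L SL]
    [Algebra R₁ SL] [IsScalarTower R₁ S SL] [IsScalarTower R₁ L SL] [Algebra.IsPushout R₁ L S SL]
    [CommRing S₂] [Algebra S S₂] [Algebra.Etale S S₂] [Algebra R₁ S₂] [IsScalarTower R₁ S S₂]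
    (N : Type u) [AddCommGroup N] [Module S N] [Module R₁ N] [IsScalarTower R₁ S N] [Module.FinitePresentation S N]
    [hproj : Module.Projective R₁ (RestrictScalars R₁ S₂ (S₂ ⊗[S] N))]
    (J : Ideal S) (hJ : ∀ Q : PrimeSpectrum S, J ≤ Q.asIdeal ↔ Q ∉ Set.range (PrimeSpectrum.comap (algebraMap S S₂)))
    {m : ℕ} (t : Fin m → S) (ht : Ideal.span (Set.range t) = J)
    (hW : ∀ (p₂ : Ideal L) [p₂.IsPrime],
      Function.Injective (((tmap N t).restrictScalars R₁).lTensor (p₂.comap (algebraMap R₁ L)).ResidueField))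
    (NL : Type u) [AddCommGroup NL] [Module SL NL] [Module S NL] [IsScalarTower S SL NL] [Module L NL]
    [IsScalarTower L SL NL] (f : N →ₗ[S] NL) (hf : IsBaseChange SL f) : Module.Projective L NL := by
  classical
  haveI : Algebra.FinitePresentation L SL := Algebra.FinitePresentation.equiv (Algebra.IsPushout.equiv R₁ L S SL)
  haveI : Module.FinitePresentation SL NL := Module.FinitePresentation.of_equiv hf.equiv
  haveI hpush' : Algebra.IsPushout R₁ S L SL := Algebra.IsPushout.symm inferInstance
  obtain ⟨S₂L, _, _, _, _, _, _, hS₂L⟩ := EtalePushout.exists_pushout S S₂ SL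
  haveI := hS₂L
  haveI hS₂L' : Algebra.IsPushout S S₂ SL S₂L := Algebra.IsPushout.symm hS₂L
  letI : Algebra L S₂L := ((algebraMap SL S₂L).comp (algebraMap L SL)).toAlgebra
  haveI : IsScalarTower L SL S₂L := .of_algebraMap_eq' rfl
  letI : Algebra R₁ S₂L := ((algebraMap SL S₂L).comp (algebraMap R₁ SL)).toAlgebra
  haveI : IsScalarTower R₁ SL S₂L := .of_algebraMap_eq' rfl
  haveI : IsScalarTower R₁ L S₂L := .of_algebraMap_eq fun r => by
    show algebraMap SL S₂L (algebraMap R₁ SL r) = algebraMap SL S₂L (algebraMap L SL (algebraMap R₁ L r))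
    rw [← IsScalarTower.algebraMap_apply R₁ L SL]
  haveI : IsScalarTower R₁ S S₂L := .of_algebraMap_eq fun r => by
    show algebraMap SL S₂L (algebraMap R₁ SL r) = algebraMap S S₂L (algebraMap R₁ S r)
    rw [IsScalarTower.algebraMap_apply R₁ S SL, ← IsScalarTower.algebraMap_apply S SL S₂L]
  haveI : IsScalarTower R₁ S₂ S₂L := .of_algebraMap_eq fun r => by
    rw [IsScalarTower.algebraMap_apply R₁ S S₂, ← IsScalarTower.algebraMap_apply S S₂ S₂L,
      ← IsScalarTower.algebraMap_apply R₁ S S₂L]
  haveI h₁ : Algebra.IsPushout R₁ S₂ L S₂L :=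
    (Algebra.IsPushout.comp_iff (R := R₁) (S := S) (R' := L) (S' := SL) (T := S₂) (T' := S₂L)).mpr hS₂L'
  haveI : Algebra.IsPushout R₁ L S₂ S₂L := Algebra.IsPushout.symm h₁
  haveI : Algebra.Etale SL S₂L := EtalePushout.etale_of_isPushout (A := S) (A' := SL) (B := S₂) (B' := S₂L)
  haveI : SMulCommClass SL L S₂L := ⟨fun s r x => by simp only [Algebra.smul_def]; ring⟩
  haveI : Module.Projective L (RestrictScalars L S₂L (S₂L ⊗[S] N)) :=
    CommonNbhd.projective_baseChange (R₁ := R₁) (S₁ := S₂) N
  let e₂ : S₂L ⊗[SL] NL ≃ₗ[S₂L] S₂L ⊗[S] N :=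
    (LinearEquiv.baseChange SL S₂L _ _ hf.equiv.symm).trans (AlgebraTensorModule.cancelBaseChange S SL S₂L S₂L N)
  haveI : Module.Projective L (S₂L ⊗[SL] NL) :=
    Module.Projective.of_equiv (M := RestrictScalars L S₂L (S₂L ⊗[S] N)) (N := S₂L ⊗[SL] NL)
      (AddEquiv.toLinearEquiv (e₂.toAddEquiv.trans (RestrictScalars.addEquiv L S₂L _).symm) fun a z => by
        refine (RestrictScalars.addEquiv L S₂L (S₂L ⊗[S] N)).injective ?_
        rw [RestrictScalars.addEquiv_map_smul, AddEquiv.trans_apply, AddEquiv.apply_symm_apply, AddEquiv.trans_apply,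
          AddEquiv.apply_symm_apply]
        show e₂ (a • z) = algebraMap L S₂L a • e₂ z
        rw [← map_smul]
        exact congrArg e₂ (algebraMap_smul S₂L a z).symm).symm
  have hlift : ∀ Q : Ideal SL, [Q.IsPrime] → ¬ J ≤ Q.comap (algebraMap S SL) →
      ∃ q' : Ideal S₂L, q'.IsPrime ∧ q'.comap (algebraMap SL S₂L) = Q := by
    intro Q _ hQ
    obtain ⟨q₀, hq₀⟩ : (⟨Q.comap (algebraMap S SL), inferInstance⟩ : PrimeSpectrum S) ∈
        Set.range (PrimeSpectrum.comap (algebraMap S S₂)) :=
      by_contra fun h => hQ ((hJ _).mpr h)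
    obtain ⟨q', hq', -, h⟩ := FlatmorThree.exists_prime_over_both (R := S) (S := S₂) (R' := SL) (S' := S₂L)
      q₀.asIdeal Q (congrArg PrimeSpectrum.asIdeal hq₀).symm
    exact ⟨q', hq', h⟩
  have hass : ∀ (p₂ : Ideal L) [p₂.IsPrime] (Q : Ideal SL) [Q.IsPrime], Q.LiesOver p₂ →
      FlatCA.fiberIdeal p₂ Q ∈ associatedPrimes (p₂.Fiber SL) (FlatCA.fiberMod p₂ SL NL) →
      ¬ J ≤ Q.comap (algebraMap S SL) := by
    intro p₂ _ Q hQ hQp hQass hle
    let κ := p₂.ResidueField
    let p₁ := p₂.comap (algebraMap R₁ L)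
    apply (not_injective_iff (R := L) (S := SL) NL (fun i => algebraMap S SL (t i)) p₂).mpr
      ⟨Q, hQ, hQp, hQass, fun i => hle (ht.le (Ideal.subset_span ⟨i, rfl⟩))⟩
    refine (injective_tmap_baseChange_iff N t NL f hf κ).mpr ((injective_lTensor_field_iff _ p₁ κ ?_).mpr (hW p₂))
    ext r
    show algebraMap R₁ κ r = 0 ↔ r ∈ p₁
    rw [IsScalarTower.algebraMap_apply R₁ L κ, Ideal.algebraMap_residueField_eq_zero]
    rfl
  haveI hflat : Module.Flat L NL := by
    have hat : ∀ (Q : Ideal SL) [Q.IsPrime], FlatCA.FlatAt L Q NL := by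
      intro Q _
      let p₂ := Q.comap (algebraMap L SL)
      haveI : Q.LiesOver p₂ := ⟨rfl⟩
      refine FlatAtAss.flatAt_of_fiberAss NL p₂ Q fun q' _ _ hq'p hq'ass => ?_
      obtain ⟨q'', hq'', h⟩ := hlift q' (hass p₂ q' hq'p hq'ass)
      haveI := hq''
      exact (Groth.Agent.S1277.flatAt_iff_of_flat (R := L) (TensorProduct.mk SL S₂L NL 1)
        (TensorProduct.isBaseChange SL NL S₂L) q' q'' h).mpr ((FlatPred.flatAt_iff q'').mpr (FlatPred.pred_of_flat _))
    haveI := LocalStructureFT.flat_localized_of_forall (A := L) (M := NL) (1 : SL) fun Q _ _ => hat Q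
    have hbij : Function.Bijective (LocalizedModule.mkLinearMap (Submonoid.powers (1 : SL)) NL) := by
      refine ⟨(injective_iff_map_eq_zero _).mpr fun x hx => ?_, fun y => ?_⟩
      · obtain ⟨⟨c, k, rfl⟩, hc⟩ := (IsLocalizedModule.eq_zero_iff (Submonoid.powers (1 : SL)) _).mp hx
        simpa [Submonoid.smul_def] using hc
      · obtain ⟨⟨x, c, k, rfl⟩, hx⟩ := IsLocalizedModule.surj (Submonoid.powers (1 : SL))
          (LocalizedModule.mkLinearMap (Submonoid.powers (1 : SL)) NL) y
        exact ⟨x, by simpa [Submonoid.smul_def] using hx.symm⟩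
    exact Module.Flat.of_linearEquiv (LinearEquiv.ofBijective
      ((LocalizedModule.mkLinearMap (Submonoid.powers (1 : SL)) NL).restrictScalars L) hbij)
  have hc : CAlg.IsCountablyGenerated L NL := isCountablyGenerated_of_finiteType (S := SL)
  haveI : IsLocalization.Away (1 : L) L := IsLocalization.away_of_isUnit_of_bijective _ isUnit_one Function.bijective_id
  have hp := Purity.projective_away ((TensorProduct.mk SL S₂L NL 1).restrictScalars L) (1 : L) hc
    (fun Q _ _ hb => FibreRegular.injective_lTensor_away (S := SL) (S' := S₂L) NL (1 : L)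
      (fun p₂ _ Q _ _ hQp hQass => hlift Q (hass p₂ Q hQp hQass)) Q hb) L
  exact Module.Projective.of_equiv (TensorProduct.lid L NL)

end Groth.RaynaudGruson.PurityLocalCriterion
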