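import Mathlib
import Groth.Prelude.Def_FlatCA
import Groth.Agent.RaynaudGruson.EtalePushout

/-!
A quasi-finite algebra whose points specialise, after any étale neighbourhood, to the fibre is finite.
-/

set_option autoImplicit false
set_option linter.style.haveILetI false
universe u

open TensorProduct

namespace Groth.RaynaudGruson.QuasiFiniteFinite

/-- After any étale neighbourhood of `p`, every point above a generalisation of the distinguished point
specialises to a point above it. -/
def Spec' (A C : Type u) [CommRing A] [CommRing C] [Algebra A C] (p : Ideal A) [p.IsPrime] : Prop :=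
  ∀ (A' : Type u) [CommRing A'] [Algebra A A'] (t : Ideal A') [t.IsPrime], FlatCA.IsEtaleNhd A A' p t →
    ∀ (P : Ideal (A' ⊗[A] C)), P.IsPrime → P.comap (algebraMap A' (A' ⊗[A] C)) ≤ t →
      ∃ P' : Ideal (A' ⊗[A] C), P'.IsPrime ∧ P ≤ P' ∧ P'.comap (algebraMap A' (A' ⊗[A] C)) = t

theorem isEtaleNhd_refl {A : Type u} [CommRing A] (p : Ideal A) [p.IsPrime] : FlatCA.IsEtaleNhd A A p p := by
  refine ⟨inferInstance, ⟨rfl⟩, ?_⟩
  rw! [Algebra.ofId_self, Ideal.ResidueField.mapₐ_id]
  exact Function.bijective_id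

theorem exists_nhd_of_primesOver_eq_empty (A C : Type u) [CommRing A] [CommRing C] [Algebra A C]
    (p : Ideal A) [p.IsPrime] (h : p.primesOver C = ∅) (hS : Spec' A C p) :
    ∃ (A' : Type u) (_ : CommRing A') (_ : Algebra A A') (t : Ideal A') (_ : t.IsPrime),
      FlatCA.IsEtaleNhd A A' p t ∧ Module.Finite A' (A' ⊗[A] C) := by
  obtain ⟨a, ha, ha0⟩ : ∃ a ∉ p, algebraMap A C a = 0 := by
    by_contra! hcon
    obtain ⟨Q, hQ, -, hQd⟩ := Ideal.exists_le_prime_disjoint (⊥ : Ideal C)
      (Algebra.algebraMapSubmonoid C p.primeCompl) (by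
        rw [Set.disjoint_left]
        rintro x hx ⟨a, ha, rfl⟩
        exact hcon a ha ((Submodule.mem_bot C).mp hx))
    haveI := hQ
    let e := Algebra.TensorProduct.lid A C
    obtain ⟨P', hP', -, hP'p⟩ := hS A p (isEtaleNhd_refl p) (Q.comap e.toRingHom) inferInstance (by
      intro a ha
      by_contra hap
      refine Set.disjoint_left.mp hQd ?_ ⟨a, hap, rfl⟩
      simpa [e, ← Algebra.algebraMap_eq_smul_one] using ha)
    haveI := hP'
    have : P'.comap e.symm.toRingHom ∈ p.primesOver C := ⟨inferInstance, ⟨by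
      refine hP'p.symm.trans ?_
      rw [Ideal.under_def, Ideal.comap_comap]
      congr 1
      exact (e.symm.toAlgHom.comp_algebraMap).symm⟩⟩
    rw [h] at this
    exact this
  have hdis : Disjoint (Submonoid.powers a : Set A) p := by
    rw [Ideal.disjoint_powers_iff_notMem_of_isPrime]; exact ha
  haveI : (p.map (algebraMap A (Localization.Away a))).IsPrime :=
    IsLocalization.isPrime_of_isPrime_disjoint (Submonoid.powers a) _ p ‹_› hdis
  haveI : (p.map (algebraMap A (Localization.Away a))).LiesOver p :=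
    IsLocalization.liesOver_map_of_isPrime_disjoint (Submonoid.powers a) _ hdis
  refine ⟨Localization.Away a, inferInstance, inferInstance, p.map (algebraMap A _), inferInstance,
    ⟨inferInstance, ‹_›, ?_⟩, ?_⟩
  · exact (RingHom.surjectiveOnStalks_of_isLocalization (.powers a) _).residueFieldMap_bijective _ _ _
  · have : (1 : Localization.Away a ⊗[A] C) = 0 := by
      obtain ⟨v, hv⟩ := IsLocalization.Away.algebraMap_isUnit (S := Localization.Away a) a
      have h0 : algebraMap (Localization.Away a) (Localization.Away a ⊗[A] C) (v : Localization.Away a) = 0 := by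
        rw [hv, ← IsScalarTower.algebraMap_apply, Algebra.TensorProduct.algebraMap_apply',
          ha0, TensorProduct.tmul_zero]
      exact ((v.isUnit.map (algebraMap (Localization.Away a) (Localization.Away a ⊗[A] C))).mul_right_eq_zero).mp
        (by rw [mul_one, h0])
    haveI := subsingleton_of_zero_eq_one this.symm
    infer_instance

theorem exists_comp_surjective {A C : Type u} [CommRing A] [CommRing C] [Algebra A C] {R' : Type u} [CommRing R']
    [Algebra A R'] {D : Type u} [CommRing D] [Algebra R' D] (g : R' ⊗[A] C →ₐ[R'] D) (hg : Function.Surjective g)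
    (A'' : Type u) [CommRing A''] [Algebra R' A''] [Algebra A A''] [IsScalarTower A R' A''] :
    ∃ ψ : A'' ⊗[A] C →ₐ[A''] A'' ⊗[R'] D, Function.Surjective ψ := by
  obtain ⟨h, hh⟩ : ∃ h : A'' ⊗[R'] (R' ⊗[A] C) →ₐ[A''] A'' ⊗[R'] D, Function.Surjective h := by
    refine ⟨Algebra.TensorProduct.map (AlgHom.id A'' A'') g, fun y => ?_⟩
    induction y with
    | zero => exact ⟨0, map_zero _⟩
    | tmul a d => obtain ⟨x, rfl⟩ := hg d; exact ⟨a ⊗ₜ x, Algebra.TensorProduct.map_tmul _ _ _ _⟩
    | add y z hy hz => obtain ⟨x, rfl⟩ := hy; obtain ⟨x', rfl⟩ := hz; exact ⟨x + x', map_add _ _ _⟩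
  let c : A'' ⊗[R'] (R' ⊗[A] C) ≃ₐ[A''] A'' ⊗[A] C := Algebra.TensorProduct.cancelBaseChange A R' A'' A'' C
  exact ⟨h.comp c.symm.toAlgHom, hh.comp c.symm.surjective⟩

theorem spec_comap {A'' X Y : Type u} [CommRing A''] [CommRing X] [CommRing Y] [Algebra A'' X] [Algebra A'' Y]
    (ψ : X →ₐ[A''] Y) (hψ : Function.Surjective ψ) (t : Ideal A'')
    (h : ∀ P : Ideal X, P.IsPrime → P.comap (algebraMap A'' X) ≤ t →
      ∃ P' : Ideal X, P'.IsPrime ∧ P ≤ P' ∧ P'.comap (algebraMap A'' X) = t)
    (Q : Ideal Y) (hQ : Q.IsPrime) (hQt : Q.comap (algebraMap A'' Y) ≤ t) :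
    ∃ Q' : Ideal Y, Q'.IsPrime ∧ Q ≤ Q' ∧ Q'.comap (algebraMap A'' Y) = t := by
  haveI := hQ
  obtain ⟨Q', hQ', hle, hQ't⟩ := h (Q.comap ψ.toRingHom) inferInstance (by
    rw [Ideal.comap_comap]
    exact le_trans (le_of_eq (congrArg (Q.comap ·) ψ.comp_algebraMap)) hQt)
  haveI := hQ'
  have hker : RingHom.ker ψ.toRingHom ≤ Q' := le_trans (Ideal.comap_mono bot_le) hle
  refine ⟨Q'.map ψ.toRingHom, Ideal.map_isPrime_of_surjective hψ hker, ?_, ?_⟩
  · rw [← Ideal.map_comap_of_surjective ψ.toRingHom hψ Q]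
    exact Ideal.map_mono hle
  · have hback : (Q'.map ψ.toRingHom).comap ψ.toRingHom = Q' := by
      rw [Ideal.comap_map_of_surjective ψ.toRingHom hψ]
      exact sup_eq_left.mpr hker
    rw [← hQ't, ← ψ.comp_algebraMap]
    exact (Ideal.comap_comap (algebraMap A'' X) ψ.toRingHom).symm.trans (congrArg (Ideal.comap (algebraMap A'' X)) hback)

theorem spec_of_nhd {A C : Type u} [CommRing A] [CommRing C] [Algebra A C] (p : Ideal A) [p.IsPrime]
    (hS : Spec' A C p) {R' : Type u} [CommRing R'] [Algebra A R'] {P : Ideal R'} [P.IsPrime]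
    (hnhd : FlatCA.IsEtaleNhd A R' p P) {D : Type u} [CommRing D] [Algebra R' D] (g : R' ⊗[A] C →ₐ[R'] D)
    (hg : Function.Surjective g) : Spec' R' D P := by
  intro A'' _ _ t _ hnhd'
  letI : Algebra A A'' := Algebra.compHom A'' (algebraMap A R')
  haveI : IsScalarTower A R' A'' := IsScalarTower.of_algebraMap_eq' rfl
  obtain ⟨ψ, hψ⟩ := exists_comp_surjective g hg A''
  exact spec_comap ψ hψ t (hS A'' t (EtalePushout.isEtaleNhd_trans hnhd hnhd'))

theorem finite_of_idem {A C R' : Type u} [CommRing A] [CommRing C] [Algebra A C] [CommRing R'] [Algebra A R']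
    (e : R' ⊗[A] C) (he : IsIdempotentElem e) (hfin : Module.Finite R' (Localization.Away e))
    (R'' : Type u) [CommRing R''] [Algebra R' R''] [Algebra A R''] [IsScalarTower A R' R'']
    (hfin' : Module.Finite R'' (R'' ⊗[R'] (R' ⊗[A] C ⧸ Ideal.span {e}))) : Module.Finite R'' (R'' ⊗[A] C) := by
  haveI := hfin'
  -- the idempotent splitting
  let M := R' ⊗[A] C
  let L := Localization.Away e
  let σ : M →ₗ[R'] L × (M ⧸ Ideal.span {e}) :=
    (IsScalarTower.toAlgHom R' M L).toLinearMap.prod (Ideal.Quotient.mkₐ R' (Ideal.span {e})).toLinearMap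
  have he1 : algebraMap M L e = 1 := by
    obtain ⟨v, hv⟩ := IsLocalization.Away.algebraMap_isUnit (S := L) e
    refine (IsLocalization.Away.algebraMap_isUnit (S := L) e).mul_left_cancel ?_
    rw [← map_mul, he.eq, mul_one]
  have hσ : Function.Bijective σ := by
    refine ⟨?_, ?_⟩
    · rw [← LinearMap.ker_eq_bot, eq_bot_iff]
      intro x hx
      obtain ⟨h1, h2⟩ := Prod.mk.inj (show (algebraMap M L x, Ideal.Quotient.mk (Ideal.span {e}) x) = (0, 0) from hx)
      obtain ⟨y, rfl⟩ := Ideal.mem_span_singleton'.mp (Ideal.Quotient.eq_zero_iff_mem.mp h2)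
      obtain ⟨⟨_, k, rfl⟩, hk⟩ := (IsLocalization.map_eq_zero_iff (Submonoid.powers e) L _).mp h1
      have hk' : e ^ k * (y * e) = 0 := hk
      show y * e = 0
      cases k with
      | zero => simpa using hk'
      | succ k => rw [he.pow_succ_eq] at hk'; rw [← hk', mul_comm e, mul_assoc, he.eq]
    · rintro ⟨z, w⟩
      obtain ⟨⟨u, ⟨_, k, rfl⟩⟩, hz⟩ := IsLocalization.surj (Submonoid.powers e) z
      obtain ⟨w, rfl⟩ := Ideal.Quotient.mk_surjective w
      have hz' : z = algebraMap M L u := by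
        rw [← hz]
        show z = z * algebraMap M L (e ^ k)
        rw [map_pow, he1, one_pow, mul_one]
      refine ⟨e * u + (1 - e) * w, Prod.ext ?_ ?_⟩
      · show algebraMap M L (e * u + (1 - e) * w) = z
        rw [hz', map_add, map_mul, map_mul, map_sub, he1, map_one, sub_self, zero_mul, one_mul, add_zero]
      · show Ideal.Quotient.mk (Ideal.span {e}) (e * u + (1 - e) * w) = Ideal.Quotient.mk _ w
        rw [Ideal.Quotient.eq, Ideal.mem_span_singleton']
        exact ⟨u - w, by ring⟩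
  let E : R'' ⊗[R'] (L × (M ⧸ Ideal.span {e})) ≃ₗ[R''] (R'' ⊗[R'] L) × (R'' ⊗[R'] (M ⧸ Ideal.span {e})) :=
    TensorProduct.prodRight R' R'' R'' L (M ⧸ Ideal.span {e})
  haveI : Module.Finite R'' (R'' ⊗[R'] (L × (M ⧸ Ideal.span {e}))) := Module.Finite.equiv E.symm
  haveI : Module.Finite R'' (R'' ⊗[R'] M) :=
    Module.Finite.equiv ((LinearEquiv.ofBijective σ hσ).baseChange R' R'').symm
  exact Module.Finite.equiv (Algebra.TensorProduct.cancelBaseChange A R' R'' R'' C).toLinearEquiv

theorem exists_nhd (n : ℕ) : ∀ (A C : Type u) [CommRing A] [CommRing C] [Algebra A C] [Algebra.FiniteType A C]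
    [Algebra.QuasiFinite A C] (p : Ideal A) [p.IsPrime], (p.primesOver C).ncard ≤ n → Spec' A C p →
    ∃ (A' : Type u) (_ : CommRing A') (_ : Algebra A A') (t : Ideal A') (_ : t.IsPrime),
      FlatCA.IsEtaleNhd A A' p t ∧ Module.Finite A' (A' ⊗[A] C) := by
  induction n with
  | zero =>
    intro A C _ _ _ _ _ p _ hn hS
    exact exists_nhd_of_primesOver_eq_empty A C p
      ((Set.ncard_eq_zero (Algebra.QuasiFinite.finite_primesOver p)).mp (Nat.le_zero.mp hn)) hS
  | succ n IH =>
    intro A C _ _ _ _ _ p _ hn hS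
    rcases Set.eq_empty_or_nonempty (p.primesOver C) with h | ⟨q, hq, hq'⟩
    · exact exists_nhd_of_primesOver_eq_empty A C p h hS
    haveI := hq; haveI := hq'
    haveI : Algebra.QuasiFiniteAt A q := inferInstance
    obtain ⟨R', _, _, _, P, _, _, e, he, P', hP', _, hP'q, heP', hpP, hfin, -⟩ :=
      Algebra.exists_etale_isIdempotentElem_forall_liesOver_eq p q
    haveI := hfin
    haveI := hP'
    have hnhd : FlatCA.IsEtaleNhd A R' p P := ⟨‹_›, ‹_›, hpP⟩
    have hlt : (P.primesOver (R' ⊗[A] C ⧸ Ideal.span {e})).ncard ≤ n := by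
      let F := Ideal.fiberIsoOfBijectiveResidueField hpP (S := C)
      have hf := Algebra.QuasiFinite.finite_primesOver (S := C) p
      refine Nat.le_of_lt_succ (lt_of_lt_of_le (Ideal.ncard_primesOver_quotient_singleton_lt_of_notMem _ _
        P' heP' (F.finite_iff.mpr hf)) ?_)
      refine le_trans (le_of_eq ?_) hn
      rw [← Nat.card_coe_set_eq, ← Nat.card_coe_set_eq, Nat.card_congr F.toEquiv]
    haveI : Algebra.QuasiFinite R' (R' ⊗[A] C ⧸ Ideal.span {e}) :=
      Algebra.QuasiFinite.of_surjective_algHom (Ideal.Quotient.mkₐ R' (Ideal.span {e})) Ideal.Quotient.mk_surjective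
    have hS' : Spec' R' (R' ⊗[A] C ⧸ Ideal.span {e}) P := spec_of_nhd p hS hnhd (Ideal.Quotient.mkₐ R' _) Ideal.Quotient.mk_surjective
    obtain ⟨R'', _, _, t, _, hnhd', hfin'⟩ := IH R' (R' ⊗[A] C ⧸ Ideal.span {e}) P hlt hS'
    letI : Algebra A R'' := Algebra.compHom R'' (algebraMap A R')
    haveI : IsScalarTower A R' R'' := IsScalarTower.of_algebraMap_eq' rfl
    refine ⟨R'', inferInstance, inferInstance, t, inferInstance, EtalePushout.isEtaleNhd_trans hnhd hnhd', ?_⟩
    haveI := hfin'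
    exact finite_of_idem e he hfin R'' hfin'

/-- A quasi-finite algebra with the specialisation property at every prime is finite. -/
theorem finite_of_spec {A C : Type u} [CommRing A] [CommRing C] [Algebra A C] [Algebra.FiniteType A C]
    [Algebra.QuasiFinite A C] (hS : ∀ (p : Ideal A) [p.IsPrime], Spec' A C p) : Module.Finite A C := by
  classical
  have h := fun p : PrimeSpectrum A => exists_nhd (p.asIdeal.primesOver C).ncard A C p.asIdeal le_rfl (hS p.asIdeal)
  choose T iT iA t it hnhd hfin using h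
  choose s hs using fun p => (hfin p).fg_top
  let f : PrimeSpectrum A → Set (PrimeSpectrum A) := fun p => Set.range (PrimeSpectrum.comap (algebraMap A (T p)))
  have hopen : ∀ p, IsOpen (f p) := fun p => by
    haveI := (hnhd p).1
    exact (PrimeSpectrum.isOpenMap_comap_of_hasGoingDown_of_finitePresentation (R := A) (S := T p)).isOpen_range
  have hmem : ∀ p, p ∈ f p := fun p => by
    obtain ⟨h1, h2, -⟩ := hnhd p
    exact ⟨⟨t p, it p⟩, PrimeSpectrum.ext h2.over.symm⟩
  obtain ⟨F, hF⟩ := isCompact_univ.elim_finite_subcover f hopen (fun x _ => Set.mem_iUnion.mpr ⟨x, hmem x⟩)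
  choose k a c hc using fun (p : PrimeSpectrum A) (x : T p ⊗[A] C) => TensorProduct.exists_sum_tmul_eq x
  let G : Finset C := F.biUnion fun p => (s p).biUnion fun x => Finset.univ.image (c p x)
  let W : Submodule A C := Submodule.span A (G : Set C)
  have hW : ∀ p ∈ F, ∀ x : C, (1 : T p) ⊗ₜ[A] (W.mkQ x) = 0 := by
    intro p hp x
    let m : T p ⊗[A] C →ₗ[T p] T p ⊗[A] (C ⧸ W) := W.mkQ.baseChange (T p)
    show m (1 ⊗ₜ x) = 0
    have : m = 0 := by
      refine LinearMap.ext_on (hs p) fun y hy => ?_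
      rw [hc p y, map_sum, LinearMap.zero_apply]
      refine Finset.sum_eq_zero fun i _ => ?_
      show a p y i ⊗ₜ[A] W.mkQ (c p y i) = 0
      rw [Submodule.mkQ_apply, (Submodule.Quotient.mk_eq_zero W).mpr (Submodule.subset_span (Finset.mem_biUnion.mpr
        ⟨p, hp, Finset.mem_biUnion.mpr ⟨y, hy, Finset.mem_image_of_mem _ (Finset.mem_univ i)⟩⟩)), TensorProduct.tmul_zero]
    rw [this, LinearMap.zero_apply]
  have hWtop : W = ⊤ := by
    refine eq_top_iff.mpr fun x _ => ?_
    rw [← Submodule.Quotient.mk_eq_zero W]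
    by_contra hx
    let ι : A →ₗ[A] C ⧸ W := LinearMap.toSpanSingleton A _ (Submodule.Quotient.mk x)
    have hne : (LinearMap.ker ι : Ideal A) ≠ ⊤ := fun h => hx (by
      have : ι 1 = 0 := LinearMap.mem_ker.mp (h.symm ▸ Submodule.mem_top)
      simpa [ι] using this)
    obtain ⟨m, hm, hle⟩ := Ideal.exists_le_maximal _ hne
    obtain ⟨p, hp, ⟨Q, hQ⟩⟩ := Set.mem_iUnion₂.mp (hF (Set.mem_univ (⟨m, hm.isPrime⟩ : PrimeSpectrum A)))
    haveI := (hnhd p).1
    let j : A ⧸ (LinearMap.ker ι) →ₗ[A] C ⧸ W := Submodule.liftQ _ ι le_rfl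
    have hj : Function.Injective j := LinearMap.ker_eq_bot.mp (Submodule.ker_liftQ_eq_bot _ ι le_rfl le_rfl)
    have h1 : (1 : T p) ⊗ₜ[A] (Submodule.Quotient.mk 1 : A ⧸ LinearMap.ker ι) = 0 := by
      refine Module.Flat.lTensor_preserves_injective_linearMap (M := T p) j hj ?_
      rw [map_zero, LinearMap.lTensor_tmul]
      show (1 : T p) ⊗ₜ[A] ι 1 = 0
      rw [show ι 1 = W.mkQ x from by simp [ι]]
      exact hW p hp x
    have h2 : (1 : T p) ∈ Ideal.map (algebraMap A (T p)) (LinearMap.ker ι : Ideal A) := by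
      have h2 := congrArg (TensorProduct.quotTensorEquivQuotSMul (T p) (LinearMap.ker ι : Ideal A))
        (congrArg (TensorProduct.comm A _ _) h1)
      rw [TensorProduct.comm_tmul, map_zero, map_zero] at h2
      have h3 : (TensorProduct.quotTensorEquivQuotSMul (T p) (LinearMap.ker ι : Ideal A))
          ((Submodule.Quotient.mk 1) ⊗ₜ (1 : T p)) = Submodule.Quotient.mk ((1 : A) • (1 : T p)) :=
        TensorProduct.quotTensorEquivQuotSMul_mk_tmul _ _ _
      rw [h3, one_smul, Submodule.Quotient.mk_eq_zero, Ideal.smul_top_eq_map] at h2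
      exact h2
    apply Q.2.ne_top
    rw [Ideal.eq_top_iff_one]
    refine Ideal.map_le_iff_le_comap.mpr ?_ h2
    exact hle.trans (le_of_eq (congrArg PrimeSpectrum.asIdeal hQ).symm)
  exact ⟨⟨G, hWtop⟩⟩

end Groth.RaynaudGruson.QuasiFiniteFinite
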