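import Groth.Agent.RaynaudGruson.PureSpreadout
import Mathlib

/-!
Content ideals and universal injectivity through pure spreadouts.
-/

set_option autoImplicit false
universe u

open TensorProduct

namespace Groth.RaynaudGruson.SpreadoutUnivInj

/-- A map from a projective module to a flat module, injective on every closed point, is universally injective. -/
theorem univInj_of_maximal {A P M : Type u} [CommRing A] [AddCommGroup P] [Module A P] [Module.Projective A P]
    [AddCommGroup M] [Module A M] [Module.Flat A M] (u : P →ₗ[A] M)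
    (h : ∀ (m : Ideal A) [m.IsMaximal], Function.Injective (u.lTensor (A ⧸ m))) : FlatCA.UnivInj A u := by
  intro Q _ _
  rw [injective_iff_map_eq_zero]
  intro z hz
  let I : Ideal A := LinearMap.ker (LinearMap.toSpanSingleton A (Q ⊗[A] P) z)
  suffices hI : I = ⊤ by
    have h1 : (1 : A) • z = 0 := (hI ▸ Submodule.mem_top : (1 : A) ∈ I)
    rwa [one_smul] at h1
  by_contra hI
  obtain ⟨m, hm, hIm⟩ := Ideal.exists_le_maximal I hI
  let Am := Localization.AtPrime m
  let Qm := LocalizedModule m.primeCompl Q
  letI : Field (A ⧸ m) := Ideal.Quotient.field m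
  letI : Algebra (A ⧸ m) (IsLocalRing.ResidueField Am) :=
    (Ideal.Quotient.lift m (algebraMap A (IsLocalRing.ResidueField Am)) fun a ha => by
      rw [IsScalarTower.algebraMap_apply A Am (IsLocalRing.ResidueField Am), IsLocalRing.ResidueField.algebraMap_eq,
        IsLocalRing.residue_eq_zero_iff]
      exact (IsLocalization.AtPrime.to_map_mem_maximal_iff Am m a).mpr ha).toAlgebra
  haveI : IsScalarTower A (A ⧸ m) (IsLocalRing.ResidueField Am) := .of_algebraMap_eq fun _ => rfl
  have hinj := Groth.RaynaudGruson.PureSpreadout.injective_baseChange (A₁ := Am) u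
    (Groth.RaynaudGruson.injective_lTensor_field (K := A ⧸ m) u (h m)) Qm
  let eP : (Am ⊗[A] P) ⊗[Am] Qm ≃+ P ⊗[A] Qm :=
    ((TensorProduct.comm Am (Am ⊗[A] P) Qm).toAddEquiv.trans
      (AlgebraTensorModule.cancelBaseChange A Am Am Qm P).toAddEquiv).trans (TensorProduct.comm A Qm P).toAddEquiv
  let eM : (Am ⊗[A] M) ⊗[Am] Qm ≃+ M ⊗[A] Qm :=
    ((TensorProduct.comm Am (Am ⊗[A] M) Qm).toAddEquiv.trans
      (AlgebraTensorModule.cancelBaseChange A Am Am Qm M).toAddEquiv).trans (TensorProduct.comm A Qm M).toAddEquiv
  have key : ∀ w, eM ((u.baseChange Am).rTensor Qm w) = u.rTensor Qm (eP w) := by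
    intro w
    induction w with
    | zero => simp
    | add a b ha hb => rw [map_add, map_add, ha, hb, map_add, map_add]
    | tmul a q =>
      induction a with
      | zero => simp
      | add a b ha hb => rw [add_tmul, map_add, map_add, ha, hb, map_add, map_add]
      | tmul r x => simp [eM, eP]
  let ℓ := LocalizedModule.mkLinearMap m.primeCompl Q
  have hzm : TensorProduct.comm A Qm P (ℓ.rTensor P z) = 0 := by
    obtain ⟨w, hw⟩ := eP.surjective (TensorProduct.comm A Qm P (ℓ.rTensor P z))
    have h1 : u.rTensor Qm (TensorProduct.comm A Qm P (ℓ.rTensor P z)) = 0 := by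
      have h2 : ∀ y : Q ⊗[A] P, u.rTensor Qm (TensorProduct.comm A Qm P (ℓ.rTensor P y)) =
          TensorProduct.comm A Qm M (ℓ.rTensor M (u.lTensor Q y)) := fun y => by
        induction y with
        | zero => simp
        | add a b ha hb => simp only [map_add, ha, hb]
        | tmul q x => simp
      rw [h2, hz, map_zero, map_zero]
    rw [← hw, ← key, AddEquiv.map_eq_zero_iff] at h1
    rw [← hw, hinj (h1.trans (map_zero _).symm), map_zero]
  rw [LinearEquiv.map_eq_zero_iff] at hzm
  obtain ⟨⟨s, hs⟩, hsz⟩ := (IsLocalizedModule.eq_zero_iff m.primeCompl (AlgebraTensorModule.rTensor A P ℓ)).mp hzm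
  exact hs (hIm hsz)

/-- Tensoring a base change with a module over the new ring. -/
theorem injective_lTensor_baseChange_iff {A A₁ N M P : Type u} [CommRing A] [CommRing A₁] [Algebra A A₁]
    [AddCommGroup N] [Module A N] [AddCommGroup M] [Module A M] [AddCommGroup P] [Module A₁ P] [Module A P]
    [IsScalarTower A A₁ P] (u : N →ₗ[A] M) :
    Function.Injective ((u.baseChange A₁).lTensor P) ↔ Function.Injective (u.lTensor P) := by
  let c := AlgebraTensorModule.cancelBaseChange A A₁ A₁ P N
  let c' := AlgebraTensorModule.cancelBaseChange A A₁ A₁ P M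
  have key : ∀ w, c' ((u.baseChange A₁).lTensor P w) = u.lTensor P (c w) := by
    intro w
    induction w with
    | zero => simp
    | add a b ha hb => rw [map_add, map_add, ha, hb, map_add, map_add]
    | tmul l y =>
      induction y with
      | zero => simp
      | add a b ha hb => rw [tmul_add, map_add, map_add, ha, hb, map_add, map_add]
      | tmul k n => simp [c, c']
  constructor
  · intro hinj x y hxy
    obtain ⟨x, rfl⟩ := c.surjective x
    obtain ⟨y, rfl⟩ := c.surjective y
    rw [← key, ← key] at hxy
    exact congrArg c (hinj (c'.injective hxy))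
  · intro hinj x y hxy
    exact c.injective (hinj (by rw [← key, ← key, hxy]))

/-- The content ideal in a pure spreadout. -/
theorem exists_content {A B : Type u} [CommRing A] [CommRing B] [Algebra A B]
    (T : Submonoid B) (N : Type u) [AddCommGroup N] [Module (Localization T) N] [Module A N]
    [IsScalarTower A (Localization T) N] (h : FlatCA.HasPureSpreadout A B T N) (x : N) :
    ∃ I : Ideal A, x ∈ I • (⊤ : Submodule A N) ∧ ∀ J : Ideal A, x ∈ J • (⊤ : Submodule A N) → I ≤ J := by
  classical
  obtain ⟨C, _, _, _, _, _, _, _, _, _, _, N', _, _, _, _, g, -, -, hg, hproj, hui⟩ := h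
  haveI := hproj
  let L := Localization T
  obtain ⟨t, ht, n, hn⟩ : ∃ t ∈ T, ∃ n : N', algebraMap B L t • x = g n := by
    induction x using hg.inductionOn with
    | zero => exact ⟨1, one_mem T, 0, by simp⟩
    | tmul n => exact ⟨1, one_mem T, n, by simp⟩
    | smul l y hy =>
      obtain ⟨t, ht, n, hn⟩ := hy
      obtain ⟨⟨b, s⟩, hb⟩ := IsLocalization.surj T l
      refine ⟨s * t, mul_mem s.2 ht, algebraMap B C b • n, ?_⟩
      rw [map_smul, ← hn, ← algebraMap_smul L (algebraMap B C b) (algebraMap B L t • y),
        ← IsScalarTower.algebraMap_apply B C L, ← hb, map_mul, smul_smul, smul_smul]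
      congr 1
      ring
    | add y z hy hz =>
      obtain ⟨t, ht, n, hn⟩ := hy
      obtain ⟨s, hs, k, hk⟩ := hz
      refine ⟨t * s, mul_mem ht hs, algebraMap B C s • n + algebraMap B C t • k, ?_⟩
      rw [map_add, map_smul, map_smul, ← hn, ← hk, ← algebraMap_smul L (algebraMap B C s) (algebraMap B L t • y),
        ← algebraMap_smul L (algebraMap B C t) (algebraMap B L s • z), ← IsScalarTower.algebraMap_apply B C L,
        ← IsScalarTower.algebraMap_apply B C L, smul_smul, smul_smul, smul_add, map_mul, mul_comm (algebraMap B L s)]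
  obtain ⟨s, hs⟩ := (Module.projective_def'.mp hproj)
  let c := s n
  refine ⟨Ideal.span (Set.range c), ?_, fun J hJ => ?_⟩
  · have hnI : n ∈ Ideal.span (Set.range c) • (⊤ : Submodule A N') := by
      have e : Finsupp.linearCombination A (id : N' → N') (s n) = n := LinearMap.congr_fun hs n
      rw [← e, Finsupp.linearCombination_apply]
      exact Submodule.sum_mem _ fun i _ => Submodule.smul_mem_smul (Ideal.subset_span ⟨i, rfl⟩) trivial
    obtain ⟨w, hw⟩ := IsLocalization.map_units L (⟨t, ht⟩ : T)
    have hgn : g n ∈ Ideal.span (Set.range c) • (⊤ : Submodule A N) := by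
      refine Submodule.smul_induction_on hnI (fun a ha y _ => ?_) fun a b ha hb => by rw [map_add]; exact add_mem ha hb
      rw [LinearMap.map_smul_of_tower]
      exact Submodule.smul_mem_smul ha trivial
    have hx : x = (↑w⁻¹ : L) • g n := by rw [← hn, ← hw, smul_smul, Units.inv_mul, one_smul]
    rw [hx]
    refine Submodule.smul_induction_on hgn (fun a ha y _ => ?_) fun a b ha hb => by rw [smul_add]; exact add_mem ha hb
    rw [smul_comm]
    exact Submodule.smul_mem_smul ha trivial
  · have hgn : g n ∈ J • (⊤ : Submodule A N) := by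
      rw [← hn]
      refine Submodule.smul_induction_on hJ (fun a ha y _ => ?_) fun a b ha hb => by rw [smul_add]; exact add_mem ha hb
      rw [smul_comm]
      exact Submodule.smul_mem_smul ha trivial
    have h0 : (1 : A ⧸ J) ⊗ₜ[A] n = 0 := by
      apply hui (A ⧸ J)
      rw [LinearMap.lTensor_tmul, map_zero]
      have : g n ∈ LinearMap.ker (TensorProduct.mk A (A ⧸ J) N 1) := by rwa [LinearMap.ker_tensorProductMk]
      exact this
    have hnJ : n ∈ J • (⊤ : Submodule A N') := by
      rw [← LinearMap.ker_tensorProductMk]
      exact h0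
    rw [Ideal.span_le]
    rintro _ ⟨i, rfl⟩
    show s n i ∈ J
    refine Submodule.smul_induction_on hnJ (fun a ha y _ => ?_) fun a b ha hb => by
      rw [map_add, Finsupp.add_apply]; exact add_mem ha hb
    rw [map_smul, Finsupp.smul_apply, smul_eq_mul]
    exact J.mul_mem_right _ ha

/-- Maps out of a pure spreadout which are injective at every closed point are universally injective. -/
theorem univInj {A B : Type u} [CommRing A] [CommRing B] [Algebra A B]
    (T : Submonoid B) (N : Type u) [AddCommGroup N] [Module (Localization T) N] [Module A N]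
    [IsScalarTower A (Localization T) N] (h : FlatCA.HasPureSpreadout A B T N)
    (M : Type u) [AddCommGroup M] [Module A M] [Module.Flat A M] (u : N →ₗ[A] M)
    (hu : ∀ (m : Ideal A) [m.IsMaximal], Function.Injective (u.lTensor (A ⧸ m))) : FlatCA.UnivInj A u := by
  classical
  obtain ⟨C, _, _, _, _, _, _, _, _, _, _, N', _, _, _, _, g, -, -, hg, hproj, hui⟩ := h
  haveI := hproj
  let L := Localization T
  haveI : SMulCommClass L A N := inferInstance
  let sh : T → (N' →ₗ[A] N) := fun t =>
    ((LinearMap.lsmul L N ↑(IsLocalization.map_units L t).unit⁻¹).restrictScalars A).comp (g.restrictScalars A)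
  have hsh : ∀ (t t' : T) (n : N'), sh (t * t') (algebraMap B C t' • n) = sh t n := by
    intro t t' n
    show (↑(IsLocalization.map_units L (t * t')).unit⁻¹ : L) • g (algebraMap B C t' • n) =
      (↑(IsLocalization.map_units L t).unit⁻¹ : L) • g n
    rw [map_smul, ← algebraMap_smul L (algebraMap B C t') (g n), ← IsScalarTower.algebraMap_apply B C L, smul_smul]
    congr 1
    apply (IsLocalization.map_units L (t * t')).mul_left_cancel
    rw [← mul_assoc, IsUnit.mul_val_inv, one_mul, Submonoid.coe_mul, map_mul, mul_comm (algebraMap B L t),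
      mul_assoc, IsUnit.mul_val_inv, mul_one]
  intro Q _ _
  have hgen : ∀ z : Q ⊗[A] N, ∃ (t : T) (w : Q ⊗[A] N'), (sh t).lTensor Q w = z := by
    intro z
    induction z with
    | zero => exact ⟨1, 0, map_zero _⟩
    | tmul q x =>
      induction x using hg.inductionOn with
      | zero => exact ⟨1, 0, by simp⟩
      | tmul n =>
        refine ⟨1, q ⊗ₜ n, ?_⟩
        rw [LinearMap.lTensor_tmul]
        congr 1
        show (↑(IsLocalization.map_units L (1 : T)).unit⁻¹ : L) • g n = g n
        have h1 : (↑(IsLocalization.map_units L (1 : T)).unit⁻¹ : L) = 1 := by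
          apply (IsLocalization.map_units L (1 : T)).mul_left_cancel
          rw [IsUnit.mul_val_inv, mul_one]
          exact (map_one (algebraMap B L)).symm
        rw [h1, one_smul]
      | smul l y hy =>
        obtain ⟨t, w, hw⟩ := hy
        obtain ⟨⟨b, s⟩, hb⟩ := IsLocalization.surj T l
        have hl : l = algebraMap B L b * ↑(IsLocalization.map_units L s).unit⁻¹ := by
          rw [← hb, mul_assoc, IsUnit.mul_val_inv, mul_one]
        refine ⟨s * t, (((LinearMap.lsmul C N' (algebraMap B C b)).restrictScalars A).lTensor Q) w, ?_⟩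
        have e : (sh (s * t)).comp ((LinearMap.lsmul C N' (algebraMap B C b)).restrictScalars A) =
            ((LinearMap.lsmul L N l).restrictScalars A).comp (sh t) := LinearMap.ext fun n => by
          show (↑(IsLocalization.map_units L (s * t)).unit⁻¹ : L) • g (algebraMap B C b • n) =
            l • ((↑(IsLocalization.map_units L t).unit⁻¹ : L) • g n)
          rw [map_smul, ← algebraMap_smul L (algebraMap B C b) (g n), ← IsScalarTower.algebraMap_apply B C L, smul_smul,
            smul_smul, hl]
          congr 1
          apply (IsLocalization.map_units L (s * t)).mul_left_cancel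
          rw [← mul_assoc, IsUnit.mul_val_inv, one_mul, Submonoid.coe_mul, map_mul]
          symm
          calc algebraMap B L ↑s * algebraMap B L ↑t *
                (algebraMap B L b * ↑(IsLocalization.map_units L s).unit⁻¹ * ↑(IsLocalization.map_units L t).unit⁻¹)
              = algebraMap B L b * (algebraMap B L ↑s * ↑(IsLocalization.map_units L s).unit⁻¹) *
                (algebraMap B L ↑t * ↑(IsLocalization.map_units L t).unit⁻¹) := by ring
            _ = algebraMap B L b := by rw [IsUnit.mul_val_inv, IsUnit.mul_val_inv, mul_one, mul_one]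
        rw [← LinearMap.lTensor_comp_apply, e, LinearMap.lTensor_comp_apply, hw, LinearMap.lTensor_tmul]
        rfl
      | add y y' hy hy' =>
        obtain ⟨t, w, hw⟩ := hy
        obtain ⟨t', w', hw'⟩ := hy'
        refine ⟨t * t', (((LinearMap.lsmul C N' (algebraMap B C t')).restrictScalars A).lTensor Q) w +
          (((LinearMap.lsmul C N' (algebraMap B C t)).restrictScalars A).lTensor Q) w', ?_⟩
        rw [map_add, TensorProduct.tmul_add, ← hw, ← hw', ← LinearMap.lTensor_comp_apply, ← LinearMap.lTensor_comp_apply]
        congr 1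
        · rw [show (sh (t * t')).comp ((LinearMap.lsmul C N' (algebraMap B C t')).restrictScalars A) = sh t from
            LinearMap.ext fun n => hsh t t' n]
        · rw [show (sh (t * t')).comp ((LinearMap.lsmul C N' (algebraMap B C t)).restrictScalars A) = sh t' from
            LinearMap.ext fun n => by rw [mul_comm t t']; exact hsh t' t n]
    | add y y' hy hy' =>
      obtain ⟨t, w, hw⟩ := hy
      obtain ⟨t', w', hw'⟩ := hy'
      refine ⟨t * t', (((LinearMap.lsmul C N' (algebraMap B C t')).restrictScalars A).lTensor Q) w +
        (((LinearMap.lsmul C N' (algebraMap B C t)).restrictScalars A).lTensor Q) w', ?_⟩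
      rw [map_add, ← hw, ← hw', ← LinearMap.lTensor_comp_apply, ← LinearMap.lTensor_comp_apply]
      congr 1
      · rw [show (sh (t * t')).comp ((LinearMap.lsmul C N' (algebraMap B C t')).restrictScalars A) = sh t from
          LinearMap.ext fun n => hsh t t' n]
      · rw [show (sh (t * t')).comp ((LinearMap.lsmul C N' (algebraMap B C t)).restrictScalars A) = sh t' from
          LinearMap.ext fun n => by rw [mul_comm t t']; exact hsh t' t n]
  rw [injective_iff_map_eq_zero]
  intro z hz
  obtain ⟨t, w, rfl⟩ := hgen z
  have hunit : ∀ (R : Type u) [AddCommGroup R] [Module A R], Function.Injective ((sh t).lTensor R) := by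
    intro R _ _
    let v := (IsLocalization.map_units L t).unit
    let e : N ≃ₗ[A] N := (LinearEquiv.smulOfUnit v⁻¹ : N ≃ₗ[L] N).restrictScalars A
    have hcomp : sh t = e.toLinearMap.comp (g.restrictScalars A) := LinearMap.ext fun _ => rfl
    rw [hcomp, LinearMap.lTensor_comp]
    exact (LinearEquiv.lTensor R e).injective.comp (hui R)
  have hinj := univInj_of_maximal (u.comp (sh t)) (fun m _ => by
    rw [LinearMap.lTensor_comp]
    exact (hu m).comp (hunit _)) Q
  rw [hinj (show (u.comp (sh t)).lTensor Q w = (u.comp (sh t)).lTensor Q 0 by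
    rw [map_zero, LinearMap.lTensor_comp_apply]; exact hz), map_zero]

end Groth.RaynaudGruson.SpreadoutUnivInj
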