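import Groth.Agent.RaynaudGruson.ImpurityWit
import Groth.Agent.RaynaudGruson.ImpurityDescent
import Groth.Agent.RaynaudGruson.DevissageFree
import Groth.Agent.Flatmor4.CompleteDevissageBC
import Groth.Agent.RaynaudGruson.PureSpreadout
import Mathlib

/-!
`A' ⊗ B` acting on `A' ⊗ M`, and flatness of `A' ⊗ M` above a pair of points along the steps of a dévissage.
-/

set_option autoImplicit false
set_option linter.style.haveILetI false
universe u

open TensorProduct IsLocalRing

namespace Groth.RaynaudGruson.TensorAction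

variable {A A' : Type u} [CommRing A] [CommRing A'] [Algebra A A']

/-- The action of `A' ⊗ B` on `A' ⊗ M`. -/
@[instance_reducible]
noncomputable def tModule (B : Type u) [CommRing B] [Algebra A B] (M : Type u) [AddCommGroup M] [Module B M] [Module A M]
    [IsScalarTower A B M] : Module (A' ⊗[A] B) (A' ⊗[A] M) :=
  Module.compHom _ (act M (AlgHom.id A A') : A' ⊗[A] B →ₐ[A] Module.End A' (A' ⊗[A] M)).toRingHom

attribute [local instance] tModule

section basic

variable {B : Type u} [CommRing B] [Algebra A B] {M : Type u} [AddCommGroup M] [Module B M] [Module A M]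
  [IsScalarTower A B M]

@[simp] theorem tmul_smul_tmul (a c : A') (b : B) (m : M) :
    (a ⊗ₜ[A] b) • (c ⊗ₜ[A] m) = (a * c) ⊗ₜ[A] (b • m) :=
  act_tmul M (AlgHom.id A A') a b c m

instance isScalarTower_left : IsScalarTower A' (A' ⊗[A] B) (A' ⊗[A] M) := IsScalarTower.of_algebraMap_smul fun a z => by
  induction z with
  | zero => rw [smul_zero, smul_zero]
  | tmul c m => simp [Algebra.TensorProduct.algebraMap_apply, smul_tmul']
  | add x y hx hy => rw [smul_add, smul_add, hx, hy]

/-- A `B`-linear map tensored with `A'`. -/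
noncomputable def tMap {N : Type u} [AddCommGroup N] [Module B N] [Module A N] [IsScalarTower A B N] (φ : M →ₗ[B] N) :
    (A' ⊗[A] M) →ₗ[A' ⊗[A] B] (A' ⊗[A] N) :=
  { toFun := (φ.restrictScalars A).lTensor A'
    map_add' := map_add _
    map_smul' := fun w z => by
      rw [RingHom.id_apply]
      induction w with
      | zero => rw [zero_smul, zero_smul, map_zero]
      | add v w hv hw => rw [add_smul, add_smul, map_add, hv, hw]
      | tmul a b =>
        induction z with
        | zero => rw [smul_zero, map_zero, smul_zero]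
        | add x y hx hy => rw [smul_add, map_add, map_add, smul_add, hx, hy]
        | tmul c m => simp }

theorem tMap_apply {N : Type u} [AddCommGroup N] [Module B N] [Module A N] [IsScalarTower A B N] (φ : M →ₗ[B] N)
    (z : A' ⊗[A] M) : tMap φ z = (φ.restrictScalars A).lTensor A' z := rfl

end basic

/-- Change of the acting ring. -/
theorem map_smul_eq {B C : Type u} [CommRing B] [Algebra A B] [CommRing C] [Algebra A C] [Algebra B C] [IsScalarTower A B C]
    {M : Type u} [AddCommGroup M] [Module B M] [Module C M] [IsScalarTower B C M] [Module A M] [IsScalarTower A B M]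
    [IsScalarTower A C M] (w : A' ⊗[A] B) (z : A' ⊗[A] M) :
    Algebra.TensorProduct.map (AlgHom.id A A') (IsScalarTower.toAlgHom A B C) w • z = w • z := by
  induction w with
  | zero => rw [map_zero, zero_smul, zero_smul]
  | add v w hv hw => rw [map_add, add_smul, add_smul, hv, hw]
  | tmul a b =>
    induction z with
    | zero => rw [smul_zero, smul_zero]
    | add x y hx hy => rw [smul_add, smul_add, hx, hy]
    | tmul c m => simp

/-- `A' ⊗ M` is flat over `A'` at all points over `m'` and `q`, elementwise. -/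
def Above (A : Type u) [CommRing A] [Algebra A A'] (m' : Ideal A') {B : Type u} [CommRing B] [Algebra A B] (q : Ideal B) (M : Type u) [AddCommGroup M] [Module B M]
    [Module A M] [IsScalarTower A B M] : Prop :=
  ∀ (Q : Ideal (A' ⊗[A] B)) [Q.IsPrime], Q.comap (algebraMap A' (A' ⊗[A] B)) = m' →
    Q.comap (Algebra.TensorProduct.includeRight : B →ₐ[A] A' ⊗[A] B) = q →
    FlatPred.Pred A' Q.primeCompl (A' ⊗[A] M)

/-- Transport along an isomorphism. -/
theorem Above.of_equiv {m' : Ideal A'} {B : Type u} [CommRing B] [Algebra A B] {q : Ideal B}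
    {M N : Type u} [AddCommGroup M] [Module B M] [Module A M] [IsScalarTower A B M]
    [AddCommGroup N] [Module B N] [Module A N] [IsScalarTower A B N] (e : M ≃ₗ[B] N) (h : Above A m' q M) :
    Above A m' q N := fun Q _ h1 h2 =>
  (h Q h1 h2).of_equiv (LinearEquiv.lTensor A' (e.restrictScalars A)).toAddEquiv
    (fun r z => by
      show (tMap e.toLinearMap : A' ⊗[A] M →ₗ[A' ⊗[A] B] _) (r • z) = r • (tMap e.toLinearMap : A' ⊗[A] M →ₗ[A' ⊗[A] B] _) z
      exact LinearMap.map_smul_of_tower _ r z)
    (fun w z => (tMap e.toLinearMap : A' ⊗[A] M →ₗ[A' ⊗[A] B] _).map_smul w z)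

section change

variable {B C : Type u} [CommRing B] [Algebra A B] [CommRing C] [Algebra A C] [Algebra B C] [IsScalarTower A B C]
  {M : Type u} [AddCommGroup M] [Module B M] [Module C M] [IsScalarTower B C M] [Module A M] [IsScalarTower A B M]
  [IsScalarTower A C M] {m' : Ideal A'} {qB : Ideal B} {qC : Ideal C}

theorem comap_map_left (Q : Ideal (A' ⊗[A] C)) :
    (Q.comap (Algebra.TensorProduct.map (AlgHom.id A A') (IsScalarTower.toAlgHom A B C)).toRingHom).comap
      (algebraMap A' (A' ⊗[A] B)) = Q.comap (algebraMap A' (A' ⊗[A] C)) := by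
  ext a; simp [Algebra.TensorProduct.algebraMap_apply]

theorem comap_map_right (Q : Ideal (A' ⊗[A] C)) :
    (Q.comap (Algebra.TensorProduct.map (AlgHom.id A A') (IsScalarTower.toAlgHom A B C)).toRingHom).comap
      (Algebra.TensorProduct.includeRight : B →ₐ[A] A' ⊗[A] B) =
      (Q.comap (Algebra.TensorProduct.includeRight : C →ₐ[A] A' ⊗[A] C)).comap (algebraMap B C) := by
  ext b; simp

/-- Flatness above a point gives flatness above every point over it. -/
theorem Above.up (hq : qC.comap (algebraMap B C) = qB) (h : Above A m' qB M) : Above A m' qC M := by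
  intro Q _ h1 h2
  let G := Algebra.TensorProduct.map (AlgHom.id A A') (IsScalarTower.toAlgHom A B C)
  haveI : SMulCommClass (A' ⊗[A] B) (A' ⊗[A] C) (A' ⊗[A] M) := ⟨fun v w z => by
    rw [← map_smul_eq (C := C) v (w • z), ← map_smul_eq (C := C) v z, smul_comm]⟩
  refine (h (Q.comap G.toRingHom) ((comap_map_left Q).trans h1) ((comap_map_right Q).trans (h2 ▸ hq))).of_dvd ?_
  intro u hu
  exact ⟨G u, 1, hu, fun z => by rw [one_smul]; exact (map_smul_eq u z).symm⟩

/-- The elements trivialising a relation form an ideal. -/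
theorem exists_trivIdeal {R T : Type u} [CommRing R] [CommRing T] [Algebra R T] {X : Type u} [AddCommGroup X] [Module T X]
    [Module R X] [IsScalarTower R T X] {l : ℕ} (f : Fin l → R) (a : Fin l → X) :
    ∃ G : Ideal T, ∀ v, v ∈ G ↔ ∃ (k : ℕ) (d : Fin l → Fin k → R) (y : Fin k → X),
      (∀ i, v • a i = ∑ j, d i j • y j) ∧ ∀ j, ∑ i, f i * d i j = 0 := by
  refine ⟨{ carrier := {v | ∃ (k : ℕ) (d : Fin l → Fin k → R) (y : Fin k → X),
      (∀ i, v • a i = ∑ j, d i j • y j) ∧ ∀ j, ∑ i, f i * d i j = 0}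
            add_mem' := ?_, zero_mem' := ?_, smul_mem' := ?_ }, fun v => Iff.rfl⟩
  · rintro v w ⟨k, d, y, hy, hd⟩ ⟨k', d', y', hy', hd'⟩
    refine ⟨k + k', fun i => Fin.append (d i) (d' i), Fin.append y y', fun i => ?_, fun j => ?_⟩
    · rw [add_smul, hy, hy', Fin.sum_univ_add]
      simp
    · refine Fin.addCases (fun j => ?_) (fun j => ?_) j
      · simpa using hd j
      · simpa using hd' j
  · exact ⟨0, fun _ => Fin.elim0, Fin.elim0, fun i => by simp, fun j => j.elim0⟩
  · rintro c v ⟨k, d, y, hy, hd⟩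
    refine ⟨k, d, fun j => c • y j, fun i => ?_, hd⟩
    rw [smul_eq_mul, mul_smul, hy, Finset.smul_sum]
    exact Finset.sum_congr rfl fun j _ => smul_comm c (d i j) (y j)

/-- Flatness above a point that is alone over its contraction is flatness above the contraction. -/
theorem Above.down [Algebra.IsIntegral B C] [qB.IsPrime]
    (huniq : ∀ (Q : Ideal C) [Q.IsPrime], Q.LiesOver qB → Q = qC) (h : Above A m' qC M) : Above A m' qB M := by
  intro y _ h1 h2 l f a hrel
  let G := Algebra.TensorProduct.map (AlgHom.id A A') (IsScalarTower.toAlgHom A B C)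
  letI : Algebra (A' ⊗[A] B) (A' ⊗[A] C) := G.toRingHom.toAlgebra
  haveI : Algebra.IsIntegral (A' ⊗[A] B) (A' ⊗[A] C) := by
    refine ⟨fun z => ?_⟩
    induction z with
    | zero => exact isIntegral_zero
    | add x y hx hy => exact hx.add hy
    | tmul r c =>
      rw [show r ⊗ₜ[A] c = algebraMap (A' ⊗[A] B) (A' ⊗[A] C) (r ⊗ₜ 1) * ((1 : A') ⊗ₜ c) by
        show _ = G (r ⊗ₜ 1) * _
        simp [G, Algebra.TensorProduct.tmul_mul_tmul]]
      refine isIntegral_algebraMap.mul ?_
      obtain ⟨p, hp, hpc⟩ := Algebra.IsIntegral.isIntegral (R := B) c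
      refine ⟨p.map (Algebra.TensorProduct.includeRight : B →ₐ[A] A' ⊗[A] B).toRingHom, hp.map _, ?_⟩
      rw [Polynomial.eval₂_map]
      have hcomp : (algebraMap (A' ⊗[A] B) (A' ⊗[A] C)).comp (Algebra.TensorProduct.includeRight : B →ₐ[A] A' ⊗[A] B).toRingHom =
          (Algebra.TensorProduct.includeRight : C →ₐ[A] A' ⊗[A] C).toRingHom.comp (algebraMap B C) := by
        ext b
        show G ((1 : A') ⊗ₜ b) = (1 : A') ⊗ₜ algebraMap B C b
        simp [G]
      rw [hcomp, show ((1 : A') ⊗ₜ[A] c) = (Algebra.TensorProduct.includeRight : C →ₐ[A] A' ⊗[A] C).toRingHom c from rfl,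
        ← Polynomial.hom_eval₂, hpc, map_zero]
  obtain ⟨I, hI⟩ := exists_trivIdeal (T := A' ⊗[A] C) f a
  by_contra hcon
  have hle : I.comap (algebraMap (A' ⊗[A] B) (A' ⊗[A] C)) ≤ y := by
    intro v hv
    by_contra hvy
    obtain ⟨k, d, z, hz, hd⟩ := (hI _).mp hv
    exact hcon ⟨v, hvy, k, d, z, fun i => by rw [← hz i]; exact (map_smul_eq v (a i)).symm, hd⟩
  obtain ⟨Q, hIQ, hQ, hQy⟩ := Ideal.exists_ideal_over_prime_of_isIntegral y I hle
  haveI := hQ
  have e1 : Q.comap (algebraMap A' (A' ⊗[A] C)) = m' := by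
    rw [← comap_map_left (B := B) Q, ← h1, ← hQy]
    rfl
  have e2 : Q.comap (Algebra.TensorProduct.includeRight : C →ₐ[A] A' ⊗[A] C) = qC := by
    refine huniq _ ⟨?_⟩
    show qB = (Q.comap (Algebra.TensorProduct.includeRight : C →ₐ[A] A' ⊗[A] C)).comap (algebraMap B C)
    rw [← comap_map_right (A := A) (A' := A') Q, ← h2, ← hQy]
    rfl
  obtain ⟨u, hu, hua⟩ := hrel
  obtain ⟨v, hv, k, d, z, hz, hd⟩ := h Q e1 e2 l f a ⟨G u, fun hmem => hu (hQy.le hmem), by
    rw [map_smul_eq]; exact hua⟩
  exact hv (hIQ ((hI v).mpr ⟨k, d, z, hz, hd⟩))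

end change

section step

variable {B : Type u} [CommRing B] [Algebra A B] {M : Type u} [AddCommGroup M] [Module B M] [Module A M] [IsScalarTower A B M]

attribute [local instance] Algebra.TensorProduct.rightAlgebra

theorem isBaseChange_mk [Module B (A' ⊗[A] M)] [IsScalarTower B (A' ⊗[A] B) (A' ⊗[A] M)] (g : M →ₗ[B] A' ⊗[A] M)
    (hg : ∀ m, g m = (1 : A') ⊗ₜ[A] m) : IsBaseChange (A' ⊗[A] B) g := by
  haveI : Algebra.IsPushout A A' B (A' ⊗[A] B) := inferInstance
  haveI : IsScalarTower A (A' ⊗[A] B) (A' ⊗[A] M) := IsScalarTower.of_algebraMap_smul fun r z => by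
    rw [IsScalarTower.algebraMap_apply A A' (A' ⊗[A] B), algebraMap_smul, algebraMap_smul]
  haveI : IsScalarTower A B (A' ⊗[A] M) := IsScalarTower.of_algebraMap_smul fun r z => by
    rw [← algebraMap_smul (A' ⊗[A] B) (algebraMap A B r) z, ← IsScalarTower.algebraMap_apply, algebraMap_smul]
  refine PureSpreadout.isBaseChange_of_pushout (A := A) (A₁ := A') g ?_
  rw [show g.restrictScalars A = TensorProduct.mk A A' M 1 from LinearMap.ext hg]
  exact TensorProduct.isBaseChange A M A'

set_option maxHeartbeats 1600000 in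
/-- One step of the dévissage: the free module injects and the cokernel stays flat above. -/
theorem step [IsLocalRing A] [IsLocalRing A'] [IsLocalHom (algebraMap A A')] [Module.Free A B] [Algebra.Smooth A B]
    (hgeo : FlatCA.GeomIrredFibres A B) [hP : ((maximalIdeal A).map (algebraMap A B)).IsPrime] [Module.Finite B M]
    {r : ℕ} (α : (Fin r → B) →ₗ[B] M)
    (hbij : Function.Bijective (α.baseChange ((maximalIdeal A).map (algebraMap A B)).ResidueField))
    (qB : Ideal B) [qB.IsPrime] [qB.LiesOver (maximalIdeal A)]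
    {L : Type u} [AddCommGroup L] [Module B L] [Module A L] [IsScalarTower A B L] (π : M →ₗ[B] L)
    (hπ : Function.Surjective π) (hex : Function.Exact α π)
    (h : Above A (maximalIdeal A') qB M) :
    Function.Injective ((α.restrictScalars A).lTensor A') ∧ Above A (maximalIdeal A') qB L := by
  classical
  let m := maximalIdeal A
  let m' := maximalIdeal A'
  haveI hover : m'.LiesOver m := ⟨(IsLocalRing.maximalIdeal_comap _).symm⟩
  let B' := A' ⊗[A] B
  haveI : Algebra.IsPushout A A' B B' := inferInstance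
  let P' : Ideal B' := m'.map (algebraMap A' B')
  haveI : P'.IsPrime := Groth.Flatmor4.isPrime_map_baseChange (R := A) (R' := A') (B := B) hgeo m'
  letI : Module B (A' ⊗[A] M) :=
    Module.compHom _ (Algebra.TensorProduct.includeRight : B →ₐ[A] A' ⊗[A] B).toRingHom
  haveI : IsScalarTower B B' (A' ⊗[A] M) := IsScalarTower.of_algebraMap_smul fun _ _ => rfl
  let gY : M →ₗ[B] A' ⊗[A] M :=
    { toFun := fun m => (1 : A') ⊗ₜ[A] m
      map_add' := tmul_add _
      map_smul' := fun b m => by
        show (1 : A') ⊗ₜ[A] (b • m) = ((1 : A') ⊗ₜ[A] b) • ((1 : A') ⊗ₜ[A] m)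
        simp }
  have hgY : IsBaseChange B' gY := isBaseChange_mk gY fun _ => rfl
  haveI : Module.Finite B' (A' ⊗[A] M) := Module.Finite.equiv hgY.equiv
  have hX := Groth.Flatmor4.isBaseChange_pi B B' r
  let α' : (Fin r → B') →ₗ[B'] A' ⊗[A] M := hX.lift (gY ∘ₗ α)
  have hc : ∀ x, α' (((Algebra.linearMap B B').compLeft (Fin r)) x) = gY (α x) := fun x => hX.lift_eq _ x
  let Φ : A' ⊗[A] (Fin r → B) →ₗ[A'] (Fin r → B') := TensorProduct.piRightHom A A' A' (fun _ : Fin r => B)
  have hΦ : Function.Bijective Φ := (TensorProduct.piRight A A' A' (fun _ : Fin r => B)).bijective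
  have hfac : ∀ z, α' (Φ z) = (α.restrictScalars A).lTensor A' z := by
    intro z
    induction z with
    | zero => simp
    | add x y hx hy => rw [map_add, map_add, hx, hy, map_add]
    | tmul c x =>
      have h1 : Φ (c ⊗ₜ x) = c • ((Algebra.linearMap B B').compLeft (Fin r)) x := by
        funext i
        simp only [Φ, TensorProduct.piRightHom_tmul, Pi.smul_apply, LinearMap.compLeft_apply, Function.comp_apply, Algebra.linearMap_apply]
        show c ⊗ₜ[A] x i = c • ((1 : A') ⊗ₜ[A] x i)
        rw [smul_tmul', smul_eq_mul, mul_one]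
      rw [h1, LinearMap.map_smul_of_tower, hc]
      show c • ((1 : A') ⊗ₜ[A] α x) = c ⊗ₜ[A] α x
      rw [smul_tmul', smul_eq_mul, mul_one]
  have hfib : Function.Bijective (α'.baseChange P'.ResidueField) := by
    let P₀ : Ideal B := m.map (algebraMap A B)
    have hund : P₀ = P'.under B := Groth.Flatmor4.map_eq_under_map_baseChange m m'
    letI : Algebra P₀.ResidueField P'.ResidueField :=
      (Ideal.ResidueField.mapₐ P₀ P' (Algebra.ofId B B') hund).toRingHom.toAlgebra
    haveI : IsScalarTower B P₀.ResidueField P'.ResidueField := .of_algebraMap_eq fun x =>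
      ((Ideal.ResidueField.mapₐ P₀ P' (Algebra.ofId B B') hund).commutes x).symm
    exact Groth.Flatmor4.bijective_baseChange_of_bijective (K := P₀.ResidueField) (L := P'.ResidueField) hX hgY α α' hc hbij
  -- a point over `qB` and `m'`
  obtain ⟨Ω, _, _, ι, φ, hι, hφ⟩ := exists_field_point m qB m'
  let y := pointTensor ι φ
  have hy1 : y.comap (algebraMap A' B') = m' := (pointTensor_liesOver ι φ m' hφ).over.symm
  have hy2 : y.comap (Algebra.TensorProduct.includeRight : B →ₐ[A] B') = qB := by
    ext b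
    simp [y, pointTensor, ← hι, RingHom.mem_ker]
  have hyP : y.primeCompl ≤ P'.primeCompl := fun b hb hmem =>
    hb ((Ideal.map_le_iff_le_comap.mpr hy1.ge) hmem)
  have hpredP : FlatPred.Pred A' P'.primeCompl (A' ⊗[A] M) := (h y hy1 hy2).mono hyP
  have hinj := DevissageFlat.injective P' α' rfl hfib hpredP
  refine ⟨fun x z hxz => hΦ.1 (hinj (by rw [hfac, hfac, hxz])), fun Q _ hQ1 hQ2 => ?_⟩
  have hexT : Function.Exact ((α.restrictScalars A).lTensor A') ((π.restrictScalars A).lTensor A') :=
    lTensor_exact A' hex hπ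
  refine DevissageFlat.pred_coker P' α' rfl hfib hpredP (tMap π)
    (LinearMap.lTensor_surjective A' (g := π.restrictScalars A) hπ) ?_ (h Q hQ1 hQ2)
  ext z
  constructor
  · intro hz
    obtain ⟨w, hw⟩ := (hexT z).mp hz
    exact ⟨Φ w, (hfac w).trans hw⟩
  · rintro ⟨w, rfl⟩
    obtain ⟨w, rfl⟩ := hΦ.2 w
    rw [hfac]
    exact (hexT _).mpr ⟨w, rfl⟩

end step

end Groth.RaynaudGruson.TensorAction
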