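import Groth.Agent.RaynaudGruson.DevissageFree
import Mathlib

/-!
A substitute for flatness over a local ring: the obstructions `ker (M ⊗ Q → M ⊗ Q')` vanish modulo the maximal
ideal. It is what a map into a flat module, injective modulo the maximal ideal, provides, and it is enough to run
a dévissage.
-/

set_option autoImplicit false
set_option linter.dupNamespace false
set_option linter.style.haveILetI false
universe u

open TensorProduct IsLocalRing

namespace Groth.RaynaudGruson.TorMin

variable (R : Type u) [CommRing R] [IsLocalRing R]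

/-- The kernels of `M ⊗ Q → M ⊗ Q'` lie in `m (M ⊗ Q)` after multiplying by an element of `U`. -/
def TorMin {A : Type u} [CommRing A] (U : Submonoid A) (M : Type u) [AddCommGroup M] [Module A M] [Module R M]
    [SMulCommClass R A M] : Prop :=
  ∀ (Q Q' : Type u) [AddCommGroup Q] [Module R Q] [AddCommGroup Q'] [Module R Q'] (j : Q →ₗ[R] Q'),
    Function.Injective j → ∀ z : M ⊗[R] Q, j.lTensor M z = 0 →
      ∃ v ∈ U, v • z ∈ maximalIdeal R • (⊤ : Submodule R (M ⊗[R] Q))

variable {R}

theorem smul_mem {A M : Type u} [CommRing A] [AddCommGroup M] [Module A M] [Module R M] [SMulCommClass R A M]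
    (a : A) {x : M} (hx : x ∈ maximalIdeal R • (⊤ : Submodule R M)) :
    a • x ∈ maximalIdeal R • (⊤ : Submodule R M) := by
  refine Submodule.smul_induction_on hx (fun r hr w _ => ?_) fun y z hy hz => by rw [smul_add]; exact add_mem hy hz
  rw [← smul_comm]
  exact Submodule.smul_mem_smul hr trivial

theorem map_mem {X Y : Type u} [AddCommGroup X] [Module R X] [AddCommGroup Y] [Module R Y] (f : X →ₗ[R] Y) {x : X}
    (hx : x ∈ maximalIdeal R • (⊤ : Submodule R X)) : f x ∈ maximalIdeal R • (⊤ : Submodule R Y) := by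
  refine Submodule.smul_induction_on hx (fun r hr w _ => ?_) fun y z hy hz => by rw [map_add]; exact add_mem hy hz
  rw [map_smul]
  exact Submodule.smul_mem_smul hr trivial

variable {A : Type u} [CommRing A] {M : Type u} [AddCommGroup M] [Module A M] [Module R M] [SMulCommClass R A M]

theorem smul_lTensor {Q Q' : Type u} [AddCommGroup Q] [Module R Q] [AddCommGroup Q'] [Module R Q']
    (j : Q →ₗ[R] Q') (a : A) (z : M ⊗[R] Q) : j.lTensor M (a • z) = a • j.lTensor M z := by
  induction z with
  | zero => simp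
  | tmul m x => rw [smul_tmul', LinearMap.lTensor_tmul, LinearMap.lTensor_tmul, smul_tmul']
  | add x y hx hy => simp only [smul_add, map_add, hx, hy]

/-- The condition is inherited by submonoids into which `U` divides. -/
theorem TorMin.of_dvd {A' : Type u} [CommRing A'] [Module A' M] [SMulCommClass R A' M]
    {U : Submonoid A} {V : Submonoid A'} (hUV : ∀ u ∈ U, ∃ (w : A') (a : A), w ∈ V ∧ ∀ m : M, a • u • m = w • m)
    (h : TorMin R U M) : TorMin R V M := by
  intro Q Q' _ _ _ _ j hj z hz
  obtain ⟨u, hu, hmem⟩ := h Q Q' j hj z hz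
  obtain ⟨w, a, hw, ha⟩ := hUV u hu
  refine ⟨w, hw, ?_⟩
  have key : ∀ z : M ⊗[R] Q, w • z = a • u • z := fun z => by
    induction z with
    | zero => simp
    | tmul m x => rw [smul_tmul', smul_tmul', smul_tmul', ha]
    | add x y hx hy => simp only [smul_add, hx, hy]
  rw [key]
  exact smul_mem a hmem

theorem TorMin.mono {U V : Submonoid A} (hUV : U ≤ V) (h : TorMin R U M) : TorMin R V M :=
  fun Q Q' _ _ _ _ j hj z hz => let ⟨v, hv, hm⟩ := h Q Q' j hj z hz; ⟨v, hUV hv, hm⟩

/-- The condition is invariant under equivariant isomorphisms. -/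
theorem TorMin.of_equiv {U : Submonoid A} {M' : Type u} [AddCommGroup M'] [Module A M'] [Module R M']
    [SMulCommClass R A M'] (e : M ≃ₗ[R] M') (hA : ∀ (a : A) (m : M), e (a • m) = a • e m) (h : TorMin R U M) :
    TorMin R U M' := by
  intro Q Q' _ _ _ _ j hj z hz
  obtain ⟨y, rfl⟩ := (LinearEquiv.rTensor Q e).surjective z
  obtain ⟨v, hv, hm⟩ := h Q Q' j hj y ((LinearEquiv.rTensor Q' e).injective (by
    rw [map_zero, ← hz]
    show e.toLinearMap.rTensor Q' (j.lTensor M y) = j.lTensor M' (e.toLinearMap.rTensor Q y)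
    rw [← LinearMap.comp_apply, ← LinearMap.comp_apply, LinearMap.rTensor_comp_lTensor,
      LinearMap.lTensor_comp_rTensor]))
  refine ⟨v, hv, ?_⟩
  have key : ∀ y : M ⊗[R] Q, e.toLinearMap.rTensor Q (v • y) = v • e.toLinearMap.rTensor Q y := fun y => by
    induction y with
    | zero => simp
    | tmul m x => simp [smul_tmul', hA]
    | add x y hx hy => simp only [smul_add, map_add, hx, hy]
  show v • e.toLinearMap.rTensor Q y ∈ _
  rw [← key]
  exact map_mem _ hm

section fibre

variable {X Y : Type u} [AddCommGroup X] [Module R X] [AddCommGroup Y] [Module R Y]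

/-- An element dying modulo `m` in the right factor lies in `m (X ⊗ Q)`. -/
theorem mem_smul_top_of_mk_eq_zero {Q : Type u} [AddCommGroup Q] [Module R Q] {w : X ⊗[R] Q}
    (h : (maximalIdeal R • (⊤ : Submodule R Q)).mkQ.lTensor X w = 0) :
    w ∈ maximalIdeal R • (⊤ : Submodule R (X ⊗[R] Q)) := by
  obtain ⟨y, rfl⟩ := (lTensor_exact X (LinearMap.exact_subtype_mkQ _) (Submodule.mkQ_surjective _) w).mp h
  induction y with
  | zero => rw [map_zero]; exact zero_mem _
  | add a b ha hb =>
    rw [map_add]
    exact add_mem (ha (by rw [← LinearMap.comp_apply, ← LinearMap.lTensor_comp,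
      (LinearMap.exact_subtype_mkQ _).linearMap_comp_eq_zero, LinearMap.lTensor_zero, LinearMap.zero_apply]))
      (hb (by rw [← LinearMap.comp_apply, ← LinearMap.lTensor_comp,
      (LinearMap.exact_subtype_mkQ _).linearMap_comp_eq_zero, LinearMap.lTensor_zero, LinearMap.zero_apply]))
  | tmul m y =>
    have key : ∀ y ∈ maximalIdeal R • (⊤ : Submodule R Q),
        m ⊗ₜ[R] y ∈ maximalIdeal R • (⊤ : Submodule R (X ⊗[R] Q)) := fun y hy => by
      refine Submodule.smul_induction_on hy (fun a ha w _ => ?_) fun a b ha hb => by rw [tmul_add]; exact add_mem ha hb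
      rw [tmul_smul]
      exact Submodule.smul_mem_smul ha trivial
    exact key y y.2

/-- Elements of `m (X ⊗ Q)` die modulo `m`. -/
theorem mk_eq_zero_of_mem {Q : Type u} [AddCommGroup Q] [Module R Q] {w : X ⊗[R] Q}
    (h : w ∈ maximalIdeal R • (⊤ : Submodule R (X ⊗[R] Q))) :
    (maximalIdeal R • (⊤ : Submodule R Q)).mkQ.lTensor X w = 0 := by
  refine Submodule.smul_induction_on h (fun a ha y _ => ?_) fun a b ha hb => by rw [map_add, ha, hb, add_zero]
  rw [map_smul]
  induction y with
  | zero => simp
  | add a b ha hb => rw [map_add, smul_add, ha trivial, hb trivial, add_zero]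
  | tmul m x =>
    rw [LinearMap.lTensor_tmul, ← tmul_smul, ← map_smul, Submodule.mkQ_apply,
      (Submodule.Quotient.mk_eq_zero _).mpr (Submodule.smul_mem_smul ha (Submodule.mem_top (x := x))), tmul_zero]

/-- A map injective modulo `m` stays injective after tensoring with modules killed by `m`. -/
theorem rTensor_injective_of_mod (g : X →ₗ[R] Y)
    (hg : ∀ x, g x ∈ maximalIdeal R • (⊤ : Submodule R Y) → x ∈ maximalIdeal R • (⊤ : Submodule R X))
    {V : Type u} [AddCommGroup V] [Module R V] (hV : ∀ a ∈ maximalIdeal R, ∀ v : V, a • v = 0) :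
    Function.Injective (g.rTensor V) := by
  let k := R ⧸ maximalIdeal R
  letI : Field k := Ideal.Quotient.field (maximalIdeal R)
  let T := k ⊗[R] X
  let T' := k ⊗[R] Y
  let G : T →ₗ[k] T' := g.baseChange k
  have hG : Function.Injective G := by
    have hs : ∀ t : T, ∃ x, (1 : k) ⊗ₜ[R] x = t := fun t => by
      induction t using TensorProduct.induction_on with
      | zero => exact ⟨0, tmul_zero _ _⟩
      | tmul a x =>
        obtain ⟨a, rfl⟩ := Ideal.Quotient.mk_surjective a
        exact ⟨a • x, by rw [tmul_smul, smul_tmul', Algebra.smul_def, mul_one]; rfl⟩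
      | add a b ha hb =>
        obtain ⟨x, hx⟩ := ha
        obtain ⟨y, hy⟩ := hb
        exact ⟨x + y, by rw [tmul_add, hx, hy]⟩
    refine (injective_iff_map_eq_zero _).mpr fun t ht => ?_
    obtain ⟨x, rfl⟩ := hs t
    have h1 := congrArg (TensorProduct.quotTensorEquivQuotSMul Y (maximalIdeal R)) ht
    rw [LinearMap.baseChange_tmul, map_zero] at h1
    have h2 : g x ∈ maximalIdeal R • (⊤ : Submodule R Y) := by
      rwa [← map_one (Ideal.Quotient.mk (maximalIdeal R)), TensorProduct.quotTensorEquivQuotSMul_mk_tmul, one_smul,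
        Submodule.Quotient.mk_eq_zero] at h1
    refine (TensorProduct.quotTensorEquivQuotSMul X (maximalIdeal R)).injective ?_
    rw [map_zero, ← map_one (Ideal.Quotient.mk (maximalIdeal R)), TensorProduct.quotTensorEquivQuotSMul_mk_tmul,
      one_smul, Submodule.Quotient.mk_eq_zero]
    exact hg x h2
  let V' := k ⊗[R] V
  have hGV : Function.Injective (G.rTensor V') := Module.Flat.rTensor_preserves_injective_linearMap G hG
  let c := AlgebraTensorModule.cancelBaseChange R k k T V
  let c' := AlgebraTensorModule.cancelBaseChange R k k T' V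
  have hc : ∀ w : T ⊗[k] V', c' (G.rTensor V' w) = (G.restrictScalars R).rTensor V (c w) := by
    intro w
    induction w using TensorProduct.induction_on with
    | zero => simp
    | add a b ha hb => simp only [map_add, ha, hb]
    | tmul t v =>
      induction v using TensorProduct.induction_on with
      | zero => simp
      | add a b ha hb => simp only [tmul_add, map_add, ha, hb]
      | tmul a y =>
        show (a • G t) ⊗ₜ[R] y = G (a • t) ⊗ₜ[R] y
        rw [map_smul]
  have hG' : Function.Injective ((G.restrictScalars R).rTensor V) := fun a b h => by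
    obtain ⟨a', rfl⟩ := c.surjective a
    obtain ⟨b', rfl⟩ := c.surjective b
    rw [← hc, ← hc] at h
    exact congrArg c (hGV (c'.injective h))
  let ι : X →ₗ[R] T := TensorProduct.mk R k X 1
  let ι' : Y →ₗ[R] T' := TensorProduct.mk R k Y 1
  have hι : Function.Injective (ι.rTensor V) := by
    refine (injective_iff_map_eq_zero _).mpr fun z hz => ?_
    have h2 : ∀ z : X ⊗[R] V, TensorProduct.assoc R k X V (ι.rTensor V z) = (1 : k) ⊗ₜ[R] z := by
      intro z
      induction z with
      | zero => simp
      | add a b ha hb => simp only [map_add, tmul_add, ha, hb]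
      | tmul m y => rfl
    have h3 : (1 : k) ⊗ₜ[R] z = 0 := by rw [← h2, hz, map_zero]
    have h1 := congrArg (TensorProduct.quotTensorEquivQuotSMul (X ⊗[R] V) (maximalIdeal R)) h3
    rw [← map_one (Ideal.Quotient.mk (maximalIdeal R)), TensorProduct.quotTensorEquivQuotSMul_mk_tmul, one_smul,
      map_zero, Submodule.Quotient.mk_eq_zero] at h1
    have hbot : maximalIdeal R • (⊤ : Submodule R (X ⊗[R] V)) = ⊥ := by
      refine le_bot_iff.mp (Submodule.smul_le.mpr fun a ha y _ => ?_)
      induction y with
      | zero => simp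
      | add z z' hz hz' => rw [smul_add]; exact add_mem (hz trivial) (hz' trivial)
      | tmul m y => rw [← tmul_smul, hV a ha, tmul_zero]; exact zero_mem _
    rwa [hbot, Submodule.mem_bot] at h1
  intro a b hab
  apply hι
  apply hG'
  have key : ∀ z, (G.restrictScalars R).rTensor V (ι.rTensor V z) = ι'.rTensor V (g.rTensor V z) := fun z => by
    induction z with
    | zero => simp
    | add a b ha hb => simp only [map_add, ha, hb]
    | tmul m y => rfl
  rw [key, key, hab]

end fibre

/-- The content of an element of `F ⊗ Q` for free `F`. -/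
theorem exists_content {F : Type u} [AddCommGroup F] [Module R F] [Module.Free R F] {Q : Type u} [AddCommGroup Q]
    [Module R Q] (w : F ⊗[R] Q) :
    ∃ Q₀ : Submodule R Q, Q₀.FG ∧ ∃ w₀ : F ⊗[R] Q₀, Q₀.subtype.lTensor F w₀ = w ∧
      (w₀ ∈ maximalIdeal R • (⊤ : Submodule R (F ⊗[R] Q₀)) → w = 0) := by
  classical
  let b := Module.Free.chooseBasis R F
  obtain ⟨c, hc⟩ := TensorProduct.eq_repr_basis_left b w
  let Q₀ : Submodule R Q := Submodule.span R ↑(c.support.image c)
  have hcQ : ∀ i ∈ c.support, c i ∈ Q₀ := fun i hi => Submodule.subset_span (Finset.mem_image_of_mem _ hi)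
  let w₀ : F ⊗[R] Q₀ := ∑ i ∈ c.support.attach, b i.1 ⊗ₜ[R] ⟨c i.1, hcQ i.1 i.2⟩
  have hFG : Q₀.FG := Submodule.fg_span (Finset.finite_toSet _)
  refine ⟨Q₀, hFG, w₀, ?_, fun hmem => ?_⟩
  · rw [← hc, map_sum, Finsupp.sum, ← Finset.sum_attach c.support]
    rfl
  have hle : Q₀ ≤ maximalIdeal R • Q₀ := by
    refine Submodule.span_le.mpr fun y hy => ?_
    obtain ⟨i, hi, rfl⟩ := Finset.mem_image.mp hy
    let φ : F ⊗[R] Q₀ →ₗ[R] Q₀ := (TensorProduct.lid R Q₀).toLinearMap ∘ₗ (b.coord i).rTensor Q₀
    have h1 : φ w₀ = ⟨c i, hcQ i hi⟩ := by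
      rw [map_sum, Finset.sum_eq_single (⟨i, hi⟩ : {x // x ∈ c.support})]
      · simp [φ]
      · intro j _ hj
        have hne : j.1 ≠ i := fun h => hj (Subtype.ext h)
        simp [φ, Finsupp.single_eq_of_ne hne.symm]
      · exact fun h => absurd (Finset.mem_attach _ _) h
    have h2 := map_mem φ hmem
    rw [h1] at h2
    have h3 := Submodule.mem_map_of_mem (f := Q₀.subtype) h2
    rw [Submodule.map_smul'', Submodule.map_top, Submodule.range_subtype] at h3
    exact h3
  have h0 : Q₀ = ⊥ :=
    Submodule.eq_bot_of_le_smul_of_le_jacobson_bot _ _ hFG hle (IsLocalRing.maximalIdeal_le_jacobson _)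
  rw [← hc]
  refine Finset.sum_eq_zero fun i hi => ?_
  show b i ⊗ₜ[R] c i = 0
  rw [show c i = 0 from (Submodule.mem_bot R).mp (h0 ▸ hcQ i hi), tmul_zero]

/-- A map from a free module, injective modulo `m` at `U`, is universally injective. -/
theorem rTensor_injective {F : Type u} [AddCommGroup F] [Module R F] [Module.Free R F] (α : F →ₗ[R] M)
    {U : Submonoid A} (h : TorMin R U M)
    (hfib : ∀ v ∈ U, ∀ f : F, v • α f ∈ maximalIdeal R • (⊤ : Submodule R M) → f ∈ maximalIdeal R • (⊤ : Submodule R F))
    (Q : Type u) [AddCommGroup Q] [Module R Q] : Function.Injective (α.rTensor Q) := by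
  refine (injective_iff_map_eq_zero _).mpr fun w hw => ?_
  obtain ⟨Q₀, -, w₀, hw₀, hzero⟩ := exists_content w
  refine hzero (mem_smul_top_of_mk_eq_zero ?_)
  obtain ⟨v, hv, hmem⟩ := h Q₀ Q Q₀.subtype Q₀.injective_subtype (α.rTensor Q₀ w₀) (by
    rw [← LinearMap.comp_apply, LinearMap.lTensor_comp_rTensor, ← LinearMap.rTensor_comp_lTensor,
      LinearMap.comp_apply, hw₀, hw])
  let mk := (maximalIdeal R • (⊤ : Submodule R Q₀)).mkQ
  haveI := SMulCommClass.symm R A M
  let g : F →ₗ[R] M := (DistribSMul.toLinearMap R M v) ∘ₗ α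
  refine rTensor_injective_of_mod g (hfib v hv) (V := Q₀ ⧸ maximalIdeal R • (⊤ : Submodule R Q₀))
    (fun a ha y => by
      obtain ⟨y, rfl⟩ := Submodule.Quotient.mk_surjective _ y
      rw [← Submodule.Quotient.mk_smul, Submodule.Quotient.mk_eq_zero]
      exact Submodule.smul_mem_smul ha trivial) ?_
  rw [map_zero]
  refine Eq.trans ?_ (mk_eq_zero_of_mem hmem)
  have key : ∀ w : F ⊗[R] Q₀, g.rTensor _ (mk.lTensor F w) = mk.lTensor M (v • α.rTensor Q₀ w) := fun w => by
    induction w with
    | zero => simp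
    | tmul f x => simp [g, smul_tmul']
    | add a b ha hb => simp only [map_add, smul_add, ha, hb]
  exact key w₀

/-- The cokernel of a universally injective map inherits the condition. -/
theorem TorMin.coker {F L : Type u} [AddCommGroup F] [Module R F] [AddCommGroup L] [Module A L] [Module R L]
    [SMulCommClass R A L] (α : F →ₗ[R] M) (π : M →ₗ[R] L) (hπA : ∀ (a : A) (m : M), π (a • m) = a • π m)
    (hπ : Function.Surjective π) (hex : Function.Exact α π)
    (hα : ∀ (Q : Type u) [AddCommGroup Q] [Module R Q], Function.Injective (α.rTensor Q))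
    {U : Submonoid A} (h : TorMin R U M) : TorMin R U L := by
  intro Q Q' _ _ _ _ j hj z hz
  obtain ⟨y, rfl⟩ := LinearMap.rTensor_surjective Q hπ z
  obtain ⟨w, hw⟩ := (rTensor_exact Q' hex hπ (j.lTensor M y)).mp (by
    rw [← LinearMap.comp_apply, LinearMap.rTensor_comp_lTensor, ← LinearMap.lTensor_comp_rTensor,
      LinearMap.comp_apply, hz])
  obtain ⟨w₁, rfl⟩ := (lTensor_exact F (LinearMap.exact_map_mkQ_range j) (Submodule.mkQ_surjective _) w).mp
    (hα _ (by
      rw [map_zero, ← LinearMap.comp_apply, LinearMap.rTensor_comp_lTensor, ← LinearMap.lTensor_comp_rTensor,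
        LinearMap.comp_apply, hw, ← LinearMap.comp_apply, ← LinearMap.lTensor_comp,
        (LinearMap.exact_map_mkQ_range j).linearMap_comp_eq_zero, LinearMap.lTensor_zero, LinearMap.zero_apply]))
  obtain ⟨v, hv, hmem⟩ := h Q Q' j hj (y - α.rTensor Q w₁) (by
    rw [map_sub, sub_eq_zero, ← hw, ← LinearMap.comp_apply, ← LinearMap.comp_apply, LinearMap.rTensor_comp_lTensor,
      LinearMap.lTensor_comp_rTensor])
  refine ⟨v, hv, ?_⟩
  have key : ∀ y : M ⊗[R] Q, π.rTensor Q (v • y) = v • π.rTensor Q y := fun y => by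
    induction y with
    | zero => simp
    | tmul m x => simp [smul_tmul', hπA]
    | add x y hx hy => simp only [smul_add, map_add, hx, hy]
  have h1 := map_mem (π.rTensor Q) hmem
  rwa [key, map_sub, ← LinearMap.comp_apply, ← LinearMap.rTensor_comp, hex.linearMap_comp_eq_zero,
    LinearMap.rTensor_zero, LinearMap.zero_apply, sub_zero] at h1

/-- Injectivity on the fibre detects membership in `mF`. -/
theorem forall_mem_of_smul_mem {B : Type u} [CommRing B] [Algebra R B] {M : Type u} [AddCommGroup M] [Module B M]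
    [Module R M] [IsScalarTower R B M] (P : Ideal B) [P.IsPrime] {r : ℕ} (α : (Fin r → B) →ₗ[B] M)
    (hinj : Function.Injective (α.baseChange P.ResidueField)) (hP : (maximalIdeal R).map (algebraMap R B) ≤ P)
    {f : Fin r → B} {t : B} (ht : t ∉ P) (h : t • α f ∈ maximalIdeal R • (⊤ : Submodule R M)) (i : Fin r) :
    f i ∈ P := by
  have hz : ∀ y ∈ maximalIdeal R • (⊤ : Submodule R M), (1 : P.ResidueField) ⊗ₜ[B] y = 0 := fun y hy => by
    refine Submodule.smul_induction_on hy (fun c hc m _ => ?_) fun a b ha hb => by rw [tmul_add, ha, hb, add_zero]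
    rw [← algebraMap_smul B c m, tmul_smul, smul_tmul', Algebra.smul_def,
      Ideal.algebraMap_residueField_eq_zero.mpr (hP (Ideal.mem_map_of_mem _ hc)), zero_mul, zero_tmul]
  have h0 : (1 : P.ResidueField) ⊗ₜ[B] (t • f) = 0 := hinj (by
    rw [LinearMap.baseChange_tmul, map_smul, hz _ h, map_zero])
  have h1 := congrFun (congrArg (piScalarRightHom B B P.ResidueField (Fin r)) h0) i
  rw [piScalarRightHom_tmul, map_zero] at h1
  simp only [Pi.smul_apply, smul_eq_mul, Pi.zero_apply, ← Algebra.algebraMap_eq_smul_one,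
    Ideal.algebraMap_residueField_eq_zero] at h1
  exact ((Ideal.IsPrime.mem_or_mem inferInstance h1).resolve_left ht)

section devissage

variable {S : Type u} [CommRing S] [Algebra R S]
  {N : Type u} [AddCommGroup N] [Module S N] [Module R N] [IsScalarTower R S N]
  {D : FlatCA.CompleteDevissage R S N (maximalIdeal R)} {q : Ideal S} [q.IsPrime]

instance smulCommClass_A (D : FlatCA.CompleteDevissage R S N (maximalIdeal R)) (i : ℕ) :
    SMulCommClass R (D.A i) (D.M i) :=
  haveI := DevissageFree.tower_A D i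
  inferInstance

/-- The condition at the points of the dévissage. -/
theorem torMin_qB [Algebra.FinitePresentation R S] (DD : FlatCA.CompleteDevissageAt R S N (maximalIdeal R) q D)
    (h : TorMin R q.primeCompl N) : ∀ i, i < D.n →
    haveI := DD.hqB; TorMin R (DD.qB i).primeCompl (D.M i) ∧
      ∀ (Q : Type u) [AddCommGroup Q] [Module R Q], Function.Injective (((D.α i).restrictScalars R).rTensor Q) := by
  haveI := DD.hqA
  haveI := DD.hqB
  have hA : ∀ i, i < D.n → TorMin R (DD.qA i).primeCompl (D.M i) →
      TorMin R (DD.qB i).primeCompl (D.M i) := fun i hi h => by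
    haveI := D.finiteBA i hi
    haveI : Algebra.IsIntegral (D.B i) (D.A i) := Algebra.IsIntegral.of_finite (D.B i) (D.A i)
    refine h.of_dvd fun u hu => ?_
    obtain ⟨a, b, hb, hab⟩ := FlatPred.exists_mul_eq_algebraMap (DD.qB i) (DD.qA i) (DD.uniq i hi) hu
    exact ⟨b, a, hb, fun m => by rw [smul_smul, mul_comm a, hab, algebraMap_smul]⟩
  have hα : ∀ i, i < D.n → TorMin R (DD.qB i).primeCompl (D.M i) →
      ∀ (Q : Type u) [AddCommGroup Q] [Module R Q], Function.Injective (((D.α i).restrictScalars R).rTensor Q) := by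
    intro i hi h Q _ _
    haveI := DevissageFree.free_B D hi
    haveI := D.hp i
    haveI := DD.overB i
    refine rTensor_injective ((D.α i).restrictScalars R) h (fun v hv f hf => ?_) Q
    rw [DevissageFlat.mem_map_smul_top_iff]
    refine forall_mem_of_smul_mem ((maximalIdeal R).map (algebraMap R (D.B i))) (D.α i)
      (D.fibreIso i hi).1 le_rfl (t := v) (fun hmem => hv ?_) hf
    exact Ideal.map_le_iff_le_comap.mpr (Ideal.over_def (DD.qB i) (maximalIdeal R)).le hmem
  intro i
  induction i with
  | zero =>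
    intro hi
    haveI := DevissageFree.tower_A D 0
    haveI : IsScalarTower R S (D.M 0) := IsScalarTower.of_algebraMap_smul fun r m => by
      rw [← algebraMap_smul (D.A 0) (algebraMap R S r) m, ← IsScalarTower.algebraMap_apply, algebraMap_smul]
    let eR : N ≃ₗ[R] D.M 0 := { D.isoN.toAddEquiv with map_smul' := DevissageFree.isoN_smul D }
    have h0 := (h.of_equiv eR (fun a m => map_smul D.isoN a m)).of_dvd (A' := D.A 0) (V := (DD.qA 0).primeCompl)
      fun (u : S) (hu : u ∈ q.primeCompl) => ⟨algebraMap S (D.A 0) u, 1,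
        fun hmem => hu (DD.q0 ▸ (show u ∈ (DD.qA 0).comap (algebraMap S (D.A 0)) from hmem)), fun m => by
        rw [one_smul, algebraMap_smul]⟩
    exact ⟨hA 0 hi h0, hα 0 hi (hA 0 hi h0)⟩
  | succ i ih =>
    intro hi
    have hi' : i < D.n := by omega
    obtain ⟨hM, hinj⟩ := ih hi'
    haveI := DevissageFree.tower_A D (i + 1)
    haveI : IsScalarTower R (D.B i) (D.M (i + 1)) := IsScalarTower.of_algebraMap_smul fun r m => by
      rw [← algebraMap_smul (D.A (i + 1)) (algebraMap R (D.B i) r) m, ← IsScalarTower.algebraMap_apply, algebraMap_smul]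
    let π : D.M i →ₗ[D.B i] D.M (i + 1) := (D.isoCoker i hi).toLinearMap ∘ₗ (LinearMap.range (D.α i)).mkQ
    have hπ : Function.Surjective π := (D.isoCoker i hi).surjective.comp (Submodule.mkQ_surjective _)
    have hex : Function.Exact ((D.α i).restrictScalars R) (π.restrictScalars R) := LinearMap.exact_iff.mpr (by
      rw [LinearMap.ker_restrictScalars, LinearMap.range_restrictScalars, LinearMap.ker_comp, LinearEquiv.ker,
        Submodule.comap_bot, Submodule.ker_mkQ])
    have h1 : TorMin R (DD.qB i).primeCompl (D.M (i + 1)) :=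
      hM.coker ((D.α i).restrictScalars R) (π.restrictScalars R) (fun a m => map_smul π a m) hπ hex hinj
    have h2 := h1.of_dvd (A' := D.A (i + 1)) (V := (DD.qA (i + 1)).primeCompl)
      fun (u : D.B i) (hu : u ∈ (DD.qB i).primeCompl) => ⟨algebraMap (D.B i) (D.A (i + 1)) u, 1,
        fun hmem => hu (DD.qStep i hi ▸ (show u ∈ (DD.qA (i + 1)).comap (algebraMap (D.B i) (D.A (i + 1))) from hmem)),
        fun m => by rw [one_smul, algebraMap_smul]⟩
    exact ⟨hA (i + 1) hi h2, hα (i + 1) hi (hA (i + 1) hi h2)⟩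

/-- The first module of the dévissage is free over `R` and has no torsion modulo `m` from elements outside the
point. -/
theorem main [Algebra.FinitePresentation R S] (DD : FlatCA.CompleteDevissageAt R S N (maximalIdeal R) q D)
    (h : TorMin R q.primeCompl N) :
    Module.Free R N ∧ ∀ v, v ∉ q → ∀ x : N, v • x ∈ maximalIdeal R • (⊤ : Submodule R N) →
      x ∈ maximalIdeal R • (⊤ : Submodule R N) := by
  haveI := DD.hqA
  haveI := DD.hqB
  have hT := torMin_qB DD h
  have hinj : ∀ i, i < D.n → Function.Injective (D.α i) := fun i hi x y hxy => by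
    have h1 := (hT i hi).2 R (a₁ := x ⊗ₜ[R] (1 : R)) (a₂ := y ⊗ₜ[R] (1 : R)) (by
      rw [LinearMap.rTensor_tmul, LinearMap.rTensor_tmul, LinearMap.coe_restrictScalars, hxy])
    simpa using congrArg (TensorProduct.rid R _) h1
  have hfib : ∀ i, i < D.n → ∀ b, b ∉ DD.qB i → ∀ f, b • D.α i f ∈ maximalIdeal R • (⊤ : Submodule R (D.M i)) →
      f ∈ maximalIdeal R • (⊤ : Submodule R (Fin (D.r i) → D.B i)) := by
    intro i hi b hb f hf
    haveI := D.hp i
    haveI := DD.overB i
    rw [DevissageFlat.mem_map_smul_top_iff]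
    refine forall_mem_of_smul_mem ((maximalIdeal R).map (algebraMap R (D.B i))) (D.α i)
      (D.fibreIso i hi).1 le_rfl (t := b) (fun hmem => hb ?_) hf
    exact Ideal.map_le_iff_le_comap.mpr (Ideal.over_def (DD.qB i) (maximalIdeal R)).le hmem
  -- downward induction
  have key : ∀ k i, i + k + 1 = D.n → Module.Free R (D.M i) ∧
      ∀ v, v ∉ DD.qA i → ∀ x : D.M i, v • x ∈ maximalIdeal R • (⊤ : Submodule R (D.M i)) →
        x ∈ maximalIdeal R • (⊤ : Submodule R (D.M i)) := by
    intro k
    induction k with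
    | zero =>
      intro i hi
      obtain rfl : i = D.n - 1 := by omega
      have hlt : D.n - 1 < D.n := by omega
      haveI := DevissageFree.free_B D hlt
      haveI := D.finiteBA _ hlt
      haveI := DevissageFree.tower_A D (D.n - 1)
      haveI : Algebra.IsIntegral (D.B (D.n - 1)) (D.A (D.n - 1)) := Algebra.IsIntegral.of_finite _ _
      let e := LinearEquiv.ofBijective (D.α (D.n - 1)) ⟨hinj _ hlt, D.cokerLast⟩
      refine ⟨Module.Free.of_equiv (e.restrictScalars R), fun v hv x hx => ?_⟩
      obtain ⟨a, b, hb, hab⟩ := FlatPred.exists_mul_eq_algebraMap (DD.qB _) (DD.qA _) (DD.uniq _ hlt) hv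
      obtain ⟨f, rfl⟩ := D.cokerLast x
      refine map_mem ((D.α _).restrictScalars R) (hfib _ hlt b hb f ?_)
      have h1 := smul_mem a hx
      rwa [smul_smul, mul_comm a, hab, algebraMap_smul] at h1
    | succ k ih =>
      intro i hi
      have hi' : i < D.n := by omega
      have hi1 : i + 1 < D.n := by omega
      obtain ⟨hfree, htf⟩ := ih (i + 1) (by omega)
      haveI := hfree
      haveI := DevissageFree.free_B D hi'
      haveI := D.finiteBA i hi'
      haveI : Algebra.IsIntegral (D.B i) (D.A i) := Algebra.IsIntegral.of_finite _ _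
      haveI := DevissageFree.tower_A D i
      haveI := DevissageFree.tower_A D (i + 1)
      haveI : IsScalarTower R (D.B i) (D.M (i + 1)) := IsScalarTower.of_algebraMap_smul fun r m => by
        rw [← algebraMap_smul (D.A (i + 1)) (algebraMap R (D.B i) r) m, ← IsScalarTower.algebraMap_apply,
          algebraMap_smul]
      let π : D.M i →ₗ[D.B i] D.M (i + 1) := (D.isoCoker i hi1).toLinearMap ∘ₗ (LinearMap.range (D.α i)).mkQ
      have hπ : Function.Surjective π := (D.isoCoker i hi1).surjective.comp (Submodule.mkQ_surjective _)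
      have hex : Function.Exact ((D.α i).restrictScalars R) (π.restrictScalars R) := LinearMap.exact_iff.mpr (by
        rw [LinearMap.ker_restrictScalars, LinearMap.range_restrictScalars, LinearMap.ker_comp, LinearEquiv.ker,
          Submodule.comap_bot, Submodule.ker_mkQ])
      obtain ⟨σ, hσ⟩ := Module.projective_lifting_property (π.restrictScalars R) LinearMap.id hπ
      refine ⟨Module.Free.of_equiv ((Function.Exact.splitSurjectiveEquiv hex (hinj i hi')) ⟨σ, hσ⟩).1.symm,
        fun v hv x hx => ?_⟩
      obtain ⟨a, b, hb, hab⟩ := FlatPred.exists_mul_eq_algebraMap (DD.qB i) (DD.qA i) (DD.uniq i hi') hv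
      have hbx : b • x ∈ maximalIdeal R • (⊤ : Submodule R (D.M i)) := by
        have h1 := smul_mem a hx
        rwa [smul_smul, mul_comm a, hab, algebraMap_smul] at h1
      have h2 := map_mem (π.restrictScalars R) hbx
      rw [LinearMap.coe_restrictScalars, map_smul, ← algebraMap_smul (D.A (i + 1)) b (π x)] at h2
      have h3 : π x ∈ maximalIdeal R • (⊤ : Submodule R (D.M (i + 1))) := htf _ (fun hmem => hb (DD.qStep i hi1 ▸ hmem)) _ h2
      have h4 : maximalIdeal R • (⊤ : Submodule R (D.M (i + 1))) =
          (maximalIdeal R • (⊤ : Submodule R (D.M i))).map (π.restrictScalars R) := by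
        rw [Submodule.map_smul'', Submodule.map_top,
          LinearMap.range_eq_top.mpr (show Function.Surjective (π.restrictScalars R) from hπ)]
      rw [h4] at h3
      obtain ⟨y, hy, hyx⟩ := Submodule.mem_map.mp h3
      obtain ⟨f, hf⟩ := (hex (x - y)).mp (by rw [map_sub, hyx]; exact sub_self _)
      have hf' : D.α i f = x - y := hf
      have h5 : f ∈ maximalIdeal R • (⊤ : Submodule R (Fin (D.r i) → D.B i)) := hfib i hi' b hb f (by
        rw [hf', smul_sub]; exact sub_mem hbx (smul_mem b hy))
      have h6 := add_mem (map_mem ((D.α i).restrictScalars R) h5) hy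
      rwa [LinearMap.coe_restrictScalars, hf', sub_add_cancel] at h6
  obtain ⟨m, hm⟩ : ∃ m, D.n = m + 1 := ⟨D.n - 1, by have := D.pos; omega⟩
  obtain ⟨hfree, htf⟩ := key m 0 (by omega)
  haveI := hfree
  let eR : N ≃ₗ[R] D.M 0 := { D.isoN.toAddEquiv with map_smul' := DevissageFree.isoN_smul D }
  refine ⟨Module.Free.of_equiv eR.symm, fun v hv x hx => ?_⟩
  have h1 := map_mem eR.toLinearMap hx
  rw [show eR.toLinearMap (v • x) = algebraMap S (D.A 0) v • eR x by
    rw [algebraMap_smul]; exact map_smul D.isoN v x] at h1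
  have h2 := htf _ (fun hmem => hv (DD.q0 ▸ hmem)) _ h1
  have h3 := map_mem eR.symm.toLinearMap h2
  rwa [show eR.symm.toLinearMap (eR x) = x from eR.symm_apply_apply x] at h3

end devissage

end Groth.RaynaudGruson.TorMin
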