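import Groth.Agent.RaynaudGruson.TorMin
import Mathlib

/-!
Stability of `TorMin` under base change of the local base and flat extension of the ring.
-/

set_option autoImplicit false
set_option linter.dupNamespace false
set_option maxHeartbeats 400000
set_option linter.style.haveILetI false
universe u

open TensorProduct IsLocalRing

namespace Groth.RaynaudGruson.TorMin

/-- Base change of the local base. -/
theorem TorMin.baseChange_base {R R' : Type u} [CommRing R] [IsLocalRing R] [CommRing R'] [IsLocalRing R']
    [Algebra R R'] [IsLocalHom (algebraMap R R')] {S SA : Type u} [CommRing S] [CommRing SA]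
    {N NA : Type u} [AddCommGroup N] [Module S N] [Module R N] [SMulCommClass R S N] [AddCommGroup NA] [Module SA NA]
    [Module R NA] [Module R' NA] [IsScalarTower R R' NA] [SMulCommClass R' SA NA] (σ : S →+* SA) (f : N →ₗ[R] NA)
    (hf : IsBaseChange R' f) (hσ : ∀ (s : S) (n : N), f (s • n) = σ s • f n) {U : Submonoid S}
    (h : TorMin R U N) : TorMin R' (U.map σ) NA := by
  intro Q Q' _ _ _ _ j hj z hz
  letI : Module R Q := Module.compHom Q (algebraMap R R')
  letI : Module R Q' := Module.compHom Q' (algebraMap R R')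
  haveI : IsScalarTower R R' Q := IsScalarTower.of_algebraMap_smul fun _ _ => rfl
  haveI : IsScalarTower R R' Q' := IsScalarTower.of_algebraMap_smul fun _ _ => rfl
  let e : ∀ (X : Type u) [AddCommGroup X] [Module R X] [Module R' X] [IsScalarTower R R' X],
      N ⊗[R] X ≃ₗ[R] NA ⊗[R'] X := fun X _ _ _ _ =>
    TensorProduct.comm R N X ≪≫ₗ ((AlgebraTensorModule.cancelBaseChange R R' R' X N).symm ≪≫ₗ
      LinearEquiv.lTensor X hf.equiv ≪≫ₗ TensorProduct.comm R' X NA).restrictScalars R
  have he : ∀ (X : Type u) [AddCommGroup X] [Module R X] [Module R' X] [IsScalarTower R R' X] (n : N) (x : X),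
      e X (n ⊗ₜ x) = f n ⊗ₜ x := fun X _ _ _ _ n x => by
    simp [e, IsBaseChange.equiv_tmul]
  obtain ⟨y, rfl⟩ := (e Q).surjective z
  have hnat : ∀ y, j.lTensor NA (e Q y) = e Q' ((j.restrictScalars R).lTensor N y) := fun y => by
    induction y with
    | zero => simp
    | tmul n x => rw [he, LinearMap.lTensor_tmul, LinearMap.lTensor_tmul, he]; rfl
    | add a b ha hb => simp only [map_add, ha, hb]
  obtain ⟨v, hv, hmem⟩ := h Q Q' (j.restrictScalars R) hj y ((e Q').injective (by rw [← hnat, hz, map_zero]))
  refine ⟨σ v, Submonoid.mem_map_of_mem σ hv, ?_⟩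
  have hsmul : ∀ y, e Q (v • y) = σ v • e Q y := fun y => by
    induction y with
    | zero => simp
    | tmul n x => rw [smul_tmul', he, hσ, he, smul_tmul']
    | add a b ha hb => simp only [smul_add, map_add, ha, hb]
  rw [← hsmul]
  refine Submodule.smul_induction_on hmem (fun a ha w _ => ?_) fun a b ha hb => by rw [map_add]; exact add_mem ha hb
  rw [map_smul, ← algebraMap_smul R' a]
  exact Submodule.smul_mem_smul (fun hu => ha (IsUnit.of_map (algebraMap R R') a hu)) trivial

/-- Extension along a flat ring map. -/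
theorem TorMin.flat_baseChange {R : Type u} [CommRing R] [IsLocalRing R] {SA C : Type u} [CommRing SA] [CommRing C]
    [Algebra R SA] [Algebra R C] [Algebra SA C] [IsScalarTower R SA C] [Module.Flat SA C]
    {NA : Type u} [AddCommGroup NA] [Module SA NA] [Module R NA] [IsScalarTower R SA NA] {U : Submonoid SA}
    (h : TorMin R U NA) : TorMin R (U.map (algebraMap SA C)) (C ⊗[SA] NA) := by
  intro Q Q' _ _ _ _ j hj z hz
  let as : ∀ (X : Type u) [AddCommGroup X] [Module R X],
      (C ⊗[SA] NA) ⊗[R] X ≃ₗ[SA] C ⊗[SA] (NA ⊗[R] X) := fun X _ _ => AlgebraTensorModule.assoc R SA SA C NA X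
  let jN : NA ⊗[R] Q →ₗ[SA] NA ⊗[R] Q' := AlgebraTensorModule.lTensor SA NA j
  have hnat : ∀ z, as Q' (j.lTensor _ z) = jN.lTensor C (as Q z) := fun z => by
    induction z using TensorProduct.induction_on with
    | zero => simp
    | add a b ha hb => simp only [map_add, ha, hb]
    | tmul w x =>
      induction w using TensorProduct.induction_on with
      | zero => simp
      | add a b ha hb => simp only [add_tmul, map_add, ha, hb]
      | tmul c n => rfl
  have h0 : jN.lTensor C (as Q z) = 0 := by rw [← hnat, hz, map_zero]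
  obtain ⟨w, hw⟩ := (Module.Flat.lTensor_exact C (LinearMap.exact_subtype_ker_map jN) _).mp h0
  obtain ⟨z', rfl⟩ : ∃ z', (as Q).symm z' = z := ⟨as Q z, (as Q).symm_apply_apply z⟩
  rw [LinearEquiv.apply_symm_apply] at hw
  subst hw
  clear hz h0
  induction w using TensorProduct.induction_on with
  | zero => exact ⟨1, one_mem _, by simp⟩
  | add a b ha hb =>
    obtain ⟨v, hv, ha⟩ := ha
    obtain ⟨v', hv', hb⟩ := hb
    refine ⟨v * v', mul_mem hv hv', ?_⟩
    rw [map_add, map_add, smul_add]
    haveI : SMulCommClass R C ((C ⊗[SA] NA) ⊗[R] Q) := inferInstance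
    have e1 := smul_mem (R := R) (A := C) (M := (C ⊗[SA] NA) ⊗[R] Q) v' ha
    have e2 := smul_mem (R := R) (A := C) (M := (C ⊗[SA] NA) ⊗[R] Q) v hb
    rw [smul_smul, mul_comm] at e1
    rw [smul_smul] at e2
    exact add_mem e1 e2
  | tmul c y =>
    obtain ⟨v, hv, hmem⟩ := h Q Q' j hj y.1 y.2
    refine ⟨algebraMap SA C v, Submonoid.mem_map_of_mem _ hv, ?_⟩
    rw [algebraMap_smul, LinearMap.lTensor_tmul, Submodule.subtype_apply, ← map_smul, ← tmul_smul]
    refine Submodule.smul_induction_on hmem (fun r hr m _ => ?_) fun a b ha hb => ?_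
    · rw [tmul_smul, ← LinearEquiv.coe_toLinearMap, LinearMap.map_smul_of_tower]
      exact Submodule.smul_mem_smul hr trivial
    · rw [tmul_add, map_add]
      exact add_mem ha hb

end Groth.RaynaudGruson.TorMin
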