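import Groth.Agent.RaynaudGruson.TorMinBaseChange
import Groth.Agent.RaynaudGruson.LocalStructure
import Mathlib

/-!
A finite module over a finitely presented algebra over a local ring satisfying `TorMin` at a point embeds, up to
elements outside the point, universally in a free module over an étale local extension of the base.
-/

set_option autoImplicit false
set_option linter.style.haveILetI false
universe u

open TensorProduct

namespace Groth.RaynaudGruson.TorMinNbhd

attribute [local instance] Algebra.TensorProduct.rightAlgebra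

/-- Elements of a module dying in a flat extension with a point over `q` die outside `q`. -/
theorem exists_smul_eq_zero {S C W : Type u} [CommRing S] [CommRing C] [Algebra S C] [Module.Flat S C]
    [AddCommGroup W] [Module S W] (q : Ideal S) (x : Ideal C) [x.IsPrime] [hx : x.LiesOver q] (y : W)
    (h : (1 : C) ⊗ₜ[S] y = 0) : ∃ v : S, v ∉ q ∧ v • y = 0 := by
  by_contra hno
  simp only [not_exists, not_and] at hno
  let J : Ideal S := LinearMap.ker (LinearMap.toSpanSingleton S W y)
  have hJ : J ≤ q := fun v hv => by_contra fun hvq => hno v hvq hv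
  let ψ : S ⧸ J →ₗ[S] W := J.liftQ (LinearMap.toSpanSingleton S W y) le_rfl
  have hψ : Function.Injective ψ := LinearMap.ker_eq_bot.mp (Submodule.ker_liftQ_eq_bot _ _ _ le_rfl)
  have h1 : (1 : C) ⊗ₜ[S] (Submodule.Quotient.mk (1 : S) : S ⧸ J) = 0 :=
    Module.Flat.lTensor_preserves_injective_linearMap ψ hψ (by
      rw [map_zero, LinearMap.lTensor_tmul]
      show (1 : C) ⊗ₜ[S] ((1 : S) • y) = 0
      rw [one_smul, h])
  have h2 := congrArg (TensorProduct.tensorQuotEquivQuotSMul C J) h1
  rw [map_zero, Ideal.Quotient.mk_eq_mk, TensorProduct.tensorQuotEquivQuotSMul_tmul_mk, one_smul,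
    Submodule.Quotient.mk_eq_zero] at h2
  refine ‹x.IsPrime›.one_notMem (Submodule.smul_induction_on h2 (fun a ha c _ => ?_) fun a b ha hb => x.add_mem ha hb)
  rw [Algebra.smul_def]
  exact x.mul_mem_right c ((Ideal.mem_of_liesOver x q a).mp (hJ ha))

set_option maxHeartbeats 1600000 in
theorem exists_local {A S : Type u} [CommRing A] [IsLocalRing A] [CommRing S] [Algebra A S]
    [Algebra.FinitePresentation A S] (N : Type u) [AddCommGroup N] [Module S N] [Module A N] [IsScalarTower A S N]
    [Module.Finite S N] (q : Ideal S) [q.IsPrime] [q.LiesOver (IsLocalRing.maximalIdeal A)]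
    (hN : TorMin.TorMin A q.primeCompl N) :
    ∃ (R' : Type u) (_ : CommRing R') (_ : Algebra A R') (p' : Ideal R') (_ : p'.IsPrime),
      Algebra.Etale A R' ∧ p'.LiesOver (IsLocalRing.maximalIdeal A) ∧
      ∃ (NC : Type u) (_ : AddCommGroup NC) (_ : Module (Localization.AtPrime p') NC) (_ : Module A NC)
        (_ : IsScalarTower A (Localization.AtPrime p') NC) (g : N →ₗ[A] NC),
        Module.Free (Localization.AtPrime p') NC ∧
        (∀ (Q : Type u) [AddCommGroup Q] [Module A Q] (z : N ⊗[A] Q), g.rTensor Q z = 0 →
          ∃ v : S, v ∉ q ∧ v • z = 0) ∧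
        ∀ (Q : Type u) [AddCommGroup Q] [Module A Q] (z : N ⊗[A] Q) (v : S), v ∉ q →
          g.rTensor Q (v • z) = 0 → g.rTensor Q z = 0 := by
  obtain ⟨R', S', _, _, _, _, _, _, _, _, p', q', _, _, hR, hS, hq'p', hdev⟩ :=
    LocalStructure.exists_nbhd (R := A) N (IsLocalRing.maximalIdeal A) q
  obtain ⟨hRet, hp'o, hκ⟩ := hR
  obtain ⟨hSet, hq'o, hκS⟩ := hS
  haveI := hRet; haveI := hp'o; haveI := hSet; haveI := hq'o; haveI := hq'p'
  haveI : Algebra.FinitePresentation A S' := Algebra.FinitePresentation.trans A S S'
  haveI : Algebra.FinitePresentation R' S' :=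
    Algebra.FinitePresentation.of_restrict_scalars_finitePresentation A R' S'
  let A' := Localization.AtPrime p'
  haveI : IsLocalHom (algebraMap A A') := ⟨fun a ha => by
    by_contra hna
    have h1 : algebraMap A R' a ∈ p' := (Ideal.mem_of_liesOver p' (IsLocalRing.maximalIdeal A) a).mp hna
    rw [IsScalarTower.algebraMap_apply A R' A', IsLocalization.AtPrime.isUnit_to_map_iff A' p'] at ha
    exact ha h1⟩
  obtain ⟨SA, _, _, _, _, _, _, hpushA⟩ := EtalePushout.exists_pushout A S A'
  haveI := hpushA
  haveI : Algebra.IsPushout A S A' SA := Algebra.IsPushout.symm hpushA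
  obtain ⟨C, _, _, _, _, _, _, hpush⟩ := EtalePushout.exists_pushout R' S' A'
  haveI := hpush
  letI : Algebra A C := ((algebraMap A' C).comp (algebraMap A A')).toAlgebra
  haveI : IsScalarTower A A' C := .of_algebraMap_eq' rfl
  have hRS'C : ∀ r : A, algebraMap A C r = algebraMap S' C (algebraMap A S' r) := fun r => by
    show algebraMap A' C (algebraMap A A' r) = _
    rw [IsScalarTower.algebraMap_apply A R' A', IsScalarTower.algebraMap_apply A R' S',
      ← IsScalarTower.algebraMap_apply R' A' C, ← IsScalarTower.algebraMap_apply R' S' C]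
  haveI : IsScalarTower A S' C := .of_algebraMap_eq hRS'C
  let j : S →ₐ[A] C := (IsScalarTower.toAlgHom A S' C).comp (IsScalarTower.toAlgHom A S S')
  let σ : SA →ₐ[A] C := Algebra.pushoutDesc SA j (IsScalarTower.toAlgHom A A' C) fun _ _ => Commute.all _ _
  letI : Algebra SA C := σ.toRingHom.toAlgebra
  letI : Algebra S C := j.toRingHom.toAlgebra
  haveI : IsScalarTower S S' C := .of_algebraMap_eq fun s => rfl
  haveI : IsScalarTower S SA C := .of_algebraMap_eq fun s => (Algebra.pushoutDesc_left SA j _ _ s).symm
  haveI : IsScalarTower A' SA C := .of_algebraMap_eq fun a =>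
    (Algebra.pushoutDesc_right SA j (IsScalarTower.toAlgHom A A' C) _ a).symm
  haveI : IsScalarTower A SA C := .of_algebraMap_eq fun r => by
    rw [IsScalarTower.algebraMap_apply A A' SA, ← IsScalarTower.algebraMap_apply A' SA C,
      ← IsScalarTower.algebraMap_apply A A' C]
  haveI : IsScalarTower A S C := .of_algebraMap_eq fun r => by
    rw [hRS'C, IsScalarTower.algebraMap_apply A S S', IsScalarTower.algebraMap_apply S S' C]
  -- étaleness and flatness
  haveI : Algebra.FormallyEtale R' A' := Algebra.FormallyEtale.of_isLocalization p'.primeCompl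
  haveI : Algebra.FormallyEtale A A' := Algebra.FormallyEtale.comp A R' A'
  haveI : Algebra.FormallyEtale S SA := by
    haveI : Algebra.IsPushout A S A' SA := inferInstance
    exact Algebra.FormallyEtale.of_equiv (Algebra.IsPushout.equiv A S A' SA)
  haveI : Algebra.FormallyEtale S' C := by
    haveI : Algebra.IsPushout R' S' A' C := Algebra.IsPushout.symm inferInstance
    exact Algebra.FormallyEtale.of_equiv (Algebra.IsPushout.equiv R' S' A' C)
  haveI : Algebra.FormallyEtale S C := Algebra.FormallyEtale.comp S S' C
  haveI : Algebra.FinitePresentation A' C :=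
    Algebra.FinitePresentation.equiv (Algebra.IsPushout.equiv R' A' S' C)
  haveI : Algebra.FiniteType A' SA := by
    haveI : Algebra.IsPushout A A' S SA := Algebra.IsPushout.symm inferInstance
    exact Algebra.FiniteType.equiv (inferInstanceAs (Algebra.FiniteType A' (A' ⊗[A] S)))
      (Algebra.IsPushout.equiv A A' S SA)
  haveI hEtC : Algebra.Etale SA C :=
    { formallyEtale := Algebra.FormallyEtale.of_restrictScalars (R := S)
      finitePresentation := Algebra.FinitePresentation.of_restrict_scalars_finitePresentation A' SA C }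
  haveI : Module.Flat A A' := Module.Flat.trans A R' A'
  haveI : Module.Flat S SA := by
    haveI : Algebra.IsPushout A S A' SA := inferInstance
    exact Module.Flat.of_linearEquiv (Algebra.IsPushout.equiv A S A' SA).symm.toLinearEquiv
  haveI : Module.Flat S C := Module.Flat.trans S SA C
  -- the point
  haveI hmo : (IsLocalRing.maximalIdeal A').LiesOver p' :=
    ⟨(IsLocalization.AtPrime.under_maximalIdeal A' p').symm⟩
  let φA : A' →ₐ[R'] q'.ResidueField := IsLocalization.liftAlgHom (M := p'.primeCompl)
    (f := Algebra.ofId R' q'.ResidueField) fun y => isUnit_iff_ne_zero.mpr fun h => y.2 (by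
      have h' : algebraMap R' q'.ResidueField (y : R') = 0 := h
      rw [IsScalarTower.algebraMap_apply R' S' q'.ResidueField, Ideal.algebraMap_residueField_eq_zero] at h'
      exact hq'p'.over ▸ h')
  let φ : C →ₐ[R'] q'.ResidueField :=
    Algebra.pushoutDesc C φA (IsScalarTower.toAlgHom R' S' q'.ResidueField) fun _ _ => Commute.all _ _
  let x := RingHom.ker φ.toRingHom
  haveI hxp : x.IsPrime := RingHom.ker_isPrime _
  haveI hxq' : x.LiesOver q' := ⟨by
    ext s
    show s ∈ q' ↔ φ (algebraMap S' C s) = 0
    rw [Algebra.pushoutDesc_right]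
    exact Ideal.algebraMap_residueField_eq_zero.symm⟩
  haveI hxm : x.LiesOver (IsLocalRing.maximalIdeal A') := ⟨by
    refine ((IsLocalRing.maximalIdeal.isMaximal A').eq_of_le (Ideal.IsPrime.under A' x).ne_top ?_)
    rw [← Localization.AtPrime.map_eq_maximalIdeal, Ideal.map_le_iff_le_comap]
    intro r hr
    show φ (algebraMap A' C (algebraMap R' A' r)) = 0
    rw [← IsScalarTower.algebraMap_apply, φ.commutes, IsScalarTower.algebraMap_apply R' S' q'.ResidueField,
      Ideal.algebraMap_residueField_eq_zero]
    exact (Ideal.mem_of_liesOver q' p' r).mp hr⟩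
  haveI hxq : x.LiesOver q := Ideal.LiesOver.trans x q' q
  -- the modules
  let NA := SA ⊗[S] N
  let f : N →ₗ[S] NA := TensorProduct.mk S SA N 1
  have hf : IsBaseChange SA f := TensorProduct.isBaseChange S N SA
  haveI : SMulCommClass S A' SA := ⟨fun a b c => by
    rw [Algebra.smul_def, Algebra.smul_def, Algebra.smul_def, Algebra.smul_def, mul_left_comm]⟩
  haveI : IsScalarTower A' SA NA := IsScalarTower.of_algebraMap_smul fun a z => by
    induction z using TensorProduct.induction_on with
    | zero => simp
    | tmul t n => rw [smul_tmul', algebraMap_smul, ← smul_tmul']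
    | add a b ha hb => simp only [smul_add, ha, hb]
  haveI : IsScalarTower A SA NA := IsScalarTower.of_algebraMap_smul fun a z => by
    induction z using TensorProduct.induction_on with
    | zero => simp
    | tmul t n => rw [smul_tmul', algebraMap_smul, ← smul_tmul']
    | add a b ha hb => simp only [smul_add, ha, hb]
  haveI : IsScalarTower A A' NA := IsScalarTower.of_algebraMap_smul fun a z => by
    rw [← algebraMap_smul SA (algebraMap A A' a) z, ← IsScalarTower.algebraMap_apply, algebraMap_smul]
  haveI : IsScalarTower A S NA := IsScalarTower.of_algebraMap_smul fun a z => by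
    rw [← algebraMap_smul SA (algebraMap A S a) z, ← IsScalarTower.algebraMap_apply, algebraMap_smul]
  have hfA : IsBaseChange A' (f.restrictScalars A) := by
    haveI : Algebra.IsPushout A A' S SA := inferInstance
    exact Groth.Flatmor4.isBaseChange_restrict_of_isPushout hf
  haveI : SMulCommClass A' SA NA := ⟨fun a b z => by
    rw [← algebraMap_smul SA a, ← algebraMap_smul SA a z, smul_smul, smul_smul, mul_comm]⟩
  have hTA : TorMin.TorMin A' (q.primeCompl.map (algebraMap S SA)) NA :=
    hN.baseChange_base (algebraMap S SA) (f.restrictScalars A) hfA fun s n => by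
      show f (s • n) = _
      rw [map_smul, algebraMap_smul]
      rfl
  let NC := C ⊗[SA] NA
  have hTC : TorMin.TorMin A' x.primeCompl NC := by
    refine (TorMin.TorMin.flat_baseChange (C := C) hTA).mono ?_
    rintro _ ⟨_, ⟨v, hv, rfl⟩, rfl⟩ hmem
    rw [← IsScalarTower.algebraMap_apply S SA C] at hmem
    exact hv ((Ideal.mem_of_liesOver x q v).mpr hmem)
  let gS : NA →ₗ[SA] NC := TensorProduct.mk SA C NA 1
  have hgS : IsBaseChange C gS := TensorProduct.isBaseChange SA NA C
  haveI : SMulCommClass SA S' C := ⟨fun a b c => by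
    rw [Algebra.smul_def, Algebra.smul_def, Algebra.smul_def, Algebra.smul_def, mul_left_comm]⟩
  haveI : IsScalarTower S' C NC := inferInstance
  haveI : IsScalarTower S C NC := IsScalarTower.of_algebraMap_smul fun s z => by
    rw [IsScalarTower.algebraMap_apply S SA C, algebraMap_smul, algebraMap_smul]
  haveI : IsScalarTower S S' NC := IsScalarTower.of_algebraMap_smul fun s z => by
    rw [← algebraMap_smul C (algebraMap S S' s) z, ← IsScalarTower.algebraMap_apply, algebraMap_smul]
  haveI : SMulCommClass SA A' C := ⟨fun a b c => by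
    rw [Algebra.smul_def, Algebra.smul_def, Algebra.smul_def, Algebra.smul_def, mul_left_comm]⟩
  haveI : IsScalarTower A' C NC := inferInstance
  haveI : IsScalarTower A A' NC := IsScalarTower.of_algebraMap_smul fun a z => by
    induction z using TensorProduct.induction_on with
    | zero => simp
    | tmul c n => rw [smul_tmul', smul_tmul', algebraMap_smul]
    | add a b ha hb => simp only [smul_add, ha, hb]
  obtain ⟨N', _, _, _, _, f', hf'⟩ := EtalePushout.exists_baseChange S S' N
  have hcomp : IsBaseChange C ((gS.restrictScalars S).comp f) := IsBaseChange.comp hf hgS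
  let h' : N' →ₗ[S'] NC := hf'.lift ((gS.restrictScalars S).comp f)
  have hh' : IsBaseChange C h' := IsBaseChange.of_comp hf' (by
    have : (h'.restrictScalars S).comp f' = (gS.restrictScalars S).comp f :=
      LinearMap.ext fun m => hf'.lift_eq _ m
    rw [show (h' : N' →ₗ[S] NC) ∘ₗ f' = (gS.restrictScalars S).comp f from this]
    exact hcomp)
  haveI : Module.Finite S' N' := Module.Finite.equiv hf'.equiv
  obtain ⟨hfree, htf⟩ : Module.Free A' NC ∧ ∀ v, v ∉ x → ∀ y : NC,
      v • y ∈ IsLocalRing.maximalIdeal A' • (⊤ : Submodule A' NC) →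
      y ∈ IsLocalRing.maximalIdeal A' • (⊤ : Submodule A' NC) := by
    rcases hdev N' f' hf' with hdev | hsub
    · haveI : Algebra.IsPushout R' A' S' C := inferInstance
      obtain ⟨D, ⟨DD⟩⟩ := DevissageOps.baseChange hdev A' (IsLocalRing.maximalIdeal A')
        (LocalStructure.bijective_residue_atPrime p') C NC h' hh' x
      exact TorMin.main DD hTC
    · haveI : Subsingleton NC := hh'.equiv.symm.toEquiv.subsingleton
      exact ⟨Module.Free.of_subsingleton _ _, fun v _ y _ => Subsingleton.elim 0 y ▸ zero_mem _⟩
  let g : N →ₗ[S] NC := (gS.restrictScalars S).comp f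
  refine ⟨R', inferInstance, inferInstance, p', inferInstance, hRet, hp'o, NC, inferInstance, inferInstance,
    inferInstance, inferInstance, g.restrictScalars A, hfree, fun Q _ _ z hz => ?_, fun Q _ _ z v hv hz => ?_⟩
  · refine exists_smul_eq_zero q x z ?_
    haveI : IsScalarTower A C NC := IsScalarTower.of_algebraMap_smul fun a w => by
      rw [IsScalarTower.algebraMap_apply A A' C, algebraMap_smul, algebraMap_smul]
    let e : C ⊗[S] (N ⊗[A] Q) ≃ₗ[S] NC ⊗[A] Q :=
      (AlgebraTensorModule.assoc A S S C N Q).symm ≪≫ₗ
        AlgebraTensorModule.congr (hcomp.equiv.restrictScalars S) (LinearEquiv.refl A Q)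
    have he : ∀ w, e ((1 : C) ⊗ₜ[S] w) = (g.restrictScalars A).rTensor Q w := fun w => by
      induction w with
      | zero => simp
      | add a b ha hb => simp only [tmul_add, map_add, ha, hb]
      | tmul n t => simp [e, g, IsBaseChange.equiv_tmul]
    exact e.injective (by rw [he, hz, map_zero])
  · let μ : NC →ₗ[A'] NC := DistribSMul.toLinearMap A' NC (algebraMap S C v)
    have hvx : algebraMap S C v ∉ x := fun h => hv ((Ideal.mem_of_liesOver x q v).mpr h)
    haveI := hfree
    have hμ : Function.Injective (μ.rTensor (A' ⊗[A] Q)) := TorMin.rTensor_injective μ hTC (fun w hw y hy => by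
      refine htf (w * algebraMap S C v) (fun h => (hxp.mem_or_mem h).elim hw hvx) y ?_
      rw [mul_smul]
      exact hy) _
    let c := AlgebraTensorModule.cancelBaseChange A A' A' NC Q
    have hc : ∀ w, c (μ.rTensor (A' ⊗[A] Q) w) = (μ.restrictScalars A).rTensor Q (c w) := fun w => by
      induction w using TensorProduct.induction_on with
      | zero => simp
      | add a b ha hb => simp only [map_add, ha, hb]
      | tmul y t =>
        induction t using TensorProduct.induction_on with
        | zero => simp
        | add a b ha hb => simp only [tmul_add, map_add, ha, hb]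
        | tmul a r => simp [c]
    obtain ⟨w, hw⟩ := c.surjective ((g.restrictScalars A).rTensor Q z)
    rw [← hw]
    have hkey : ∀ z, (g.restrictScalars A).rTensor Q (v • z) =
        (μ.restrictScalars A).rTensor Q ((g.restrictScalars A).rTensor Q z) := fun z => by
      induction z with
      | zero => simp
      | add a b ha hb => simp only [smul_add, map_add, ha, hb]
      | tmul n t =>
        rw [smul_tmul', LinearMap.rTensor_tmul, LinearMap.rTensor_tmul, LinearMap.rTensor_tmul,
          LinearMap.restrictScalars_apply, map_smul, LinearMap.restrictScalars_apply, LinearMap.restrictScalars_apply]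
        show _ = (algebraMap S C v • g n) ⊗ₜ[A] t
        rw [algebraMap_smul]
    rw [hkey, ← hw, ← hc] at hz
    rw [hμ (c.injective (hz.trans (map_zero c).symm) |>.trans (map_zero _).symm), map_zero]

end Groth.RaynaudGruson.TorMinNbhd
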