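import Groth.Agent.Calg3.WeakAssTensorDown
import Groth.Agent.Calg5.WeakAss
import Mathlib

/-!
Weakly associated primes go down along filtered colimits of flat finitely presented algebras.
-/

set_option autoImplicit false
universe u

open scoped TensorProduct

namespace Groth.RaynaudGruson.WeakAssColim

/-- A minimal prime over the annihilator of `1 ⊗ z` contracts to one over the annihilator of `z`. -/
theorem minimal_comap_of_flat {C B : Type u} [CommRing C] [CommRing B] [Algebra C B] [Module.Flat C B]
    {Z : Type u} [AddCommGroup Z] [Module C Z] (z : Z) (q : Ideal B)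
    (hq : q ∈ (Submodule.span B {(1 : B) ⊗ₜ[C] z}).annihilator.minimalPrimes) :
    q.comap (algebraMap C B) ∈ (Submodule.span C {z}).annihilator.minimalPrimes := by
  let I : Ideal C := (Submodule.span C {z}).annihilator
  haveI := hq.1.1
  have hI : (Submodule.span B {(1 : B) ⊗ₜ[C] z}).annihilator = I.map (algebraMap C B) := by
    refine le_antisymm (fun b hb => ?_) (Ideal.map_le_iff_le_comap.mpr fun c hc => ?_)
    · rw [Submodule.mem_annihilator_span_singleton, TensorProduct.smul_tmul', smul_eq_mul, mul_one] at hb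
      have hex : Function.Exact I.subtype (LinearMap.toSpanSingleton C Z z) := fun c => by
        show c • z = 0 ↔ c ∈ LinearMap.range I.subtype
        rw [Submodule.range_subtype]
        exact (Submodule.mem_annihilator_span_singleton z c).symm
      have h0 : (LinearMap.toSpanSingleton C Z z).lTensor B (b ⊗ₜ 1) = 0 := by
        simpa using hb
      obtain ⟨w, hw⟩ := ((Module.Flat.lTensor_exact B hex) _).mp h0
      have key : ∀ w, TensorProduct.rid C B (I.subtype.lTensor B w) ∈ I.map (algebraMap C B) := fun w => by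
        induction w using TensorProduct.induction_on with
        | zero => simp
        | tmul a i =>
          rw [LinearMap.lTensor_tmul, TensorProduct.rid_tmul, Algebra.smul_def]
          exact Ideal.mul_mem_right _ _ (Ideal.mem_map_of_mem _ i.2)
        | add a c ha hc => simpa using add_mem ha hc
      have := key w
      rwa [hw, TensorProduct.rid_tmul, one_smul] at this
    · rw [Ideal.mem_comap, Submodule.mem_annihilator_span_singleton, algebraMap_smul, ← TensorProduct.tmul_smul,
        (Submodule.mem_annihilator_span_singleton z c).mp hc, TensorProduct.tmul_zero]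
  have hle : I ≤ q.comap (algebraMap C B) := Ideal.map_le_iff_le_comap.mp (hI ▸ hq.1.2)
  refine ⟨⟨Ideal.IsPrime.comap _, hle⟩, fun P ⟨hP, hIP⟩ hPq => ?_⟩
  haveI := hP
  haveI : (q.comap (algebraMap C B)).IsPrime := Ideal.IsPrime.comap _
  haveI : q.LiesOver (q.comap (algebraMap C B)) := ⟨rfl⟩
  obtain ⟨P', hP'q, hP', hP'P⟩ := Ideal.exists_ideal_le_liesOver_of_le q hPq
  have hqP' : q ≤ P' := hq.2 ⟨hP', hI ▸ Ideal.map_le_iff_le_comap.mpr (hIP.trans hP'P.over.le)⟩ hP'q
  exact fun c hc => hP'P.over.ge (hqP' hc)

/-- Weakly associated primes of `B ⊗ M` go down, when the element comes from a flat finitely presented stage. -/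
theorem mem_weakAss_comap_of_model {R C B : Type u} [CommRing R] [CommRing C] [CommRing B] [Algebra R C]
    [Algebra R B] [Algebra C B] [IsScalarTower R C B] [Algebra.FinitePresentation R C] [Module.Flat R C]
    [Module.Flat C B] (M : Type u) [AddCommGroup M] [Module R M] (w : C ⊗[R] M) (q : Ideal B)
    (hq : q ∈ (Submodule.span B
      {(IsScalarTower.toAlgHom R C B).toLinearMap.rTensor M w}).annihilator.minimalPrimes) :
    q.comap (algebraMap R B) ∈ FlatCA.weakAss R M := by
  let e : B ⊗[C] (C ⊗[R] M) ≃ₗ[B] B ⊗[R] M := TensorProduct.AlgebraTensorModule.cancelBaseChange R C B B M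
  have he : ∀ w, e ((1 : B) ⊗ₜ w) = (IsScalarTower.toAlgHom R C B).toLinearMap.rTensor M w := fun w => by
    induction w using TensorProduct.induction_on with
    | zero => simp
    | tmul c m => simp [e, Algebra.algebraMap_eq_smul_one]
    | add a b ha hb => rw [TensorProduct.tmul_add, map_add, ha, hb, map_add]
  have hann : (Submodule.span B {(1 : B) ⊗ₜ[C] w}).annihilator =
      (Submodule.span B {(IsScalarTower.toAlgHom R C B).toLinearMap.rTensor M w}).annihilator := by
    ext b
    rw [Submodule.mem_annihilator_span_singleton, Submodule.mem_annihilator_span_singleton, ← he, ← map_smul,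
      LinearEquiv.map_eq_zero_iff]
  have h1 := minimal_comap_of_flat w q (hann ▸ hq)
  haveI := hq.1.1
  have h2 : q.comap (algebraMap C B) ∈ FlatCA.weakAss C (C ⊗[R] M) := ⟨w, h1⟩
  haveI : (q.comap (algebraMap C B)).LiesOver (q.comap (algebraMap R B)) :=
    ⟨by show _ = Ideal.comap _ _; rw [Ideal.comap_comap, ← IsScalarTower.algebraMap_eq]⟩
  exact Calg3.WeakAssTensor.mem_weakAss_of_mem_weakAss_tensor (S := C) C M _ _ h2

/-- Weakly associated primes of `B ⊗ M` go down when finite subsets of `B` lie in flat finitely presented stages. -/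
theorem mem_weakAss_comap_of_stages {R B : Type u} [CommRing R] [CommRing B] [Algebra R B]
    (hstage : ∀ s : Finset B, ∃ (C : Type u) (_ : CommRing C) (_ : Algebra R C) (f : C →ₐ[R] B),
      Algebra.FinitePresentation R C ∧ Module.Flat R C ∧ f.toRingHom.Flat ∧ (s : Set B) ⊆ Set.range f)
    (M : Type u) [AddCommGroup M] [Module R M] (q : Ideal B) (hq : q ∈ FlatCA.weakAss B (B ⊗[R] M)) :
    q.comap (algebraMap R B) ∈ FlatCA.weakAss R M := by
  classical
  obtain ⟨z, hz⟩ := hq
  obtain ⟨T, rfl⟩ := TensorProduct.exists_finset z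
  obtain ⟨C, _, _, f, hfp, hfl, hf, hs⟩ := hstage (T.image Prod.fst)
  haveI := hfp
  haveI := hfl
  letI : Algebra C B := f.toRingHom.toAlgebra
  haveI : IsScalarTower R C B := IsScalarTower.of_algebraMap_eq fun r => (f.commutes r).symm
  haveI : Module.Flat C B := hf
  choose c hc using fun i : T => hs (Finset.mem_coe.mpr (Finset.mem_image_of_mem Prod.fst i.2))
  have hw : (IsScalarTower.toAlgHom R C B).toLinearMap.rTensor M (∑ i : T, c i ⊗ₜ i.1.2) = ∑ i ∈ T, i.1 ⊗ₜ[R] i.2 := by
    rw [map_sum, ← Finset.sum_coe_sort T]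
    exact Finset.sum_congr rfl fun i _ => by rw [LinearMap.rTensor_tmul]; exact congrArg (· ⊗ₜ[R] i.1.2) (hc i)
  exact mem_weakAss_comap_of_model (C := C) M (∑ i : T, c i ⊗ₜ i.1.2) q (by rwa [hw])

/-- Weakly associated primes go up along flat local extensions whose maximal ideal comes from below. -/
theorem maximalIdeal_mem_weakAss_tensor {A B : Type u} [CommRing A] [IsLocalRing A] [CommRing B] [IsLocalRing B]
    [Algebra A B] [Module.FaithfullyFlat A B]
    (hm : (IsLocalRing.maximalIdeal A).map (algebraMap A B) = IsLocalRing.maximalIdeal B)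
    (M : Type u) [AddCommGroup M] [Module A M] (h : IsLocalRing.maximalIdeal A ∈ FlatCA.weakAss A M) :
    IsLocalRing.maximalIdeal B ∈ FlatCA.weakAss B (B ⊗[A] M) := by
  obtain ⟨x, hx⟩ := h
  have hx0 : x ≠ 0 := fun h0 => hx.1.1.ne_top (top_le_iff.mp (le_trans (le_of_eq (by
    rw [h0, Submodule.span_zero_singleton, Submodule.annihilator_bot])) hx.1.2))
  refine ⟨(1 : B) ⊗ₜ x, ⟨inferInstance, IsLocalRing.le_maximalIdeal ?_⟩, fun P ⟨hP, hle⟩ _ => ?_⟩
  · rw [Ne, Ideal.eq_top_iff_one, Submodule.mem_annihilator_span_singleton, one_smul]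
    exact fun h0 => hx0 (Module.FaithfullyFlat.tensorProduct_mk_injective (A := A) (B := B) M
      (h0.trans (map_zero _).symm))
  · haveI := hP
    rw [← hm, Ideal.map_le_iff_le_comap]
    refine hx.2 ⟨Ideal.IsPrime.comap _, fun a ha => hle ?_⟩ (IsLocalRing.le_maximalIdeal (Ideal.IsPrime.comap (K := P) _).ne_top)
    rw [Submodule.mem_annihilator_span_singleton, algebraMap_smul, ← TensorProduct.tmul_smul,
      (Submodule.mem_annihilator_span_singleton x a).mp ha, TensorProduct.tmul_zero]

end Groth.RaynaudGruson.WeakAssColim
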