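import Groth.Agent.RaynaudGruson.WeakAssColim
import Mathlib

/-!
Weakly associated primes and extensions of the ground field.
-/

set_option autoImplicit false
universe u

open scoped TensorProduct

namespace Groth.RaynaudGruson.WeakAssField

/-- Tensoring a flat inclusion with an algebra gives a flat map. -/
theorem flat_map_val {k K : Type u} [Field k] [Field K] [Algebra k K] (D : Subalgebra k K) [Module.Flat D K]
    (R : Type u) [CommRing R] [Algebra k R] :
    (Algebra.TensorProduct.map D.val (AlgHom.id k R)).toRingHom.Flat := by
  exact RingHom.Flat.tensorProductMap (f := D.val) (g := AlgHom.id k R)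
    (show (algebraMap D K).Flat from RingHom.flat_algebraMap_iff.mpr inferInstance) (RingHom.Flat.id R)

attribute [local instance] Algebra.TensorProduct.rightAlgebra

/-- Finitely many elements of `R ⊗ K` lie in a flat finitely presented stage. -/
theorem exists_stage {k K R RK : Type u} [Field k] [Field K] [Algebra k K] [CommRing R] [Algebra k R] [CommRing RK]
    [Algebra k RK] [Algebra K RK] [Algebra R RK] [IsScalarTower k K RK] [IsScalarTower k R RK]
    [Algebra.IsPushout k K R RK] (s : Finset RK) :
    ∃ (C : Type u) (_ : CommRing C) (_ : Algebra R C) (f : C →ₐ[R] RK),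
      Algebra.FinitePresentation R C ∧ Module.Flat R C ∧ f.toRingHom.Flat ∧ (s : Set RK) ⊆ Set.range f := by
  classical
  let E := Algebra.IsPushout.equiv k K R RK
  choose T hT using fun x : RK => TensorProduct.exists_finset (E.symm x)
  let F : Finset K := (s.biUnion T).image Prod.fst
  let D := Algebra.adjoin k (F : Set K)
  haveI : Algebra.FiniteType k D := (Subalgebra.fg_iff_finiteType _).mp (Subalgebra.fg_adjoin_finset F)
  haveI : Algebra.FinitePresentation k D := Algebra.FinitePresentation.of_finiteType.mp ‹_›
  haveI : Module.Flat D K := by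
    let L := FractionRing D
    haveI : FaithfulSMul D K := (faithfulSMul_iff_algebraMap_injective D K).mpr Subtype.val_injective
    letI : Algebra L K := FractionRing.liftAlgebra D K
    haveI : IsScalarTower D L K := FractionRing.isScalarTower_liftAlgebra D K
    haveI : Module.Flat D L := IsLocalization.flat L (nonZeroDivisors D)
    exact Module.Flat.trans D L K
  let C := D ⊗[k] R
  haveI : Algebra.FinitePresentation R C :=
    Algebra.FinitePresentation.equiv
      ({ (Algebra.TensorProduct.comm k R D).toRingEquiv with commutes' := fun r => rfl } : R ⊗[k] D ≃ₐ[R] C)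
  haveI : Module.Flat R C := Module.Flat.of_linearEquiv
      ({ (Algebra.TensorProduct.comm k R D).toRingEquiv with commutes' := fun r => rfl } :
        R ⊗[k] D ≃ₐ[R] C).symm.toLinearEquiv
  let g := Algebra.TensorProduct.map D.val (AlgHom.id k R)
  let f : C →ₐ[R] RK :=
    { E.toRingEquiv.toRingHom.comp g.toRingHom with
      commutes' := fun r => by
        show E (g ((1 : D) ⊗ₜ r)) = _
        rw [Algebra.TensorProduct.map_tmul, map_one, AlgHom.id_apply, Algebra.IsPushout.equiv_tmul, map_one, one_mul] }
  refine ⟨C, inferInstance, inferInstance, f, inferInstance, inferInstance,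
    (flat_map_val D R).comp (RingHom.Flat.of_bijective E.bijective), fun b hb => ?_⟩
  have hD : ∀ i : T b, i.1.1 ∈ D := fun i => Algebra.subset_adjoin (Finset.mem_coe.mpr
    (Finset.mem_image_of_mem _ (Finset.mem_biUnion.mpr ⟨b, hb, i.2⟩)))
  refine ⟨∑ i : T b, (⟨i.1.1, hD i⟩ : D) ⊗ₜ i.1.2, ?_⟩
  refine Eq.trans ?_ (E.apply_symm_apply b)
  rw [map_sum, hT b, map_sum, ← Finset.sum_coe_sort (T b)]
  refine Finset.sum_congr ?_ fun i _ => rfl
  simp

/-- Weakly associated primes descend along extensions of the ground field. -/
theorem mem_weakAss_comap {k K R : Type u} [Field k] [Field K] [Algebra k K] [CommRing R] [Algebra k R]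
    (RK : Type u) [CommRing RK] [Algebra k RK] [Algebra K RK] [Algebra R RK] [IsScalarTower k K RK]
    [IsScalarTower k R RK] [Algebra.IsPushout k K R RK] (M : Type u) [AddCommGroup M] [Module R M]
    (MK : Type u) [AddCommGroup MK] [Module RK MK] [Module R MK] [IsScalarTower R RK MK] (f : M →ₗ[R] MK)
    (hf : IsBaseChange RK f) (q : Ideal RK) (hq : q ∈ FlatCA.weakAss RK MK) :
    q.comap (algebraMap R RK) ∈ FlatCA.weakAss R M :=
  WeakAssColim.mem_weakAss_comap_of_stages (exists_stage (k := k) (K := K)) M q
    (Calg5.weakAss_subset_of_injective hf.equiv.symm.toLinearMap hf.equiv.symm.injective hq)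

end Groth.RaynaudGruson.WeakAssField
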