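import Groth.Agent.RaynaudGruson.WeakAssColim
import Groth.Agent.Hensel1.Transfer
import Groth.Agent.Hensel1.Noetherian
import Groth.Agent.Hensel1.Universal
import Mathlib

/-!
Weakly associated maximal ideals and henselizations.
-/

set_option autoImplicit false
universe u

open scoped TensorProduct
open IsLocalRing

namespace Groth.RaynaudGruson.WeakAssHens

open Groth.Hensel1

/-- Weak association of the closed point is unchanged by (strict) henselization. -/
theorem maximalIdeal_mem_weakAss_tensor_iff {A B : Type u} [CommRing A] [IsLocalRing A] [CommRing B] [IsLocalRing B]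
    [Algebra A B] [IsLocalHom (algebraMap A B)] (H : HensModel A B) (M : Type u) [AddCommGroup M] [Module A M] :
    maximalIdeal B ∈ FlatCA.weakAss B (B ⊗[A] M) ↔ maximalIdeal A ∈ FlatCA.weakAss A M := by
  haveI := H.faithfullyFlat
  refine ⟨fun h => ?_, WeakAssColim.maximalIdeal_mem_weakAss_tensor H.map_maximalIdeal M⟩
  have hc : (maximalIdeal B).comap (algebraMap A B) = maximalIdeal A :=
    ((local_hom_TFAE (algebraMap A B)).out 0 4 : IsLocalHom (algebraMap A B) ↔ _).mp inferInstance
  rw [← hc]
  refine WeakAssColim.mem_weakAss_comap_of_stages (fun s => ?_) M _ h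
  obtain ⟨i, y, hy⟩ := Hens.exists_of_ring_fintype fun k : s => H.equiv.symm k.1
  refine ⟨i.P.Ring, inferInstance, inferInstance,
    H.equiv.toAlgHom.comp ((Hens.of i).comp (IsScalarTower.toAlgHom A i.P.Ring i.Obj)),
    inferInstance, inferInstance, ?_, fun b hb => ⟨y ⟨b, hb⟩, ?_⟩⟩
  · have h1 : H.equiv.toAlgHom.toRingHom.Flat := RingHom.Flat.of_bijective H.equiv.bijective
    have h2 : (IsScalarTower.toAlgHom A i.P.Ring i.Obj).toRingHom.Flat :=
      RingHom.flat_algebraMap_iff.mpr (IsLocalization.flat _ i.q.primeCompl)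
    exact (h2.comp (Hens.flat_of i)).comp h1
  · show H.equiv (Hens.of i (algebraMap _ _ (y ⟨b, hb⟩))) = b
    rw [hy, AlgEquiv.apply_symm_apply]

end Groth.RaynaudGruson.WeakAssHens
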